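import Cfsg.Agent.Lib.Fi22Type.Type
import Cfsg.Agent.Lib.FischerPresented.U62Group

/-! The marked involution of a copy of Fi22. -/

set_option autoImplicit false
set_option maxRecDepth 100000
set_option maxHeartbeats 200000

namespace Cfsg.Agent.LargeFischer.PairGG

open Cfsg.Agent.FischerPresented
open Cfsg.Agent.RigidGraph.He (K4)
open Subgroup

universe u

local notation "FI" => Fi22Local.GG
local notation "z₀" => Fi22Class.z

variable {L : Type u} [Group L] [Finite L]

theorem zero_facts : orderOf (z₀ : FI) = 2 ∧ Cfsg.IsQuasisimple ↥(centralizer ({z₀} : Set FI)) ∧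
    (∀ x : ↥(centralizer ({z₀} : Set FI)), x ∈ center ↥(centralizer ({z₀} : Set FI)) ↔
      x ∈ (zpowers z₀).subgroupOf (centralizer ({z₀} : Set FI))) ∧
    Nonempty (↥(centralizer ({z₀} : Set FI)) ⧸ center ↥(centralizer ({z₀} : Set FI)) ≃* Cfsg.PSU 6 K4 2) ∧
    ∃ g : FI, g * z₀ * g⁻¹ ∈ centralizer ({z₀} : Set FI) ∧ g * z₀ * g⁻¹ ≠ z₀ := by
  refine ⟨Fi22Class.orderOf_z, ?_, fun x => ?_, ?_, ?_⟩
  · rw [Fi22Class.centralizer_z]
    exact FischerUnique.quasisimple_H
  · revert x
    rw [Fi22Class.centralizer_z]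
    intro x
    rw [FischerUnique.center_H_eq]
  · rw [Fi22Class.centralizer_z]
    exact ⟨(QuotientGroup.quotientMulEquivOfEq U62.center_H).trans
      (QuotientGroup.quotientKerEquivOfSurjective U62.θ U62.surjective)⟩
  · obtain ⟨y, hyD, hy1, hy2⟩ : (Cfsg.Agent.Fischer.Factor.Nb Fi22Class.D z₀).Nonempty := by
      rw [Set.nonempty_iff_ne_empty]
      intro h
      have h1 : z₀ ∈ Fi22.H := Fi22Class.centralizer_z ▸ mem_centralizer_singleton_iff.2 rfl
      rw [← FischerUnique.closure_nb_z, h, Subgroup.closure_empty, mem_bot] at h1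
      exact Fi22Class.z_ne_one h1
    obtain ⟨g, rfl⟩ := Fi22Class.mem_D.1 hyD
    exact ⟨g, mem_centralizer_singleton_iff.2 hy2.eq.symm, hy1⟩

/-- What the recognition theorems ask of the quotient. -/
theorem facts (e : FI ≃* L) :
    (∃ E : Set L, Cfsg.IsThreeTranspositionClass E ∧ Cfsg.IsOfTypeM22 L E) ∧
    ∃ d' : L, orderOf d' = 2 ∧ Cfsg.IsQuasisimple ↥(centralizer ({d'} : Set L)) ∧
      (∃ (K : Type) (_ : Field K) (_ : Fintype K), Fintype.card K = 4 ∧
        ∃ _ : ((zpowers d').subgroupOf (centralizer ({d'} : Set L))).Normal,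
          Nonempty (↥(centralizer ({d'} : Set L)) ⧸ (zpowers d').subgroupOf (centralizer ({d'} : Set L)) ≃*
            Cfsg.PSU 6 K 2)) ∧
      ∃ g, g * d' * g⁻¹ ∈ centralizer ({d'} : Set L) ∧ g * d' * g⁻¹ ≠ d' := by
  refine ⟨⟨_, Fi22Type.isClass_map e rfl, Fi22Type.type_m22 e rfl⟩, ?_⟩
  obtain ⟨ho, hq, hc, ⟨ι⟩, g, hg, hgne⟩ := zero_facts
  have hmap : (centralizer ({z₀} : Set FI)).map e.toMonoidHom = centralizer ({e z₀} : Set L) := by
    ext x
    obtain ⟨w, rfl⟩ := e.surjective x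
    rw [mem_map_equiv, e.symm_apply_apply, mem_centralizer_singleton_iff, mem_centralizer_singleton_iff,
      ← map_mul, ← map_mul, e.injective.eq_iff]
  let E : ↥(centralizer ({z₀} : Set FI)) ≃* ↥(centralizer ({e z₀} : Set L)) :=
    (e.subgroupMap _).trans (MulEquiv.subgroupCongr hmap)
  have hE : ∀ x, (E x : L) = e x := fun _ => rfl
  have hz : (center ↥(centralizer ({z₀} : Set FI))).map E.toMonoidHom =
      (zpowers (e z₀)).subgroupOf (centralizer ({e z₀} : Set L)) := by
    ext y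
    obtain ⟨x, rfl⟩ := E.surjective y
    rw [mem_map_equiv, E.symm_apply_apply, hc, mem_subgroupOf, mem_subgroupOf, hE]
    constructor
    · intro h
      obtain ⟨n, hn⟩ := mem_zpowers_iff.1 h
      exact mem_zpowers_iff.2 ⟨n, by rw [← map_zpow, hn]⟩
    · intro h
      obtain ⟨n, hn⟩ := mem_zpowers_iff.1 h
      rw [← map_zpow] at hn
      exact mem_zpowers_iff.2 ⟨n, e.injective hn⟩
  have hcen : (center ↥(centralizer ({z₀} : Set FI))).map E.toMonoidHom = center _ := Qd.map_center_eq E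
  haveI hn : ((zpowers (e z₀)).subgroupOf (centralizer ({e z₀} : Set L))).Normal := by
    rw [← hz, hcen]; infer_instance
  refine ⟨e z₀, by rw [e.orderOf_eq, ho], ?_, ⟨K4, inferInstance, inferInstance, RigidGraph.He.K4.card_K4, hn,
    ⟨(QuotientGroup.congr _ _ E hz).symm.trans ι⟩⟩, e g, ?_, fun h => hgne (e.injective ?_)⟩
  · refine ⟨⟨?_⟩, (QuotientGroup.congr _ _ E hcen).isSimpleGroup_congr.1 hq.2⟩
    rw [← map_top_of_surjective E.toMonoidHom E.surjective, ← hq.1.commutator_eq_top, commutator_def, commutator_def,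
      map_commutator, map_top_of_surjective E.toMonoidHom E.surjective]
  · rw [← map_inv, ← map_mul, ← map_mul, ← hmap]
    exact ⟨_, hg, rfl⟩
  · rw [map_mul, map_mul, map_inv]; exact h

end Cfsg.Agent.LargeFischer.PairGG
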