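import Cfsg.Agent.Lib.LargeFischer.PairRecog
import Cfsg.Agent.Lib.LargeFischer.PairGG
import Cfsg.Agent.Lib.FischerM23Recog.Main
import Cfsg.Agent.Lib.Fi23Type.Type
import Cfsg.Agent.Lib.Components.FStar

/-! An outer involution centralising the double cover of Fi22, and the copy of Fi23 it centralises. -/

set_option autoImplicit false
set_option maxRecDepth 100000
set_option maxHeartbeats 200000
set_option synthInstance.maxSize 2000

namespace Cfsg.Agent.LargeFischer.Six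

open Cfsg.Agent.RigidGraph.He Cfsg.Agent.U43InU62 Cfsg.Agent.LargeExtra Cfsg.Agent.LargeFischer.Big
open Subgroup

attribute [local irreducible] tm elN TT

/-- Vectors spanning the perpendicular of the first axis. -/
def perpL : List V6 :=
  [bv 1, K4.w • bv 1, bv 3, K4.w • bv 3, bv 4, K4.w • bv 4, bv 5, K4.w • bv 5, bv 0, bv 0 + bv 2, K4.w • (bv 0 + bv 2)]

theorem perpL_ok : ∀ w ∈ perpL, hf w (bA 0) + hf (bA 0) w = 0 := by decide +kernel

theorem perp_v : ∀ v : V6, (∀ w ∈ perpL, hf v w + hf w v = 0) → v = 0 ∨ v = bA 0 := by decide +kernel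

theorem off_perp : hf (K4.w • swapV) (bA 0) + hf (bA 0) (K4.w • swapV) = 1 := by decide +kernel

theorem ext_G0 {X : Type*} [Group X] {G₀ : Subgroup X} {a b : ↥G₀} :
    a * b = b * a ↔ (a : X) * b = b * a :=
  ⟨fun h => by rw [← Subgroup.coe_mul, h, Subgroup.coe_mul], fun h => Subtype.ext h⟩

variable {X : Type*} [Group X] [Finite X] {G₀ : Subgroup X} {z : ↥G₀}
  {Q : Subgroup ↥(centralizer ({z} : Set ↥G₀))} [Q.Normal]

namespace Data

variable (S : Data z Q)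
include S

/-- An involution central in a Sylow subgroup lies in the class of the central one. -/
theorem central_conj {y : ↥G₀} (h2 : y * y = 1) (h1 : y ≠ 1) (P : Sylow 2 ↥G₀)
    (hP : ∀ x ∈ (P : Subgroup ↥G₀), Commute x y) {e : ↥(centralizer ({z} : Set ↥G₀)) ≃* ↥(centralizer ({y} : Set ↥G₀))}
    (hF : Cfsg.generalizedFittingSubgroup ↥(centralizer ({z} : Set ↥G₀)) = Q) : IsConj z y := by
  haveI : Fact (Nat.Prime 2) := ⟨Nat.prime_two⟩
  have h2' : IsPGroup 2 ↥(AG S.cv) := IsPGroup.of_card (n := 11) (by rw [card_AG S.cv S.hc]; norm_num)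
  obtain ⟨T, hT⟩ := h2'.exists_le_sylow
  obtain ⟨g, hg⟩ := MulAction.exists_smul_eq ↥G₀ P T
  have hgy : g * y * g⁻¹ ∈ AG S.cv := by
    rw [← centralizer_AG S.cv S.hc S.hF, mem_centralizer_iff]
    intro a ha
    have ha' : a ∈ (T : Subgroup ↥G₀) := hT ha
    rw [← hg, Sylow.coe_subgroup_smul, Subgroup.mem_pointwise_smul_iff_inv_smul_mem] at ha'
    have hc : Commute ((MulAut.conj g)⁻¹ a) y := hP _ ha'
    have := hc.map (MulAut.conj g).toMonoidHom
    change Commute (MulAut.conj g ((MulAut.conj g)⁻¹ a)) (g * y * g⁻¹) at this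
    rwa [MulAut.apply_inv_self] at this
  by_contra hn
  obtain ⟨i, hi, ei⟩ := S.B.eg_surj S.hc hgy
  change S.eg i = g * y * g⁻¹ at ei
  have hnc : ¬ IsConj z (S.eg i) := fun h => hn (h.trans (isConj_iff.2 ⟨g⁻¹, by rw [ei]; group⟩))
  have hne : S.eg i ≠ 1 := fun h => h1 (by rw [ei, conj_eq_one_iff] at h; exact h)
  obtain ⟨m, -, em⟩ := (pack_AG S.hF S.cv S.hc).orbit _ (S.B.eg_mem S.hc i) _ (S.B.eg_mem S.hc 2) hne
    (S.eg_ne 2 0 (by norm_num) (by norm_num) (by norm_num) |>.trans_eq S.eg_nil) hnc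
    (fun h => by
      have := (S.isConj_eg (by norm_num)).1 h
      exact absurd this (by decide +kernel))
  set k := m * g with hk
  have hky : k * y * k⁻¹ = S.eg 2 := by
    rw [hk]
    refine Eq.trans ?_ em
    rw [show S.B.eg i = g * y * g⁻¹ from ei]; group
  let e₂ : ↥(centralizer ({y} : Set ↥G₀)) ≃* ↥S.CT :=
    { toFun := fun x => ⟨k * x.1 * k⁻¹, S.mem_CT.2 (by
        rw [← hky, show k * x.1 * k⁻¹ * (k * y * k⁻¹) = k * (x.1 * y) * k⁻¹ by group, mem_centralizer_one.1 x.2]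
        group)⟩
      invFun := fun x => ⟨k⁻¹ * x.1 * k, mem_centralizer_one.2 (by
        rw [show y = k⁻¹ * S.eg 2 * k by rw [← hky]; group,
          show k⁻¹ * x.1 * k * (k⁻¹ * S.eg 2 * k) = k⁻¹ * (x.1 * S.eg 2) * k by group, S.mem_CT.1 x.2]
        group)⟩
      left_inv := fun x => Subtype.ext (show k⁻¹ * (k * x.1 * k⁻¹) * k = x.1 by group)
      right_inv := fun x => Subtype.ext (show k * (k⁻¹ * x.1 * k) * k⁻¹ = x.1 by group)
      map_mul' := fun a b => Subtype.ext (show k * (a.1 * b.1) * k⁻¹ = k * a.1 * k⁻¹ * (k * b.1 * k⁻¹) by group) }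
  obtain ⟨K, hK⟩ := S.exists_cover_full
  have hKQ : Q.map (e.trans e₂).toMonoidHom = K :=
    (congrArg (Subgroup.map (e.trans e₂).toMonoidHom) hF.symm).trans
      ((Components.generalizedFitting_map_equiv _).trans hK.fstar)
  have hQ2 : IsPGroup 2 ↥Q := IsPGroup.of_card (n := 13) (S.hF.1.2.2.2.1.trans rfl)
  haveI hnil : Group.IsNilpotent ↥K := hKQ ▸ (hQ2.map (e.trans e₂).toMonoidHom).isNilpotent
  haveI := hK.qs.1
  haveI : Subsingleton ↥K := by
    haveI : Group.IsSolvable ↥K := inferInstance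
    by_contra hs
    rw [not_subsingleton_iff_nontrivial] at hs
    exact absurd (Group.IsPerfect.commutator_eq_top (G := ↥K))
      (Group.IsSolvable.commutator_lt_top_of_nontrivial (G := ↥K)).ne
  haveI := hK.qs.2
  exact not_subsingleton (↥K ⧸ center ↥K) inferInstance

/-- The statement about the centraliser of an outer involution. -/
theorem fi23_type (hidx : G₀.index = 2)
    (hcentral : ∃ P : Sylow 2 ↥G₀, z ∈ (P : Subgroup ↥G₀) ∧ ∀ x ∈ (P : Subgroup ↥G₀), Commute x z)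
    (hFX : (Cfsg.generalizedFittingSubgroup ↥(centralizer ({(z : X)} : Set X))).map (Subgroup.subtype _) =
      (Q.map (Subgroup.subtype _)).map G₀.subtype) :
    ∃ d : X, orderOf d = 2 ∧ d ∉ G₀ ∧ Commute d (z : X) ∧ ∃ t : ↥(G₀ ⊓ centralizer ({d} : Set X)),
      orderOf t = 2 ∧ (t : X) = (S.eg 2 : ↥G₀) ∧
      (∃ (K : Subgroup ↥S.CT) (_ : S.Half K) (e : ↥K ≃* ↥(centralizer ({t} : Set ↥(G₀ ⊓ centralizer ({d} : Set X))))),
        ∀ k, ((e k).1 : X) = ((k.1.1 : ↥G₀) : X)) ∧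
      ∃ g : ↥(G₀ ⊓ centralizer ({d} : Set X)), g * t * g⁻¹ ∈ centralizer ({t} : Set _) ∧ g * t * g⁻¹ ≠ t := by
  haveI hn0 : G₀.Normal := Subgroup.normal_of_index_eq_two hidx
  have hmul : ∀ {a b : X}, a ∉ G₀ → b ∉ G₀ → a * b ∈ G₀ := fun {a b} ha hb =>
    (Subgroup.mul_mem_iff_of_index_two hidx).2 (iff_of_false ha hb)
  obtain ⟨g₀, hg₀⟩ : ∃ g : X, g ∉ G₀ := by
    by_contra h
    push Not at h
    rw [show G₀ = ⊤ from eq_top_iff.2 fun x _ => h x, Subgroup.index_top] at hidx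
    norm_num at hidx
  obtain ⟨P, -, hPz⟩ := hcentral
  set φ : MulAut ↥G₀ := MulAut.conjNormal g₀ with hφ
  set y := φ z with hy
  have hzz : z * z = 1 := S.D.ctx.xs.sq
  have hmemy : ∀ a : ↥G₀, a ∈ centralizer ({z} : Set ↥G₀) → φ a ∈ centralizer ({y} : Set ↥G₀) := fun a ha => by
    refine mem_centralizer_one.2 ?_
    rw [hy, ← map_mul, mem_centralizer_one.1 ha, map_mul]
  have hmemz : ∀ a : ↥G₀, a ∈ centralizer ({y} : Set ↥G₀) → φ.symm a ∈ centralizer ({z} : Set ↥G₀) := fun a ha => by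
    refine mem_centralizer_one.2 (φ.injective ?_)
    rw [map_mul, map_mul, φ.apply_symm_apply]
    exact mem_centralizer_one.1 ha
  let ec : ↥(centralizer ({z} : Set ↥G₀)) ≃* ↥(centralizer ({y} : Set ↥G₀)) :=
    { toFun := fun a => ⟨φ a.1, hmemy _ a.2⟩
      invFun := fun a => ⟨φ.symm a.1, hmemz _ a.2⟩
      left_inv := fun a => Subtype.ext (φ.symm_apply_apply _)
      right_inv := fun a => Subtype.ext (φ.apply_symm_apply _)
      map_mul' := fun a b => Subtype.ext (map_mul φ _ _) }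
  obtain ⟨h, hh⟩ := isConj_iff.1 (S.central_conj (y := y)
    (by rw [hy, ← map_mul, hzz, map_one]) (fun e => S.D.ctx.xs.ne_one ((map_eq_one_iff _ φ.injective).1 e))
    (P.comapOfInjective φ.symm.toMonoidHom φ.symm.injective
      (fun a _ => ⟨φ a, φ.symm_apply_apply a⟩))
    (fun a ha => by
      have hc := (hPz (φ.symm a) ha).map φ.toMonoidHom
      simpa using hc)
    (e := ec) S.hF.1.2.1)
  obtain ⟨x, hx, hxz⟩ : ∃ x : X, x ∉ G₀ ∧ x * z * x⁻¹ = z := by
    refine ⟨(h : X)⁻¹ * g₀, fun e => hg₀ ?_, ?_⟩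
    · simpa using mul_mem h.2 e
    · have e : (h : X) * z * (h : X)⁻¹ = g₀ * z * g₀⁻¹ := by
        have := congrArg Subtype.val hh
        simpa [hy, hφ, MulAut.conjNormal_apply] using this
      calc (h : X)⁻¹ * g₀ * z * ((h : X)⁻¹ * g₀)⁻¹ = (h : X)⁻¹ * (g₀ * z * g₀⁻¹) * h := by group
        _ = _ := by rw [← e]; group
  -- conjugation by elements fixing the central involution
  have hnQ : ∀ {a : X}, a * z * a⁻¹ = z → ∀ q : ↥(QG Q), ∃ q' : ↥(QG Q), ((q' : ↥G₀) : X) = a * ((q : ↥G₀) : X) * a⁻¹ := by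
    intro a ha q
    haveI := Components.generalizedFitting_normal (G := ↥(centralizer ({(z : X)} : Set X)))
    obtain ⟨f, hf, ef⟩ := hFX.ge ⟨q.1, q.2, rfl⟩
    have hm := (inferInstance : (Cfsg.generalizedFittingSubgroup ↥(centralizer ({(z : X)} : Set X))).Normal).conj_mem f hf
      ⟨a, mem_centralizer_one.2 (mul_inv_eq_iff_eq_mul.1 ha)⟩
    obtain ⟨q', hq', eq'⟩ := hFX.le ⟨_, hm, rfl⟩
    refine ⟨⟨q', hq'⟩, eq'.trans ?_⟩
    show a * (f : X) * a⁻¹ = _
    rw [show (f : X) = ((q : ↥G₀) : X) from ef]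
  have e2 : S.eg 2 = (uq S.cv (bA 0) : ↥G₀) := by rw [← vd_eight.2.1]; exact S.eg_even (x := 1) (by norm_num)
  have htnc : ¬ IsConj z (S.eg 2) := fun hc => absurd ((S.isConj_eg (by norm_num)).1 hc) (by decide +kernel)
  have ht1 : S.eg 2 ≠ 1 := (S.eg_ne 2 0 (by norm_num) (by norm_num) (by norm_num)).trans_eq S.eg_nil
  obtain ⟨q, hq⟩ := hnQ hxz (uq S.cv (bA 0))
  rw [← e2] at hq
  have hq2 : (q : ↥G₀) * q = 1 := Subtype.ext (by
    rw [Subgroup.coe_mul, hq, show x * ((S.eg 2 : ↥G₀) : X) * x⁻¹ * (x * ((S.eg 2 : ↥G₀) : X) * x⁻¹) =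
      x * (((S.eg 2 : ↥G₀) : X) * ((S.eg 2 : ↥G₀) : X)) * x⁻¹ by group, ← Subgroup.coe_mul, S.eg_sq]
    simp)
  have hq1 : (q : ↥G₀) ≠ 1 := fun e => ht1 (Subtype.ext (by
    rw [e] at hq; exact conj_eq_one_iff.1 hq.symm))
  have hqnc : ¬ IsConj z (q : ↥G₀) := fun hc => by
    obtain ⟨a, ha⟩ := isConj_iff.1 hc
    have ha' : (a : X) * z * (a : X)⁻¹ = x * ((S.eg 2 : ↥G₀) : X) * x⁻¹ := by
      rw [← hq, ← ha]; rfl
    refine htnc (isConj_iff.2 ⟨⟨x⁻¹ * a * x⁻¹⁻¹, hn0.conj_mem _ a.2 x⁻¹⟩, Subtype.ext ?_⟩)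
    show x⁻¹ * (a : X) * x⁻¹⁻¹ * z * (x⁻¹ * (a : X) * x⁻¹⁻¹)⁻¹ = _
    calc x⁻¹ * (a : X) * x⁻¹⁻¹ * z * (x⁻¹ * (a : X) * x⁻¹⁻¹)⁻¹ =
        x⁻¹ * ((a : X) * (x * z * x⁻¹) * (a : X)⁻¹) * x := by group
      _ = _ := by rw [hxz, ha']; group
  obtain ⟨g, hg⟩ : ∃ g : ↥G₀, g * S.eg 2 * g⁻¹ = q := by
    have hin : In1 (S.D.vec q) := (S.D.vec_cases (congrArg id hq2) hq1 (fun e => hqnc (by rw [e]))).resolve_right fun hv => by
      obtain ⟨g, s, hgs, hs⟩ := exists_conjugate S.hF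
      obtain ⟨c, hc⟩ := S.D.exists_r6_in2 (S.D.long hgs hs) hv
      obtain ⟨d, hd⟩ := S.D.conj_of_r6 hc hq1 (fun e => hqnc (by rw [e]))
      refine hqnc (isConj_iff.2 ⟨d.1 * g, ?_⟩)
      rw [← hd, ← hgs]; group
    obtain ⟨c, hc⟩ := S.D.exists_r6_in1 (u := S.D.vec (uq S.cv (bA 0))) (by rw [vec_uq S.cv S.hc]; decide +kernel) hin
    obtain ⟨d, hd⟩ := S.D.conj_of_r6 hc hq1 (fun e => hqnc (by rw [e]))
    exact ⟨d.1, e2.symm ▸ hd⟩
  set x₂ := (g : X)⁻¹ * x with hx₂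
  have hx₂0 : x₂ ∉ G₀ := fun e => hx (by simpa [hx₂] using mul_mem g.2 e)
  set t : X := ((S.eg 2 : ↥G₀) : X) with ht
  have hx₂t : x₂ * t * x₂⁻¹ = t := by
    have e : (g : X) * t * (g : X)⁻¹ = x * t * x⁻¹ := (congrArg Subtype.val hg).trans hq
    calc x₂ * t * x₂⁻¹ = (g : X)⁻¹ * (x * t * x⁻¹) * g := by rw [hx₂]; group
      _ = _ := by rw [← e]; group
  have hCTX : ∀ a : ↥G₀, a ∈ S.CT ↔ (a : X) * t = t * a := fun a => S.mem_CT.trans ext_G0
  have hconjCT : ∀ {w : X}, w * t * w⁻¹ = t → ∀ a : ↥S.CT,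
      (⟨w * (a.1 : X) * w⁻¹, hn0.conj_mem _ a.1.2 w⟩ : ↥G₀) ∈ S.CT := fun {w} hw a => by
    refine (hCTX _).2 ?_
    show w * (a.1 : X) * w⁻¹ * t = t * (w * (a.1 : X) * w⁻¹)
    conv_lhs => rw [← hw]
    conv_rhs => rw [← hw]
    calc w * (a.1 : X) * w⁻¹ * (w * t * w⁻¹) = w * ((a.1 : X) * t) * w⁻¹ := by group
      _ = _ := by rw [(hCTX _).1 a.2]; group
  have hx₂t' : x₂⁻¹ * t * x₂⁻¹⁻¹ = t := by
    conv_lhs => rw [← hx₂t]
    group
  let α : MulAut ↥S.CT :=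
    { toFun := fun a => ⟨_, hconjCT hx₂t a⟩
      invFun := fun a => ⟨_, hconjCT hx₂t' a⟩
      left_inv := fun a => Subtype.ext (Subtype.ext (show x₂⁻¹ * (x₂ * (a.1 : X) * x₂⁻¹) * x₂⁻¹⁻¹ = a.1 by group))
      right_inv := fun a => Subtype.ext (Subtype.ext (show x₂ * (x₂⁻¹ * (a.1 : X) * x₂⁻¹⁻¹) * x₂⁻¹ = a.1 by group))
      map_mul' := fun a b => Subtype.ext (Subtype.ext
        (show x₂ * ((a.1 : X) * b.1) * x₂⁻¹ = x₂ * (a.1 : X) * x₂⁻¹ * (x₂ * (b.1 : X) * x₂⁻¹) by group)) }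
  obtain ⟨K, hK⟩ := S.exists_cover_full
  haveI : K.Normal := Subgroup.normal_of_index_eq_two hK.index
  have hαK : K.map α.toMonoidHom = K := by rw [← hK.fstar, Components.generalizedFitting_map_equiv]
  obtain ⟨c, hc⟩ := hK.conj ((α.subgroupMap K).trans (MulEquiv.subgroupCongr hαK))
  set d₀ := ((c.1 : X))⁻¹ * x₂ with hd₀
  have hd₀0 : d₀ ∉ G₀ := fun e => hx₂0 (by simpa [hd₀] using mul_mem c.1.2 e)
  have hd₀K : ∀ k : ↥S.CT, k ∈ K → d₀ * (k.1 : X) = k.1 * d₀ := fun k hk => by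
    have e : x₂ * (k.1 : X) * x₂⁻¹ = (c.1 : X) * k.1 * (c.1 : X)⁻¹ :=
      congrArg (fun a : ↥S.CT => (a.1 : X)) (hc ⟨k, hk⟩)
    calc d₀ * (k.1 : X) = (c.1 : X)⁻¹ * (x₂ * k.1 * x₂⁻¹) * x₂ := by rw [hd₀]; group
      _ = _ := by rw [e, hd₀]; group
  have htK : (⟨S.eg 2, S.mem_CT.2 rfl⟩ : ↥S.CT) ∈ K := hK.Z_le (S.mem_Zt.2 (Or.inr rfl))
  have hCK : ∀ {a : ↥G₀} (ha : a ∈ S.C), (⟨a, S.C_le_CT ha⟩ : ↥S.CT) ∈ K := fun ha => hK.C_le (mem_subgroupOf.2 ha)
  have hcentK : ∀ a : ↥G₀, (∀ k : ↥S.CT, k ∈ K → (a : X) * k.1 = k.1 * a) → a = 1 ∨ a = S.eg 2 := fun a ha => by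
    have haT : a ∈ S.CT := (hCTX a).2 (ha _ htK)
    have hk : ∀ k ∈ K, Commute (⟨a, haT⟩ : ↥S.CT) k := fun k hk => Subtype.ext (Subtype.ext (ha k hk))
    have haK := hK.cent_le _ hk
    have : (⟨⟨a, haT⟩, haK⟩ : ↥K) ∈ S.Zt.subgroupOf K := hK.center_eq.ge
      (mem_center_iff.2 fun k => Subtype.ext (hk k.1 k.2).symm.eq)
    exact S.mem_Zt.1 (mem_subgroupOf.1 this)
  have hcentC : ∀ a : ↥G₀, (∀ b ∈ S.C, (a : X) * b = b * a) → a ∈ S.E := fun a ha => by
    have haC : a ∈ S.C := S.mem_C.2 ⟨Subtype.ext (ha _ (S.eg_mem_C 2)), Subtype.ext (ha _ (S.eg_mem_C 4))⟩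
    have : (⟨a, haC⟩ : ↥S.C) ∈ center ↥S.C :=
      mem_center_iff.2 fun b => Subtype.ext (Subtype.ext (ha b.1 b.2).symm)
    rw [S.center_C] at this
    exact mem_subgroupOf.1 this
  -- a mover
  obtain ⟨m, m0, m1, m2⟩ := S.exists_three (a := 0) (b := 1) (c := 2) (a' := 0) (b' := 2) (c' := 1) (by decide) (by decide)
  have hmt : m.1 * S.eg 2 * m.1⁻¹ = S.eg 4 := by rw [← S.pe_rep.1, S.pi_spec m (by decide), m0, m1, S.pe_rep.2.1]
  have hms : m.1 * S.eg 4 * m.1⁻¹ = S.eg 2 := by rw [← S.pe_rep.2.1, S.pi_spec m (by decide), m0, m2, S.pe_rep.1]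
  set M : X := (m.1 : X) with hM
  set s : X := ((S.eg 4 : ↥G₀) : X) with hs
  have hMt : M * t * M⁻¹ = s := congrArg Subtype.val hmt
  have hMs : M * s * M⁻¹ = t := congrArg Subtype.val hms
  have htt : t * t = 1 := congrArg Subtype.val (S.eg_sq 2)
  have hss : s * s = 1 := congrArg Subtype.val (S.eg_sq 4)
  have hts : t * s = s * t := congrArg Subtype.val (S.eg_comm 2 4)
  have hne_ts : t ≠ s := fun e => S.eg_ne 2 4 (by norm_num) (by norm_num) (by norm_num) (Subtype.ext e)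
  have hd₀C : ∀ b ∈ S.C, d₀ * (b : X) = b * d₀ := fun b hb => hd₀K _ (hCK hb)
  have hd₀t : d₀ * t = t * d₀ := hd₀C _ (S.eg_mem_C 2)
  have hMC : ∀ b ∈ S.C, m.1⁻¹ * b * m.1 ∈ S.C := fun b hb => by
    obtain ⟨b2, b4⟩ := S.mem_C.1 hb
    refine S.mem_C.2 ⟨?_, ?_⟩
    · conv_lhs => rw [show S.eg 2 = m.1⁻¹ * S.eg 4 * m.1 by rw [← hmt]; group]
      conv_rhs => rw [show S.eg 2 = m.1⁻¹ * S.eg 4 * m.1 by rw [← hmt]; group]
      calc m.1⁻¹ * b * m.1 * (m.1⁻¹ * S.eg 4 * m.1) = m.1⁻¹ * (b * S.eg 4) * m.1 := by group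
        _ = _ := by rw [b4]; group
    · conv_lhs => rw [show S.eg 4 = m.1⁻¹ * S.eg 2 * m.1 by rw [← hms]; group]
      conv_rhs => rw [show S.eg 4 = m.1⁻¹ * S.eg 2 * m.1 by rw [← hms]; group]
      calc m.1⁻¹ * b * m.1 * (m.1⁻¹ * S.eg 2 * m.1) = m.1⁻¹ * (b * S.eg 2) * m.1 := by group
        _ = _ := by rw [b2]; group
  have hconjC : ∀ {w : X}, (∀ b ∈ S.C, w * (b : X) = b * w) → ∀ b ∈ S.C, M * w * M⁻¹ * (b : X) = b * (M * w * M⁻¹) :=
    fun {w} hw b hb => by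
      have e := hw _ (hMC b hb)
      change w * (M⁻¹ * (b : X) * M) = M⁻¹ * (b : X) * M * w at e
      calc M * w * M⁻¹ * (b : X) = M * (w * (M⁻¹ * (b : X) * M)) * M⁻¹ := by group
        _ = _ := by rw [e]; group
  have hMn : ∀ {w : X}, w ∉ G₀ → M * w * M⁻¹ ∉ G₀ := fun {w} hw e => hw (by
    have := hn0.conj_mem _ e M⁻¹
    rwa [show M⁻¹ * (M * w * M⁻¹) * M⁻¹⁻¹ = w by group] at this)
  -- the square
  have hd₀sq : d₀ * d₀ = 1 := by
    rcases hcentK ⟨d₀ * d₀, hmul hd₀0 hd₀0⟩ (fun k hk => by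
        show d₀ * d₀ * (k.1 : X) = k.1 * (d₀ * d₀)
        rw [mul_assoc, hd₀K k hk, ← mul_assoc, hd₀K k hk, mul_assoc]) with e | e
    · exact congrArg Subtype.val e
    · exfalso
      have e' : d₀ * d₀ = t := congrArg Subtype.val e
      set a : ↥G₀ := ⟨M * d₀ * M⁻¹ * d₀⁻¹, hmul (hMn hd₀0) (fun h => hd₀0 (by simpa using inv_mem h))⟩ with ha
      have haA : a ∈ AG S.cv := by
        rw [← centralizer_AG S.cv S.hc S.hF, mem_centralizer_iff]
        intro b hb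
        refine Subtype.ext ?_
        show (b : X) * (M * d₀ * M⁻¹ * d₀⁻¹) = M * d₀ * M⁻¹ * d₀⁻¹ * b
        have h1 := hd₀C b (S.AG_le_C hb)
        have h2 := hconjC hd₀C b (S.AG_le_C hb)
        calc (b : X) * (M * d₀ * M⁻¹ * d₀⁻¹) = (b : X) * (M * d₀ * M⁻¹) * d₀⁻¹ := by group
          _ = M * d₀ * M⁻¹ * (d₀⁻¹ * (d₀ * b) * d₀⁻¹) := by rw [← h2]; group
          _ = _ := by rw [h1]; group
      have hda := hd₀C a (S.AG_le_C haA)
      have ha2 : (a : X) * a = 1 := congrArg Subtype.val (AG_sq S.cv a haA)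
      refine hne_ts ?_
      calc t = (a : X) * a * (d₀ * d₀) := by rw [ha2, one_mul, e']
        _ = (a : X) * ((a : X) * d₀) * d₀ := by group
        _ = (M * d₀ * M⁻¹) * (M * d₀ * M⁻¹) := by
          rw [← hda]
          show M * d₀ * M⁻¹ * d₀⁻¹ * (d₀ * (M * d₀ * M⁻¹ * d₀⁻¹)) * d₀ = _
          group
        _ = M * (d₀ * d₀) * M⁻¹ := by group
        _ = s := by rw [e', hMt]
  -- the choice
  obtain ⟨d, hd0, hdK, hMd⟩ : ∃ d : X, d ∉ G₀ ∧ (∀ k : ↥S.CT, k ∈ K → d * (k.1 : X) = k.1 * d) ∧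
      (M * d * M⁻¹ = d ∨ M * d * M⁻¹ = s * d) := by
    set a : ↥G₀ := ⟨M * d₀ * M⁻¹ * d₀, hmul (hMn hd₀0) hd₀0⟩ with ha
    have haE : a ∈ S.E := hcentC a fun b hb => by
      show M * d₀ * M⁻¹ * d₀ * (b : X) = b * (M * d₀ * M⁻¹ * d₀)
      rw [mul_assoc _ d₀, hd₀C b hb, ← mul_assoc, hconjC hd₀C b hb, mul_assoc]
    have e1 : M * d₀ * M⁻¹ = (a : X) * d₀ := by
      show _ = M * d₀ * M⁻¹ * d₀ * d₀
      rw [mul_assoc _ d₀ d₀, hd₀sq, mul_one]
    have h0' : t * d₀ ∉ G₀ := fun h => hd₀0 (by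
      have := mul_mem (inv_mem (S.eg 2).2) h
      simpa [ht] using this)
    have hK' : ∀ k : ↥S.CT, k ∈ K → t * d₀ * (k.1 : X) = k.1 * (t * d₀) := fun k hk => by
      rw [mul_assoc, hd₀K k hk, ← mul_assoc, ← (hCTX _).1 k.2, mul_assoc]
    have e3 : M * (t * d₀) * M⁻¹ = s * ((a : X) * d₀) := by
      rw [← e1, ← hMt]; group
    rcases S.center_C_cases haE with e | e | e | e <;> rw [e] at e1 e3
    · exact ⟨d₀, hd₀0, hd₀K, Or.inl (by rw [e1]; simp)⟩
    · exact ⟨t * d₀, h0', hK', Or.inr e3⟩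
    · exact ⟨d₀, hd₀0, hd₀K, Or.inr e1⟩
    · refine ⟨t * d₀, h0', hK', Or.inl (e3.trans ?_)⟩
      rw [S.eg_six]
      show s * (s * t * d₀) = t * d₀
      calc s * (s * t * d₀) = s * s * (t * d₀) := by group
        _ = t * d₀ := by rw [hss, one_mul]
  have hdC : ∀ b ∈ S.C, d * (b : X) = b * d := fun b hb => hdK _ (hCK hb)
  have hdt : d * t = t * d := hdC _ (S.eg_mem_C 2)
  have hdsq : d * d = 1 := by
    rcases hcentK ⟨d * d₀, hmul hd0 hd₀0⟩ (fun k hk => by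
        show d * d₀ * (k.1 : X) = k.1 * (d * d₀)
        rw [mul_assoc, hd₀K k hk, ← mul_assoc, hdK k hk, mul_assoc]) with e | e
    · have e' : d * d₀ = 1 := congrArg Subtype.val e
      rw [eq_inv_of_mul_eq_one_left e', inv_eq_of_mul_eq_one_right hd₀sq, hd₀sq]
    · have e' : d * d₀ = t := congrArg Subtype.val e
      have : d = t * d₀ := by rw [← e', mul_assoc, hd₀sq, mul_one]
      rw [this, show t * d₀ * (t * d₀) = t * (d₀ * t) * d₀ by group, hd₀t,
        show t * (t * d₀) * d₀ = t * t * (d₀ * d₀) by group, htt, hd₀sq, one_mul]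
  have hdz : d * (z : X) = (z : X) * d := hdC z S.z_mem_C
  have hMd' : M * d * M⁻¹ = d := by
    refine hMd.resolve_right fun e => ?_
    have hMM : M * (M * d * M⁻¹) * M⁻¹ = t * s * d := by
      rw [e, show M * (s * d) * M⁻¹ = M * s * M⁻¹ * (M * d * M⁻¹) by group, hMs, e, mul_assoc]
    have hw : (M * M) * t * (M * M)⁻¹ = t := by
      rw [show (M * M) * t * (M * M)⁻¹ = M * (M * t * M⁻¹) * M⁻¹ by group, hMt, hMs]
    have hw' : (M * M)⁻¹ * t * (M * M)⁻¹⁻¹ = t := by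
      conv_lhs => rw [← hw]
      group
    set w : ↥S.CT := ⟨m.1 * m.1, (hCTX _).2 (mul_inv_eq_iff_eq_mul.1 hw)⟩
    have hcm : ∀ k : ↥S.CT, k ∈ K → t * s * d * (k.1 : X) = k.1 * (t * s * d) := fun k hk => by
      have hk' := Subgroup.Normal.conj_mem inferInstance k hk w⁻¹
      rw [inv_inv] at hk'
      have e' := hdK _ hk'
      change d * ((M * M)⁻¹ * (k.1 : X) * (M * M)) = (M * M)⁻¹ * (k.1 : X) * (M * M) * d at e'
      rw [← hMM, show M * (M * d * M⁻¹) * M⁻¹ * (k.1 : X) =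
        M * M * (d * ((M * M)⁻¹ * (k.1 : X) * (M * M))) * (M * M)⁻¹ by group, e']
      group
    rcases hcentK (S.eg 2 * S.eg 4) (fun k hk => by
        show t * s * (k.1 : X) = k.1 * (t * s)
        calc t * s * (k.1 : X) = t * s * (d * d) * k.1 := by rw [hdsq, mul_one]
          _ = t * s * d * (k.1 * d) := by rw [← hdK k hk]; group
          _ = k.1 * (t * s * d) * d := by rw [← mul_assoc, hcm k hk]
          _ = k.1 * (t * s) * (d * d) := by group
          _ = _ := by rw [hdsq, mul_one]) with e' | e'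
    · exact hne_ts (by
        have := congrArg Subtype.val e'
        change t * s = 1 at this
        rw [eq_inv_of_mul_eq_one_left this, inv_eq_of_mul_eq_one_right hss])
    · exact S.eg_ne 4 0 (by norm_num) (by norm_num) (by norm_num) ((mul_eq_left.1 e').trans S.eg_nil.symm)
  -- the element of Q swaps
  obtain ⟨u, hu, hu2, hu4, hn1, hn2⟩ := S.exists_swap
  have hu' : (u : ↥G₀) ∈ S.CT := hu.2
  have huK : (⟨(u : ↥G₀), hu'⟩ : ↥S.CT) ∉ K := fun hh => by
    obtain ⟨σ, s0, s1, s2⟩ := S.exists_three (a := 0) (b := 1) (c := 2) (a' := 1) (b' := 0) (c' := 2) (by decide) (by decide)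
    have hσT : σ.1 ∈ S.CT := S.mem_CT.2 (mul_inv_eq_iff_eq_mul.1 (by
      rw [← S.pe_rep.1, S.pi_spec σ (by decide), s0, s1, S.pe_comm]))
    rcases S.mt_cases (m := ⟨(u : ↥G₀), hu.1⟩) hu' with ⟨u0, u1⟩ | ⟨u0, u1⟩
    · exact S.swap_free hu hu2 hu4 hn1 hn2 (one_mem S.CT)
        (by rw [one_mul, inv_one, mul_one]; exact S.mem_U.2 ⟨hu.1, u0, u1⟩)
    · have hσu : (⟨σ.1, hσT⟩ : ↥S.CT) * ⟨(u : ↥G₀), hu'⟩ ∈ K := hK.U_le (mem_subgroupOf.2
        (S.mem_U.2 ⟨(MG S.cv).mul_mem σ.2 hu.1, by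
          show S.pi (σ * ⟨(u : ↥G₀), hu.1⟩) 0 = 0
          rw [map_mul, Equiv.Perm.mul_apply, u0, s1], by
          show S.pi (σ * ⟨(u : ↥G₀), hu.1⟩) 1 = 1
          rw [map_mul, Equiv.Perm.mul_apply, u1, s0]⟩))
      refine hK.no_swap _ ((Subgroup.mul_mem_cancel_right K hh).1 hσu) ?_
      rw [← S.pe_rep.2.1, S.pi_spec σ (by decide), s0, s2, S.pe_rep.2.2]
  set U : X := ((u : ↥G₀) : X) with hU
  have hud : U * d * U⁻¹ ≠ d := by
    intro e
    have hdu : d * U = U * d := (mul_inv_eq_iff_eq_mul.1 e).symm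
    have hdQ : ∀ q : ↥(QG Q), (q : ↥G₀) * S.eg 2 = S.eg 2 * q → d * ((q : ↥G₀) : X) = ((q : ↥G₀) : X) * d := by
      intro q hq
      by_cases hqK : (⟨(q : ↥G₀), S.mem_CT.2 hq⟩ : ↥S.CT) ∈ K
      · exact hdK _ hqK
      · have hqu : (⟨(q : ↥G₀), S.mem_CT.2 hq⟩ : ↥S.CT) * ⟨(u : ↥G₀), hu'⟩ ∈ K :=
          (Subgroup.mul_mem_iff_of_index_two hK.index).2 (iff_of_false hqK huK)
        have e' := hdK _ hqu
        change d * (((q : ↥G₀) : X) * U) = ((q : ↥G₀) : X) * U * d at e'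
        have : d * ((q : ↥G₀) : X) * U = ((q : ↥G₀) : X) * d * U := by rw [mul_assoc, e', mul_assoc, ← hdu, mul_assoc]
        exact mul_right_cancel this
    set x₀ := uq S.cv (K4.w • swapV) with hx₀
    set xX : X := ((x₀ : ↥G₀) : X) with hxX
    have hx₀t : ¬ (x₀ : ↥G₀) * S.eg 2 = S.eg 2 * x₀ := by
      rw [e2, S.comm_q, vec_uq S.cv S.hc, vec_uq S.cv S.hc, off_perp]
      exact one_ne_zero
    have hdinv : d⁻¹ = d := inv_eq_of_mul_eq_one_right hdsq
    obtain ⟨q', hq'⟩ := hnQ (a := d) (mul_inv_eq_iff_eq_mul.2 hdz) x₀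
    rw [hdinv] at hq'
    set cQ := x₀⁻¹ * q' with hcQ
    have hcX : ((cQ : ↥G₀) : X) = xX⁻¹ * (d * xX * d) := by rw [← hq']; rfl
    have hperp : ∀ w ∈ perpL, hf (S.D.vec cQ) w + hf w (S.D.vec cQ) = 0 := by
      intro w hw
      set y := uq S.cv w with hy'
      have hyt : (y : ↥G₀) * S.eg 2 = S.eg 2 * y := by
        rw [e2, S.comm_q, vec_uq S.cv S.hc, vec_uq S.cv S.hc]
        exact perpL_ok w hw
      have hdy := hdQ y hyt
      have key : ((cQ : ↥G₀) : X) * ((y : ↥G₀) : X) = ((y : ↥G₀) : X) * ((cQ : ↥G₀) : X) := by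
        set Y : X := ((y : ↥G₀) : X)
        rw [hcX]
        obtain ⟨k, hk, hxy⟩ : ∃ k : X, (k = 1 ∨ k = (z : X)) ∧ Y * xX * Y⁻¹ = xX * k := by
          rcases S.D.ctx.xs.conj_cases y.2 x₀.2 with e' | e'
          · exact ⟨1, Or.inl rfl, (congrArg Subtype.val e').trans (mul_one _).symm⟩
          · exact ⟨z, Or.inr rfl, congrArg Subtype.val e'⟩
        have hkd : k * d = d * k := by rcases hk with rfl | rfl <;> [rw [one_mul, mul_one]; exact hdz.symm]
        have hkx : k * xX = xX * k := by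
          rcases hk with rfl | rfl
          · rw [one_mul, mul_one]
          · exact (congrArg Subtype.val (S.D.ctx.xs.comm x₀.2)).symm
        refine (mul_inv_eq_iff_eq_mul.1 ?_).symm
        have h3 : Y * (d * xX * d) * Y⁻¹ = d * xX * d * k := by
          calc Y * (d * xX * d) * Y⁻¹ = (Y * d) * xX * (d * Y⁻¹) := by group
            _ = d * (Y * xX * Y⁻¹) * d := by
              rw [← hdy, show d * Y⁻¹ = Y⁻¹ * d from (Commute.inv_right hdy).eq]; group
            _ = _ := by rw [hxy, mul_assoc d, mul_assoc xX, hkd]; group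
        calc Y * (xX⁻¹ * (d * xX * d)) * Y⁻¹ = (Y * xX * Y⁻¹)⁻¹ * (Y * (d * xX * d) * Y⁻¹) := by group
          _ = k⁻¹ * (xX⁻¹ * (d * xX * d)) * k := by rw [hxy, h3]; group
          _ = _ := by
            have h1 : Commute k (xX⁻¹ * (d * xX * d)) :=
              (Commute.inv_right hkx).mul_right ((Commute.mul_right (Commute.mul_right hkd hkx) hkd))
            rw [mul_assoc, ← h1.eq, inv_mul_cancel_left]
      have := (S.comm_q cQ y).1 (Subtype.ext key)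
      rwa [vec_uq S.cv S.hc] at this
    have hall : ∀ w : X, w ∉ G₀ → w * (z : X) = z * w → (∀ q : ↥(QG Q), (q : ↥G₀) * S.eg 2 = S.eg 2 * q →
        w * ((q : ↥G₀) : X) = ((q : ↥G₀) : X) * w) → w * xX = xX * w → False := by
      intro w hw hwz hwQ hwx
      have hwall : ∀ q : ↥(QG Q), w * ((q : ↥G₀) : X) = ((q : ↥G₀) : X) * w := fun q => by
        by_cases hq : (q : ↥G₀) * S.eg 2 = S.eg 2 * q
        · exact hwQ q hq
        · have hqx : ((q * x₀ : ↥(QG Q)) : ↥G₀) * S.eg 2 = S.eg 2 * ((q * x₀ : ↥(QG Q)) : ↥G₀) := by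
            rw [e2, S.comm_q] at hq hx₀t ⊢
            rw [S.D.vec_mul, hf_addl, hf_addr]
            have hr : ∀ v : V6, (hf v (S.D.vec (uq S.cv (bA 0))) + hf (S.D.vec (uq S.cv (bA 0))) v) *
                (hf v (S.D.vec (uq S.cv (bA 0))) + hf (S.D.vec (uq S.cv (bA 0))) v) =
                hf v (S.D.vec (uq S.cv (bA 0))) + hf (S.D.vec (uq S.cv (bA 0))) v := fun v => by
              rw [hf_swap v (S.D.vec (uq S.cv (bA 0)))]
              generalize hf v (S.D.vec (uq S.cv (bA 0))) = h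
              revert h; decide
            have hone := (by decide : ∀ a : K4, a * a = a → a ≠ 0 → a = 1)
            rw [add_add_add_comm, hone _ (hr _) hq, hone _ (hr _) hx₀t]
            decide
          have := hwQ _ hqx
          change w * (((q : ↥G₀) : X) * xX) = ((q : ↥G₀) : X) * xX * w at this
          rw [mul_assoc _ xX, ← hwx, ← mul_assoc, ← mul_assoc] at this
          exact mul_right_cancel this
      have hwC : (⟨w, mem_centralizer_one.2 hwz⟩ : ↥(centralizer ({(z : X)} : Set X))) ∈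
          Cfsg.generalizedFittingSubgroup ↥(centralizer ({(z : X)} : Set X)) := by
        refine Components.centralizer_generalizedFitting_le (mem_centralizer_iff.2 fun f hf => Subtype.ext ?_)
        obtain ⟨q, hq, eq⟩ := hFX.le ⟨f, hf, rfl⟩
        show (f : X) * w = w * f
        rw [show (f : X) = ((q : ↥G₀) : X) from eq.symm]
        exact (hwall ⟨q, hq⟩).symm
      obtain ⟨q, -, eq⟩ := hFX.le ⟨_, hwC, rfl⟩
      exact hw (show w ∈ G₀ from (show ((q : ↥G₀) : X) = w from eq) ▸ q.2)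
    rcases perp_v _ hperp with hv | hv
    · rcases S.D.vec_eq_zero.1 hv with e' | e'
      · refine hall d hd0 hdz hdQ ?_
        have : xX⁻¹ * (d * xX * d) = 1 := by rw [← hcX, e']; rfl
        have h := inv_mul_eq_one.1 this
        calc d * xX = d * xX * (d * d) := by rw [hdsq, mul_one]
          _ = d * xX * d * d := by group
          _ = _ := by rw [← h]
      · have hzc : xX⁻¹ * (d * xX * d) = (z : X) := by rw [← hcX, e']
        have h := inv_mul_eq_iff_eq_mul.1 hzc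
        have htx : t * xX * t⁻¹ = xX * z := by
          rcases S.D.ctx.xs.conj_cases (show S.eg 2 ∈ QG Q from e2 ▸ (uq S.cv (bA 0)).2) x₀.2 with a | a
          · exact absurd (mul_inv_eq_iff_eq_mul.1 a).symm hx₀t
          · exact congrArg Subtype.val a
        refine hall (t * d) (fun hh => hd0 (by simpa [ht] using mul_mem (inv_mem (S.eg 2).2) hh)) ?_ ?_ ?_
        · rw [mul_assoc, hdz, ← mul_assoc,
            show t * (z : X) = z * t from congrArg Subtype.val (comm_of_sq (AG_sq S.cv) (S.B.eg_mem S.hc 2) (z_mem_AG S.cv)),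
            mul_assoc]
        · intro q hq
          rw [mul_assoc, hdQ q hq, ← mul_assoc, show t * ((q : ↥G₀) : X) = ((q : ↥G₀) : X) * t from
            congrArg Subtype.val hq.symm, mul_assoc]
        · have hx' : d * xX = xX * z * d := by
            rw [← h, mul_assoc _ d d, hdsq, mul_one]
          rw [mul_assoc, hx', ← mul_assoc, ← mul_assoc, mul_inv_eq_iff_eq_mul.1 htx, mul_assoc xX, mul_assoc xX,
            mul_assoc xX]
          refine congrArg (xX * ·) ?_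
          rw [mul_assoc (z : X) t, show t * (z : X) = z * t from congrArg Subtype.val (comm_of_sq (AG_sq S.cv) (S.B.eg_mem S.hc 2) (z_mem_AG S.cv)),
            ← mul_assoc, show (z : X) * z = 1 from congrArg Subtype.val hzz, one_mul]
    · rw [← vec_uq S.cv S.hc (bA 0), eq_comm, S.D.vec_eq_iff, ← e2] at hv
      obtain ⟨k, hk, hck⟩ : ∃ k : X, (k = 1 ∨ k = (z : X)) ∧ xX⁻¹ * (d * xX * d) = t * k := by
        rcases hv with e' | e'
        · exact ⟨1, Or.inl rfl, by rw [← hcX, e', mul_one]⟩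
        · exact ⟨z, Or.inr rfl, by rw [← hcX, e']; rfl⟩
      have h := inv_mul_eq_iff_eq_mul.1 hck
      have htx : t * xX = xX * z * t := by
        rcases S.D.ctx.xs.conj_cases (show S.eg 2 ∈ QG Q from e2 ▸ (uq S.cv (bA 0)).2) x₀.2 with a | a
        · exact absurd (mul_inv_eq_iff_eq_mul.1 a).symm hx₀t
        · exact mul_inv_eq_iff_eq_mul.1 (congrArg Subtype.val a)
      have hzX : ∀ q : ↥(QG Q), (z : X) * ((q : ↥G₀) : X) = ((q : ↥G₀) : X) * z := fun q =>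
        (congrArg Subtype.val (S.D.ctx.xs.comm q.2)).symm
      have hzt : Commute (z : X) t := congrArg Subtype.val (comm_of_sq (AG_sq S.cv) (z_mem_AG S.cv) (S.B.eg_mem S.hc 2))
      have hzz' : (z : X) * z = 1 := congrArg Subtype.val hzz
      have hkz : Commute k (z : X) := by rcases hk with rfl | rfl <;> [exact Commute.one_left _; exact Commute.refl _]
      have hkt : Commute k t := by rcases hk with rfl | rfl <;> [exact Commute.one_left _; exact hzt]
      have hkx : Commute k xX := by rcases hk with rfl | rfl <;> [exact Commute.one_left _; exact hzX x₀]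
      have hkk : k * k = 1 := by rcases hk with rfl | rfl <;> [exact one_mul 1; exact hzz']
      have hsq : Commute d (xX * xX) := by
        rcases S.D.ctx.xs.sq_cases x₀.2 with a | a
        · rw [show xX * xX = 1 from congrArg Subtype.val a]; exact Commute.one_right _
        · rw [show xX * xX = z from congrArg Subtype.val a]; exact hdz
      have h1 : d * xX * d * (d * xX * d) = xX * xX := by
        rw [show d * xX * d * (d * xX * d) = d * xX * (d * d) * xX * d by group, hdsq, mul_one,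
          mul_assoc d, hsq.eq, mul_assoc, hdsq, mul_one]
      have h2 : xX * (t * k) * (xX * (t * k)) = xX * xX * z := by
        calc xX * (t * k) * (xX * (t * k)) = xX * (t * (k * xX) * t * k) := by group
          _ = xX * ((t * xX) * (k * t) * k) := by rw [hkx.eq]; group
          _ = xX * (xX * z * t * (t * k) * k) := by rw [htx, hkt.eq]
          _ = xX * xX * z * (t * t) * (k * k) := by group
          _ = _ := by rw [htt, hkk, mul_one, mul_one]
      rw [h, h2] at h1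
      exact S.D.ctx.xs.ne_one (Subtype.ext (mul_eq_left.1 h1))
  -- the copy
  set Y := G₀ ⊓ centralizer ({d} : Set X) with hY
  have hYmem : ∀ {a : X}, a ∈ G₀ → d * a = a * d → a ∈ Y := fun ha hc => ⟨ha, mem_centralizer_one.2 hc.symm⟩
  set tY : ↥Y := ⟨t, hYmem (S.eg 2).2 hdt⟩ with htY
  have hfwd : ∀ k : ↥K, (⟨(k.1.1 : X), hYmem k.1.1.2 (hdK k.1 k.2)⟩ : ↥Y) ∈ centralizer ({tY} : Set ↥Y) := fun k =>
    mem_centralizer_one.2 (Subtype.ext ((hCTX _).1 k.1.2))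
  have hback : ∀ a : ↥(centralizer ({tY} : Set ↥Y)), ∃ h : (⟨(a.1 : X), a.1.2.1⟩ : ↥G₀) ∈ S.CT,
      (⟨_, h⟩ : ↥S.CT) ∈ K := fun a => by
    have h : (⟨(a.1 : X), a.1.2.1⟩ : ↥G₀) ∈ S.CT := (hCTX _).2 (congrArg Subtype.val (mem_centralizer_one.1 a.2))
    refine ⟨h, ?_⟩
    by_contra hn
    have hau : (⟨_, h⟩ : ↥S.CT) * ⟨(u : ↥G₀), hu'⟩ ∈ K :=
      (Subgroup.mul_mem_iff_of_index_two hK.index).2 (iff_of_false hn huK)
    refine hud (mul_inv_eq_iff_eq_mul.2 ?_)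
    have e' := hdK _ hau
    change d * ((a.1 : X) * U) = (a.1 : X) * U * d at e'
    rw [← mul_assoc, ← mem_centralizer_one.1 a.1.2.2, mul_assoc, mul_assoc] at e'
    exact (mul_left_cancel e').symm
  let eK : ↥K ≃* ↥(centralizer ({tY} : Set ↥Y)) :=
    { toFun := fun k => ⟨_, hfwd k⟩
      invFun := fun a => ⟨_, (hback a).2⟩
      left_inv := fun k => rfl
      right_inv := fun a => rfl
      map_mul' := fun a b => rfl }
  refine ⟨d, orderOf_eq_prime (by rw [pow_two, hdsq]) (fun e => hd0 (e ▸ one_mem _)), hd0, hdz, tY,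
    orderOf_eq_prime (by rw [pow_two]; exact Subtype.ext htt) (fun e => ht1 (Subtype.ext (congrArg Subtype.val e :))),
    rfl, ⟨K, hK, eK, fun _ => rfl⟩, ⟨M, hYmem m.1.2 (mul_inv_eq_iff_eq_mul.1 hMd').symm⟩, ?_, fun e => hne_ts ?_⟩
  · refine mem_centralizer_one.2 (Subtype.ext ?_)
    show M * t * M⁻¹ * t = t * (M * t * M⁻¹)
    rw [hMt, hts]
  · have e' : M * t * M⁻¹ = t := congrArg Subtype.val e
    rw [hMt] at e'
    exact e'.symm

end Data

end Cfsg.Agent.LargeFischer.Six
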