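import Cfsg.Agent.Lib.U43InU62.Orbit
import Mathlib.GroupTheory.GroupAction.Quotient

/-! The two orbits of the copy of 3.U4(3) in SU6(2) on isotropic vectors. -/

set_option autoImplicit false
set_option maxRecDepth 100000

namespace Cfsg.Agent.LargeFischer

open Cfsg.Agent.RigidGraph.He Cfsg.Agent.U43InU62
open Matrix

/-- The number of non-zero coordinates. -/
def wt (x : V6) : ℕ := (Finset.univ.filter fun j => x j ≠ 0).card

/-- The product of the coordinates. -/
def pc (x : V6) : K4 := ∏ j, x j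

/-- The short orbit. -/
def In1 (x : V6) : Prop := wt x = 2 ∨ (wt x = 6 ∧ pc x = 1)

/-- The long orbit. -/
def In2 (x : V6) : Prop := wt x = 4 ∨ (wt x = 6 ∧ pc x ≠ 1)

instance : DecidablePred In1 := fun x => by unfold In1; infer_instance
instance : DecidablePred In2 := fun x => by unfold In2; infer_instance

theorem wt_zero : wt (0 : V6) = 0 := by simp [wt]

theorem wt_le (x : V6) : wt x ≤ 6 := le_trans (Finset.card_le_univ _) (by simp)

theorem in_cases {x : V6} (h0 : x ≠ 0) (he : wt x % 2 = 0) : In1 x ∨ In2 x := by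
  have h1 : wt x ≠ 0 := fun h => h0 (funext fun j => by
    by_contra hj
    exact (Finset.card_ne_zero.2 ⟨j, Finset.mem_filter.2 ⟨Finset.mem_univ j, hj⟩⟩) h)
  have h2 := wt_le x
  have : wt x = 2 ∨ wt x = 4 ∨ wt x = 6 := by omega
  unfold In1 In2
  rcases this with h | h | h <;> by_cases hp : pc x = 1 <;> simp [h, hp]

theorem in_disjoint {x : V6} (h1 : In1 x) (h2 : In2 x) : False := by
  rcases h1 with a | ⟨a, b⟩ <;> rcases h2 with c | ⟨c, d⟩ <;> first | omega | exact d b

theorem all_ne {x : V6} (h : wt x = 6) (j : Fin 6) : x j ≠ 0 := by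
  have hu : (Finset.univ.filter fun j => x j ≠ 0) = Finset.univ :=
    Finset.eq_univ_of_card _ (by rw [Fintype.card_fin]; exact h)
  have : j ∈ Finset.univ.filter fun j => x j ≠ 0 := hu.symm ▸ Finset.mem_univ j
  exact (Finset.mem_filter.1 this).2

theorem wt_mel (π : Equiv.Perm (Fin 6)) (d : Dg) (x : V6) : wt (act (mel π d) x) = wt x := by
  refine Finset.card_equiv π.symm fun i => ?_
  simp [act_mel, d.2.1]

theorem pc_mel (π : Equiv.Perm (Fin 6)) (d : Dg) (x : V6) : pc (act (mel π d) x) = pc x := by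
  simp only [pc, act_mel]
  rw [Equiv.prod_comp π.symm (fun j => d.1 j * x j), Finset.prod_mul_distrib, d.2.2, one_mul]

theorem in1_mel (π : Equiv.Perm (Fin 6)) (d : Dg) (x : V6) : In1 (act (mel π d) x) ↔ In1 x := by
  unfold In1; rw [wt_mel, pc_mel]

theorem tau_in1_coord : ∀ a b c e f g : K4, In1 ![a, b, c, e, f, g] → In1 (tauMat *ᵥ ![a, b, c, e, f, g]) := by
  decide +kernel

theorem vec_eta (x : V6) : x = ![x 0, x 1, x 2, x 3, x 4, x 5] := by
  funext i; fin_cases i <;> rfl

theorem tau_in1 {x : V6} (h : In1 x) : In1 (act tau x) := by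
  show In1 (mat tau *ᵥ x)
  rw [mat_tau, vec_eta x]
  exact tau_in1_coord _ _ _ _ _ _ ((vec_eta x) ▸ h)

/-- The copy is generated by the monomial part and one more element. -/
theorem K0_eq_closure : K0 = Subgroup.closure ((N0 : Set S6) ∪ {tau}) := by
  set H := Subgroup.closure ((N0 : Set S6) ∪ {tau}) with hH
  have hle : H ≤ K0 :=
    (Subgroup.closure_le _).2 (Set.union_subset N0_le_K0 (Set.singleton_subset_iff.2 tau_mem))
  have hN : N0 ≤ H := fun x hx => Subgroup.subset_closure (Or.inl hx)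
  have hr : ∀ i, ∃ h ∈ H, ∃ π, Moves h π ∧ π base = i := fun i => by
    obtain ⟨h, hh, π, hm, hπ⟩ := tree_reach _ base _ trees_ok.1 (gens9_moves tau_moves) (H := H)
      (fun k _ => by
        by_cases hk : k < 8
        · simp only [gens9, hk, dif_pos]; exact hN (gel_mem_N0 _)
        · simp only [gens9, hk, dif_neg, not_false_eq_true]; exact Subgroup.subset_closure (Or.inr rfl))
      _ _ (fun c hc => ⟨1, one_mem _, 1, moves_one, (List.mem_singleton.1 hc).symm⟩) trees_ok.2.2.1 _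
      (trees_ok.2.2.2.1 i)
    exact ⟨h, hh, π, hm, Fin.ext hπ⟩
  have h1 := card_mul_le hr N0 hN fun x hx => fix_of_Nall (monoSub_le _ hx)
  rw [card_N0] at h1
  exact (Subgroup.eq_of_le_of_card_ge hle (by rw [card_K0]; omega)).symm

/-- The short orbit is invariant. -/
theorem in1_act {g : S6} (hg : g ∈ K0) {x : V6} (hx : In1 x) : In1 (act g x) := by
  let M : Submonoid S6 :=
    { carrier := {g | ∀ y, In1 y → In1 (act g y)}
      one_mem' := fun y hy => by rwa [act_one]
      mul_mem' := fun {a b} ha hb y hy => by rw [act_mul]; exact ha _ (hb _ hy) }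
  suffices h : K0 ≤ finSub M from h hg x hx
  rw [K0_eq_closure, Subgroup.closure_le]
  rintro a (ha | rfl) y hy
  · obtain ⟨π, -, d, rfl⟩ := mem_N0.1 ha
    exact (in1_mel π d y).2 hy
  · exact tau_in1 hy

theorem act_eq_zero_iff (g : S6) {x : V6} : act g x = 0 ↔ x = 0 :=
  ⟨fun h => act_inj g (h.trans (act_zero g).symm), fun h => h ▸ act_zero g⟩

theorem herm_self (x : V6) : Cfsg.hermForm 6 K4 2 x x = ((wt x % 2 : ℕ) : K4) := by
  have h1 : Cfsg.hermForm 6 K4 2 x x = ∑ j, if x j ≠ 0 then (1 : K4) else 0 := by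
    refine Finset.sum_congr rfl fun j _ => ?_
    by_cases h : x j = 0
    · simp [h]
    · rw [if_pos h]; exact cube_ne_zero h
  have h2 : ((2 : ℕ) : K4) = 0 := by rw [Nat.cast_two, ← one_add_one_eq_two]; exact K4.add_self 1
  rw [h1, ← Finset.sum_filter, Finset.sum_const, nsmul_one, ← wt]
  conv_lhs => rw [← Nat.mod_add_div (wt x) 2, Nat.cast_add, Nat.cast_mul, h2, zero_mul, add_zero]

theorem even_act_iff (g : S6) (x : V6) : wt (act g x) % 2 = wt x % 2 := by
  have h := herm_act g x x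
  rw [herm_self, herm_self] at h
  rcases Nat.mod_two_eq_zero_or_one (wt (act g x)) with a | a <;>
    rcases Nat.mod_two_eq_zero_or_one (wt x) with b | b <;> rw [a, b] at h ⊢ <;>
    first
    | exact absurd h (by simp)
    | rfl

theorem even_act {g : S6} {x : V6} (h : wt x % 2 = 0) : wt (act g x) % 2 = 0 := by
  rw [even_act_iff, h]

/-- The vectors with given support. -/
theorem perm_cases : ∀ a b c e f g : Bool, ∀ k ∈ [2, 4],
    (Finset.univ.filter fun j => ![a, b, c, e, f, g] j = true).card = k →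
      ∃ π : Equiv.Perm (Fin 6), Equiv.Perm.sign π = 1 ∧ ∀ i : Fin 6, (![a, b, c, e, f, g] (π.symm i) = true ↔ (i : ℕ) < k) := by
  decide +kernel

theorem exists_even_perm (s : Fin 6 → Bool) {k : ℕ} (hk : k = 2 ∨ k = 4)
    (hs : (Finset.univ.filter fun j => s j = true).card = k) :
    ∃ π : Equiv.Perm (Fin 6), Equiv.Perm.sign π = 1 ∧ ∀ i : Fin 6, (s (π.symm i) = true ↔ (i : ℕ) < k) := by
  have he : s = ![s 0, s 1, s 2, s 3, s 4, s 5] := by funext i; fin_cases i <;> rfl
  rw [he] at hs ⊢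
  exact perm_cases _ _ _ _ _ _ k (by rcases hk with rfl | rfl <;> simp) hs

/-- Canonical vectors. -/
def canon (k : ℕ) (p : K4) : V6 := fun i => if k = 6 ∧ i = 5 then p else if (i : ℕ) < k then 1 else 0

/-- Every vector is moved by the monomial group to a canonical one. -/
theorem exists_canon (x : V6) (h : wt x = 2 ∨ wt x = 4 ∨ wt x = 6) :
    ∃ n ∈ N0, act n x = canon (wt x) (pc x) := by
  classical
  let e : V6 := fun j => if x j = 0 then 1 else (x j)⁻¹
  have he : ∀ j, e j ≠ 0 := fun j => by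
    by_cases hj : x j = 0 <;> simp [e, hj]
  have he1 : ∀ j, x j ≠ 0 → e j * x j = 1 := fun j hj => by simp [e, hj, inv_mul_cancel₀ hj]
  have hP : ∏ j, e j ≠ 0 := Finset.prod_ne_zero_iff.2 fun j _ => he j
  obtain ⟨π, hπ, hpos⟩ : ∃ π : Equiv.Perm (Fin 6), Equiv.Perm.sign π = 1 ∧
      ∀ i : Fin 6, (x (π.symm i) ≠ 0 ↔ (i : ℕ) < wt x) := by
    rcases h with h | h | h
    · obtain ⟨π, h1, h2⟩ := exists_even_perm (fun j => decide (x j ≠ 0)) (k := wt x) (Or.inl h) (by simp [wt])
      exact ⟨π, h1, fun i => by simpa using h2 i⟩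
    · obtain ⟨π, h1, h2⟩ := exists_even_perm (fun j => decide (x j ≠ 0)) (k := wt x) (Or.inr h) (by simp [wt])
      exact ⟨π, h1, fun i => by simpa using h2 i⟩
    · refine ⟨1, map_one _, fun i => iff_of_true ?_ (by omega)⟩
      exact all_ne h _
  let k := π.symm 5
  let d : V6 := Function.update e k (e k * (∏ j, e j)⁻¹)
  have hdk : d k = e k * (∏ j, e j)⁻¹ := Function.update_self ..
  have hdj : ∀ j, j ≠ k → d j = e j := fun j hj => Function.update_of_ne hj ..
  have hd : Adm d := by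
    refine ⟨fun j => ?_, ?_⟩
    · by_cases hj : j = k
      · subst hj; rw [hdk]; exact mul_ne_zero (he _) (inv_ne_zero hP)
      · rw [hdj j hj]; exact he j
    · have : d = fun j => e j * (if j = k then (∏ j, e j)⁻¹ else 1) := funext fun j => by
        by_cases hj : j = k
        · subst hj; rw [hdk, if_pos rfl]
        · rw [hdj j hj, if_neg hj, mul_one]
      rw [this, Finset.prod_mul_distrib, Finset.prod_ite_eq' Finset.univ k, if_pos (Finset.mem_univ _),
        mul_inv_cancel₀ hP]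
  refine ⟨mel π ⟨d, hd⟩, mem_N0.2 ⟨π, hπ, _, rfl⟩, funext fun i => ?_⟩
  rw [act_mel]
  show d (π.symm i) * x (π.symm i) = canon (wt x) (pc x) i
  by_cases hi : (i : ℕ) < wt x
  · have hx := (hpos i).2 hi
    by_cases h5 : i = 5
    · subst h5
      have h6 : wt x = 6 := by
        rcases h with h | h | h <;> first | exact h | (exfalso; simp [h] at hi)
      have hall : ∀ j, x j ≠ 0 := fun j => by
        have := (hpos (π j)).2 (by rw [h6]; exact (π j).2)
        simpa using this
      have hinv : (∏ j, e j)⁻¹ = pc x := inv_eq_of_mul_eq_one_right (by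
        rw [pc, ← Finset.prod_mul_distrib]; exact Finset.prod_eq_one fun j _ => he1 j (hall j))
      simp only [canon, h6, and_self, if_true]
      show d k * x k = pc x
      rw [hdk, mul_assoc, mul_comm (∏ j, e j)⁻¹, ← mul_assoc, he1 k hx, one_mul, hinv]
    · simp only [canon, h5, and_false, if_false, hi, if_true]
      rw [hdj _ (fun e' => h5 (π.symm.injective e')), he1 _ hx]
  · have hx : x (π.symm i) = 0 := not_not.1 (fun hx => hi ((hpos i).1 hx))
    have h6 : ¬ (wt x = 6 ∧ i = 5) := fun hh => hi (by rw [hh.1]; exact i.2)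
    simp [canon, h6, hi, hx]

/-- The representative of the short orbit. -/
def v0 : V6 := ![1, 1, 0, 0, 0, 0]

/-- The representative of the long orbit. -/
def w0 : V6 := ![1, 1, 1, 1, 0, 0]

theorem canon_checks : (∀ p : K4, canon 2 p = v0 ∧ canon 4 p = w0) ∧
    (wt (![1, 0, 0, 1, 0, 0] : V6) = 2 ∧ wt (tauMat *ᵥ ![1, 0, 0, 1, 0, 0]) = 6 ∧
      pc (tauMat *ᵥ ![1, 0, 0, 1, 0, 0]) = 1) ∧
    (wt (![0, 0, 1, 1, 1, .w] : V6) = 4 ∧ wt (tauMat *ᵥ ![0, 0, 1, 1, 1, .w]) = 6 ∧
      pc (tauMat *ᵥ ![0, 0, 1, 1, 1, .w]) = K4.v) ∧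
    (wt (![0, 0, 1, 1, 1, .v] : V6) = 4 ∧ wt (tauMat *ᵥ ![0, 0, 1, 1, 1, .v]) = 6 ∧
      pc (tauMat *ᵥ ![0, 0, 1, 1, 1, .v]) = K4.w) := by decide +kernel

/-- Joining two monomial orbits. -/
theorem link {c : V6} {a : V6} {k : ℕ} {p : K4} (hk : k = 2 ∨ k = 4)
    (ha : wt a = k ∧ wt (tauMat *ᵥ a) = 6 ∧ pc (tauMat *ᵥ a) = p) (hc : ∀ q, canon k q = c) :
    ∃ g ∈ K0, act g c = canon 6 p := by
  obtain ⟨n, hn, h1⟩ := exists_canon a (by omega)
  obtain ⟨m, hm, h2⟩ := exists_canon (tauMat *ᵥ a) (by omega)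
  rw [ha.1, hc] at h1
  rw [ha.2.1, ha.2.2] at h2
  refine ⟨m * tau * n⁻¹, mul_mem (mul_mem (N0_le_K0 hm) tau_mem) (inv_mem (N0_le_K0 hn)), ?_⟩
  rw [act_mul, act_mul, ← h1, ← act_mul n⁻¹ n, inv_mul_cancel, act_one]
  show act m (mat tau *ᵥ a) = canon 6 p
  rw [mat_tau, h2]

/-- The short orbit is one orbit. -/
theorem reach1 {x : V6} (hx : In1 x) : ∃ g ∈ K0, act g v0 = x := by
  obtain ⟨n, hn, h⟩ := exists_canon x (by rcases hx with a | ⟨a, -⟩ <;> omega)
  have back : ∀ y, act n x = y → act n⁻¹ y = x := fun y hy => by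
    rw [← hy, ← act_mul, inv_mul_cancel, act_one]
  rcases hx with a | ⟨a, b⟩
  · rw [a, (canon_checks.1 _).1] at h
    exact ⟨n⁻¹, inv_mem (N0_le_K0 hn), back _ h⟩
  · rw [a, b] at h
    obtain ⟨g, hg, e⟩ := link (Or.inl rfl) canon_checks.2.1 (fun q => (canon_checks.1 q).1)
    exact ⟨n⁻¹ * g, mul_mem (inv_mem (N0_le_K0 hn)) hg, by rw [act_mul, e, back _ h]⟩

/-- The long orbit is one orbit. -/
theorem reach2 {x : V6} (hx : In2 x) : ∃ g ∈ K0, act g w0 = x := by
  obtain ⟨n, hn, h⟩ := exists_canon x (by rcases hx with a | ⟨a, -⟩ <;> omega)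
  have back : ∀ y, act n x = y → act n⁻¹ y = x := fun y hy => by
    rw [← hy, ← act_mul, inv_mul_cancel, act_one]
  rcases hx with a | ⟨a, b⟩
  · rw [a, (canon_checks.1 _).2] at h
    exact ⟨n⁻¹, inv_mem (N0_le_K0 hn), back _ h⟩
  · rw [a] at h
    have hne : pc x ≠ 0 := Finset.prod_ne_zero_iff.2 fun j _ => all_ne a j
    obtain ⟨g, hg, e⟩ : ∃ g ∈ K0, act g w0 = canon 6 (pc x) := by
      rcases (by decide : ∀ p : K4, p = 0 ∨ p = 1 ∨ p = K4.w ∨ p = K4.v) (pc x) with e | e | e | e
      · exact absurd e hne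
      · exact absurd e b
      · rw [e]; exact link (Or.inr rfl) canon_checks.2.2.2 (fun q => (canon_checks.1 q).2)
      · rw [e]; exact link (Or.inr rfl) canon_checks.2.2.1 (fun q => (canon_checks.1 q).2)
    exact ⟨n⁻¹ * g, mul_mem (inv_mem (N0_le_K0 hn)) hg, by rw [act_mul, e, back _ h]⟩

theorem v0_in : In1 v0 := by decide +kernel

theorem w0_in : In2 w0 := by decide +kernel

theorem in2_act {g : S6} (hg : g ∈ K0) {x : V6} (hx : In2 x) : In2 (act g x) := by
  obtain ⟨k, hk, rfl⟩ := reach2 hx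
  have h0 : act g (act k w0) ≠ 0 := fun e => by
    rw [← act_mul, act_eq_zero_iff] at e
    exact absurd (congrFun e 0) (by decide)
  rcases in_cases h0 (even_act (even_act (by decide))) with h | h
  · have h' := in1_act (inv_mem (mul_mem hg hk)) (by rwa [← act_mul] at h)
    rw [← act_mul, inv_mul_cancel, act_one] at h'
    exact (in_disjoint h' w0_in).elim
  · exact h

/-- The stabiliser of a vector in the copy. -/
def stab (x : V6) : Subgroup S6 where
  carrier := {g | g ∈ K0 ∧ act g x = x}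
  one_mem' := ⟨one_mem _, act_one x⟩
  mul_mem' := fun {a b} ha hb => ⟨mul_mem ha.1 hb.1, by rw [act_mul, hb.2, ha.2]⟩
  inv_mem' := fun {a} ha => ⟨inv_mem ha.1, by
    conv_lhs => rw [← ha.2, ← act_mul, inv_mul_cancel, act_one]⟩

theorem card_orbits : (Finset.univ.filter In1).card = 378 ∧ (Finset.univ.filter In2).card = 1701 := by
  decide +kernel

theorem card_stab_mul {P : V6 → Prop} [DecidablePred P] {x : V6} (hinv : ∀ g ∈ K0, P (act g x))
    (hreach : ∀ y, P y → ∃ g ∈ K0, act g x = y) :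
    (Finset.univ.filter P).card * Nat.card ↥(stab x) = 9797760 := by
  let _ : MulAction ↥K0 V6 :=
    { smul := fun g v => act g.1 v
      one_smul := fun v => act_one v
      mul_smul := fun g h v => act_mul g.1 h.1 v }
  have horb : MulAction.orbit ↥K0 x = {y | P y} := Set.ext fun y =>
    ⟨fun ⟨g, hg⟩ => hg ▸ hinv g.1 g.2, fun hy => by
      obtain ⟨g, hg, e⟩ := hreach y hy; exact ⟨⟨g, hg⟩, e⟩⟩
  have h1 := MulAction.orbitEquivQuotientStabilizer ↥K0 x
  have h2 : Nat.card (MulAction.orbit ↥K0 x) = (Finset.univ.filter P).card := by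
    rw [horb, ← Nat.card_eq_finsetCard]
    exact Nat.card_congr (Equiv.subtypeEquivRight fun y => by simp)
  have h3 := Subgroup.card_eq_card_quotient_mul_card_subgroup (MulAction.stabilizer ↥K0 x)
  rw [(Nat.card_congr h1).symm.trans h2, card_K0] at h3
  rw [h3]
  congr 1
  exact Nat.card_congr
    { toFun := fun g => ⟨⟨g.1, g.2.1⟩, g.2.2⟩
      invFun := fun g => ⟨g.1.1, g.1.2, g.2⟩
      left_inv := fun _ => rfl
      right_inv := fun _ => rfl }

theorem card_stab_v0 : Nat.card ↥(stab v0) = 25920 := by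
  have h := card_stab_mul (x := v0) (fun g hg => in1_act hg v0_in) fun y hy => reach1 hy
  rw [card_orbits.1] at h; omega

theorem card_stab_w0 : Nat.card ↥(stab w0) = 5760 := by
  have h := card_stab_mul (x := w0) (fun g hg => in2_act hg w0_in) fun y hy => reach2 hy
  rw [card_orbits.2] at h; omega

end Cfsg.Agent.LargeFischer
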