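import Cfsg.Agent.Lib.LargeFischer.Weights
import Cfsg.Agent.Lib.LargeFischer.Orbits
import Cfsg.Agent.Lib.U43InU62.Main
import Mathlib.LinearAlgebra.Matrix.ToLin

/-! Unitary coordinates in which the group acts as the standard copy of 3.U4(3). -/

set_option autoImplicit false
set_option maxRecDepth 100000

namespace Cfsg.Agent.LargeFischer

open Cfsg.Agent.RigidGraph.He Cfsg.Agent.U43InU62
open Matrix

theorem k4_char : ∀ x : K4, x + x = 0 := K4.add_self

theorem conj_herm (x y : V6) : Cfsg.hermForm 6 K4 2 y x = Cfsg.hermForm 6 K4 2 x y ^ 2 := by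
  have h2 : ∀ a b : K4, (a + b) ^ 2 = a ^ 2 + b ^ 2 := by decide
  have h4 : ∀ a b : K4, (a * b ^ 2) ^ 2 = b * a ^ 2 := by decide
  simp only [Cfsg.hermForm, Fin.sum_univ_six, h2, h4]

theorem herm_add_self (x y : V6) : Cfsg.hermForm 6 K4 2 (x + y) (x + y) =
    Cfsg.hermForm 6 K4 2 x x + Cfsg.hermForm 6 K4 2 y y +
      (Cfsg.hermForm 6 K4 2 x y + Cfsg.hermForm 6 K4 2 x y ^ 2) := by
  rw [← conj_herm]
  have h2 : ∀ a b : K4, (a + b) ^ 2 = a ^ 2 + b ^ 2 := by decide
  simp only [Cfsg.hermForm, Pi.add_apply, h2, mul_add, add_mul, Finset.sum_add_distrib]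
  abel

theorem herm_smul_right (x y : V6) : Cfsg.hermForm 6 K4 2 x (K4.w • y) = K4.v * Cfsg.hermForm 6 K4 2 x y := by
  simp only [Cfsg.hermForm, Finset.mul_sum, Pi.smul_apply, smul_eq_mul]
  refine Finset.sum_congr rfl fun j _ => ?_
  rw [mul_pow, show K4.w ^ 2 = K4.v from rfl]
  ring

/-- A linear map preserving the parity of the weight preserves the hermitian form. -/
theorem herm_of_parity (u : V6 →ₗ[K4] V6) (h : ∀ v, wt (u v) % 2 = wt v % 2) (x y : V6) :
    Cfsg.hermForm 6 K4 2 (u x) (u y) = Cfsg.hermForm 6 K4 2 x y := by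
  have hs : ∀ z, Cfsg.hermForm 6 K4 2 (u z) (u z) = Cfsg.hermForm 6 K4 2 z z := fun z => by
    rw [herm_self, herm_self, h]
  have key : ∀ z, Cfsg.hermForm 6 K4 2 (u x) (u z) + Cfsg.hermForm 6 K4 2 (u x) (u z) ^ 2 =
      Cfsg.hermForm 6 K4 2 x z + Cfsg.hermForm 6 K4 2 x z ^ 2 := fun z => by
    have e := herm_add_self (u x) (u z)
    rw [← map_add, hs, hs, hs, herm_add_self x z] at e
    exact (add_left_cancel e).symm
  have h1 := key y
  have h2 := key (K4.w • y)
  rw [map_smul, herm_smul_right, herm_smul_right] at h2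
  exact (by decide : ∀ a b : K4, a + a ^ 2 = b + b ^ 2 → K4.v * a + (K4.v * a) ^ 2 = K4.v * b + (K4.v * b) ^ 2 → a = b)
    _ _ h1 h2

namespace Env

variable {V R : Type*} [AddCommGroup V] [Group R] [Finite R] (W : Env V R)

/-- The polar form. -/
def b (x y : V) : ZMod 2 := W.q (x + y) + W.q x + W.q y

theorem z2 : ∀ a : ZMod 2, a + a = 0 := by decide

theorem b_addl (x y z : V) : W.b (x + y) z = W.b x z + W.b y z := W.b_add x y z

theorem b_symm (x y : V) : W.b x y = W.b y x := by
  unfold b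
  rw [add_comm x y]
  ring

theorem b_addr (x y z : V) : W.b x (y + z) = W.b x y + W.b x z := by
  rw [b_symm, b_addl, W.b_symm y, W.b_symm z]

theorem q_zero : W.q 0 = 0 := by
  have h := W.b_add 0 0 0
  simp only [add_zero] at h
  revert h
  generalize W.q 0 = c
  revert c
  decide

theorem b_zero_right (x : V) : W.b x 0 = 0 := by
  rw [b, add_zero, q_zero, add_zero, z2]

/-- The polar form in the second variable. -/
def bHom (x : V) : V →+ ZMod 2 := AddMonoidHom.mk' (W.b x) (W.b_addr x)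

theorem q_add (x y : V) : W.q (x + y) = W.q x + W.q y + W.b x y := by
  unfold b
  linear_combination -(z2 (W.q x)) - (z2 (W.q y))

theorem b_m (k : ↥W.K) (x y : V) : W.b (W.m k x) (W.m k y) = W.b x y := by
  unfold b
  rw [← map_add]
  show W.q (W.ρ k.1 (x + y)) + W.q (W.ρ k.1 x) + W.q (W.ρ k.1 y) = _
  rw [W.qinv, W.qinv, W.qinv]

theorem orth {k k' : Fin 5 → ZMod 3} (hne : k ≠ k') {x y : V} (hx : x ∈ W.rep.dec.W k) (hy : y ∈ W.rep.dec.W k') :
    W.b x y = 0 := by
  obtain ⟨i, hi⟩ := Function.ne_iff.1 hne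
  set u := W.a i * W.p ^ (-k i).val with hu
  have hux : ∀ (c : Fin 5 → ZMod 3) (z : V), z ∈ W.rep.dec.W c → W.m u z = W.rep.dec.tp (c i + -k i) z :=
    fun c z hz => by
      rw [hu, W.m_mul, show W.m (W.p ^ (-k i).val) z = W.rep.dec.tp (-k i) z from
        (W.rep.mu_p_pow _ z).trans (by rw [ZMod.natCast_zmod_val]),
        show W.m (W.a i) (W.rep.dec.tp (-k i) z) = W.rep.dec.tp (c i) (W.rep.dec.tp (-k i) z) from
          W.rep.dec.tp_mem _ hz i, Dec.tp_add]
  have hd : k' i + -k i ≠ 0 := fun e => hi (by linear_combination -e)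
  have hy' : W.rep.dec.tp (k' i + -k i) y ∈ W.rep.dec.W k' := W.rep.dec.tp_mem _ hy
  have e1 : y = W.m u (W.rep.dec.tp (k' i + -k i) y) + W.rep.dec.tp (k' i + -k i) y := by
    rw [hux k' _ hy', Dec.tp_add]
    have hf := W.rep.dec.fpf y
    have hcases : k' i + -k i = 1 ∨ k' i + -k i = 2 := by
      rcases Dec.zcases (k' i + -k i) with e | e | e
      · exact absurd e hd
      · exact Or.inl e
      · exact Or.inr e
    have hy2 : y = W.rep.dec.T y + W.rep.dec.T (W.rep.dec.T y) := by
      rw [add_assoc] at hf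
      exact (eq_neg_of_add_eq_zero_left hf).trans (neg_eq_of_add_eq_zero_left (W.two _))
    rcases hcases with e | e <;> rw [e]
    · rw [show (1 : ZMod 3) + 1 = 2 from by decide, Dec.tp_two, Dec.tp_one, add_comm]; exact hy2
    · rw [show (2 : ZMod 3) + 2 = 1 from by decide, Dec.tp_two, Dec.tp_one]; exact hy2
  rw [e1, b_addr]
  have hx' : W.m u x = x := by rw [hux k x hx, add_neg_cancel, Dec.tp_zero]
  conv_lhs => arg 1; rw [← hx', W.b_m]
  exact z2 _

/-- Scalar multiplication. -/
noncomputable def cact : K4 → V →+ V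
  | .o => 0
  | .l => AddMonoidHom.id V
  | .w => W.m W.p
  | .v => (W.m W.p).comp (W.m W.p)

theorem cact_add (a b : K4) (x : V) : W.cact (a + b) x = W.cact a x + W.cact b x := by
  have hf := W.fpf x
  have h := W.two x
  have hT := W.two (W.m W.p x)
  have hTT := W.two (W.m W.p (W.m W.p x))
  set A := x
  set B := W.m W.p x
  set C := W.m W.p (W.m W.p x)
  have eA : A = B + C := by
    rw [add_assoc] at hf
    exact (eq_neg_of_add_eq_zero_left hf).trans (neg_eq_of_add_eq_zero_left (W.two _))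
  have eB : B = A + C := by rw [eA, add_assoc, hTT, add_zero]
  have eC : C = A + B := by rw [eA, add_comm B C, add_assoc, hT, add_zero]
  cases a <;> cases b
  case o.o => exact (add_zero (0 : V)).symm
  case o.l => exact (zero_add A).symm
  case o.w => exact (zero_add B).symm
  case o.v => exact (zero_add C).symm
  case l.o => exact (add_zero A).symm
  case l.l => exact h.symm
  case l.w => exact eC
  case l.v => exact eB
  case w.o => exact (add_zero B).symm
  case w.l => exact eC.trans (add_comm _ _)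
  case w.w => exact hT.symm
  case w.v => exact eA
  case v.o => exact (add_zero C).symm
  case v.l => exact eB.trans (add_comm _ _)
  case v.w => exact eA.trans (add_comm _ _)
  case v.v => exact hTT.symm

theorem cact_mul (a b : K4) (x : V) : W.cact (a * b) x = W.cact a (W.cact b x) := by
  cases a <;> cases b
  case w.v => exact (W.m_p_cube x).symm
  case v.w => exact (W.m_p_cube x).symm
  case v.v => exact (congrArg (W.m W.p) (W.m_p_cube x)).symm
  all_goals first
    | rfl
    | exact (map_zero _).symm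
    | exact ((congrArg (W.m W.p) (map_zero (W.m W.p))).trans (map_zero _)).symm

theorem cact_comm (k : ↥W.K) (c : K4) (x : V) : W.m k (W.cact c x) = W.cact c (W.m k x) := by
  cases c
  · exact map_zero _
  · rfl
  · exact (W.m_p_comm k x).symm
  · show W.m k (W.m W.p (W.m W.p x)) = W.m W.p (W.m W.p (W.m k x))
    rw [W.m_p_comm k x, W.m_p_comm k (W.m W.p x)]

theorem cact_mem {k : Fin 5 → ZMod 3} (c : K4) {x : V} (hx : x ∈ W.rep.dec.W k) : W.cact c x ∈ W.rep.dec.W k := by
  cases c
  · exact zero_mem _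
  · exact hx
  · exact W.rep.dec.tp_mem 1 hx
  · exact W.rep.dec.tp_mem 2 hx

theorem cact_ne {c : K4} (hc : c ≠ 0) {x : V} (hx : x ≠ 0) : W.cact c x ≠ 0 := fun e => hx (by
  have := congrArg (W.cact c⁻¹) e
  rw [← cact_mul, inv_mul_cancel₀ hc, map_zero] at this
  exact this)

/-- The six weights. -/
noncomputable def wk (j : Fin 6) : Fin 5 → ZMod 3 := ((Finset.equivFinOfCardEq W.rep_six.1).symm j).1

theorem wk_inj {i j : Fin 6} (h : W.wk i = W.wk j) : i = j :=
  (Finset.equivFinOfCardEq W.rep_six.1).symm.injective (Subtype.ext h)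

/-- The six vectors. -/
noncomputable def bas (j : Fin 6) : V :=
  (W.rep.exists_ne_of (((Finset.equivFinOfCardEq W.rep_six.1).symm j).2)).choose

theorem bas_spec (j : Fin 6) : W.bas j ∈ W.rep.dec.W (W.wk j) ∧ W.bas j ≠ 0 :=
  (W.rep.exists_ne_of (((Finset.equivFinOfCardEq W.rep_six.1).symm j).2)).choose_spec

/-- The coordinates. -/
noncomputable def phi0 : V6 →+ V :=
  AddMonoidHom.mk' (fun v => ∑ j, W.cact (v j) (W.bas j)) fun u v => by
    show ∑ j, W.cact ((u + v) j) (W.bas j) = _
    rw [← Finset.sum_add_distrib]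
    exact Finset.sum_congr rfl fun j _ => W.cact_add _ _ _

theorem phi0_apply (v : V6) : W.phi0 v = ∑ j, W.cact (v j) (W.bas j) := rfl

theorem phi0_proj (v : V6) (j : Fin 6) : W.rep.dec.P (W.wk j) (W.phi0 v) = W.cact (v j) (W.bas j) := by
  rw [phi0_apply, map_sum, Finset.sum_eq_single j]
  · rw [Dec.P_of_mem _ _ (W.cact_mem _ (W.bas_spec j).1), if_pos rfl]
  · intro i _ hi
    rw [Dec.P_of_mem _ _ (W.cact_mem _ (W.bas_spec i).1), if_neg fun e => hi (W.wk_inj e).symm]
  · exact fun h => absurd (Finset.mem_univ j) h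

theorem phi0_bijective : Function.Bijective W.phi0 := by
  have := W.finite_V
  refine (Nat.bijective_iff_injective_and_card _).2 ⟨(injective_iff_map_eq_zero _).2 fun v hv => ?_, ?_⟩
  · funext j
    by_contra hne
    refine W.cact_ne hne (W.bas_spec j).2 ?_
    rw [← W.phi0_proj, hv, map_zero]
  · rw [W.cardV, Nat.card_fun, Nat.card_eq_fintype_card (α := K4), K4.card_K4, Nat.card_fin]
    norm_num

theorem q_cel (j : Fin 6) (c : K4) : W.q (W.cact c (W.bas j)) = if c = 0 then 0 else 1 := by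
  have hT : ∀ x, W.q (W.m W.p x) = W.q x := fun x => W.qinv _ x
  have hx : ∀ c : K4, c ≠ 0 → W.q (W.cact c (W.bas j)) = W.q (W.bas j) := by
    intro c hc
    cases c
    · exact absurd rfl hc
    · rfl
    · exact hT _
    · exact (hT _).trans (hT _)
  have h1 : W.q (W.bas j) = 1 := by
    by_contra hne
    have h0 : W.q (W.bas j) = 0 := ((by decide : ∀ a : ZMod 2, a = 0 ∨ a = 1) _).resolve_right hne
    refine (W.bas_spec j).2 (W.nondeg _ fun y => ?_)
    obtain ⟨v, rfl⟩ := W.phi0_bijective.2 y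
    have hb : W.b (W.bas j) (W.phi0 v) = 0 := by
      rw [phi0_apply]
      show W.bHom (W.bas j) _ = 0
      rw [map_sum]
      refine Finset.sum_eq_zero fun i _ => ?_
      by_cases hij : i = j
      · subst hij
        have hz : ∀ c : K4, W.q (W.cact c (W.bas i)) = 0 := fun c => by
          by_cases hc : c = 0
          · subst hc; exact W.q_zero
          · rw [hx c hc, h0]
        show W.b (W.bas i) (W.cact (v i) (W.bas i)) = 0
        rw [b, show W.bas i + W.cact (v i) (W.bas i) = W.cact (1 + v i) (W.bas i) from (W.cact_add 1 (v i) _).symm,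
          hz, h0, hz, add_zero, add_zero]
      · exact W.orth (fun e => hij (W.wk_inj e).symm) (W.bas_spec j).1 (W.cact_mem _ (W.bas_spec i).1)
    rw [W.q_add, hb, add_zero]
  split_ifs with hc
  · subst hc; exact W.q_zero
  · rw [hx c hc, h1]

theorem q_phi0 (v : V6) : W.q (W.phi0 v) = (wt v : ZMod 2) := by
  classical
  have key : ∀ s : Finset (Fin 6), W.q (∑ j ∈ s, W.cact (v j) (W.bas j)) = ∑ j ∈ s, if v j = 0 then 0 else 1 := by
    intro s
    induction s using Finset.induction with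
    | empty => simp [W.q_zero]
    | @insert a s ha ih =>
      rw [Finset.sum_insert ha, Finset.sum_insert ha, W.q_add, ih, W.q_cel]
      have : W.b (W.cact (v a) (W.bas a)) (∑ j ∈ s, W.cact (v j) (W.bas j)) = 0 := by
        show W.bHom _ _ = 0
        rw [map_sum]
        refine Finset.sum_eq_zero fun i hi => ?_
        exact W.orth (fun e => ha (by rw [W.wk_inj e]; exact hi)) (W.cact_mem _ (W.bas_spec a).1) (W.cact_mem _ (W.bas_spec i).1)
      rw [this, add_zero]
  rw [phi0_apply, key, wt, Finset.card_filter, Nat.cast_sum]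
  refine Finset.sum_congr rfl fun j _ => ?_
  by_cases h : v j = 0 <;> simp [h]

theorem phi0_smul (c : K4) (v : V6) : W.phi0 (c • v) = W.cact c (W.phi0 v) := by
  rw [phi0_apply, phi0_apply, map_sum]
  exact Finset.sum_congr rfl fun j _ => W.cact_mul _ _ _

/-- The coordinates as an equivalence. -/
noncomputable def phiEquiv : V6 ≃+ V := AddEquiv.ofBijective W.phi0 W.phi0_bijective

theorem phiEquiv_apply (v : V6) : W.phiEquiv v = W.phi0 v := rfl

/-- The linear map of an element. -/
noncomputable def lin (k : ↥W.K) : V6 →ₗ[K4] V6 where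
  toFun v := W.phiEquiv.symm (W.m k (W.phi0 v))
  map_add' u v := by rw [map_add, map_add, map_add]
  map_smul' c v := by
    apply W.phiEquiv.injective
    rw [AddEquiv.apply_symm_apply, RingHom.id_apply, phiEquiv_apply, phi0_smul, phi0_smul, W.cact_comm]
    exact congrArg _ (W.phiEquiv.apply_symm_apply _).symm

theorem phi_lin (k : ↥W.K) (v : V6) : W.phi0 (W.lin k v) = W.m k (W.phi0 v) := W.phiEquiv.apply_symm_apply _

theorem parity_of_q {u v : V6} (h : W.q (W.phi0 u) = W.q (W.phi0 v)) : wt u % 2 = wt v % 2 := by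
  rw [q_phi0, q_phi0] at h
  exact (ZMod.natCast_eq_natCast_iff' _ _ _).1 h

/-- The matrix of an element. -/
noncomputable def mHom : ↥W.K →* Matrix (Fin 6) (Fin 6) K4 where
  toFun k := LinearMap.toMatrix' (W.lin k)
  map_one' := by
    rw [show W.lin 1 = LinearMap.id from LinearMap.ext fun v => W.phi0_bijective.1 (by rw [phi_lin, W.m_one]; rfl)]
    exact LinearMap.toMatrix'_id
  map_mul' a b := by
    rw [show W.lin (a * b) = (W.lin a).comp (W.lin b) from LinearMap.ext fun v => W.phi0_bijective.1 (by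
      rw [LinearMap.comp_apply, phi_lin, phi_lin, phi_lin, W.m_mul])]
    exact LinearMap.toMatrix'_comp _ _

theorem mHom_mulVec (k : ↥W.K) (v : V6) : W.mHom k *ᵥ v = W.lin k v := LinearMap.toMatrix'_mulVec _ _

theorem mHom_p : W.mHom W.p = Matrix.diagonal fun _ => K4.w := by
  refine Matrix.ext_of_mulVec_single fun j => ?_
  rw [mHom_mulVec]
  apply W.phi0_bijective.1
  rw [phi_lin, show (Matrix.diagonal fun _ : Fin 6 => K4.w) *ᵥ Pi.single j 1 = K4.w • (Pi.single j 1 : V6) from
    funext fun i => Matrix.mulVec_diagonal _ _ i, phi0_smul]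
  rfl

theorem det_one (k : ↥W.K) : (W.mHom k).det = 1 := by
  let d : ↥W.K →* K4 := Matrix.detMonoidHom.comp W.mHom
  have hmem : ∀ x, x ∈ d.toHomUnits.ker ↔ d x = 1 := fun x => by
    rw [MonoidHom.mem_ker, Units.ext_iff]; rfl
  have hp : d W.p = 1 := by
    show (W.mHom W.p).det = 1
    rw [W.mHom_p, Matrix.det_diagonal]
    decide
  refine (hmem k).1 (W.normal_top (MonoidHom.normal_ker _) ((hmem _).2 hp) (x := W.a 0) ((hmem _).2 ?_) W.theta_a0 k)
  obtain ⟨n, s, t, e, hs, -⟩ := W.exists_square_conj 0 1 (by decide)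
  have h1 := congrArg d hs
  have hn : d n⁻¹ * d n = 1 := by rw [← map_mul, inv_mul_cancel, map_one]
  rw [map_mul, map_mul, map_mul, map_mul, map_pow, hp, one_pow, mul_one, mul_right_comm, hn, one_mul] at h1
  have ha : d (W.a 0) ≠ 0 := fun h0 => one_ne_zero (α := K4) (by
    rw [← map_one d, ← mul_inv_cancel (W.a 0), map_mul, h0, zero_mul])
  exact mul_left_cancel₀ ha (h1.symm.trans (mul_one _).symm)

/-- The embedding in the special unitary group. -/
noncomputable def emb6 : ↥W.K →* S6 where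
  toFun k := ⟨⟨W.mHom k, W.det_one k⟩, fun u v => by
    show Cfsg.hermForm 6 K4 2 (W.mHom k *ᵥ u) (W.mHom k *ᵥ v) = _
    rw [mHom_mulVec, mHom_mulVec]
    exact herm_of_parity _ (fun x => W.parity_of_q (by rw [phi_lin]; exact W.qinv _ _)) u v⟩
  map_one' := Subtype.ext (Subtype.ext (map_one W.mHom))
  map_mul' a b := Subtype.ext (Subtype.ext (map_mul W.mHom a b))

theorem act_emb6 (k : ↥W.K) (v : V6) : W.phi0 (act (W.emb6 k) v) = W.m k (W.phi0 v) := by
  rw [← phi_lin, ← mHom_mulVec]
  rfl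

theorem emb6_injective : Function.Injective W.emb6 := fun a b e => W.m_ext fun x => by
  obtain ⟨v, rfl⟩ := W.phi0_bijective.2 x
  rw [← act_emb6, ← act_emb6, e]

theorem map_zpowers_p : (W.θ.ker).map W.emb6 = Z := by
  have hp : W.emb6 W.p = mel 1 scal := by
    refine ext_bv fun j => ?_
    apply W.phi0_bijective.1
    rw [act_emb6, act_mel_bv, phi0_smul]
    rfl
  have hle : (W.θ.ker).map W.emb6 ≤ Z := by
    rw [W.ker_eq, MonoidHom.map_zpowers, Subgroup.zpowers_le, hp]
    exact scalar_central _ fun _ => rfl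
  refine Subgroup.eq_of_le_of_card_ge hle ?_
  rw [card_Z, Subgroup.card_map_of_injective W.emb6_injective, W.card_ker]

/-- The covering. -/
noncomputable def param : Param W.emb6.range where
  ρ := W.θ.comp (MonoidHom.ofInjective W.emb6_injective).symm.toMonoidHom
  surj := W.surj.comp (MulEquiv.surjective _)
  hZ := W.map_zpowers_p ▸ (Subgroup.map_le_range _ _)
  ker := by
    ext x
    obtain ⟨k, hk⟩ : ∃ k, MonoidHom.ofInjective W.emb6_injective k = x := MulEquiv.surjective _ x
    subst hk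
    rw [MonoidHom.mem_ker, Subgroup.mem_subgroupOf, ← W.map_zpowers_p]
    show W.θ ((MonoidHom.ofInjective W.emb6_injective).symm _) = 1 ↔ _
    rw [MulEquiv.symm_apply_apply]
    exact ⟨fun h => ⟨k, MonoidHom.mem_ker.2 h, rfl⟩, fun ⟨k', hk', e⟩ => by
      rw [← W.emb6_injective (show W.emb6 k' = W.emb6 k from e)]; exact hk'⟩

/-- Coordinates in which K acts as the standard copy. -/
structure Coords where
  φ : V6 →+ V
  bij : Function.Bijective φ
  qφ : ∀ v, W.q (φ v) = (wt v : ZMod 2)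
  smul : ∀ (c : K4) v, φ (c • v) = W.cact c (φ v)
  to_K0 : ∀ k : ↥W.K, ∃ g ∈ K0, ∀ v, W.m k (φ v) = φ (act g v)
  of_K0 : ∀ g ∈ K0, ∃ k : ↥W.K, ∀ v, W.m k (φ v) = φ (act g v)

theorem exists_coords : Nonempty W.Coords := by
  obtain ⟨g, c, hc, e⟩ := classify W.param
  let D : V6 →+ V6 := AddMonoidHom.mk' (fun v => fun j => dl c j * v j) fun u v => funext fun j => mul_add _ _ _
  let G : V6 →+ V6 := AddMonoidHom.mk' (fun v => act g⁻¹ v) fun u v => Matrix.mulVec_add _ _ _
  have hD : Function.Bijective D := by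
    refine ⟨fun u v h => funext fun j => mul_left_cancel₀ (dl_ne hc j) (congrFun h j), fun v =>
      ⟨fun j => (dl c j)⁻¹ * v j, funext fun j => mul_inv_cancel_left₀ (dl_ne hc j) _⟩⟩
  have hG : Function.Bijective G := ⟨fun u v h => act_inj g⁻¹ h, fun v => ⟨act g v, by
    show act g⁻¹ (act g v) = v
    rw [← act_mul, inv_mul_cancel, act_one]⟩⟩
  have key : ∀ (k : ↥W.K) (g0 : S6), g * W.emb6 k * g⁻¹ = tw hc g0 →
      ∀ v, W.m k (W.phi0 (G (D v))) = W.phi0 (G (D (act g0 v))) := fun k g0 h v => by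
    rw [← act_emb6]
    congr 1
    show act (W.emb6 k) (act g⁻¹ (D v)) = act g⁻¹ (D (act g0 v))
    rw [show W.emb6 k = g⁻¹ * (g * W.emb6 k * g⁻¹) * g by group, h, ← act_mul, mul_inv_cancel_right, act_mul,
      act_tw]
    congr 1
    funext i
    show dl c i * act g0 (fun j => dl c⁻¹ j * (dl c j * v j)) i = _
    rw [dl_cancel hc]
    rfl
  refine ⟨⟨W.phi0.comp (G.comp D), W.phi0_bijective.comp (hG.comp hD), fun v => ?_, fun a v => ?_, fun k => ?_,
    fun g0 h0 => ?_⟩⟩
  · show W.q (W.phi0 (G (D v))) = _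
    rw [q_phi0, ZMod.natCast_eq_natCast_iff']
    show wt (act g⁻¹ (D v)) % 2 = wt v % 2
    rw [even_act_iff]
    congr 1
    unfold wt
    congr 1
    refine Finset.filter_congr fun j _ => ?_
    show dl c j * v j ≠ 0 ↔ v j ≠ 0
    simp [dl_ne hc j]
  · show W.phi0 (G (D (a • v))) = W.cact a (W.phi0 (G (D v)))
    rw [← phi0_smul]
    congr 1
    show act g⁻¹ (D (a • v)) = a • act g⁻¹ (D v)
    rw [← act_smul]
    congr 1
    funext j
    show dl c j * (a * v j) = a * (dl c j * v j)
    ring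
  · obtain ⟨g0, h0, e0⟩ : g * W.emb6 k * g⁻¹ ∈ twS hc K0 := e ▸ ⟨_, ⟨k, rfl⟩, rfl⟩
    exact ⟨g0, h0, key k g0 e0.symm⟩
  · obtain ⟨_, ⟨k, rfl⟩, hk⟩ : tw hc g0 ∈ cj g W.emb6.range := e ▸ tw_mem hc h0
    exact ⟨k, key k g0 hk⟩

end Env

end Cfsg.Agent.LargeFischer
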