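import Cfsg.Prelude.Def_MonsterType
import Cfsg.Agent.Lib.LargeFischer.Coords
import Cfsg.Agent.Lib.LargeExtra.Setting
import Mathlib.GroupTheory.Abelianization.Defs
import Mathlib.LinearAlgebra.Dual.Lemmas
import Mathlib.Algebra.Module.ZMod

/-! The centraliser of the involution of a group of large Fischer type acting on Q modulo its centre. -/

set_option autoImplicit false
set_option maxRecDepth 100000

namespace Cfsg.Agent.LargeFischer

open Cfsg.Agent.RigidGraph.He Cfsg.Agent.U43InU62 Cfsg.Agent.LargeExtra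
open Subgroup
open scoped commutatorElement

variable {G : Type*} [Group G] [Finite G]

/-- The subgroup Q inside the group, with what is used about it. -/
structure Ctx (z : G) (Q : Subgroup ↥(centralizer ({z} : Set G))) : Prop where
  xs : XSLocal (Q.map (centralizer ({z} : Set G)).subtype) z
  card : Nat.card ↥(Q.map (centralizer ({z} : Set G)).subtype) = 8192
  ker : ∀ h ∈ centralizer ({z} : Set G),
    (∀ x ∈ Q.map (centralizer ({z} : Set G)).subtype, h * x = x * h) → h ∈ Q.map (centralizer ({z} : Set G)).subtype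

variable {z : G} {Q : Subgroup ↥(centralizer ({z} : Set G))}

/-- Q in the group. -/
abbrev QG (Q : Subgroup ↥(centralizer ({z} : Set G))) : Subgroup G := Q.map (centralizer ({z} : Set G)).subtype

/-- Q modulo its centre, additively. -/
abbrev VQ (Q : Subgroup ↥(centralizer ({z} : Set G))) : Type _ := Additive (Abelianization ↥(QG Q))

/-- The class of an element. -/
def mkV (x : ↥(QG Q)) : VQ Q := Additive.ofMul (Abelianization.of x)

theorem mkV_mul (x y : ↥(QG Q)) : mkV (x * y) = mkV x + mkV y := by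
  show Additive.ofMul (Abelianization.of (x * y)) = _
  rw [map_mul]
  rfl

theorem mkV_surjective : Function.Surjective (mkV (Q := Q)) := fun v => by
  obtain ⟨x, hx⟩ := QuotientGroup.mk'_surjective (_root_.commutator ↥(QG Q)) v.toMul
  exact ⟨x, congrArg Additive.ofMul hx⟩

namespace Ctx

variable (h : Ctx z Q)

include h in
theorem mkV_eq_iff {x y : ↥(QG Q)} : mkV x = mkV y ↔ (y : G) = x ∨ (y : G) = x * z := by
  have hc : _root_.commutator ↥(QG Q) = center ↥(QG Q) := h.xs.xs.1.2.2
  show Additive.ofMul (Abelianization.of x) = Additive.ofMul (Abelianization.of y) ↔ _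
  rw [Additive.ofMul.injective.eq_iff]
  show (QuotientGroup.mk x : ↥(QG Q) ⧸ _root_.commutator ↥(QG Q)) = QuotientGroup.mk y ↔ _
  rw [QuotientGroup.eq, hc]
  constructor
  · intro hm
    rcases h.xs.coe_center hm with e | e
    · exact Or.inl (inv_mul_eq_one.1 (by simpa using e)).symm
    · exact Or.inr (inv_mul_eq_iff_eq_mul.1 (by simpa using e))
  · rintro (e | e)
    · have : x⁻¹ * y = 1 := by rw [inv_mul_eq_one]; exact Subtype.ext e.symm
      rw [this]; exact one_mem _
    · have : x⁻¹ * y = ⟨z, h.xs.mem⟩ := Subtype.ext (by simp [e])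
      rw [this]; exact h.xs.mem_center

include h in
theorem mkV_eq_zero {x : ↥(QG Q)} : mkV x = 0 ↔ (x : G) = 1 ∨ (x : G) = z := by
  have h1 : mkV (1 : ↥(QG Q)) = 0 := congrArg Additive.ofMul (map_one Abelianization.of)
  rw [← h1, eq_comm, h.mkV_eq_iff]
  simp

include h in
theorem card_VQ : Nat.card (VQ Q) = 4096 := by
  have hc : _root_.commutator ↥(QG Q) = center ↥(QG Q) := h.xs.xs.1.2.2
  show Nat.card (↥(QG Q) ⧸ _root_.commutator ↥(QG Q)) = 4096
  have := card_eq_card_quotient_mul_card_subgroup (_root_.commutator ↥(QG Q))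
  rw [h.card, hc, h.xs.xs.2] at this
  rw [hc]
  omega

include h in
theorem two (v : VQ Q) : v + v = 0 := by
  obtain ⟨x, rfl⟩ := mkV_surjective v
  rw [← mkV_mul, h.mkV_eq_zero]
  exact h.xs.sq_cases x.2

open Classical in
/-- The squaring form on elements. -/
noncomputable def sq2 (x : ↥(QG Q)) : ZMod 2 := if (x : G) * x = 1 then 0 else 1

open Classical in
/-- The commutation form on elements. -/
noncomputable def chi (x y : ↥(QG Q)) : ZMod 2 := if (x : G) * y = y * x then 0 else 1

include h in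
theorem sq2_congr {x y : ↥(QG Q)} (e : mkV x = mkV y) : sq2 x = sq2 y := by
  rcases h.mkV_eq_iff.1 e with e | e
  · unfold sq2; rw [e]
  · unfold sq2
    rw [e, show (x : G) * z * (x * z) = x * (z * x) * z by group, ← h.xs.comm x.2,
      show (x : G) * (x * z) * z = x * x * (z * z) by group, h.xs.sq, mul_one]

/-- The form on Q modulo its centre. -/
noncomputable def qV (v : VQ Q) : ZMod 2 := sq2 (mkV_surjective v).choose

include h in
theorem qV_mk (x : ↥(QG Q)) : qV (mkV x) = sq2 x := h.sq2_congr (mkV_surjective (mkV x)).choose_spec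

include h in
theorem sq2_mul (x y : ↥(QG Q)) : sq2 (x * y) + sq2 x + sq2 y = chi x y := by
  have hx := h.xs.sq_cases x.2
  have hy := h.xs.sq_cases y.2
  have hz : ∀ w ∈ QG Q, w * z = z * w := fun w hw => h.xs.comm hw
  have hne := h.xs.ne_one
  have hp : ((x * y : ↥(QG Q)) : G) = x * y := rfl
  rcases h.xs.conj_cases x.2 y.2 with e | e
  · have hc : (x : G) * y = y * x := XSub.conj_eq_self_iff.1 e
    have hsq : (x : G) * y * (x * y) = x * x * (y * y) := by
      rw [show (x : G) * y * (x * y) = x * (y * x) * y by group, ← hc]; group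
    unfold sq2 chi
    rw [if_pos hc, hp, hsq]
    rcases hx with a | a <;> rcases hy with b | b <;> simp [a, b, h.xs.sq, hne] <;> decide
  · have hc : (x : G) * y ≠ y * x := fun c => h.xs.ne_mul_z _ ((XSub.conj_eq_self_iff.2 c).symm.trans e)
    have hyx : (y : G) * x = x * y * z := by
      rw [mul_inv_eq_iff_eq_mul] at e
      rw [e, mul_assoc _ z, ← hz _ x.2, show (y : G) * (x * z) * z = y * x * (z * z) by group, h.xs.sq, mul_one]
    have hsq : (x : G) * y * (x * y) = x * x * (y * y) * z := by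
      rw [show (x : G) * y * (x * y) = x * (y * x) * y by group, hyx,
        show (x : G) * (x * y * z) * y = x * x * y * (z * y) by group, ← hz _ y.2]
      group
    unfold sq2 chi
    rw [if_neg hc, hp, hsq]
    rcases hx with a | a <;> rcases hy with b | b <;> simp [a, b, h.xs.sq, hne] <;> decide

include h in
theorem chi_mul (x y w : ↥(QG Q)) : chi (x * y) w = chi x w + chi y w := by
  have hne := h.xs.ne_mul_z (w : G)
  have key : ∀ a : ↥(QG Q), ((chi a w = 0 ∧ (a : G) * w * (a : G)⁻¹ = w) ∨ (chi a w = 1 ∧ (a : G) * w * (a : G)⁻¹ = w * z)) := by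
    intro a
    rcases h.xs.conj_cases a.2 w.2 with e | e
    · exact Or.inl ⟨if_pos (XSub.conj_eq_self_iff.1 e), e⟩
    · exact Or.inr ⟨if_neg fun c => hne ((XSub.conj_eq_self_iff.2 c).symm.trans e), e⟩
  have hxy : ((x * y : ↥(QG Q)) : G) * w * ((x * y : ↥(QG Q)) : G)⁻¹ = x * (y * w * (y : G)⁻¹) * (x : G)⁻¹ := by
    simp [mul_assoc]
  have hxz : ∀ v : G, (x : G) * (v * z) * (x : G)⁻¹ = x * v * (x : G)⁻¹ * z := fun v => by
    rw [mul_assoc _ _ z, h.xs.comm (inv_mem x.2)]; group
  rcases key x with ⟨a, a'⟩ | ⟨a, a'⟩ <;> rcases key y with ⟨b, b'⟩ | ⟨b, b'⟩ <;>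
    rcases key (x * y) with ⟨c, c'⟩ | ⟨c, c'⟩ <;> rw [a, b, c] <;>
    rw [hxy, b'] at c' <;> simp only [hxz, a'] at c' <;>
    first
    | decide
    | exact absurd c' hne
    | exact absurd c'.symm hne
    | exact absurd (show (w : G) = w * z by simpa [mul_assoc, h.xs.sq] using c') hne
    | exact absurd (show (w : G) = w * z by simpa [mul_assoc, h.xs.sq] using c'.symm) hne

include h in
theorem qV_polar (x y : ↥(QG Q)) : qV (mkV x + mkV y) + qV (mkV x) + qV (mkV y) = chi x y := by
  rw [← mkV_mul, h.qV_mk, h.qV_mk, h.qV_mk, h.sq2_mul]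

include h in
theorem b_add (u v w : VQ Q) : qV (u + v + w) + qV (u + v) + qV w =
    (qV (u + w) + qV u + qV w) + (qV (v + w) + qV v + qV w) := by
  obtain ⟨x, rfl⟩ := mkV_surjective u
  obtain ⟨y, rfl⟩ := mkV_surjective v
  obtain ⟨t, rfl⟩ := mkV_surjective w
  rw [h.qV_polar, h.qV_polar, ← mkV_mul x y, h.qV_polar, h.chi_mul]

include h in
theorem nondeg (u : VQ Q) (hu : ∀ v, qV (u + v) = qV u + qV v) : u = 0 := by
  obtain ⟨x, rfl⟩ := mkV_surjective u
  rw [h.mkV_eq_zero]
  refine h.xs.eq_of_central x.2 fun r hr => ?_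
  have h1 := h.qV_polar x ⟨r, hr⟩
  rw [hu] at h1
  have h2 : chi x ⟨r, hr⟩ = 0 :=
    h1.symm.trans ((by decide : ∀ a b : ZMod 2, a + b + a + b = 0) _ _)
  by_contra hne
  rw [chi, if_neg hne] at h2
  exact absurd h2 (by decide)

/-- Conjugation on Q. -/
def conjQ (h : Ctx z Q) (c : ↥(centralizer ({z} : Set G))) : ↥(QG Q) →* ↥(QG Q) where
  toFun x := ⟨c.1 * x * c.1⁻¹, conj_mem (h.xs.norm c.2) x.2⟩
  map_one' := Subtype.ext (by simp)
  map_mul' x y := Subtype.ext (by simp [mul_assoc])

theorem conjQ_mul (c d : ↥(centralizer ({z} : Set G))) (x : ↥(QG Q)) :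
    h.conjQ (c * d) x = h.conjQ c (h.conjQ d x) := Subtype.ext (by simp [conjQ, mul_assoc])

/-- The action on Q modulo its centre. -/
noncomputable def rhoC (h : Ctx z Q) : ↥(centralizer ({z} : Set G)) →* Equiv.Perm (VQ Q) :=
  MonoidHom.mk' (fun c =>
    { toFun := (Abelianization.map (h.conjQ c)).toAdditive
      invFun := (Abelianization.map (h.conjQ c⁻¹)).toAdditive
      left_inv := fun v => by
        obtain ⟨x, rfl⟩ := mkV_surjective v
        show mkV (h.conjQ c⁻¹ (h.conjQ c x)) = mkV x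
        rw [← conjQ_mul, inv_mul_cancel]
        exact congrArg mkV (Subtype.ext (by simp [conjQ]))
      right_inv := fun v => by
        obtain ⟨x, rfl⟩ := mkV_surjective v
        show mkV (h.conjQ c (h.conjQ c⁻¹ x)) = mkV x
        rw [← conjQ_mul, mul_inv_cancel]
        exact congrArg mkV (Subtype.ext (by simp [conjQ])) }) fun c d => Equiv.ext fun v => by
    obtain ⟨x, rfl⟩ := mkV_surjective v
    exact congrArg mkV (h.conjQ_mul c d x)

theorem rhoC_mk (c : ↥(centralizer ({z} : Set G))) (x : ↥(QG Q)) : h.rhoC c (mkV x) = mkV (h.conjQ c x) := rfl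

theorem rhoC_add (c : ↥(centralizer ({z} : Set G))) (u v : VQ Q) :
    h.rhoC c (u + v) = h.rhoC c u + h.rhoC c v := map_add (Abelianization.map (h.conjQ c)).toAdditive u v

theorem qV_rhoC (c : ↥(centralizer ({z} : Set G))) (v : VQ Q) : qV (h.rhoC c v) = qV v := by
  obtain ⟨x, rfl⟩ := mkV_surjective v
  rw [h.rhoC_mk, h.qV_mk, h.qV_mk]
  unfold sq2
  have e : (h.conjQ c x : G) * h.conjQ c x = c.1 * ((x : G) * x) * c.1⁻¹ := by simp [conjQ, mul_assoc]
  by_cases hh : (x : G) * x = 1
  · rw [if_pos hh, if_pos (by rw [e, hh]; group)]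
  · rw [if_neg hh, if_neg fun h1 => hh (conj_eq_one_iff.1 (e.symm.trans h1))]

theorem rhoC_Q : Q ≤ h.rhoC.ker := by
  intro c hc
  refine Equiv.ext fun v => ?_
  obtain ⟨x, rfl⟩ := mkV_surjective v
  show mkV (h.conjQ c x) = mkV x
  symm
  rw [h.mkV_eq_iff]
  exact h.xs.conj_cases (show c.1 ∈ QG Q from ⟨c, hc, rfl⟩) x.2

theorem rhoC_ker : h.rhoC.ker = Q := by
  refine le_antisymm (fun c hc => ?_) h.rhoC_Q
  classical
  have hfin : Finite (VQ Q) := inferInstance
  have hfix : ∀ x : ↥(QG Q), c.1 * x * c.1⁻¹ = x ∨ c.1 * x * c.1⁻¹ = x * z := fun x =>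
    h.mkV_eq_iff.1 (show mkV x = mkV (h.conjQ c x) from
      (congrArg (fun f : Equiv.Perm (VQ Q) => f (mkV x)) (MonoidHom.mem_ker.1 hc)).symm)
  let _ : Module (ZMod 2) (VQ Q) :=
    AddCommGroup.zmodModule (n := 2) fun v => by rw [two_nsmul]; exact h.two v
  have hchi : ∀ u v w : VQ Q, qV (u + (v + w)) + qV u + qV (v + w) =
      (qV (u + v) + qV u + qV v) + (qV (u + w) + qV u + qV w) := fun u v w => by
    have := h.b_add v w u
    rw [add_comm u (v + w), add_comm u v, add_comm u w]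
    linear_combination this
  let B : VQ Q →ₗ[ZMod 2] Module.Dual (ZMod 2) (VQ Q) :=
    AddMonoidHom.toZModLinearMap 2 (AddMonoidHom.mk'
      (fun u => AddMonoidHom.toZModLinearMap 2 (AddMonoidHom.mk' (fun v => qV (u + v) + qV u + qV v) (hchi u)))
      fun u v => LinearMap.ext fun w => h.b_add u v w)
  have hBinj : Function.Injective B := by
    refine (injective_iff_map_eq_zero _).2 fun u hu => h.nondeg u fun v => ?_
    have h1 : qV (u + v) + qV u + qV v = 0 := LinearMap.congr_fun hu v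
    exact (by decide : ∀ a b c : ZMod 2, a + b + c = 0 → a = b + c) _ _ _ h1
  have hBsurj := (LinearMap.injective_iff_surjective_of_finrank_eq_finrank Subspace.dual_finrank_eq.symm).1 hBinj
  -- the displacement homomorphism
  let ep : ↥(QG Q) → ZMod 2 := fun x => if c.1 * x * c.1⁻¹ = x then 0 else 1
  have hep : ∀ x, ((ep x = 0 ∧ c.1 * x * c.1⁻¹ = x) ∨ (ep x = 1 ∧ c.1 * x * c.1⁻¹ = x * z)) := fun x => by
    rcases hfix x with e | e
    · exact Or.inl ⟨if_pos e, e⟩
    · exact Or.inr ⟨if_neg fun e' => h.xs.ne_mul_z _ (e'.symm.trans e), e⟩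
  have hepmul : ∀ x y, ep (x * y) = ep x + ep y := fun x y => by
    have e : c.1 * ((x * y : ↥(QG Q)) : G) * c.1⁻¹ = (c.1 * x * c.1⁻¹) * (c.1 * y * c.1⁻¹) := by simp [mul_assoc]
    have hne := h.xs.ne_mul_z ((x : G) * y)
    have hzy : (x : G) * z * y = x * y * z := by rw [mul_assoc, ← h.xs.comm y.2, mul_assoc]
    have hz2 : (x : G) * y * z * z = x * y := by rw [mul_assoc, h.xs.sq, mul_one]
    rcases hep x with ⟨a, a'⟩ | ⟨a, a'⟩ <;> rcases hep y with ⟨b, b'⟩ | ⟨b, b'⟩ <;>
      rcases hep (x * y) with ⟨d, d'⟩ | ⟨d, d'⟩ <;> rw [a, b, d] <;>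
      rw [e, a', b', Subgroup.coe_mul] at d' <;>
      first
      | decide
      | exact absurd (by simpa only [← mul_assoc, hzy, hz2] using d') hne
      | exact absurd (by simpa only [← mul_assoc, hzy, hz2] using d'.symm) hne
  let epV : VQ Q → ZMod 2 := fun v => ep (mkV_surjective v).choose
  have hepV : ∀ x, epV (mkV x) = ep x := fun x => by
    have hw := (mkV_surjective (mkV x)).choose_spec
    show ep _ = ep x
    rcases h.mkV_eq_iff.1 hw with e | e
    · rw [← Subtype.ext e]
    · have : ep ⟨z, h.xs.mem⟩ = 0 := if_pos (by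
        show c.1 * z * c.1⁻¹ = z
        rw [mem_centralizer_one.1 c.2]; group)
      have hx := (congrArg ep (show x = (mkV_surjective (mkV x)).choose * ⟨z, h.xs.mem⟩ from Subtype.ext e)).trans
        (hepmul _ _)
      rw [this, add_zero] at hx
      exact hx.symm
  obtain ⟨u, hu⟩ := hBsurj (AddMonoidHom.toZModLinearMap 2 (AddMonoidHom.mk' epV fun v w => by
    obtain ⟨x, rfl⟩ := mkV_surjective v
    obtain ⟨y, rfl⟩ := mkV_surjective w
    rw [← mkV_mul, hepV, hepV, hepV, hepmul]))
  obtain ⟨a, rfl⟩ := mkV_surjective u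
  obtain ⟨a', ha', e'⟩ := a.2
  have e'' : (a' : G) = a := e'
  have hco : (a : G)⁻¹ * c.1 ∈ centralizer ({z} : Set G) :=
    mul_mem (inv_mem (h.xs.le_centralizer a.2)) c.2
  have hconj : ∀ x : ↥(QG Q), c.1 * x * c.1⁻¹ = (a : G) * x * (a : G)⁻¹ := fun x => by
    have h1 : qV (mkV a + mkV x) + qV (mkV a) + qV (mkV x) = epV (mkV x) := LinearMap.congr_fun hu (mkV x)
    rw [h.qV_polar, hepV] at h1
    rcases hep x with ⟨b, b'⟩ | ⟨b, b'⟩ <;> rw [b] at h1 <;> rw [b']
    · by_contra hne
      rcases h.xs.conj_cases a.2 x.2 with d | d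
      · exact hne d.symm
      · rw [chi, if_neg fun cc => h.xs.ne_mul_z _ ((XSub.conj_eq_self_iff.2 cc).symm.trans d)] at h1
        exact absurd h1 (by decide)
    · rcases h.xs.conj_cases a.2 x.2 with d | d
      · rw [chi, if_pos (XSub.conj_eq_self_iff.1 d)] at h1
        exact absurd h1 (by decide)
      · exact d.symm
  have hmem := h.ker _ hco fun x hx => by
    have := hconj ⟨x, hx⟩
    calc (a : G)⁻¹ * c.1 * x = (a : G)⁻¹ * (c.1 * x * c.1⁻¹) * c.1 := by group
      _ = (a : G)⁻¹ * ((a : G) * x * (a : G)⁻¹) * c.1 := by rw [this]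
      _ = x * ((a : G)⁻¹ * c.1) := by group
  obtain ⟨d, hd, e⟩ := mul_mem a.2 hmem
  have : d = c := Subtype.ext (e.trans (by group))
  exact this ▸ hd

end Ctx

/-- The hypothesis gives the working data. -/
theorem exists_env [Q.Normal] (hF : Cfsg.IsOfLargeFischerTypeAt z Q) :
    ∃ h : Ctx z Q, ∃ W : Env (VQ Q) (↥(centralizer ({z} : Set G)) ⧸ Q),
      (∀ c : ↥(centralizer ({z} : Set G)), W.ρ (QuotientGroup.mk c) = h.rhoC c) ∧ W.q = Ctx.qV := by
  obtain ⟨⟨hz, hfs, hxs, hcard, -⟩, N, M, hN, hM, hQN, hNM, hcN, ⟨K, _, _, hK, ⟨e⟩⟩, hidx⟩ := hF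
  have hxs' : Cfsg.IsExtraspecial 2 ↥(QG Q) :=
    haveI : Fact (Nat.Prime 2) := ⟨Nat.prime_two⟩
    Qd.isExtraspecial_congr (Q.equivMapOfInjective _ (centralizer ({z} : Set G)).subtype_injective).symm hxs
  have h : Ctx z Q := by
    refine ⟨XSLocal.of_fstar hz (by rw [hfs]) hxs', ?_, fun c hc hcomm => ?_⟩
    · rw [card_map_of_injective (centralizer ({z} : Set G)).subtype_injective, hcard]; norm_num
    · have hl := (XSLocal.of_fstar hz (by rw [hfs]) hxs' : XSLocal (QG Q) z)
      have : c ∈ zpowers z := hl.cent (mem_centralizer_iff.2 fun x hx => (hcomm x hx).symm)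
      exact (zpowers_le.2 hl.mem) this
  obtain ⟨f⟩ := exists_gen_equiv (F := K) hK
  let θ0 : ↥M →* ↥Gen := (e.trans f).toMonoidHom.comp (QuotientGroup.mk' _)
  let r : ↥M →* ↥(M.map (QuotientGroup.mk' Q)) := (QuotientGroup.mk' Q).subgroupMap M
  have hr : Function.Surjective r := (QuotientGroup.mk' Q).subgroupMap_surjective M
  have hθ0 : θ0.ker = N.subgroupOf M := by
    ext x
    rw [MonoidHom.mem_ker, ← QuotientGroup.eq_one_iff x]
    exact (e.trans f).map_eq_one_iff
  have hker : r.ker ≤ θ0.ker := fun x hx => by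
    rw [hθ0, Subgroup.mem_subgroupOf]
    exact hQN ((QuotientGroup.eq_one_iff (x : ↥(centralizer ({z} : Set G)))).1 (congrArg Subtype.val hx))
  let θ : ↥(M.map (QuotientGroup.mk' Q)) →* ↥Gen := r.liftOfSurjective hr ⟨θ0, hker⟩
  have hθ : ∀ x, θ (r x) = θ0 x := fun x => MonoidHom.liftOfRightInverse_comp_apply r _ _ ⟨θ0, hker⟩ x
  let ρ := QuotientGroup.lift Q h.rhoC h.rhoC_Q
  refine ⟨h, {
    two := h.two
    cardV := h.card_VQ
    q := Ctx.qV
    b_add := h.b_add
    nondeg := h.nondeg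
    ρ := ρ
    radd := ?_
    inj := ?_
    qinv := ?_
    P := N.map (QuotientGroup.mk' Q)
    K := M.map (QuotientGroup.mk' Q)
    normalP := hN.map _ (QuotientGroup.mk'_surjective Q)
    cardP := ?_
    PK := Subgroup.map_mono hNM
    idxK := ?_
    θ := θ
    surj := fun y => ?_
    ker := ?_ }, fun c => rfl, rfl⟩
  · intro a
    induction a using QuotientGroup.induction_on with
    | H c => exact fun x y => h.rhoC_add c x y
  · rw [← MonoidHom.ker_eq_bot_iff, QuotientGroup.ker_lift, h.rhoC_ker]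
    exact QuotientGroup.map_mk'_self Q
  · intro a
    induction a using QuotientGroup.induction_on with
    | H c => exact fun x => h.qV_rhoC c x
  · have h1 : Nat.card ↥N = Nat.card ↥(N.map (QuotientGroup.mk' Q)) * Nat.card ↥Q := by
      rw [Subgroup.card_eq_card_quotient_mul_card_subgroup (Q.subgroupOf N),
        Nat.card_congr (Subgroup.subgroupOfEquivOfLe hQN).toEquiv]
      congr 1
      have hr' : Function.Surjective ((QuotientGroup.mk' Q).subgroupMap N) := (QuotientGroup.mk' Q).subgroupMap_surjective N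
      refine Nat.card_congr ((QuotientGroup.quotientMulEquivOfEq ?_).trans
        (QuotientGroup.quotientKerEquivOfSurjective _ hr')).toEquiv
      ext x
      rw [MonoidHom.mem_ker, Subgroup.mem_subgroupOf, ← QuotientGroup.eq_one_iff (x : ↥(centralizer ({z} : Set G))),
        Subtype.ext_iff]
      rfl
    rw [hcN] at h1
    exact (Nat.eq_of_mul_eq_mul_right Nat.card_pos h1).symm
  · rw [Subgroup.index_map_eq _ (QuotientGroup.mk'_surjective Q)
      (by rw [QuotientGroup.ker_mk']; exact hQN.trans hNM), hidx]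
  · obtain ⟨x, hx⟩ := ((e.trans f).surjective.comp (QuotientGroup.mk'_surjective _)) y
    exact ⟨r x, (hθ x).trans hx⟩
  · ext y
    obtain ⟨x, rfl⟩ := hr y
    rw [MonoidHom.mem_ker, hθ, ← MonoidHom.mem_ker, hθ0, Subgroup.mem_subgroupOf, Subgroup.mem_subgroupOf]
    refine ⟨fun hx => ⟨x.1, hx, rfl⟩, fun ⟨n, hn, e'⟩ => ?_⟩
    have := QuotientGroup.eq.1 (show (n : ↥(centralizer ({z} : Set G)) ⧸ Q) = x.1 from e')
    have h2 := mul_mem hn (hQN this)
    rwa [mul_inv_cancel_left] at h2

end Cfsg.Agent.LargeFischer
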