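import Cfsg.Agent.Lib.LargeFischer.BigCount
import Cfsg.Agent.Lib.Golay.Cosets
import Cfsg.Agent.Lib.Golay.M24

/-! Pairs of points as coordinates. -/

set_option autoImplicit false
set_option maxRecDepth 100000
set_option maxHeartbeats 200000

namespace Cfsg.Agent.LargeFischer.Big

open Cfsg Cfsg.Agent.Golay
open scoped symmDiff

/-- The coordinate of a set of points. -/
def ev (S : Finset GolayPt) : ℕ := psi (toMask S)

theorem xor_step (s t : Bool) (x y w : ℕ) : (if (s ^^ t) = true then x ^^^ y ^^^ w else x ^^^ y) =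
    (if s = true then x ^^^ w else x) ^^^ (if t = true then y ^^^ w else y) := by
  refine Nat.eq_of_testBit_eq fun i => ?_
  cases s <;> cases t <;> simp [Nat.testBit_xor] <;>
    cases x.testBit i <;> cases y.testBit i <;> cases w.testBit i <;> rfl

theorem psi_xor (a b : ℕ) : psi (a ^^^ b) = psi a ^^^ psi b := by
  have key : ∀ (l : List ℕ) (x y : ℕ),
      l.foldl (fun c p => if (a ^^^ b).testBit p then c ^^^ pp p else c) (x ^^^ y) =
        l.foldl (fun c p => if a.testBit p then c ^^^ pp p else c) x ^^^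
          l.foldl (fun c p => if b.testBit p then c ^^^ pp p else c) y := by
    intro l
    induction l with
    | nil => exact fun _ _ => rfl
    | cons p l ih =>
      intro x y
      simp only [List.foldl_cons]
      rw [← ih]
      congr 1
      rw [Nat.testBit_xor]
      exact xor_step _ _ _ _ _
  have := key (List.range 24) 0 0
  simpa [psi] using this

theorem toMask_symmDiff (S T : Finset GolayPt) : toMask (S ∆ T) = toMask S ^^^ toMask T :=
  maskSet_inj (toMask_lt _) (Nat.xor_lt_two_pow (toMask_lt S) (toMask_lt T)) (by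
    rw [symmDiff_maskSet, maskSet_toMask, maskSet_toMask, maskSet_toMask])

theorem ev_symmDiff (S T : Finset GolayPt) : ev (S ∆ T) = ev S ^^^ ev T := by
  rw [ev, toMask_symmDiff, psi_xor]; rfl

theorem ev_lt (S : Finset GolayPt) : ev S < 2048 := by
  have key : ∀ (l : List ℕ), (∀ p ∈ l, p < 24) → ∀ x < 2048,
      l.foldl (fun c p => if (toMask S).testBit p then c ^^^ pp p else c) x < 2048 := by
    intro l
    induction l with
    | nil => exact fun _ x hx => hx
    | cons p l ih =>
      intro hl x hx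
      refine ih (fun q hq => hl q (List.mem_cons_of_mem _ hq)) _ ?_
      dsimp only
      split_ifs
      · exact Nat.xor_lt_two_pow (n := 11) hx (pp_lt p (hl p List.mem_cons_self))
      · exact hx
  exact key _ (fun p hp => List.mem_range.1 hp) 0 (by norm_num)

theorem ev_single : ∀ p : GolayPt, ev {p} = pp (idx p) := by decide +kernel

theorem ev_empty : ev ∅ = 0 := by decide +kernel

theorem pair_eq {p q : GolayPt} (h : p ≠ q) : ({p} : Finset GolayPt) ∆ {q} = {p, q} := by
  ext x
  simp only [Finset.mem_symmDiff, Finset.mem_singleton, Finset.mem_insert]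
  constructor
  · rintro (⟨a, -⟩ | ⟨a, -⟩) <;> tauto
  · rintro (rfl | rfl)
    · exact Or.inl ⟨rfl, h⟩
    · exact Or.inr ⟨rfl, h.symm⟩

theorem ev_pair {p q : GolayPt} (h : p ≠ q) : ev {p, q} = pp (idx p) ^^^ pp (idx q) := by
  rw [← pair_eq h, ev_symmDiff, ev_single, ev_single]

theorem pair_isN {p q : GolayPt} (h : p ≠ q) : isN (ev {p, q}) = true := by
  rw [ev_pair h]
  exact pp_isN _ (idx_lt p) _ (idx_lt q) fun e => h (idx_injective e)

theorem exists_pair {i : ℕ} (hi : i < 2048) (h : isN i = true) :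
    ∃ S : Finset GolayPt, S.card = 2 ∧ ev S = i := by
  obtain ⟨p, hp, q, hq, hpq, e⟩ := pp_surj i hi h
  have hne : pt ⟨p, hp⟩ ≠ pt ⟨q, hq⟩ := fun e' => by
    have := congrArg idx e'
    rw [idx_pt, idx_pt] at this
    simp only at this
    omega
  exact ⟨{pt ⟨p, hp⟩, pt ⟨q, hq⟩}, Finset.card_pair hne, by rw [ev_pair hne, idx_pt, idx_pt]; exact e⟩

theorem pair_inj {S T : Finset GolayPt} (hS : S.card = 2) (hT : T.card = 2) (h : ev S = ev T) : S = T := by
  have norm : ∀ U : Finset GolayPt, U.card = 2 →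
      ∃ a b : GolayPt, idx a < idx b ∧ U = {a, b} ∧ ev U = pp (idx a) ^^^ pp (idx b) := fun U hU => by
    obtain ⟨a, b, hab, rfl⟩ := Finset.card_eq_two.1 hU
    rcases lt_trichotomy (idx a) (idx b) with hl | hl | hl
    · exact ⟨a, b, hl, rfl, ev_pair hab⟩
    · exact absurd (idx_injective hl) hab
    · exact ⟨b, a, hl, Finset.pair_comm a b, by rw [ev_pair hab, Nat.xor_comm]⟩
  obtain ⟨a, b, hab, rfl, e1⟩ := norm S hS
  obtain ⟨c, d, hcd, rfl, e2⟩ := norm T hT
  obtain ⟨h1, h2⟩ := pp_inj (idx_lt b) (idx_lt d) hab hcd (e1.symm.trans (h.trans e2))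
  rw [idx_injective h1, idx_injective h2]

theorem psi_code {m : ℕ} (hm : m ∈ codeList) : psi m = 0 := by
  have key : ∀ l : List ℕ, (∀ b ∈ l, psi b = 0) → ∀ m ∈ spanList l, psi m = 0 := by
    intro l
    induction l with
    | nil => intro _ m hm; simp only [spanList, List.mem_singleton] at hm; rw [hm]; decide +kernel
    | cons b l ih =>
      intro h m hm
      have hl := ih fun c hc => h c (List.mem_cons_of_mem _ hc)
      simp only [spanList, List.mem_append, List.mem_map] at hm
      rcases hm with hm | ⟨x, hx, rfl⟩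
      · exact hl m hm
      · rw [psi_xor, h b List.mem_cons_self, hl x hx, Nat.xor_self]
  refine key _ (fun b hb => psi_basis b ?_) m hm
  simpa [gBasis] using hb

theorem ev_supports {S : Finset GolayPt} (h : S ∈ supports (golayCode : Set (GolayPt → ZMod 2))) :
    S.card % 2 = 0 ∧ ev S = 0 := by
  obtain ⟨m, hm, rfl⟩ := mem_supports.1 h
  refine ⟨?_, ?_⟩
  · rw [card_maskSet]
    rcases weight_cases hm with e | e | e | e | e <;> omega
  · rw [ev, toMask_maskSet (lt_of_mem_codeList hm), psi_code hm]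

theorem card_symmDiff_mod (S T : Finset GolayPt) : (S ∆ T).card % 2 = (S.card + T.card) % 2 := by
  have h1 : S ∆ T = (S ∪ T) \ (S ∩ T) := symmDiff_eq_sup_sdiff_inf S T
  have h2 := Finset.card_union_add_card_inter S T
  have h3 : (S ∩ T).card ≤ (S ∪ T).card := Finset.card_le_card (Finset.inter_subset_left.trans Finset.subset_union_left)
  rw [h1, Finset.card_sdiff_of_subset (Finset.inter_subset_left.trans Finset.subset_union_left)]
  omega

/-- An even set of coordinate zero is a code word. -/
theorem supports_of_ev {S : Finset GolayPt} (he : S.card % 2 = 0) (h : ev S = 0) :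
    S ∈ supports (golayCode : Set (GolayPt → ZMod 2)) := by
  obtain ⟨T, hT4, hST⟩ := exists_light_set S
  obtain ⟨hc, hev⟩ := ev_supports hST
  rw [ev_symmDiff, h, Nat.zero_xor] at hev
  rw [card_symmDiff_mod] at hc
  rcases (show T.card = 0 ∨ T.card = 2 ∨ T.card = 4 by omega) with e | e | e
  · obtain rfl := Finset.card_eq_zero.1 e
    rw [SameCoset, show S ∆ (∅ : Finset GolayPt) = S from symmDiff_bot S] at hST
    exact hST
  · exfalso
    obtain ⟨a, b, hab, rfl⟩ := Finset.card_eq_two.1 e
    have := pair_isN hab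
    rw [hev] at this
    exact absurd this (by decide +kernel)
  · exfalso
    obtain ⟨a, ha⟩ := Finset.card_pos.1 (show 0 < T.card by omega)
    obtain ⟨b, hb⟩ := Finset.card_pos.1 (show 0 < (T.erase a).card by rw [Finset.card_erase_of_mem ha]; omega)
    have hab : a ≠ b := fun e' => (Finset.mem_erase.1 hb).1 e'.symm
    have hsub : ({a, b} : Finset GolayPt) ⊆ T :=
      Finset.insert_subset ha (Finset.singleton_subset_iff.2 (Finset.mem_erase.1 hb).2)
    have hU : (T \ {a, b}).card = 2 := by rw [Finset.card_sdiff_of_subset hsub, Finset.card_pair hab]; omega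
    have hTd : T = ({a, b} : Finset GolayPt) ∆ (T \ {a, b}) := by
      ext x
      simp only [Finset.mem_symmDiff, Finset.mem_sdiff]
      by_cases hx : x ∈ ({a, b} : Finset GolayPt)
      · simp [hx, hsub hx]
      · simp [hx]
    rw [hTd, ev_symmDiff, Nat.xor_eq_zero_iff] at hev
    have := pair_inj (Finset.card_pair hab) hU hev
    exact (Finset.mem_sdiff.1 (this ▸ Finset.mem_insert_self a {b})).2 (Finset.mem_insert_self a {b})

/-- A triangle of pairs. -/
theorem triangle {S T U : Finset GolayPt} (hS : S.card = 2) (hT : T.card = 2) (hU : U.card = 2)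
    (h : ev S ^^^ ev T = ev U) : U = S ∆ T := by
  have h0 : ev (S ∆ T ∆ U) = 0 := by rw [ev_symmDiff, ev_symmDiff, h, Nat.xor_self]
  have he : (S ∆ T ∆ U).card % 2 = 0 := by
    rw [card_symmDiff_mod]
    have := card_symmDiff_mod S T
    omega
  rcases supp_zero_or_le (supports_of_ev he h0) with e | e
  · exact (symmDiff_eq_bot.1 e).symm
  · exfalso
    have h1 : (S ∆ T).card ≤ 4 :=
      (Finset.card_le_card symmDiff_le_sup).trans ((Finset.card_union_le _ _).trans (by omega))
    have h2 : (S ∆ T ∆ U).card ≤ (S ∆ T).card + U.card :=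
      (Finset.card_le_card symmDiff_le_sup).trans (Finset.card_union_le _ _)
    omega

theorem triangle_meet {S T U : Finset GolayPt} (hS : S.card = 2) (hT : T.card = 2) (hU : U.card = 2)
    (h : U = S ∆ T) : (S ∩ T).card = 1 := by
  have h2 := Finset.card_union_add_card_inter S T
  have h3 : (S ∆ T).card = (S ∪ T).card - (S ∩ T).card := by
    rw [show S ∆ T = (S ∪ T) \ (S ∩ T) from symmDiff_eq_sup_sdiff_inf S T,
      Finset.card_sdiff_of_subset (Finset.inter_subset_left.trans Finset.subset_union_left)]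
  rw [← h, hU] at h3
  have := Finset.card_le_card (Finset.inter_subset_left (s₁ := S) (s₂ := T))
  omega

theorem pair_symmDiff {p q r : GolayPt} (hqr : q ≠ r) (hpq : p ≠ q) (hpr : p ≠ r) :
    ({p, q} : Finset GolayPt) ∆ {p, r} = {q, r} := by
  ext x
  simp only [Finset.mem_symmDiff, Finset.mem_insert, Finset.mem_singleton]
  constructor
  · rintro (⟨a | a, b⟩ | ⟨a | a, b⟩) <;> tauto
  · rintro (rfl | rfl)
    · exact Or.inl ⟨Or.inr rfl, fun a => a.elim hpq.symm hqr⟩
    · exact Or.inr ⟨Or.inr rfl, fun a => a.elim hpr.symm hqr.symm⟩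

/-- A map of pairs keeping triangles comes from a permutation of the points. -/
theorem exists_perm (f : Finset GolayPt → Finset GolayPt) (hf2 : ∀ S, S.card = 2 → (f S).card = 2)
    (hinj : ∀ S T, S.card = 2 → T.card = 2 → f S = f T → S = T)
    (htri : ∀ S T, S.card = 2 → T.card = 2 → (S ∆ T).card = 2 → f (S ∆ T) = f S ∆ f T) :
    ∃ π : Equiv.Perm GolayPt, ∀ p q, p ≠ q → f {p, q} = {π p, π q} := by
  classical
  have hthree : ∀ p : GolayPt, ∃ q r, p ≠ q ∧ p ≠ r ∧ q ≠ r := fun p => by
    rcases eq_or_ne p none with rfl | h0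
    · exact ⟨some 0, some 1, by decide, by decide, by decide⟩
    rcases eq_or_ne p (some 0) with rfl | h1
    · exact ⟨none, some 1, by decide, by decide, by decide⟩
    exact ⟨none, some 0, h0, h1, by decide⟩
  have hmeet : ∀ p q r : GolayPt, p ≠ q → p ≠ r → q ≠ r → (f {p, q} ∩ f {p, r}).card = 1 := by
    intro p q r hpq hpr hqr
    have e := htri _ _ (Finset.card_pair hpq) (Finset.card_pair hpr)
      (by rw [pair_symmDiff hqr hpq hpr, Finset.card_pair hqr])
    rw [pair_symmDiff hqr hpq hpr] at e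
    exact triangle_meet (hf2 _ (Finset.card_pair hpq)) (hf2 _ (Finset.card_pair hpr))
      (hf2 _ (Finset.card_pair hqr)) e
  have hstar : ∀ p, ∃ a, ∀ s, p ≠ s → a ∈ f {p, s} := by
    intro p
    obtain ⟨q, r, hpq, hpr, hqr⟩ := hthree p
    obtain ⟨a, ha⟩ := Finset.card_eq_one.1 (hmeet p q r hpq hpr hqr)
    obtain ⟨ha1, ha2⟩ := Finset.mem_inter.1 (ha ▸ Finset.mem_singleton_self a : a ∈ f {p, q} ∩ f {p, r})
    refine ⟨a, fun s hps => ?_⟩
    by_cases hsq : s = q
    · rw [hsq]; exact ha1
    by_cases hsr : s = r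
    · rw [hsr]; exact ha2
    by_contra hna
    obtain ⟨b, hb⟩ := Finset.card_eq_one.1 (hmeet p s q hps hpq hsq)
    obtain ⟨c, hc⟩ := Finset.card_eq_one.1 (hmeet p s r hps hpr hsr)
    obtain ⟨hb1, hb2⟩ := Finset.mem_inter.1 (hb ▸ Finset.mem_singleton_self b : b ∈ f {p, s} ∩ f {p, q})
    obtain ⟨hc1, hc2⟩ := Finset.mem_inter.1 (hc ▸ Finset.mem_singleton_self c : c ∈ f {p, s} ∩ f {p, r})
    have hba : b ≠ a := fun e => hna (e ▸ hb1)
    have hca : c ≠ a := fun e => hna (e ▸ hc1)
    have hbc : b ≠ c := fun e => by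
      have : b ∈ f {p, q} ∩ f {p, r} := Finset.mem_inter.2 ⟨hb2, e ▸ hc2⟩
      rw [ha, Finset.mem_singleton] at this
      exact hba this
    have e1 : f {p, q} = {a, b} := (Finset.eq_of_subset_of_card_le
      (Finset.insert_subset ha1 (Finset.singleton_subset_iff.2 hb2))
      (by rw [hf2 _ (Finset.card_pair hpq), Finset.card_pair hba.symm])).symm
    have e2 : f {p, r} = {a, c} := (Finset.eq_of_subset_of_card_le
      (Finset.insert_subset ha2 (Finset.singleton_subset_iff.2 hc2))
      (by rw [hf2 _ (Finset.card_pair hpr), Finset.card_pair hca.symm])).symm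
    have e3 : f {p, s} = {b, c} := (Finset.eq_of_subset_of_card_le
      (Finset.insert_subset hb1 (Finset.singleton_subset_iff.2 hc1))
      (by rw [hf2 _ (Finset.card_pair hps), Finset.card_pair hbc])).symm
    have e4 : f {q, r} = {b, c} := by
      rw [← pair_symmDiff hqr hpq hpr, htri _ _ (Finset.card_pair hpq) (Finset.card_pair hpr)
        (by rw [pair_symmDiff hqr hpq hpr, Finset.card_pair hqr]), e1, e2,
        pair_symmDiff hbc hba.symm hca.symm]
    have e5 := hinj _ _ (Finset.card_pair hps) (Finset.card_pair hqr) (e3.trans e4.symm)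
    have hp : p ∈ ({q, r} : Finset GolayPt) := e5 ▸ Finset.mem_insert_self p {s}
    simp only [Finset.mem_insert, Finset.mem_singleton] at hp
    exact hp.elim hpq hpr
  choose g hg using hstar
  have hg2 : ∀ p q, p ≠ q → g p ≠ g q := by
    intro p q hpq e
    obtain ⟨s, hps, hqs⟩ : ∃ s, p ≠ s ∧ q ≠ s := by
      obtain ⟨a, b, ha, hb, hab⟩ := hthree p
      by_cases h : q = a
      · exact ⟨b, hb, h ▸ hab⟩
      · exact ⟨a, ha, h⟩
    have h1 := hg p q hpq
    have h2 := hg p s hps
    have h3 := hg q s hqs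
    rw [← e] at h3
    have e1 := htri {s, p} {s, q} (Finset.card_pair hps.symm) (Finset.card_pair hqs.symm)
      (by rw [pair_symmDiff hpq hps.symm hqs.symm, Finset.card_pair hpq])
    rw [pair_symmDiff hpq hps.symm hqs.symm, Finset.pair_comm s p, Finset.pair_comm s q] at e1
    rw [e1, Finset.mem_symmDiff] at h1
    rcases h1 with ⟨-, h⟩ | ⟨-, h⟩
    · exact h h3
    · exact h h2
  have hbij : Function.Bijective g :=
    Finite.injective_iff_bijective.1 fun p q e => by_contra fun h => hg2 p q h e
  refine ⟨Equiv.ofBijective g hbij, fun p q hpq => (Finset.eq_of_subset_of_card_le ?_ ?_).symm⟩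
  · refine Finset.insert_subset (hg p q hpq) (Finset.singleton_subset_iff.2 ?_)
    rw [Finset.pair_comm]
    exact hg q p hpq.symm
  · rw [hf2 _ (Finset.card_pair hpq)]
    exact (Finset.card_pair (hg2 p q hpq)).ge

/-- Pairs determine a permutation. -/
theorem perm_unique {π ρ : Equiv.Perm GolayPt}
    (h : ∀ p q : GolayPt, p ≠ q → ({π p, π q} : Finset GolayPt) = {ρ p, ρ q}) : π = ρ := by
  refine Equiv.ext fun p => ?_
  obtain ⟨q, r, hpq, hpr, hqr⟩ : ∃ q r, p ≠ q ∧ p ≠ r ∧ q ≠ r := by
    rcases eq_or_ne p none with rfl | h0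
    · exact ⟨some 0, some 1, by decide, by decide, by decide⟩
    rcases eq_or_ne p (some 0) with rfl | h1
    · exact ⟨none, some 1, by decide, by decide, by decide⟩
    exact ⟨none, some 0, h0, h1, by decide⟩
  have a : π p ∈ ({ρ p, ρ q} : Finset GolayPt) := h p q hpq ▸ Finset.mem_insert_self _ _
  have b : π p ∈ ({ρ p, ρ r} : Finset GolayPt) := h p r hpr ▸ Finset.mem_insert_self _ _
  simp only [Finset.mem_insert, Finset.mem_singleton] at a b
  rcases a with a | a
  · exact a
  rcases b with b | b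
  · exact b
  exact absurd (ρ.injective (a.symm.trans b)) hqr

end Cfsg.Agent.LargeFischer.Big
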