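import Cfsg.Agent.Lib.LargeFischer.BigChecks

/-! Finite checks on the set of elements not conjugate to the central involution. -/

set_option autoImplicit false
set_option maxRecDepth 100000
set_option maxHeartbeats 200000

namespace Cfsg.Agent.LargeFischer.Big

/-- The value on a class. -/
def pick (a b c : Bool) (e : ℕ) : Bool := if e = 0 then a else if e = 1 then b else c

/-- The value on the coordinates inside Q. -/
def base (i : ℕ) : Bool := decide (i ≠ 0 ∧ i / 2 % 64 ∉ oneL)

theorem base_count : (∑ j ∈ Finset.range 128, (base j).toNat) = 91 := by decide +kernel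

theorem pick_count : ∀ k < 16, 1 ≤ k → ∀ a b c : Bool,
    (∑ j ∈ Finset.range 128, (pick a b c (cls (128 * k + j))).toNat) = 16 * a.toNat + 16 * b.toNat + 96 * c.toNat := by
  decide +kernel

theorem pik_pos : ∀ g : Fin 2, ∀ k < 16, 1 ≤ k → 1 ≤ pik g k := by decide +kernel

theorem vrL_lt : ∀ k < 16, vrL.getD k 0 < 64 := by decide +kernel

theorem gu_zero : ∀ g : Fin 2, gu g 0 = 0 := by decide +kernel

theorem fix_residues : ∀ p ∈ [13, 331, 571, 1531, 2011], ∀ j < 11, 2048 % p ≠ 2 ^ j % p := by decide +kernel

/-- The cut list of the parameters. -/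
def eTable : List (List Bool) :=
  [[false, false, false, false, false, false, false, false, false, false, false, false, false, false, false, false],
   [false, false, false, false, false, true, true, false, false, false, true, true, true, false, true, false],
   [false, false, false, true, false, false, false, false, false, true, false, true, false, false, true, true],
   [false, false, false, true, false, true, true, false, false, true, true, false, true, false, false, true]]

/-- The parameters from their free bits. -/
def eOf (n : ℕ) (k : ℕ) : Bool :=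
  [false, false, false, n.testBit 0, false, n.testBit 1, n.testBit 2, n.testBit 3, false, n.testBit 4, n.testBit 5,
    n.testBit 6, n.testBit 7, n.testBit 8, n.testBit 9, n.testBit 10].getD k false

/-- The invariance of the parameters. -/
def invB (n : ℕ) : Bool :=
  (List.range 16).all fun k => (List.range 16).all fun l => (List.finRange 2).all fun g =>
    decide (((eOf n k != eOf n l) != eOf n (k ^^^ l)) =
      ((eOf n (pik g k) != eOf n (pik g l)) != eOf n (pik g (k ^^^ l))))

theorem inv_cases : ∀ n < 2048, invB n = true → ∃ t ∈ eTable, ∀ k < 16, t.getD k false = eOf n k := by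
  decide +kernel

/-- Membership in the set given by the parameters. -/
def inN (t : List Bool) (i : ℕ) : Bool :=
  if i < 128 then decide (i / 2 % 64 ∈ oneL)
  else if t.getD (i / 128) false then decide (cls i = 1) else decide (cls i = 0)

/-- The number of neighbours. -/
def degN (t : List Bool) (x : ℕ) : ℕ := ((List.range 2048).filter fun y => inN t y && inN t (x ^^^ y)).length

theorem deg_cut : ∀ t ∈ eTable, degN t 2 = degN t (128 * 1 + 0) → t = eTable.getD 2 [] := by decide +kernel

/-- The set of elements not conjugate to the central involution. -/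
def isN (i : ℕ) : Bool := inN (eTable.getD 2 []) i

/-- The image of a point. -/
def pp (p : ℕ) : ℕ := ptL.getD p 0

theorem pp_lt : ∀ p < 24, pp p < 2048 := by decide +kernel

theorem pp_isN : ∀ p < 24, ∀ q < 24, p ≠ q → isN (pp p ^^^ pp q) = true := by decide +kernel

/-- All pairs of points. -/
def pairs : List (ℕ × ℕ) := (List.range 24).flatMap fun q => (List.range q).map fun p => (p, q)

theorem pairs_check : (pairs.all fun a => pairs.all fun b =>
    Nat.beq (pp a.1 ^^^ pp a.2) (pp b.1 ^^^ pp b.2) == (Nat.beq a.1 b.1 && Nat.beq a.2 b.2)) = true := by decide +kernel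

theorem mem_pairs {p q : ℕ} (hq : q < 24) (hpq : p < q) : (p, q) ∈ pairs :=
  List.mem_flatMap.2 ⟨q, List.mem_range.2 hq, List.mem_map.2 ⟨p, List.mem_range.2 hpq, rfl⟩⟩

theorem pp_inj {p q r s : ℕ} (hq : q < 24) (hs : s < 24) (hpq : p < q) (hrs : r < s)
    (h : pp p ^^^ pp q = pp r ^^^ pp s) : p = r ∧ q = s := by
  have h1 := List.all_eq_true.1 pairs_check _ (mem_pairs hq hpq)
  have h2 := List.all_eq_true.1 h1 _ (mem_pairs hs hrs)
  simp only [h, beq_iff_eq] at h2
  have h3 : (Nat.beq p r && Nat.beq q s) = true := by rw [← h2]; exact Nat.beq_refl _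
  exact ⟨Nat.eq_of_beq_eq_true (Bool.and_eq_true_iff.1 h3).1, Nat.eq_of_beq_eq_true (Bool.and_eq_true_iff.1 h3).2⟩

theorem pp_surj : ∀ i < 2048, isN i = true → ∃ p < 24, ∃ q < 24, p < q ∧ pp p ^^^ pp q = i := by decide +kernel

theorem isN_span : ∀ n : ℕ, n < 11 → ∃ p < 24, ∃ q < 24, ∃ r < 24, ∃ s < 24,
    (pp p ^^^ pp q) ^^^ (pp r ^^^ pp s) = 2 ^ n ∨ pp p ^^^ pp q = 2 ^ n := by decide +kernel

/-- The code of a mask. -/
def psi (m : ℕ) : ℕ := (List.range 24).foldl (fun a p => if m.testBit p then a ^^^ pp p else a) 0

theorem psi_basis : ∀ b ∈ [8391797, 4196943, 2101096, 1050548, 525274, 262637, 133817, 69395, 36294, 18147, 10558,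
    5279], psi b = 0 := by decide +kernel

end Cfsg.Agent.LargeFischer.Big
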