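import Cfsg.Agent.Lib.LargeFischer.BigData

/-! Finite checks for the normaliser of the large abelian subgroup. -/

set_option autoImplicit false
set_option maxRecDepth 100000
set_option maxHeartbeats 200000

namespace Cfsg.Agent.LargeFischer.Big

open Cfsg.Agent.RigidGraph.He Cfsg.Agent.U43InU62
open Matrix

/-- The index of an element of the large subgroup. -/
def nk (k : ℕ) : Fin 128 := nkL.getD k 0

/-- The digit as a scalar. -/
def dg (a : ℕ) : K4 := K4.ofDigit a

/-- A vector of the fixed space by its coordinate. -/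
def vd (x : ℕ) : V6 := dg (x % 4) • bA 0 + dg (x / 4 % 4) • bA 1 + dg (x / 16 % 4) • bA 2

/-- A vector of the transversal. -/
def yv (m : ℕ) : V6 := ![dg (m % 4), dg (m / 4 % 4), 0, 0, dg (m / 16 % 4), 0]

/-- The parity form. -/
def Bp (u v : V6) : ℕ := (wt (u + v) + wt u + wt v) % 2

/-- The central part of a commutator. -/
def kap (n : Fin 128) (y : V6) : ℕ := (wt y + Bp (K4.v • y) (K4.w • tm n y)) % 2

/-- A tabulated shift. -/
def shift (k m : ℕ) : ℕ := (shiftL.getD k []).getD m 0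

/-- The commutation mask. -/
def bm (m : ℕ) : ℕ := bmL.getD m 0

/-- The parity of the six low bits. -/
def par6 (x : ℕ) : ℕ := (x % 2 + x / 2 % 2 + x / 4 % 2 + x / 8 % 2 + x / 16 % 2 + x / 32 % 2) % 2

/-- Conjugation by a transversal element in coordinates. -/
def sh (m i : ℕ) : ℕ := i ^^^ shift (i / 128) m ^^^ par6 (bm m &&& (i / 2 % 64))

/-- Multiplication of a digit by the primitive scalar. -/
def wd (a : ℕ) : ℕ := [0, 2, 3, 1].getD a 0

/-- Multiplication of a coordinate by the primitive scalar. -/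
def wm (x : ℕ) : ℕ := wd (x % 4) + 4 * wd (x / 4 % 4) + 16 * wd (x / 16 % 4)

/-- Conjugation by the element of order three in coordinates. -/
def xi (i : ℕ) : ℕ := i % 2 + 2 * wm (i / 2 % 64) + 128 * (i / 128)

/-- A permutation of the coordinates. -/
def pik (g : Fin 2) (k : ℕ) : ℕ := (piL.getD g []).getD k 0

/-- A linear map of the fixed space. -/
def gu (g : Fin 2) (x : ℕ) : ℕ :=
  let l := guL.getD g []
  (if x.testBit 0 then l.getD 0 0 else 0) ^^^ (if x.testBit 1 then l.getD 1 0 else 0) ^^^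
    (if x.testBit 2 then l.getD 2 0 else 0) ^^^ (if x.testBit 3 then l.getD 3 0 else 0) ^^^
    (if x.testBit 4 then l.getD 4 0 else 0) ^^^ (if x.testBit 5 then l.getD 5 0 else 0)

/-- The two matrices. -/
def gMat : Fin 2 → Matrix (Fin 6) (Fin 6) K4 := ![fiveMat, monoMat threePerm threeDiag.1]

/-- The witness of a coordinate. -/
def wit (i : ℕ) : ℕ := (witL.getD (i / 128 - 1) []).getD (i % 128) 0

/-- The class of a coordinate. -/
def cls (i : ℕ) : ℕ := wit i / 192

/-- The representative of a class. -/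
def rep (k e : ℕ) : ℕ := 128 * k + if e = 2 then 2 * vrL.getD k 0 else e

/-- A vector moved by a word. -/
def runU (w : List (Fin 2)) (x : ℕ) : ℕ := w.foldl (fun a g => gu g a) x

/-- A coordinate moved by a word. -/
def runK (w : List (Fin 2)) (x : ℕ) : ℕ := w.foldl (fun a g => pik g a) x

theorem vd_piA (x : ℕ) : piA (vd x) := ⟨_, _, _, rfl⟩

theorem vd_add : ∀ x < 64, ∀ y < 64, vd (x ^^^ y) = vd x + vd y := by decide +kernel

theorem vd_surj : ∀ a b c : K4, ∃ x < 64, vd x = a • bA 0 + b • bA 1 + c • bA 2 := by decide +kernel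

theorem vd_inj : ∀ x < 64, vd x = 0 → x = 0 := by decide +kernel

theorem nk_mem : ∀ k < 16, nk k = 0 ∨ nk k ∈ lA := by decide +kernel

theorem nk_zero : ∀ k < 16, nk k = 0 → k = 0 := by decide +kernel

theorem nk_surj : ∀ n, (n = 0 ∨ n ∈ lA) → ∃ k < 16, nk k = n := by decide +kernel

theorem nk_mul : ∀ k < 16, ∀ l < 16, ∀ j, tm (nk (k ^^^ l)) (bv j) = tm (nk k) (tm (nk l) (bv j)) := by
  decide +kernel

theorem bp_units : ∀ x < 64, ∀ y < 64, Bp (K4.v • vd x) (K4.w • vd y) = 0 := by decide +kernel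

theorem shift_ok : ∀ k < 16, ∀ m < 64, shift k m < 128 ∧ shift k m % 2 = kap (nk k) (yv m) ∧
    vd (shift k m / 2) = yv m + tm (nk k) (yv m) := by decide +kernel

theorem bm_ok : ∀ m < 64, ∀ x < 64, par6 (bm m &&& x) = Bp (yv m) (vd x) := by decide +kernel

theorem wm_ok : ∀ x < 64, wm x < 64 ∧ vd (wm x) = K4.w • vd x := by decide +kernel

theorem perp_coord : ∀ a b c e f g : K4, (∀ j : Fin 6, Bp ![a, b, c, e, f, g] (vd (2 ^ (j : ℕ))) = 0) →
    piA ![a, b, c, e, f, g] := by decide +kernel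

theorem gu_ok : ∀ g : Fin 2, ∀ x < 64, gu g x < 64 ∧ gMat g *ᵥ vd x = vd (gu g x) := by decide +kernel

theorem pik_ok : ∀ g : Fin 2, ∀ k < 16, pik g k < 16 ∧
    ∀ j, gMat g *ᵥ tm (nk k) (bv j) = tm (nk (pik g k)) (gMat g *ᵥ bv j) := by decide +kernel

theorem five_prod : fiveMat = wMat 5 * wMat 5 * tauMat * wMat 4 * wMat 7 := by decide +kernel

theorem five_order : fiveMat ^ 5 = 1 ∧ fiveMat ≠ 1 := by decide +kernel

theorem threePerm_sign : Equiv.Perm.sign threePerm = 1 := by decide +kernel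

theorem threePerm_cube : threePerm * threePerm * threePerm = 1 ∧ threePerm ≠ 1 ∧
    threePerm * threePerm ≠ 1 := by decide +kernel

/-- Monomial data keeping the fixed space. -/
def Keeps (π : Equiv.Perm (Fin 6)) (d : V6) : Prop := ∀ i, piA (monoMat π d *ᵥ bA i)

instance (π : Equiv.Perm (Fin 6)) (d : V6) : Decidable (Keeps π d) := by unfold Keeps; infer_instance

theorem keeps_card : ([1, threePerm, threePerm * threePerm].map fun π =>
    (Finset.univ.filter fun d : Dg => Keeps π d.1).card) = [9, 9, 9] := by decide +kernel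

/-- The check of one coordinate against its witness. -/
def witOK (i : ℕ) : Bool :=
  decide (cls i < 3 ∧ sh (wit i % 64) (xi^[wit i / 64 % 3] (rep (i / 128) (cls i))) = i)

theorem wit_ok : ∀ i < 2048, 128 ≤ i → witOK i = true := by decide +kernel

theorem cls_gu : ∀ g : Fin 2, ∀ k < 16, 1 ≤ k → ∀ δ < 2,
    cls (δ + 2 * gu g (vrL.getD k 0) + 128 * pik g k) = 2 := by decide +kernel

theorem cls_zero : ∀ k < 16, 1 ≤ k → cls (128 * k) = 0 ∧ cls (128 * k + 1) = 1 := by decide +kernel

theorem cls_count : ∀ k < 16, 1 ≤ k →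
    ((List.range 128).filter fun j => cls (128 * k + j) = 0).length = 16 ∧
      ((List.range 128).filter fun j => cls (128 * k + j) = 1).length = 16 ∧
      ((List.range 128).filter fun j => cls (128 * k + j) = 2).length = 96 := by decide +kernel

theorem oneL_ok : ∀ x < 64, x ≠ 0 → ((In1 (vd x) ↔ x ∈ oneL) ∧ (In1 (vd x) ∨ In2 (vd x))) := by decide +kernel

theorem wordK_ok : ∀ k < 16, 1 ≤ k → runK (wordK.getD (k - 1) []) 1 = k := by decide +kernel

theorem wordU_ok : ∀ x ∈ oneL, runU (wordU.getD (oneL.idxOf x) []) 1 = x := by decide +kernel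

theorem flip_ok : ∀ x < 64, x ≠ 0 → ∃ m < 64, par6 (bm m &&& x) = 1 := by decide +kernel

theorem oneL_span : ∀ i : ℕ, i < 7 → ∃ x ∈ oneL, ∃ y ∈ oneL, ∃ δ < 2, ∃ δ' < 2,
    (δ + 2 * x) ^^^ (δ' + 2 * y) = 2 ^ i := by decide +kernel

end Cfsg.Agent.LargeFischer.Big
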