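import Cfsg.Agent.Lib.LargeFischer.BigU

/-! Coordinates on the large abelian subgroup. -/

set_option autoImplicit false
set_option maxRecDepth 100000
set_option maxHeartbeats 200000

namespace Cfsg.Agent.LargeFischer.Big

open Cfsg.Agent.RigidGraph.He Cfsg.Agent.U43InU62 Cfsg.Agent.LargeExtra
open Subgroup
open Matrix (mulVec)
open scoped Matrix

attribute [local irreducible] tm elN TT

theorem xor_parts (i j : ℕ) : (i ^^^ j) % 2 = (i % 2) ^^^ (j % 2) ∧ (i ^^^ j) / 2 % 64 = (i / 2 % 64) ^^^ (j / 2 % 64) ∧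
    (i ^^^ j) / 128 = (i / 128) ^^^ (j / 128) := by
  have hd : ∀ n, (i ^^^ j) / 2 ^ n = (i / 2 ^ n) ^^^ (j / 2 ^ n) := fun n => by
    simp only [← Nat.shiftRight_eq_div_pow]
    exact Nat.shiftRight_xor_distrib ..
  refine ⟨Nat.xor_mod_two_pow (n := 1), ?_, hd 7⟩
  have h1 := hd 1
  simp only [pow_one] at h1
  rw [h1]
  exact Nat.xor_mod_two_pow (n := 6)

theorem parts_eq {δ x k : ℕ} (hδ : δ < 2) (hx : x < 64) :
    (δ + 2 * x + 128 * k) % 2 = δ ∧ (δ + 2 * x + 128 * k) / 2 % 64 = x ∧ (δ + 2 * x + 128 * k) / 128 = k := by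
  omega

theorem act_gMat {g : S6} {i : Fin 2} (hg : mat g = gMat i) (v : V6) : act g v = gMat i *ᵥ v := by
  rw [act, hg]

theorem exists_gS (i : Fin 2) : ∃ g : ↥K0, mat g.1 = gMat i := by
  fin_cases i
  · have h : ∀ k, wel k ∈ K0 := fun k => (wgrp_eq.le (wel_mem k)).1
    refine ⟨⟨wel 5 * wel 5 * tau * wel 4 * wel 7,
      mul_mem (mul_mem (mul_mem (mul_mem (h 5) (h 5)) tau_mem) (h 4)) (h 7)⟩, ?_⟩
    show mat (wel 5 * wel 5 * tau * wel 4 * wel 7) = fiveMat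
    rw [five_prod, mat_mul', mat_mul', mat_mul', mat_mul', mat_wel, mat_wel, mat_wel, mat_tau]
  · exact ⟨⟨mel threePerm threeDiag, N0_le_K0 (mem_N0.2 ⟨_, threePerm_sign, _, rfl⟩)⟩, rfl⟩

/-- The chosen elements. -/
noncomputable def gS (i : Fin 2) : ↥K0 := (exists_gS i).choose

theorem mat_gS (i : Fin 2) : mat (gS i).1 = gMat i := (exists_gS i).choose_spec

theorem gS_piA (i : Fin 2) {v : V6} (h : piA v) : piA (act (gS i).1 v) := by
  obtain ⟨a, b, c, rfl⟩ := h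
  obtain ⟨x, hx, e⟩ := vd_surj a b c
  rw [← e, act_gMat (mat_gS i), (gu_ok i x hx).2]
  exact vd_piA _

theorem exists_vd {v : V6} (h : piA v) : ∃ x < 64, vd x = v := by
  obtain ⟨a, b, c, rfl⟩ := h
  exact vd_surj a b c

theorem elN_nk_mem {k : ℕ} (hk : k < 16) : elN (nk k) ∈ A0 := mem_A0.2 ⟨_, nk_mem k hk, rfl⟩

/-- An element of the large subgroup by its coordinate. -/
noncomputable def aK (k : ℕ) : ↥K0 := ⟨elN (nk k), TT_le (elN_mem _)⟩

theorem aK_mul {k l : ℕ} (hk : k < 16) (hl : l < 16) : aK (k ^^^ l) = aK k * aK l :=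
  Subtype.ext (ext_bv fun j => by
    show act (elN (nk (k ^^^ l))) (bv j) = act (elN (nk k) * elN (nk l)) (bv j)
    rw [act_mul, act_elN, act_elN, act_elN, nk_mul k hk l hl j])

theorem aK_pik (i : Fin 2) {k : ℕ} (hk : k < 16) : gS i * aK k = aK (pik i k) * gS i :=
  Subtype.ext (ext_bv fun j => by
    show act ((gS i).1 * elN (nk k)) (bv j) = act (elN (nk (pik i k)) * (gS i).1) (bv j)
    rw [act_mul, act_mul, act_elN, act_elN, act_gMat (mat_gS i), act_gMat (mat_gS i)]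
    exact (pik_ok i k hk).2 j)

theorem aK_eq_one {k : ℕ} (hk : k < 16) (h : aK k = 1) : k = 0 := by
  refine nk_zero k hk (elN_injective ?_)
  rw [elN_zero]
  exact congrArg Subtype.val h

theorem A0_aK {a : ↥K0} (h : a.1 ∈ A0) : ∃ k < 16, aK k = a := by
  obtain ⟨n, hn, e⟩ := mem_A0.1 h
  obtain ⟨k, hk, rfl⟩ := nk_surj n hn
  exact ⟨k, hk, Subtype.ext e.symm⟩

variable {G : Type*} [Group G] [Finite G] {z : G} {Q : Subgroup ↥(centralizer ({z} : Set G))} [Q.Normal]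
  {D : Model z Q}

/-- The canonical lift inside the centraliser. -/
noncomputable def uC (cv : Cover D) (v : V6) : ↥(centralizer ({z} : Set G)) := toC D (uq cv v)

/-- The large abelian subgroup in the centraliser. -/
noncomputable abbrev AA (cv : Cover D) : Subgroup ↥(centralizer ({z} : Set G)) := D.WQ 1 ⊔ cv.BA 1

variable (cv : Cover D)

theorem WQ_one_iff {q : ↥(QG Q)} : toC D q ∈ D.WQ 1 ↔ piA (D.vec q) := by
  have h1 : ∀ v : V6, Model.piR (1 : ↥K0) v ↔ piA v := fun v => by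
    show piA (act (1 : S6)⁻¹ v) ↔ piA v
    rw [inv_one, act_one]
  refine D.mem_WQ.trans ⟨fun ⟨q', e, h⟩ => ?_, fun h => ⟨q, rfl, (h1 _).2 h⟩⟩
  rw [← show q' = q from Subtype.ext e]
  exact (h1 _).1 h

theorem tauc_one (a : ↥K0) : D.tauc 1 a = D.co.tau6 a := by
  show D.co.tau6 (1 * a * 1⁻¹) = _
  rw [one_mul, inv_one, mul_one]

theorem AA_sq : ∀ a ∈ AA cv, a * a = 1 := by
  have hBc : cv.BA 1 ≤ centralizer (cv.BA 1 : Set ↥(centralizer ({z} : Set G))) := fun a ha =>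
    mem_centralizer_iff.2 fun b hb => comm_of_sq (cv.BA_sq 1) hb ha
  have hc := le_centralizer_sup (D.WQ_comm 1) hBc (cv.BA_comm 1)
  let S : Subgroup ↥(centralizer ({z} : Set G)) :=
    { carrier := {a | a ∈ AA cv ∧ a * a = 1}
      one_mem' := ⟨one_mem _, one_mul _⟩
      mul_mem' := fun {a b} ha hb => ⟨mul_mem ha.1 hb.1, by
        rw [mul_assoc, ← mul_assoc b, mem_centralizer_iff.1 (hc ha.1) b hb.1, mul_assoc a b, hb.2, mul_one, ha.2]⟩
      inv_mem' := fun {a} ha => by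
        rw [Set.mem_ofPred_eq, inv_eq_of_mul_eq_one_right ha.2]; exact ha }
  have : AA cv ≤ S := sup_le (fun a ha => ⟨mem_sup_left ha, D.WQ_sq 1 a ha⟩)
    fun a ha => ⟨mem_sup_right ha, cv.BA_sq 1 a ha⟩
  exact fun a ha => (this ha).2

theorem AA_comm {a b : ↥(centralizer ({z} : Set G))} (ha : a ∈ AA cv) (hb : b ∈ AA cv) : a * b = b * a :=
  comm_of_sq (AA_sq cv) ha hb

theorem uC_mem (hc : cv.c = K4.w) {v : V6} (h : piA v) : uC cv v ∈ AA cv :=
  mem_sup_left (WQ_one_iff.2 (by rwa [vec_uq cv hc]))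

theorem zel_mem_AA : zel z ∈ AA cv := mem_sup_left (D.zel_WQ 1)

theorem uC_mul (hc : cv.c = K4.w) {x y : ℕ} (hx : x < 64) (hy : y < 64) :
    uC cv (vd x) * uC cv (vd y) = uC cv (vd (x ^^^ y)) := by
  rw [uC, uC, ← map_mul, uq_mul cv hc, bp_units x hx y hy, pow_zero, mul_one, vd_add x hx y hy]
  rfl

theorem exists_BA {r : ↥(centralizer ({z} : Set G)) ⧸ Q} (hr : r ∈ D.AR 1) :
    ∃ b ∈ cv.BA 1, (QuotientGroup.mk b : _ ⧸ Q) = r := by
  obtain ⟨b, hb, e⟩ := cv.exists_lift (D.AR_le 1 hr)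
  exact ⟨b, ⟨hb, show QuotientGroup.mk' Q b ∈ D.AR 1 by rw [show QuotientGroup.mk' Q b = r from e]; exact hr⟩, e⟩

theorem aK_mem_AR {k : ℕ} (hk : k < 16) : D.co.tau6 (aK k) ∈ D.AR 1 :=
  D.mem_AR.2 ⟨aK k, elN_nk_mem hk, tauc_one _⟩

/-- A choice of lifts of four generators. -/
structure Basis (cv : Cover D) where
  b : Fin 4 → ↥(centralizer ({z} : Set G))
  mem : ∀ j, b j ∈ cv.BA 1
  img : ∀ j : Fin 4, (QuotientGroup.mk (b j) : _ ⧸ Q) = D.co.tau6 (aK (2 ^ (j : ℕ)))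

theorem exists_basis : Nonempty (Basis cv) := by
  have h : ∀ j : Fin 4, ∃ b ∈ cv.BA 1, (QuotientGroup.mk b : _ ⧸ Q) = D.co.tau6 (aK (2 ^ (j : ℕ))) := fun j =>
    exists_BA cv (aK_mem_AR (by revert j; decide))
  choose b hb e using h
  exact ⟨⟨b, hb, e⟩⟩

namespace Basis

variable {cv} (B : Basis cv)

/-- A product of the chosen lifts. -/
noncomputable def bp (k : ℕ) : ↥(centralizer ({z} : Set G)) :=
  (if k.testBit 0 then B.b 0 else 1) * (if k.testBit 1 then B.b 1 else 1) *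
    ((if k.testBit 2 then B.b 2 else 1) * (if k.testBit 3 then B.b 3 else 1))

theorem bp_mem (k : ℕ) : B.bp k ∈ cv.BA 1 := by
  have h : ∀ (j : Fin 4) (t : Bool), (if t then B.b j else 1) ∈ cv.BA 1 := fun j t => by
    cases t
    · exact one_mem _
    · exact B.mem j
  exact mul_mem (mul_mem (h _ _) (h _ _)) (mul_mem (h _ _) (h _ _))

theorem bp_AA (k : ℕ) : B.bp k ∈ AA cv := mem_sup_right (B.bp_mem k)

theorem bp_zero : B.bp 0 = 1 := by simp [bp]

theorem bp_mul (k l : ℕ) : B.bp (k ^^^ l) = B.bp k * B.bp l := by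
  let f : Fin 4 → ℕ → ↥(centralizer ({z} : Set G)) := fun j k => if k.testBit (j : ℕ) then B.b j else 1
  have hm : ∀ j k, f j k ∈ cv.BA 1 := fun j k => by
    simp only [f]; split_ifs
    exacts [B.mem j, one_mem _]
  have hx : ∀ j, f j (k ^^^ l) = f j k * f j l := fun j => by
    simp only [f, Nat.testBit_xor]
    cases k.testBit (j : ℕ) <;> cases l.testBit (j : ℕ) <;> simp [cv.BA_sq 1 _ (B.mem j)]
  have cm : ∀ {a b}, a ∈ cv.BA 1 → b ∈ cv.BA 1 → a * b = b * a := comm_of_sq (cv.BA_sq 1)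
  have h4 : ∀ {a a' b b' : ↥(centralizer ({z} : Set G))}, a' ∈ cv.BA 1 → b ∈ cv.BA 1 →
      a * a' * (b * b') = a * b * (a' * b') := fun {a a' b b'} ha hb => by
    rw [mul_assoc a, ← mul_assoc a', cm ha hb, mul_assoc b, ← mul_assoc a]
  show f 0 _ * f 1 _ * (f 2 _ * f 3 _) = f 0 k * f 1 k * (f 2 k * f 3 k) * (f 0 l * f 1 l * (f 2 l * f 3 l))
  rw [hx, hx, hx, hx, h4 (hm 0 l) (hm 1 k), h4 (hm 2 l) (hm 3 k),
    h4 (mul_mem (hm 0 l) (hm 1 l)) (mul_mem (hm 2 k) (hm 3 k))]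

theorem mk_bp : ∀ k < 16, (QuotientGroup.mk (B.bp k) : _ ⧸ Q) = D.co.tau6 (aK k) := by
  have h0 : aK 0 = 1 := Subtype.ext (by show elN (nk 0) = 1; rw [show nk 0 = 0 from rfl, elN_zero])
  have h : ∀ (j : Fin 4) (t : Bool), (QuotientGroup.mk (if t then B.b j else 1) : _ ⧸ Q) =
      D.co.tau6 (aK (if t then 2 ^ (j : ℕ) else 0)) := fun j t => by
    cases t
    · simp [h0]
    · simpa using B.img j
  intro k hk
  have hlt : ∀ (t : Bool) (j : ℕ), j < 4 → (if t then 2 ^ j else 0) < 16 := by decide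
  have e : k = ((if k.testBit 0 then 2 ^ 0 else 0) ^^^ (if k.testBit 1 then 2 ^ 1 else 0)) ^^^
      ((if k.testBit 2 then 2 ^ 2 else 0) ^^^ (if k.testBit 3 then 2 ^ 3 else 0)) := by
    revert k; decide
  unfold bp
  rw [QuotientGroup.mk_mul, QuotientGroup.mk_mul, QuotientGroup.mk_mul, h 0, h 1, h 2, h 3, ← map_mul, ← map_mul,
    ← map_mul]
  conv_rhs => rw [e]
  have x16 : ∀ {a b : ℕ}, a < 16 → b < 16 → a ^^^ b < 16 := fun ha hb => Nat.xor_lt_two_pow (n := 4) ha hb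
  rw [aK_mul (x16 (hlt _ _ (by norm_num)) (hlt _ _ (by norm_num))) (x16 (hlt _ _ (by norm_num)) (hlt _ _ (by norm_num))),
    aK_mul (hlt _ _ (by norm_num)) (hlt _ _ (by norm_num)), aK_mul (hlt _ _ (by norm_num)) (hlt _ _ (by norm_num))]
  rfl

theorem BA_cases {b : ↥(centralizer ({z} : Set G))} (hb : b ∈ cv.BA 1) :
    ∃ k < 16, b = B.bp k ∨ b = zel z * B.bp k := by
  obtain ⟨a, ha, e⟩ := D.mem_AR.1 hb.2
  obtain ⟨k, hk, rfl⟩ := A0_aK ha
  rw [tauc_one, ← B.mk_bp k hk] at e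
  refine ⟨k, hk, ?_⟩
  rcases cv.inf_Q (mul_mem hb.1 (inv_mem (B.bp_mem k).1)) ((QuotientGroup.eq_one_iff _).1 (by
      rw [QuotientGroup.mk_mul, QuotientGroup.mk_inv, ← show QuotientGroup.mk' Q b = QuotientGroup.mk b from rfl]
      exact mul_inv_eq_one.2 e.symm)) with h | h
  · exact Or.inl (mul_inv_eq_one.1 h)
  · exact Or.inr (mul_inv_eq_iff_eq_mul.1 h)

/-- An element of the subgroup by its coordinate. -/
noncomputable def El (i : ℕ) : ↥(centralizer ({z} : Set G)) :=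
  zel z ^ (i % 2) * uC cv (vd (i / 2 % 64)) * B.bp (i / 128)

theorem El_parts {δ x k : ℕ} (hδ : δ < 2) (hx : x < 64) :
    B.El (δ + 2 * x + 128 * k) = zel z ^ δ * uC cv (vd x) * B.bp k := by
  obtain ⟨a, b, c⟩ := parts_eq (k := k) hδ hx
  rw [El, a, b, c]

variable (hc : cv.c = K4.w)

include hc in
theorem El_mem (i : ℕ) : B.El i ∈ AA cv :=
  mul_mem (mul_mem (pow_mem (zel_mem_AA cv) _) (uC_mem cv hc (vd_piA _))) (B.bp_AA _)

include hc in
theorem El_zero : B.El 0 = 1 := by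
  have h : vd 0 = 0 := by decide +kernel
  simp [El, uC, h, uq_zero cv hc, B.bp_zero]

include hc in
theorem El_xor (i j : ℕ) : B.El (i ^^^ j) = B.El i * B.El j := by
  obtain ⟨h1, h2, h3⟩ := xor_parts i j
  have hz : zel z ^ ((i ^^^ j) % 2) = zel z ^ (i % 2) * zel z ^ (j % 2) := by
    rw [h1]
    rcases Nat.mod_two_eq_zero_or_one i with a | a <;> rcases Nat.mod_two_eq_zero_or_one j with b | b <;>
      simp [a, b, D.zel_sq]
  rw [El, hz, h2, h3, ← uC_mul cv hc (Nat.mod_lt _ (by norm_num)) (Nat.mod_lt _ (by norm_num)), B.bp_mul]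
  unfold El
  set A := zel z ^ (i % 2)
  set A' := zel z ^ (j % 2)
  set U := uC cv (vd (i / 2 % 64))
  set U' := uC cv (vd (j / 2 % 64))
  set P := B.bp (i / 128)
  set P' := B.bp (j / 128)
  have hA' : ∀ w, Commute A' w := fun w => Commute.pow_left (show Commute (zel z) w from (zel_comm w).symm) _
  calc A * A' * (U * U') * (P * P') = A * (A' * U) * U' * (P * P') := by group
    _ = A * U * A' * (U' * P) * P' := by rw [(hA' U).eq]; group
    _ = A * U * (A' * P) * U' * P' := by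
        rw [AA_comm cv (show U' ∈ AA cv from uC_mem cv hc (vd_piA _)) (show P ∈ AA cv from B.bp_AA _)]; group
    _ = A * U * P * (A' * U' * P') := by rw [(hA' P).eq]; group

include hc in
theorem El_surj {a : ↥(centralizer ({z} : Set G))} (ha : a ∈ AA cv) : ∃ i < 2048, B.El i = a := by
  let S : Subgroup ↥(centralizer ({z} : Set G)) := finSub
    { carrier := {a | ∃ i < 2048, B.El i = a}
      one_mem' := ⟨0, by norm_num, B.El_zero hc⟩
      mul_mem' := by
        rintro _ _ ⟨i, hi, rfl⟩ ⟨j, hj, rfl⟩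
        exact ⟨i ^^^ j, Nat.xor_lt_two_pow (n := 11) hi hj, B.El_xor hc i j⟩ }
  refine (sup_le ?_ ?_ : AA cv ≤ S) ha
  · intro a ha'
    obtain ⟨q, rfl⟩ := toC_surj D (D.WQ_le 1 ha')
    obtain ⟨x, hx, e⟩ := exists_vd (WQ_one_iff.1 ha')
    rcases eq_uq cv hc q with h | h
    · refine ⟨0 + 2 * x + 128 * 0, by omega, ?_⟩
      rw [B.El_parts (by norm_num) hx, pow_zero, one_mul, B.bp_zero, mul_one, e, uC, ← h]
    · refine ⟨1 + 2 * x + 128 * 0, by omega, ?_⟩
      rw [B.El_parts (by norm_num) hx, pow_one, B.bp_zero, mul_one, e, uC, ← toC_zq D, ← map_mul, ← zq_comm, ← h]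
  · intro b hb
    obtain ⟨k, hk, h⟩ := B.BA_cases hb
    have h0 : uC cv (vd 0) = 1 := by
      rw [uC, show vd 0 = 0 from by decide +kernel, uq_zero cv hc, map_one]
    rcases h with rfl | rfl
    · exact ⟨0 + 2 * 0 + 128 * k, by omega, by rw [B.El_parts (by norm_num) (by norm_num), h0]; simp⟩
    · exact ⟨1 + 2 * 0 + 128 * k, by omega, by rw [B.El_parts (by norm_num) (by norm_num), h0]; simp⟩

include hc in
theorem El_eq_one {i : ℕ} (hi : i < 2048) (h : B.El i = 1) : i = 0 := by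
  have hk : i / 128 < 16 := by omega
  have hu : (QuotientGroup.mk (zel z ^ (i % 2) * uC cv (vd (i / 2 % 64))) : _ ⧸ Q) = 1 :=
    (QuotientGroup.eq_one_iff _).2 (mul_mem (pow_mem D.zel_mem _) (toC_mem D _))
  have hk0 : i / 128 = 0 := by
    refine aK_eq_one hk (D.co.tau6_injective ?_)
    rw [map_one, ← B.mk_bp _ hk]
    have h' := congrArg (QuotientGroup.mk' Q) h
    rw [El, map_mul, map_one] at h'
    rwa [show QuotientGroup.mk' Q (zel z ^ (i % 2) * uC cv (vd (i / 2 % 64))) = 1 from hu, one_mul] at h'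
  rw [El, hk0, B.bp_zero, mul_one, uC, ← toC_zq D, ← map_pow, ← map_mul, ← map_one (toC D)] at h
  have h2 := congrArg D.vec (toC_injective D h)
  rw [D.vec_mul, vec_zq_pow, zero_add, vec_uq cv hc, D.vec_one] at h2
  have hx := vd_inj _ (Nat.mod_lt _ (by norm_num)) h2
  have h3 := toC_injective D h
  rw [hx, show vd 0 = 0 from by decide +kernel, uq_zero cv hc, mul_one] at h3
  rcases Nat.mod_two_eq_zero_or_one i with a | a
  · omega
  · rw [a, pow_one] at h3
    exact absurd (congrArg Subtype.val h3 :) D.ctx.xs.ne_one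

include hc in
theorem El_inj {i j : ℕ} (hi : i < 2048) (hj : j < 2048) (h : B.El i = B.El j) : i = j := by
  have h1 : B.El (i ^^^ j) = 1 := by rw [B.El_xor hc, h, AA_sq cv _ (B.El_mem hc j)]
  exact Nat.xor_eq_zero_iff.1 (B.El_eq_one hc (Nat.xor_lt_two_pow (n := 11) hi hj) h1)

include B hc in
theorem card_AA : Nat.card ↥(AA cv) = 2048 := by
  refine (Nat.card_congr (Equiv.ofBijective (fun i : Fin 2048 => (⟨B.El i, B.El_mem hc i⟩ : ↥(AA cv)))
    ⟨fun i j e => Fin.ext (B.El_inj hc i.2 j.2 (congrArg Subtype.val e :)), fun a => ?_⟩)).symm.trans (Nat.card_fin _)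
  obtain ⟨i, hi, e⟩ := B.El_surj hc a.2
  exact ⟨⟨i, hi⟩, Subtype.ext e⟩

include hc in
theorem sh_spec {m i : ℕ} (hm : m < 64) (hi : i < 2048) :
    uC cv (yv m) * B.El i * (uC cv (yv m))⁻¹ = B.El (sh m i) := by
  set y := yv m with hy
  set x := i / 2 % 64 with hx
  set k := i / 128 with hk
  have hk16 : k < 16 := by omega
  have hx64 : x < 64 := Nat.mod_lt _ (by norm_num)
  obtain ⟨s1, s2, s3⟩ := shift_ok k hk16 m hm
  have hb := bm_ok m hm x hx64
  -- the commutator with the vector part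
  have hU : uq cv y * uq cv (vd x) * (uq cv y)⁻¹ = uq cv (vd x) * zq D ^ par6 (bm m &&& x) := by
    rw [mul_inv_eq_iff_eq_mul, swap_mul D (uq cv (vd x)) (uq cv y), vec_uq cv hc, vec_uq cv hc, hb,
      show Bp (vd x) (yv m) = Bp y (vd x) by rw [hy, Bp, Bp, add_comm (vd x), add_right_comm (wt _)]]
    rw [mul_assoc (uq cv (vd x)), mul_assoc (uq cv (vd x)),
      ((show Commute (uq cv y) (zq D) from zq_comm D _).pow_right _).eq]
  -- the commutator with the outer part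
  have hr : ∀ v, D.co.r6 (QuotientGroup.mk (B.bp k)) v = act (elN (nk k)) v := fun v => by
    rw [B.mk_bp k hk16, D.co.tau6_spec]
    rfl
  have hP : uC cv y * B.bp k * (uC cv y)⁻¹ = toC D (uq cv (y + tm (nk k) y) * zq D ^ kap (nk k) y) * B.bp k := by
    have e1 : B.bp k * (uC cv y)⁻¹ * (B.bp k)⁻¹ = toC D (uq cv (tm (nk k) y) * zq D ^ wt (tm (nk k) y)) := by
      rw [← uq_inv cv hc, uC, ← map_inv, toC_conj, map_inv, conj_uq cv hc (cv.mem_L.1 (B.bp_mem k).1)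
        (fun d v => by rw [hr, hr, act_smul]), hr, act_elN]
    have e2 : wt (tm (nk k) y) % 2 = wt y % 2 := by rw [← act_elN]; exact even_act_iff _ _
    calc uC cv y * B.bp k * (uC cv y)⁻¹ = uC cv y * (B.bp k * (uC cv y)⁻¹ * (B.bp k)⁻¹) * B.bp k := by group
      _ = _ := by
          rw [e1, uC, ← map_mul, ← mul_assoc, uq_mul cv hc, mul_assoc (uq cv _), ← pow_add]
          congr 3
          rw [← zq_pow_mod, kap, Nat.add_mod, e2, ← Nat.add_mod, add_comm]
  have hsh : B.El (shift k m) = toC D (uq cv (y + tm (nk k) y) * zq D ^ kap (nk k) y) := by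
    rw [El, Nat.div_eq_of_lt s1, B.bp_zero, mul_one, Nat.mod_eq_of_lt (show shift k m / 2 < 64 by omega), s3, ← hy,
      s2, uC, ← toC_zq D, ← map_pow, ← map_mul, ← hy,
      ((show Commute (uq cv (y + tm (nk k) y)) (zq D) from zq_comm D _).pow_right _).eq]
  have hpar : B.El (par6 (bm m &&& x)) = toC D (zq D ^ par6 (bm m &&& x)) := by
    have hl : par6 (bm m &&& x) < 2 := Nat.mod_lt _ (by norm_num)
    rw [El, Nat.mod_eq_of_lt hl, show par6 (bm m &&& x) / 2 % 64 = 0 by omega,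
      show par6 (bm m &&& x) / 128 = 0 by omega, B.bp_zero, mul_one, show vd 0 = 0 from by decide +kernel, uC,
      uq_zero cv hc, map_one, mul_one, map_pow, toC_zq]
  have hzc : ∀ (n : ℕ) w, Commute (zel z ^ n) w := fun n w =>
    Commute.pow_left (show Commute (zel z) w from (zel_comm w).symm) n
  have m1 : toC D (uq cv (vd x)) ∈ AA cv := uC_mem cv hc (vd_piA x)
  have hP2 : uC cv y * B.bp k * (uC cv y)⁻¹ = B.El (shift k m) * B.bp k := by rw [hsh]; exact hP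
  have hU2 : uC cv y * uC cv (vd x) * (uC cv y)⁻¹ = uC cv (vd x) * B.El (par6 (bm m &&& x)) := by
    rw [hpar, uC, uC, ← map_inv, ← map_mul, ← map_mul, hU, map_mul]
  rw [sh, ← hk, ← hx, B.El_xor hc, B.El_xor hc]
  set S := B.El (shift k m)
  set R := B.El (par6 (bm m &&& x))
  set Z := zel z ^ (i % 2)
  set U := uC cv (vd x)
  have hS : S ∈ AA cv := B.El_mem hc _
  have hR : R ∈ AA cv := B.El_mem hc _
  have hUm : U ∈ AA cv := m1
  rw [show B.El i = Z * U * B.bp k from rfl]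
  calc uC cv y * (Z * U * B.bp k) * (uC cv y)⁻¹
      = (uC cv y * Z) * U * B.bp k * (uC cv y)⁻¹ := by group
    _ = Z * (uC cv y * U * (uC cv y)⁻¹) * (uC cv y * B.bp k * (uC cv y)⁻¹) := by
        rw [show uC cv y * Z = Z * uC cv y from ((hzc _ _).eq).symm]; group
    _ = Z * (U * (R * S * B.bp k)) := by rw [hU2, hP2]; group
    _ = Z * (U * (B.bp k * (S * R))) := by
        rw [AA_comm cv hR hS, AA_comm cv (mul_mem hS hR) (B.bp_AA k)]
    _ = _ := by group

include hc in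
theorem xi_spec {i : ℕ} : cv.x * B.El i * cv.x⁻¹ = B.El (xi i) := by
  obtain ⟨h1, h2⟩ := wm_ok (i / 2 % 64) (Nat.mod_lt _ (by norm_num))
  rw [xi, B.El_parts (Nat.mod_lt _ (by norm_num)) h1, h2]
  have hu : cv.x * uC cv (vd (i / 2 % 64)) * cv.x⁻¹ = uC cv (K4.w • vd (i / 2 % 64)) := by
    rw [uC, toC_conj, conj_uq cv hc rfl (fun d v => by rw [cv.hsc, cv.hsc, smul_comm]), cv.hsc, hc]
    rfl
  have hb : B.bp (i / 128) * cv.x⁻¹ = cv.x⁻¹ * B.bp (i / 128) :=
    (Commute.inv_right (show Commute (B.bp (i / 128)) cv.x from cv.mem_L.1 (B.bp_mem _).1)).eq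
  rw [El, mul_assoc, mul_assoc _ (B.bp _), hb, ← hu,
    (Commute.pow_left (show Commute (zel z) (cv.x * uC cv (vd (i / 2 % 64)) * cv.x⁻¹) from (zel_comm _).symm) _).eq]
  rw [show cv.x * (zel z ^ (i % 2) * uC cv (vd (i / 2 % 64)) * (cv.x⁻¹ * B.bp (i / 128))) =
    cv.x * zel z ^ (i % 2) * (uC cv (vd (i / 2 % 64)) * cv.x⁻¹) * B.bp (i / 128) by group]
  rw [← (Commute.pow_left (show Commute (zel z) cv.x from (zel_comm _).symm) _).eq,
    ← (Commute.pow_left (show Commute (zel z) (cv.x * uC cv (vd (i / 2 % 64)) * cv.x⁻¹) from (zel_comm _).symm) _).eq]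
  group

include hc in
/-- Lifts of the two elements permute the coordinates. -/
theorem exists_lift_spec (j : Fin 2) : ∃ l ∈ cv.L, (QuotientGroup.mk l : _ ⧸ Q) = D.co.tau6 (gS j) ∧
    ∃ η : ℕ → ℕ, ∀ k < 16, η k < 2 ∧ ∀ δ < 2, ∀ x < 64,
      l * B.El (δ + 2 * x + 128 * k) * l⁻¹ = B.El (((δ + η k) % 2) + 2 * gu j x + 128 * pik j k) := by
  obtain ⟨l, hl, e⟩ := cv.exists_lift (D.co.tau6_mem (gS j))
  refine ⟨l, hl, e, ?_⟩
  have hk : ∀ k < 16, ∃ η < 2, l * B.bp k * l⁻¹ = zel z ^ η * B.bp (pik j k) := fun k hk => by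
    have hp := (pik_ok j k hk).1
    have hmk : (QuotientGroup.mk (l * B.bp k * l⁻¹) : _ ⧸ Q) = QuotientGroup.mk (B.bp (pik j k)) := by
      rw [QuotientGroup.mk_mul, QuotientGroup.mk_mul, QuotientGroup.mk_inv, e, B.mk_bp k hk, B.mk_bp _ hp,
        ← map_inv, ← map_mul, ← map_mul, aK_pik j hk, mul_inv_cancel_right]
    rcases cv.inf_Q (mul_mem (mul_mem (mul_mem hl (B.bp_mem k).1) (inv_mem hl)) (inv_mem (B.bp_mem (pik j k)).1))
        ((QuotientGroup.eq_one_iff _).1 (by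
          rw [QuotientGroup.mk_mul, hmk, QuotientGroup.mk_inv, mul_inv_cancel])) with h | h
    · exact ⟨0, by norm_num, by rw [pow_zero, one_mul]; exact mul_inv_eq_one.1 h⟩
    · exact ⟨1, by norm_num, by rw [pow_one]; exact mul_inv_eq_iff_eq_mul.1 h⟩
  choose η hη heta using hk
  refine ⟨fun k => if h : k < 16 then η k h else 0, fun k hk => ⟨by simp [hk, hη], fun δ hδ x hx => ?_⟩⟩
  obtain ⟨g1, g2⟩ := gu_ok j x hx
  simp only [hk, dif_pos]
  rw [B.El_parts hδ hx, B.El_parts (Nat.mod_lt _ (by norm_num)) g1]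
  have hu : l * uC cv (vd x) * l⁻¹ = uC cv (vd (gu j x)) := by
    rw [uC, toC_conj, conj_uq cv hc (cv.mem_L.1 hl) (fun d v => by rw [e, D.co.tau6_spec, D.co.tau6_spec, act_smul]),
      e, D.co.tau6_spec, act_gMat (mat_gS j), g2]
    rfl
  have hzc : ∀ (n : ℕ) w, Commute (zel z ^ n) w := fun n w =>
    Commute.pow_left (show Commute (zel z) w from (zel_comm w).symm) n
  have hz : zel z ^ ((δ + η k hk) % 2) = zel z ^ δ * zel z ^ η k hk := by
    rw [← pow_add]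
    conv_rhs => rw [← Nat.div_add_mod (δ + η k hk) 2, pow_add, pow_mul, pow_two, D.zel_sq, one_pow, one_mul]
  rw [hz, ← hu]
  calc l * (zel z ^ δ * uC cv (vd x) * B.bp k) * l⁻¹
      = (l * zel z ^ δ) * uC cv (vd x) * B.bp k * l⁻¹ := by group
    _ = zel z ^ δ * (l * uC cv (vd x) * l⁻¹) * (l * B.bp k * l⁻¹) := by rw [← (hzc δ l).eq]; group
    _ = zel z ^ δ * ((l * uC cv (vd x) * l⁻¹) * zel z ^ η k hk) * B.bp (pik j k) := by rw [heta k hk]; group
    _ = _ := by rw [← (hzc (η k hk) (l * uC cv (vd x) * l⁻¹)).eq]; group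

end Basis

end Cfsg.Agent.LargeFischer.Big
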