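import Cfsg.Agent.Lib.LargeFischer.BigStab
import Cfsg.Agent.Lib.LargeFischer.BigCount
import Mathlib.GroupTheory.GroupAction.ConjAct

/-! The classes of the elements of the large abelian subgroup. -/

set_option autoImplicit false
set_option maxRecDepth 100000
set_option maxHeartbeats 200000

namespace Cfsg.Agent.LargeFischer.Big

open Cfsg.Agent.RigidGraph.He Cfsg.Agent.U43InU62 Cfsg.Agent.LargeExtra
open Subgroup
open scoped Matrix

attribute [local irreducible] tm elN TT

theorem conj_iff {G : Type*} [Group G] {z a : G} (x : G) : IsConj z (x * a * x⁻¹) ↔ IsConj z a :=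
  ⟨fun h => h.trans (isConj_iff.2 ⟨x⁻¹, by group⟩), fun h => h.trans (isConj_iff.2 ⟨x, rfl⟩)⟩

theorem xi_lt {i : ℕ} (hi : i < 2048) : xi i < 2048 := by
  have := (wm_ok (i / 2 % 64) (Nat.mod_lt _ (by norm_num))).1
  unfold xi
  omega

theorem nat_bool_sum : ∀ a b : Bool, a.toNat + b.toNat ≤ 2 := by decide

variable {G : Type*} [Group G] [Finite G] {z : G} {Q : Subgroup ↥(centralizer ({z} : Set G))} [Q.Normal]
  {D : Model z Q} {cv : Cover D}

namespace Basis

variable (B : Basis cv)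

/-- An element of the subgroup in the group. -/
noncomputable def eg (i : ℕ) : G := (B.El i).1

/-- Whether an element is conjugate to the central involution. -/
noncomputable def fb (i : ℕ) : Bool := @decide (IsConj z (B.eg i)) (Classical.propDecidable _)

theorem fb_iff {i : ℕ} : B.fb i = true ↔ IsConj z (B.eg i) := by
  unfold fb
  exact @decide_eq_true_iff _ (Classical.propDecidable _)

theorem fb_congr {i j : ℕ} (c : ↥(centralizer ({z} : Set G))) (h : c * B.El i * c⁻¹ = B.El j) : B.fb j = B.fb i := by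
  rw [Bool.eq_iff_iff, fb_iff, fb_iff, eg, eg, ← h]
  exact conj_iff c.1

variable (hc : cv.c = K4.w)

include hc in
theorem eg_mem (i : ℕ) : B.eg i ∈ AG cv := ⟨B.El i, B.El_mem hc i, rfl⟩

include hc in
theorem eg_surj {a : G} (ha : a ∈ AG cv) : ∃ i < 2048, B.eg i = a := by
  obtain ⟨a', ha', rfl⟩ := ha
  obtain ⟨i, hi, rfl⟩ := B.El_surj hc ha'
  exact ⟨i, hi, rfl⟩

include hc in
theorem eg_inj {i j : ℕ} (hi : i < 2048) (hj : j < 2048) (h : B.eg i = B.eg j) : i = j :=
  B.El_inj hc hi hj (Subtype.ext h)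

include hc in
theorem eg_xor (i j : ℕ) : B.eg (i ^^^ j) = B.eg i * B.eg j := congrArg Subtype.val (B.El_xor hc i j)

include hc in
theorem eg_zero : B.eg 0 = 1 := congrArg Subtype.val (B.El_zero hc)

include hc in
theorem eg_one : B.eg 1 = z := by
  have h := B.El_parts (δ := 1) (x := 0) (k := 0) (by norm_num) (by norm_num)
  rw [show vd 0 = 0 from by decide +kernel, uC, uq_zero cv hc, map_one, B.bp_zero, pow_one, mul_one, mul_one] at h
  exact congrArg Subtype.val h

include hc in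
theorem fb_zero : B.fb 0 = false := by
  rw [Bool.eq_false_iff, ne_eq, fb_iff, B.eg_zero hc]
  intro h
  exact D.ctx.xs.ne_one (isConj_one_left.1 h)

include hc in
theorem fb_xi (i : ℕ) : B.fb (xi i) = B.fb i := B.fb_congr cv.x (B.xi_spec hc)

include hc in
theorem fb_sh {m i : ℕ} (hm : m < 64) (hi : i < 2048) : B.fb (sh m i) = B.fb i :=
  B.fb_congr (uC cv (yv m)) (B.sh_spec hc hm hi)

include hc in
theorem fb_base (hF : Cfsg.IsOfLargeFischerTypeAt z Q) {i : ℕ} (hi : i < 128) : B.fb i = base i := by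
  by_cases h0 : i = 0
  · rw [h0, B.fb_zero hc]; rfl
  set x := i / 2 % 64 with hx
  have hxl : x < 64 := Nat.mod_lt _ (by norm_num)
  rw [Bool.eq_iff_iff, fb_iff, base, decide_eq_true_iff]
  by_cases hx0 : x = 0
  · have h1 : i = 1 := by omega
    rw [h1, B.eg_one hc]
    simp only [IsConj.refl, true_iff]
    decide
  let q : ↥(QG Q) := zq D ^ (i % 2) * uq cv (vd x)
  have hq : (q : G) = B.eg i := by
    show _ = (zel z ^ (i % 2) * uC cv (vd x) * B.bp (i / 128)).1
    rw [Nat.div_eq_of_lt hi, B.bp_zero, mul_one, ← toC_zq D, uC, ← map_pow, ← map_mul]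
    rfl
  have hvec : D.vec q = vd x := by rw [D.vec_mul, vec_zq_pow, zero_add, vec_uq cv hc]
  have hv0 : vd x ≠ 0 := fun e => hx0 (vd_inj x hxl e)
  have hq1 : (q : G) ≠ 1 := fun e => hv0 (hvec.symm.trans (D.vec_eq_zero.2 (Or.inl e)))
  have hqz : (q : G) ≠ z := fun e => hv0 (hvec.symm.trans (D.vec_eq_zero.2 (Or.inr e)))
  obtain ⟨ho, hin⟩ := oneL_ok x hxl hx0
  rw [← hq]
  constructor
  · intro hcj
    obtain ⟨g, hg⟩ := isConj_iff.1 hcj
    refine ⟨h0, fun hm => in_disjoint (ho.2 hm) (hvec ▸ D.long hg hqz)⟩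
  · rintro ⟨-, hm⟩
    have h2 : In2 (vd x) := hin.resolve_left fun h => hm (ho.1 h)
    obtain ⟨g, s, hg, hs⟩ := exists_conjugate hF
    obtain ⟨c, hcc⟩ := D.exists_r6_in2 (D.long hg hs) (hvec.symm ▸ h2 : In2 (D.vec q))
    obtain ⟨d, hd⟩ := D.conj_of_r6 hcc hq1 hqz
    exact isConj_iff.2 ⟨d.1 * g, by rw [← hd, ← hg]; group⟩

include hc in
theorem fb_cls {i : ℕ} (hi : i < 2048) (h : 128 ≤ i) : B.fb i = B.fb (rep (i / 128) (cls i)) := by
  have hw := wit_ok i hi h
  unfold witOK at hw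
  rw [decide_eq_true_iff] at hw
  have hk : i / 128 < 16 := by omega
  have hrep : rep (i / 128) (cls i) < 2048 := by
    have hv := vrL_lt _ hk
    have := hw.1
    unfold rep
    split_ifs <;> omega
  have hxi : ∀ (n j : ℕ), j < 2048 → xi^[n] j < 2048 ∧ B.fb (xi^[n] j) = B.fb j := by
    intro n
    induction n with
    | zero => exact fun j hj => ⟨hj, rfl⟩
    | succ n ih =>
      intro j hj
      rw [Function.iterate_succ_apply']
      obtain ⟨h1, h2⟩ := ih j hj
      exact ⟨xi_lt h1, (B.fb_xi hc _).trans h2⟩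
  obtain ⟨h1, h2⟩ := hxi (wit i / 64 % 3) _ hrep
  conv_lhs => rw [← hw.2]
  rw [B.fb_sh hc (Nat.mod_lt _ (by norm_num)) h1, h2]

include hc in
theorem fb_pick {k j : ℕ} (hk : k < 16) (hk1 : 1 ≤ k) (hj : j < 128) : B.fb (128 * k + j) =
    pick (B.fb (128 * k)) (B.fb (128 * k + 1)) (B.fb (rep k 2)) (cls (128 * k + j)) := by
  rw [B.fb_cls hc (by omega) (by omega), show (128 * k + j) / 128 = k by omega]
  have h3 := wit_ok (128 * k + j) (by omega) (by omega)
  unfold witOK at h3
  rw [decide_eq_true_iff] at h3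
  have := h3.1
  rcases (show cls (128 * k + j) = 0 ∨ cls (128 * k + j) = 1 ∨ cls (128 * k + j) = 2 by omega) with e | e | e <;>
    rw [e] <;> rfl

include hc in
theorem fb_move (g : Fin 2) {k : ℕ} (hk : k < 16) (hk1 : 1 ≤ k) :
    (B.fb (rep k 2) = B.fb (rep (pik g k) 2)) ∧
      (B.fb (128 * k)).toNat + (B.fb (128 * k + 1)).toNat =
        (B.fb (128 * pik g k)).toNat + (B.fb (128 * pik g k + 1)).toNat := by
  obtain ⟨l, -, -, η, hη⟩ := B.exists_lift_spec hc g
  obtain ⟨he, hspec⟩ := hη k hk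
  have hp := (pik_ok g k hk).1
  have hp1 := pik_pos g k hk hk1
  have key : ∀ δ < 2, ∀ x < 64,
      B.fb (((δ + η k) % 2) + 2 * gu g x + 128 * pik g k) = B.fb (δ + 2 * x + 128 * k) := fun δ hδ x hx =>
    B.fb_congr l (hspec δ hδ x hx)
  constructor
  · have h := key 0 (by norm_num) _ (vrL_lt k hk)
    rw [show rep k 2 = 0 + 2 * vrL.getD k 0 + 128 * k by simp [rep]; omega, ← h]
    have hcl := cls_gu g k hk hk1 ((0 + η k) % 2) (Nat.mod_lt _ (by norm_num))
    have hg := (gu_ok g _ (vrL_lt k hk)).1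
    rw [B.fb_cls hc (by omega) (by omega), hcl, show (((0 + η k) % 2) + 2 * gu g (vrL.getD k 0) + 128 * pik g k) / 128 = pik g k by omega]
  · have h0 := key 0 (by norm_num) 0 (by norm_num)
    have h1 := key 1 (by norm_num) 0 (by norm_num)
    rw [gu_zero] at h0 h1
    rcases (show η k = 0 ∨ η k = 1 by omega) with e | e <;> rw [e] at h0 h1 <;>
      simp only [zero_add, mul_zero, add_zero, Nat.zero_mod, show 1 % 2 = 1 from rfl, show (1 + 1) % 2 = 0 from rfl,
        Nat.add_comm 1 (128 * _)] at h0 h1 <;> rw [h0, h1]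
    exact Nat.add_comm _ _

include hc in
theorem fb_const {k : ℕ} (hk : k < 16) (hk1 : 1 ≤ k) :
    B.fb (rep k 2) = B.fb (rep 1 2) ∧
      (B.fb (128 * k)).toNat + (B.fb (128 * k + 1)).toNat = (B.fb 128).toNat + (B.fb 129).toNat := by
  have key : ∀ w : List (Fin 2), ∀ j, j < 16 → 1 ≤ j →
      B.fb (rep (runK w j) 2) = B.fb (rep j 2) ∧
        (B.fb (128 * runK w j)).toNat + (B.fb (128 * runK w j + 1)).toNat =
          (B.fb (128 * j)).toNat + (B.fb (128 * j + 1)).toNat := by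
    intro w
    induction w with
    | nil => exact fun j _ _ => ⟨rfl, rfl⟩
    | cons g w ih =>
      intro j hj hj1
      obtain ⟨a, b⟩ := B.fb_move hc g hj hj1
      obtain ⟨a', b'⟩ := ih (pik g j) (pik_ok g j hj).1 (pik_pos g j hj hj1)
      exact ⟨a'.trans a.symm, b'.trans b.symm⟩
  have h := key (wordK.getD (k - 1) []) 1 (by norm_num) (le_refl _)
  rwa [wordK_ok k hk hk1] at h

include hc in
/-- The conjugates in the subgroup are counted by three parameters. -/
theorem count (hF : Cfsg.IsOfLargeFischerTypeAt z Q) : (∑ i ∈ Finset.range 2048, (B.fb i).toNat) =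
    91 + 15 * (96 * (B.fb (rep 1 2)).toNat + 16 * ((B.fb 128).toNat + (B.fb 129).toNat)) := by
  have hsplit : ∀ (f : ℕ → ℕ) (n : ℕ), (∑ i ∈ Finset.range (128 * n), f i) =
      ∑ k ∈ Finset.range n, ∑ j ∈ Finset.range 128, f (128 * k + j) := by
    intro f n
    induction n with
    | zero => simp
    | succ n ih => rw [Finset.sum_range_succ _ n, ← ih, Nat.mul_succ, Finset.sum_range_add]
  rw [show (2048 : ℕ) = 128 * 16 from rfl, hsplit, Finset.sum_range_succ']
  have h0 : (∑ j ∈ Finset.range 128, (B.fb (128 * 0 + j)).toNat) = 91 := by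
    rw [← base_count]
    exact Finset.sum_congr rfl fun j hj => by rw [mul_zero, zero_add, B.fb_base hc hF (Finset.mem_range.1 hj)]
  have hk : ∀ k ∈ Finset.range 15, (∑ j ∈ Finset.range 128, (B.fb (128 * (k + 1) + j)).toNat) =
      96 * (B.fb (rep 1 2)).toNat + 16 * ((B.fb 128).toNat + (B.fb 129).toNat) := fun k hk => by
    have hk' : k + 1 < 16 := by have := Finset.mem_range.1 hk; omega
    obtain ⟨a, b⟩ := B.fb_const hc hk' (by omega)
    rw [Finset.sum_congr rfl fun j hj => by rw [B.fb_pick hc hk' (by omega) (Finset.mem_range.1 hj)],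
      pick_count _ hk' (by omega), ← a]
    omega
  rw [h0, Finset.sum_congr rfl hk, Finset.sum_const, Finset.card_range, smul_eq_mul]
  omega

include hc in
theorem count_eq_card : (∑ i ∈ Finset.range 2048, (B.fb i).toNat) = Nat.card {a : G // a ∈ AG cv ∧ IsConj z a} := by
  classical
  have h1 : (∑ i ∈ Finset.range 2048, (B.fb i).toNat) = ((Finset.range 2048).filter fun i => B.fb i = true).card := by
    rw [Finset.card_filter]
    exact Finset.sum_congr rfl fun i _ => by cases B.fb i <;> rfl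
  rw [h1, ← Fintype.card_coe, ← Nat.card_eq_fintype_card]
  refine Nat.card_congr (Equiv.ofBijective
    (fun i => ⟨B.eg i.1, B.eg_mem hc _, B.fb_iff.1 (Finset.mem_filter.1 i.2).2⟩) ⟨fun i j e => ?_, ?_⟩)
  · exact Subtype.ext (B.eg_inj hc (Finset.mem_range.1 (Finset.mem_filter.1 i.2).1)
      (Finset.mem_range.1 (Finset.mem_filter.1 j.2).1) (congrArg Subtype.val e :))
  · rintro ⟨a, ha, hza⟩
    obtain ⟨i, hi, rfl⟩ := B.eg_surj hc ha
    exact ⟨⟨i, Finset.mem_filter.2 ⟨Finset.mem_range.2 hi, B.fb_iff.2 hza⟩⟩, rfl⟩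

end Basis

variable (cv) (hc : cv.c = K4.w)

/-- The normaliser of the large subgroup. -/
noncomputable abbrev MG : Subgroup G := normalizer (AG cv : Set G)

theorem conj_mem_AG {m a : G} (hm : m ∈ MG cv) (ha : a ∈ AG cv) : m * a * m⁻¹ ∈ AG cv :=
  (Subgroup.mem_normalizer_iff.1 hm a).1 ha

include hc in
/-- The orbit of the central involution under the normaliser. -/
theorem card_orbit (hF : Cfsg.IsOfLargeFischerTypeAt z Q) :
    Nat.card {a : G // a ∈ AG cv ∧ IsConj z a} * Nat.card ↥(MG cv ⊓ centralizer ({z} : Set G)) = Nat.card ↥(MG cv) := by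
  classical
  let φ : ↥(MG cv) → {a : G // a ∈ AG cv ∧ IsConj z a} := fun m =>
    ⟨m.1 * z * m.1⁻¹, conj_mem_AG cv m.2 (z_mem_AG cv), isConj_iff.2 ⟨m.1, rfl⟩⟩
  have hφ : Function.Surjective φ := by
    rintro ⟨a, ha, hza⟩
    obtain ⟨g, hg⟩ := isConj_iff.1 hza
    obtain ⟨m, hm, e⟩ := fusion cv hc hF (z_mem_AG cv) (hg.symm ▸ ha : g * z * g⁻¹ ∈ AG cv)
    exact ⟨⟨m, hm⟩, Subtype.ext (e.trans hg)⟩
  let st := (MG cv ⊓ centralizer ({z} : Set G)).subgroupOf (MG cv)
  have key : ∀ a b : ↥(MG cv), φ a = φ b ↔ a⁻¹ * b ∈ st := fun a b => by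
    rw [mem_subgroupOf, Subgroup.mem_inf, mem_centralizer_one, Subtype.ext_iff]
    show a.1 * z * a.1⁻¹ = b.1 * z * b.1⁻¹ ↔ (a.1⁻¹ * b.1 ∈ MG cv ∧ a.1⁻¹ * b.1 * z = z * (a.1⁻¹ * b.1))
    constructor
    · intro h
      refine ⟨mul_mem (inv_mem a.2) b.2, ?_⟩
      calc a.1⁻¹ * b.1 * z = a.1⁻¹ * (b.1 * z * b.1⁻¹) * b.1 := by group
        _ = _ := by rw [← h]; group
    · rintro ⟨-, h⟩
      calc a.1 * z * a.1⁻¹ = a.1 * (z * (a.1⁻¹ * b.1)) * b.1⁻¹ := by group
        _ = _ := by rw [← h]; group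
  let e : ↥(MG cv) ⧸ st ≃ {a : G // a ∈ AG cv ∧ IsConj z a} := Equiv.ofBijective
    (fun x => Quotient.liftOn' x φ fun a b h => (key a b).2 (QuotientGroup.leftRel_apply.1 h))
    ⟨fun x y => Quotient.inductionOn₂' x y fun a b h => Quotient.sound' (QuotientGroup.leftRel_apply.2 ((key a b).1 h)),
      fun a => ⟨QuotientGroup.mk (hφ a).choose, (hφ a).choose_spec⟩⟩
  rw [← Nat.card_congr e, ← Nat.card_congr (subgroupOfEquivOfLe (inf_le_left : MG cv ⊓ _ ≤ MG cv)).toEquiv]
  exact (Subgroup.card_eq_card_quotient_mul_card_subgroup st).symm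

include hc in
/-- No prime without small residues divides the number of conjugates. -/
theorem no_prime (hF : Cfsg.IsOfLargeFischerTypeAt z Q) {p : ℕ} (hp : p ∈ [13, 331, 571, 1531, 2011]) :
    ¬ p ∣ Nat.card {a : G // a ∈ AG cv ∧ IsConj z a} := by
  intro hd
  have hp' : p.Prime := by
    simp only [List.mem_cons, List.not_mem_nil, or_false] at hp
    rcases hp with rfl | rfl | rfl | rfl | rfl <;> norm_num
  haveI := Fact.mk hp'
  obtain ⟨x, hx⟩ := exists_prime_orderOf_dvd_card' p ((hd.mul_right _).trans (card_orbit cv hc hF).dvd)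
  let P := zpowers x
  let _ : MulAction ↥P ↥(AG cv) :=
    MulAction.compHom _ (((AG cv).normalizerMonoidHom).comp P.subtype)
  have hP : IsPGroup p ↥P := IsPGroup.of_card (n := 1) (by rw [Nat.card_zpowers, hx, pow_one])
  have hmod := hP.card_modEq_card_fixedPoints ↥(AG cv)
  let F := AG cv ⊓ centralizer ({x.1} : Set G)
  have hfix : Nat.card ↥(MulAction.fixedPoints ↥P ↥(AG cv)) = Nat.card ↥F := by
    refine Nat.card_congr
      { toFun := fun a => ⟨a.1.1, a.1.2, mem_centralizer_one.2 ?_⟩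
        invFun := fun a => ⟨⟨a.1, a.2.1⟩, fun q => ?_⟩
        left_inv := fun _ => rfl
        right_inv := fun _ => rfl }
    · have := congrArg Subtype.val (a.2 ⟨x, mem_zpowers x⟩)
      exact (mul_inv_eq_iff_eq_mul.1 (show x.1 * a.1.1 * x.1⁻¹ = a.1.1 from this)).symm
    · obtain ⟨n, hn⟩ := mem_zpowers_iff.1 q.2
      refine Subtype.ext ?_
      show q.1.1 * a.1 * q.1.1⁻¹ = a.1
      rw [← hn, SubgroupClass.coe_zpow, mul_inv_eq_iff_eq_mul]
      exact (Commute.zpow_left (show Commute x.1 a.1 from (mem_centralizer_one.1 a.2.2).symm) n).eq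
  rw [card_AG cv hc, hfix] at hmod
  haveI : Fact (Nat.Prime 2) := ⟨Nat.prime_two⟩
  have hA2 : IsPGroup 2 ↥(AG cv) := IsPGroup.of_card (n := 11) (by rw [card_AG cv hc]; norm_num)
  obtain ⟨j, hj⟩ := IsPGroup.iff_card.1 (hA2.to_le (inf_le_left : F ≤ AG cv))
  have hle : Nat.card ↥F ≤ 2048 := card_AG cv hc ▸ Subgroup.card_le_of_le (inf_le_left : F ≤ AG cv)
  by_cases hjj : j < 11
  · exact fix_residues p hp j hjj (hj ▸ hmod : 2048 ≡ 2 ^ j [MOD p])
  · have hFA : F = AG cv := by
      refine Subgroup.eq_of_le_of_card_ge inf_le_left ?_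
      rw [card_AG cv hc, hj]
      calc 2048 = 2 ^ 11 := by norm_num
        _ ≤ 2 ^ j := Nat.pow_le_pow_right (by norm_num) (by omega)
    have hxA : x.1 ∈ centralizer (AG cv : Set G) := mem_centralizer_iff.2 fun a ha =>
      mem_centralizer_one.1 (hFA.ge ha).2
    rw [centralizer_AG cv hc hF] at hxA
    have h2 : orderOf x.1 ∣ 2 := orderOf_dvd_of_pow_eq_one (by rw [pow_two]; exact AG_sq cv _ hxA)
    rw [Subgroup.orderOf_coe, hx] at h2
    have := Nat.le_of_dvd (by norm_num) h2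
    simp only [List.mem_cons, List.not_mem_nil, or_false] at hp
    omega

namespace Basis

variable {cv} (B : Basis cv)

include B hc in
/-- The conjugates of the central involution in the subgroup. -/
theorem classify (hF : Cfsg.IsOfLargeFischerTypeAt z Q) : Nat.card {a : G // a ∈ AG cv ∧ IsConj z a} = 1771 ∧
    B.fb (rep 1 2) = true ∧ ∀ k < 16, 1 ≤ k → B.fb (128 * k + 1) = !B.fb (128 * k) := by
  have hcnt := (B.count_eq_card hc).symm.trans (B.count hc hF)
  have hnp : ∀ p ∈ [13, 331, 571, 1531, 2011], ¬ p ∣ 91 + 15 * (96 * (B.fb (rep 1 2)).toNat + 16 * ((B.fb 128).toNat + (B.fb 129).toNat)) :=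
    fun p hp => hcnt ▸ no_prime cv hc hF hp
  have key : B.fb (rep 1 2) = true ∧ (B.fb 128).toNat + (B.fb 129).toNat = 1 := by
    revert hnp
    generalize B.fb (rep 1 2) = a
    generalize B.fb 128 = b
    generalize B.fb 129 = c
    revert a b c
    decide
  refine ⟨?_, key.1, fun k hk hk1 => ?_⟩
  · rw [hcnt, key.1, key.2]
    rfl
  · have := (B.fb_const hc hk hk1).2.trans key.2
    revert this
    generalize B.fb (128 * k) = a
    generalize B.fb (128 * k + 1) = b
    revert a b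
    decide

end Basis

end Cfsg.Agent.LargeFischer.Big
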