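import Cfsg.Agent.Lib.LargeFischer.BigMathieu
import Cfsg.Prelude.Def_Transfer
import Mathlib.GroupTheory.QuotientGroup.Basic

/-! The normaliser of the Thompson subgroup in groups of large Fischer type. -/

set_option autoImplicit false
set_option maxRecDepth 100000
set_option maxHeartbeats 200000

namespace Cfsg.Agent.LargeFischer.Big

open Cfsg.Agent.RigidGraph.He Cfsg.Agent.U43InU62 Cfsg.Agent.LargeExtra
open Subgroup
open scoped Pointwise symmDiff

attribute [local irreducible] tm elN TT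

variable {G : Type*} [Group G] [Finite G]

/-- What is known about the large abelian subgroup. -/
structure Pack (z : G) (A : Subgroup G) : Prop where
  sq : ∀ a ∈ A, a * a = 1
  card : Nat.card ↥A = 2048
  fusion : ∀ a ∈ A, ∀ g : G, g * a * g⁻¹ ∈ A → ∃ m ∈ normalizer (A : Set G), m * a * m⁻¹ = g * a * g⁻¹
  exists_conj : ∃ a ∈ A, a ≠ 1 ∧ IsConj z a
  exists_non : ∃ a ∈ A, a ≠ 1 ∧ ¬ IsConj z a
  orbit : ∀ a ∈ A, ∀ b ∈ A, a ≠ 1 → b ≠ 1 → ¬ IsConj z a → ¬ IsConj z b →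
    ∃ m ∈ normalizer (A : Set G), m * a * m⁻¹ = b
  mathieu : ∃ Φ : ↥(normalizer (A : Set G)) →* ↥Cfsg.M24,
    Function.Surjective Φ ∧ Φ.ker = A.subgroupOf (normalizer (A : Set G))
  duad : ∀ t ∈ A, t ≠ 1 → ¬ IsConj z t →
    ∃ Ψ : ↥(normalizer (A : Set G) ⊓ centralizer ({t} : Set G)) →*
        ↥(Cfsg.M24 ⊓ MulAction.stabilizer (Equiv.Perm Cfsg.GolayPt) ({none, some 0} : Set Cfsg.GolayPt)),
      Function.Surjective Ψ ∧ Ψ.ker = A.subgroupOf (normalizer (A : Set G) ⊓ centralizer ({t} : Set G))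

theorem conj_normalizer {A : Subgroup G} {g n : G}
    (hn : n ∈ normalizer (A : Set G)) : g * n * g⁻¹ ∈ normalizer ((A.map (MulAut.conj g).toMonoidHom : Subgroup G) : Set G) := by
  refine Subgroup.mem_normalizer_iff.2 fun x => ?_
  rw [mem_conjMap, mem_conjMap, Subgroup.mem_normalizer_iff.1 hn (g⁻¹ * x * g),
    show n * (g⁻¹ * x * g) * n⁻¹ = g⁻¹ * (g * n * g⁻¹ * x * (g * n * g⁻¹)⁻¹) * g by group]

theorem unconj_normalizer {A : Subgroup G} {g n : G}
    (hn : n ∈ normalizer ((A.map (MulAut.conj g).toMonoidHom : Subgroup G) : Set G)) :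
    g⁻¹ * n * g ∈ normalizer (A : Set G) := by
  refine Subgroup.mem_normalizer_iff.2 fun x => ?_
  have h := Subgroup.mem_normalizer_iff.1 hn (g * x * g⁻¹)
  rw [mem_conjMap, mem_conjMap, show g⁻¹ * (g * x * g⁻¹) * g = x by group] at h
  rw [h, show g⁻¹ * (n * (g * x * g⁻¹) * n⁻¹) * g = g⁻¹ * n * g * x * (g⁻¹ * n * g)⁻¹ by group]

theorem Pack.conj {z : G} {A : Subgroup G} (P : Pack z A) (g : G) : Pack z (A.map (MulAut.conj g).toMonoidHom) := by
  set A' := A.map (MulAut.conj g).toMonoidHom with hA'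
  have hmem : ∀ {x}, x ∈ A' ↔ g⁻¹ * x * g ∈ A := mem_conjMap
  have hcj : ∀ x, IsConj z (g⁻¹ * x * g) ↔ IsConj z x := fun x => by
    simpa using conj_iff (z := z) (a := x) g⁻¹
  refine ⟨?_, by rw [hA', card_map_of_injective (MulAut.conj g).injective, P.card], fun a ha h hh => ?_, ?_, ?_,
    fun a ha b hb ha1 hb1 hca hcb => ?_, ?_, fun t ht ht1 htc => ?_⟩
  · rintro _ ⟨a, ha, rfl⟩
    rw [← map_mul, P.sq a ha, map_one]
  · obtain ⟨m, hm, e⟩ := P.fusion _ (hmem.1 ha) (g⁻¹ * h * g) (by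
      have := hmem.1 hh
      rwa [show g⁻¹ * (h * a * h⁻¹) * g = g⁻¹ * h * g * (g⁻¹ * a * g) * (g⁻¹ * h * g)⁻¹ by group] at this)
    refine ⟨g * m * g⁻¹, conj_normalizer hm, ?_⟩
    calc g * m * g⁻¹ * a * (g * m * g⁻¹)⁻¹ = g * (m * (g⁻¹ * a * g) * m⁻¹) * g⁻¹ := by group
      _ = h * a * h⁻¹ := by rw [e]; group
  · obtain ⟨a, ha, h1, hc⟩ := P.exists_conj
    exact ⟨_, ⟨a, ha, rfl⟩, fun e => h1 (conj_eq_one_iff.1 e), (conj_iff g).2 hc⟩
  · obtain ⟨a, ha, h1, hc⟩ := P.exists_non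
    exact ⟨_, ⟨a, ha, rfl⟩, fun e => h1 (conj_eq_one_iff.1 e), fun e => hc ((conj_iff g).1 e)⟩
  · obtain ⟨m, hm, e⟩ := P.orbit _ (hmem.1 ha) _ (hmem.1 hb)
      (fun e => ha1 (by rw [show a = g * (g⁻¹ * a * g) * g⁻¹ by group, e]; group))
      (fun e => hb1 (by rw [show b = g * (g⁻¹ * b * g) * g⁻¹ by group, e]; group))
      (fun e => hca ((hcj a).1 e)) (fun e => hcb ((hcj b).1 e))
    refine ⟨g * m * g⁻¹, conj_normalizer hm, ?_⟩
    calc g * m * g⁻¹ * a * (g * m * g⁻¹)⁻¹ = g * (m * (g⁻¹ * a * g) * m⁻¹) * g⁻¹ := by group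
      _ = b := by rw [e]; group
  · obtain ⟨Φ, hs, hk⟩ := P.mathieu
    let f : ↥(normalizer (A' : Set G)) →* ↥(normalizer (A : Set G)) :=
      MonoidHom.mk' (fun n => ⟨g⁻¹ * n.1 * g, unconj_normalizer n.2⟩) fun a b => Subtype.ext (by simp [mul_assoc])
    refine ⟨Φ.comp f, fun k => ?_, ?_⟩
    · obtain ⟨n, rfl⟩ := hs k
      refine ⟨⟨g * n.1 * g⁻¹, conj_normalizer n.2⟩, congrArg Φ (Subtype.ext ?_)⟩
      show g⁻¹ * (g * n.1 * g⁻¹) * g = n.1
      group
    · rw [← MonoidHom.comap_ker, hk]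
      ext n
      rw [mem_comap, mem_subgroupOf, mem_subgroupOf, hmem]
      rfl
  · obtain ⟨Ψ, hs, hk⟩ := P.duad _ (hmem.1 ht)
      (fun e => ht1 (by rw [show t = g * (g⁻¹ * t * g) * g⁻¹ by group, e]; group)) (fun e => htc ((hcj t).1 e))
    let f : ↥(normalizer (A' : Set G) ⊓ centralizer ({t} : Set G)) →*
        ↥(normalizer (A : Set G) ⊓ centralizer ({g⁻¹ * t * g} : Set G)) :=
      MonoidHom.mk' (fun n => ⟨g⁻¹ * n.1 * g, unconj_normalizer n.2.1, mem_centralizer_one.2 (by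
        have h := mem_centralizer_one.1 n.2.2
        calc g⁻¹ * n.1 * g * (g⁻¹ * t * g) = g⁻¹ * (n.1 * t) * g := by group
          _ = _ := by rw [h]; group)⟩) fun a b => Subtype.ext (by simp [mul_assoc])
    refine ⟨Ψ.comp f, fun k => ?_, ?_⟩
    · obtain ⟨n, rfl⟩ := hs k
      refine ⟨⟨g * n.1 * g⁻¹, conj_normalizer n.2.1, mem_centralizer_one.2 ?_⟩, congrArg Ψ (Subtype.ext ?_)⟩
      · have h := mem_centralizer_one.1 n.2.2
        calc g * n.1 * g⁻¹ * t = g * (n.1 * (g⁻¹ * t * g)) * g⁻¹ := by group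
          _ = _ := by rw [h]; group
      · show g⁻¹ * (g * n.1 * g⁻¹) * g = n.1
        group
    · rw [← MonoidHom.comap_ker, hk]
      ext n
      rw [mem_comap, mem_subgroupOf, mem_subgroupOf, hmem]
      rfl

variable {z : G} {Q : Subgroup ↥(centralizer ({z} : Set G))} [Q.Normal]

theorem stab_pair {k : Equiv.Perm Cfsg.GolayPt} :
    k ∈ MulAction.stabilizer (Equiv.Perm Cfsg.GolayPt) ({none, some 0} : Set Cfsg.GolayPt) ↔
      ({k none, k (some 0)} : Finset Cfsg.GolayPt) = {none, some 0} := by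
  rw [MulAction.mem_stabilizer_iff, ← Finset.coe_inj, Finset.coe_pair, Finset.coe_pair, Set.smul_set_insert,
    Set.smul_set_singleton]
  rfl

theorem pack_AG (hF : Cfsg.IsOfLargeFischerTypeAt z Q) {D : Model z Q} (cv : Cover D) (hc : cv.c = K4.w) :
    Pack z (AG cv) := by
  classical
  obtain ⟨B, hN, hrel⟩ := exists_good cv hc hF
  obtain ⟨Φ, hΦ, hker, hsur⟩ := exists_hom hc B hN hF
  have h2 : isN 2 = true := by decide +kernel
  have hidx : ∀ a ∈ AG cv, a ≠ 1 → ¬ IsConj z a → ∃ i < 2048, isN i = true ∧ B.eg i = a := fun a ha h1 hn => by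
    obtain ⟨i, hi, rfl⟩ := B.eg_surj hc ha
    exact ⟨i, hi, (hN i hi).2 ⟨fun e => h1 (by rw [e, B.eg_zero hc]), hn⟩, rfl⟩
  refine ⟨AG_sq cv, card_AG cv hc, fun a ha g hg => fusion cv hc hF ha hg,
    ⟨z, z_mem_AG cv, D.ctx.xs.ne_one, IsConj.refl z⟩,
    ⟨B.eg 2, B.eg_mem hc 2, fun e => ?_, ((hN 2 (by norm_num)).1 h2).2⟩,
    fun a ha b hb ha1 hb1 hca hcb => ?_, ⟨Φ, hsur, hker⟩, fun t ht ht1 htc => ?_⟩
  · exact ((hN 2 (by norm_num)).1 h2).1 (B.eg_inj hc (by norm_num) (by norm_num) (e.trans (B.eg_zero hc).symm))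
  · obtain ⟨i, hi, hiN, rfl⟩ := hidx a ha ha1 hca
    obtain ⟨j, hj, hjN, rfl⟩ := hidx b hb hb1 hcb
    exact Basis.Rel.trans B (Basis.Rel.symm B (hrel i hi hiN)) (hrel j hj hjN)
  · obtain ⟨i, hi, hiN, rfl⟩ := hidx t ht ht1 htc
    set i0 := ev ({none, some 0} : Finset Cfsg.GolayPt) with hi0
    obtain ⟨m, hm, em⟩ := Basis.Rel.trans B (Basis.Rel.symm B (hrel i hi hiN))
      (hrel i0 (ev_lt _) (pair_isN (by decide)))
    have hfix : ∀ n : ↥(MG cv), (Φ n).1 ∈ MulAction.stabilizer (Equiv.Perm Cfsg.GolayPt) ({none, some 0} : Set Cfsg.GolayPt) ↔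
        n.1 * B.eg i0 * n.1⁻¹ = B.eg i0 := fun n => by
      have h := hΦ n none (some 0) (by decide)
      rw [stab_pair]
      constructor
      · intro e
        rw [e] at h
        exact h
      · intro e
        exact eS_inj_pair hc B ((Φ n).1.injective.ne (by decide)) (by decide) (h.symm.trans e)
    have hcm : ∀ x : G, (m * x * m⁻¹) * B.eg i0 * (m * x * m⁻¹)⁻¹ = B.eg i0 ↔ x * B.eg i = B.eg i * x := fun x => by
      rw [← em, show m * x * m⁻¹ * (m * B.eg i * m⁻¹) * (m * x * m⁻¹)⁻¹ = m * (x * B.eg i * x⁻¹) * m⁻¹ by group,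
        mul_left_inj, mul_right_inj, mul_inv_eq_iff_eq_mul]
    let Ψ : ↥(MG cv ⊓ centralizer ({B.eg i} : Set G)) →*
        ↥(Cfsg.M24 ⊓ MulAction.stabilizer (Equiv.Perm Cfsg.GolayPt) ({none, some 0} : Set Cfsg.GolayPt)) :=
      MonoidHom.mk' (fun x => ⟨(Φ ⟨m * x.1 * m⁻¹, (MG cv).mul_mem ((MG cv).mul_mem hm x.2.1) ((MG cv).inv_mem hm)⟩).1, (Φ _).2,
        (hfix _).2 ((hcm x.1).2 (mem_centralizer_one.1 x.2.2))⟩) fun a b => by
        refine Subtype.ext ?_
        show (Φ _).1 = (Φ _).1 * (Φ _).1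
        rw [← Subgroup.coe_mul, ← map_mul]
        congr 2
        exact Subtype.ext (by simp [mul_assoc])
    refine ⟨Ψ, fun k => ?_, ?_⟩
    · obtain ⟨n, hn⟩ := hsur ⟨k.1, k.2.1⟩
      have hk := (hfix n).1 (by rw [hn]; exact k.2.2)
      refine ⟨⟨m⁻¹ * n.1 * m, (MG cv).mul_mem ((MG cv).mul_mem ((MG cv).inv_mem hm) n.2) hm,
        mem_centralizer_one.2 ((hcm _).1 ?_)⟩, Subtype.ext ?_⟩
      · rwa [show m * (m⁻¹ * n.1 * m) * m⁻¹ = n.1 by group]
      · show (Φ ⟨m * (m⁻¹ * n.1 * m) * m⁻¹, _⟩).1 = k.1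
        rw [show (⟨m * (m⁻¹ * n.1 * m) * m⁻¹, _⟩ : ↥(MG cv)) = n from Subtype.ext (by group), hn]
    · ext x
      rw [MonoidHom.mem_ker, mem_subgroupOf, Subtype.ext_iff]
      show (Φ ⟨m * x.1 * m⁻¹, _⟩).1 = 1 ↔ _
      rw [← Subgroup.coe_one Cfsg.M24, ← Subtype.ext_iff, ← MonoidHom.mem_ker, hker, mem_subgroupOf]
      exact (Subgroup.mem_normalizer_iff.1 hm x.1).symm

/-- The package for the Thompson subgroup of any Sylow subgroup. -/
theorem thompson_pack (hF : Cfsg.IsOfLargeFischerTypeAt z Q) (T : Sylow 2 G) :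
    Pack z (Cfsg.thompsonSubgroupOf 2 (T : Subgroup G)) := by
  haveI : Fact (Nat.Prime 2) := ⟨Nat.prime_two⟩
  obtain ⟨D⟩ := exists_model hF
  obtain ⟨cv, hc⟩ := exists_cover_w D
  have h2 : IsPGroup 2 ↥(AG cv) := IsPGroup.of_card (n := 11) (by rw [card_AG cv hc]; norm_num)
  obtain ⟨S, hS⟩ := h2.exists_le_sylow
  obtain ⟨g, hg⟩ := MulAction.exists_smul_eq G S T
  set A' := (AG cv).map (MulAut.conj g).toMonoidHom with hA'
  have hAT : A' ≤ (T : Subgroup G) := by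
    rintro _ ⟨a, ha, rfl⟩
    rw [← hg, Sylow.coe_subgroup_smul, Subgroup.mem_pointwise_smul_iff_inv_smul_mem]
    show (MulAut.conj g)⁻¹ (MulAut.conj g a) ∈ (S : Subgroup G)
    rw [MulAut.inv_apply_self]
    exact hS ha
  have P := (pack_AG hF cv hc).conj g
  have huniq : ∀ E : Subgroup G, E ≤ (T : Subgroup G) → (∀ a ∈ E, a * a = 1) → 2048 ≤ Nat.card ↥E → E = A' := by
    intro E hE hE2 hcard
    set E0 := E.map (MulAut.conj g⁻¹).toMonoidHom with hE0
    have hE0S : E0 ≤ (S : Subgroup G) := by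
      rintro _ ⟨a, ha, rfl⟩
      have := hE ha
      rw [← hg, Sylow.coe_subgroup_smul, Subgroup.mem_pointwise_smul_iff_inv_smul_mem] at this
      simpa using this
    have h := unique_big cv hc hF S.isPGroup' hS hE0S (by
      rintro _ ⟨a, ha, rfl⟩
      rw [← map_mul, hE2 a ha, map_one]) (by rwa [card_map_of_injective (MulAut.conj g⁻¹).injective])
    rw [hA', ← h, hE0, Subgroup.map_map]
    ext x
    simp [mul_assoc]
  have hJ : Cfsg.thompsonSubgroupOf 2 (T : Subgroup G) = A' := by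
    have helem : Cfsg.IsElementaryAbelian 2 (A'.subgroupOf (T : Subgroup G)) :=
      ⟨⟨⟨fun a b => Subtype.ext (Subtype.ext (comm_of_sq P.sq (mem_subgroupOf.1 a.2) (mem_subgroupOf.1 b.2)))⟩⟩,
        fun a ha => by rw [pow_two]; exact Subtype.ext (P.sq _ (mem_subgroupOf.1 ha))⟩
    have hcA : Nat.card ↥(A'.subgroupOf (T : Subgroup G)) = 2048 := by
      rw [Nat.card_congr (subgroupOfEquivOfLe hAT).toEquiv, P.card]
    have hone : ∀ B : Subgroup ↥(T : Subgroup G), Cfsg.IsElementaryAbelian 2 B → 2048 ≤ Nat.card ↥B →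
        B = A'.subgroupOf (T : Subgroup G) := fun B hB hc' => by
      have h := huniq (B.map (T : Subgroup G).subtype) (map_subtype_le _) (by
        rintro _ ⟨a, ha, rfl⟩
        have := congrArg Subtype.val (hB.2 a ha)
        rwa [pow_two] at this) (by rwa [card_map_of_injective (T : Subgroup G).subtype_injective])
      rw [← h]
      exact (Subgroup.comap_map_eq_self_of_injective (T : Subgroup G).subtype_injective B).symm
    have hmax : Cfsg.maxElementaryAbelianSubgroups 2 ↥(T : Subgroup G) = {A'.subgroupOf (T : Subgroup G)} := by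
      ext B
      constructor
      · rintro ⟨hB, hmaxB⟩
        exact hone B hB (hcA ▸ hmaxB _ helem)
      · intro hB
        rw [Set.mem_singleton_iff.1 hB]
        refine ⟨helem, fun B' hB' => ?_⟩
        by_contra hlt
        rw [hone B' hB' (by omega)] at hlt
        omega
    rw [Cfsg.thompsonSubgroupOf, Cfsg.thompsonSubgroup, hmax, sSup_singleton, map_subgroupOf_eq_of_le hAT]
  rw [hJ]
  exact P

theorem Pack.elementary {z : G} {A : Subgroup G} (P : Pack z A) : Cfsg.IsElementaryAbelian 2 A :=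
  ⟨⟨⟨fun a b => Subtype.ext (comm_of_sq P.sq a.2 b.2)⟩⟩, fun a ha => by rw [pow_two]; exact P.sq a ha⟩

end Cfsg.Agent.LargeFischer.Big
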