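import Cfsg.Agent.Lib.LargeFischer.BigOrbit
import Cfsg.Agent.Lib.LargeFischer.BigPairs

/-! The normaliser of the large abelian subgroup acts as the Mathieu group. -/

set_option autoImplicit false
set_option maxRecDepth 100000
set_option maxHeartbeats 200000

namespace Cfsg.Agent.LargeFischer.Big

open Cfsg.Agent.RigidGraph.He Cfsg.Agent.U43InU62 Cfsg.Agent.LargeExtra
open Subgroup
open scoped Matrix Pointwise symmDiff

attribute [local irreducible] tm elN TT

theorem psi_ne : ∀ k : ℕ, k < 11 → (2 : ℕ) ^ k < 2048 := by decide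

/-- Monomial elements of three-power order keeping the fixed space. -/
noncomputable def threeSub : Subgroup ↥K0 := finSub
  { carrier := {g | (∀ v, piA v → piA (act g.1 v)) ∧ g.1 ∈ monoSub (zpowers threePerm)}
    one_mem' := ⟨fun v hv => by
      show piA (act (1 : S6) v)
      rwa [act_one], one_mem _⟩
    mul_mem' := fun {a b} ha hb => ⟨fun v hv => by
      show piA (act (a.1 * b.1) v)
      rw [act_mul]
      exact ha.1 _ (hb.1 v hv), mul_mem ha.2 hb.2⟩ }

theorem card_threeSub : Nat.card ↥threeSub = 27 := by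
  classical
  let L : List (Equiv.Perm (Fin 6)) := [1, threePerm, threePerm * threePerm]
  obtain ⟨hc3, h1, h2⟩ := threePerm_cube
  have hL : L.Nodup := by
    simp only [L, List.nodup_cons, List.mem_cons, List.not_mem_nil, or_false, List.nodup_nil, and_true,
      not_false_eq_true, not_or]
    exact ⟨⟨h1.symm, h2.symm⟩, fun e => h1 (mul_eq_left.1 e.symm)⟩
  have hmemL : ∀ π, π ∈ zpowers threePerm ↔ π ∈ L := fun π => by
    constructor
    · intro hπ
      obtain ⟨n, rfl⟩ : π ∈ Submonoid.powers threePerm :=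
        (isOfFinOrder_of_finite threePerm).mem_powers_iff_mem_zpowers.2 hπ
      show threePerm ^ n ∈ L
      rw [← Nat.div_add_mod n 3, pow_add, pow_mul, show threePerm ^ 3 = 1 by rw [pow_succ, pow_two, hc3],
        one_pow, one_mul]
      rcases (show n % 3 = 0 ∨ n % 3 = 1 ∨ n % 3 = 2 by omega) with e | e | e <;> rw [e] <;> simp [L, pow_two]
    · intro hπ
      simp only [L, List.mem_cons, List.not_mem_nil, or_false] at hπ
      rcases hπ with rfl | rfl | rfl
      exacts [one_mem _, mem_zpowers _, mul_mem (mem_zpowers _) (mem_zpowers _)]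
  let s : Finset (Σ _ : Equiv.Perm (Fin 6), Dg) := L.toFinset.sigma fun π => Finset.univ.filter fun d => Keeps π d.1
  have hs : s.card = 27 := by
    rw [Finset.card_sigma, List.sum_toFinset _ hL, keeps_card]
    rfl
  rw [← hs, ← Fintype.card_coe, ← Nat.card_eq_fintype_card]
  have hkeep : ∀ π (d : Dg), Keeps π d.1 ↔ ∀ v, piA v → piA (act (mel π d) v) := fun π d => by
    constructor
    · rintro h v ⟨a, b, c, rfl⟩
      have hsum : ∀ u w, piA u → piA w → piA (u + w) := by
        rintro _ _ ⟨a, b, c, rfl⟩ ⟨a', b', c', rfl⟩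
        exact ⟨a + a', b + b', c + c', by rw [add_smul, add_smul, add_smul]; abel⟩
      have hsm : ∀ (e : K4) u, piA u → piA (e • u) := by
        rintro e _ ⟨a, b, c, rfl⟩
        exact ⟨e * a, e * b, e * c, by rw [smul_add, smul_add, smul_smul, smul_smul, smul_smul]⟩
      rw [act, Matrix.mulVec_add, Matrix.mulVec_add, Matrix.mulVec_smul, Matrix.mulVec_smul, Matrix.mulVec_smul]
      exact hsum _ _ (hsum _ _ (hsm a _ (h 0)) (hsm b _ (h 1))) (hsm c _ (h 2))
    · intro h i
      refine h _ ?_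
      fin_cases i
      exacts [⟨1, 0, 0, by simp⟩, ⟨0, 1, 0, by simp⟩, ⟨0, 0, 1, by simp⟩]
  refine (Nat.card_congr (Equiv.ofBijective (fun x : ↥s => (⟨⟨mel x.1.1 x.1.2, N0_le_K0 (mem_N0.2 ⟨_, ?_, _, rfl⟩)⟩,
    ?_⟩ : ↥threeSub)) ⟨?_, ?_⟩)).symm
  · have hm := (hmemL _).2 (List.mem_toFinset.1 (Finset.mem_sigma.1 x.2).1)
    obtain ⟨n, hn⟩ := mem_zpowers_iff.1 hm
    rw [← hn, map_zpow, threePerm_sign, one_zpow]
  · exact ⟨(hkeep _ _).1 (Finset.mem_filter.1 (Finset.mem_sigma.1 x.2).2).2,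
      mem_monoSub.2 ⟨_, (hmemL _).2 (List.mem_toFinset.1 (Finset.mem_sigma.1 x.2).1), _, rfl⟩⟩
  · rintro ⟨⟨π, d⟩, hx⟩ ⟨⟨π', d'⟩, hy⟩ e
    obtain ⟨rfl, rfl⟩ := mel_inj (congrArg (fun y : ↥threeSub => y.1.1) e :)
    rfl
  · rintro ⟨⟨g, hg⟩, hk, hm⟩
    obtain ⟨π, hπ, d, rfl⟩ := mem_monoSub.1 hm
    exact ⟨⟨⟨π, d⟩, Finset.mem_sigma.2 ⟨List.mem_toFinset.2 ((hmemL π).1 hπ),
      Finset.mem_filter.2 ⟨Finset.mem_univ _, (hkeep π d).2 hk⟩⟩⟩, rfl⟩

theorem mat_pow' (g : S6) : ∀ n : ℕ, mat (g ^ n) = mat g ^ n := by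
  intro n
  induction n with
  | zero => rw [pow_zero, pow_zero, mat_one']
  | succ n ih => rw [pow_succ, pow_succ, mat_mul', ih]

theorem orderOf_five : orderOf (gS 0) = 5 := by
  haveI : Fact (Nat.Prime 5) := ⟨by norm_num⟩
  obtain ⟨h5, h1⟩ := five_order
  have hm : mat (gS 0).1 = fiveMat := mat_gS 0
  refine orderOf_eq_prime (Subtype.ext (ext_bv fun j => ?_)) fun e => h1 ?_
  · show act ((gS 0).1 ^ 5) (bv j) = act 1 (bv j)
    rw [act, act, mat_pow', hm, h5, mat_one']
  · rw [← hm, e]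
    exact mat_one'

variable {G : Type*} [Group G] [Finite G] {z : G} {Q : Subgroup ↥(centralizer ({z} : Set G))} [Q.Normal]
  {D : Model z Q} (cv : Cover D) (hc : cv.c = K4.w)

include hc in
/-- The part of the normaliser in the centraliser is large. -/
theorem le_card_inf (hF : Cfsg.IsOfLargeFischerTypeAt z Q) :
    283115520 ≤ Nat.card ↥(MG cv ⊓ centralizer ({z} : Set G)) := by
  haveI : Fact (Nat.Prime 2) := ⟨Nat.prime_two⟩
  set S : Subgroup ↥(centralizer ({z} : Set G)) := normalizer (AA cv : Set ↥(centralizer ({z} : Set G))) with hS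
  have hmem : ∀ c : ↥(centralizer ({z} : Set G)), (∀ a ∈ AA cv, c * a * c⁻¹ ∈ AA cv) → c ∈ S := by
    intro c h
    have hle : (AA cv).map (MulAut.conj c).toMonoidHom ≤ AA cv := by
      rintro _ ⟨a, ha, rfl⟩
      exact h a ha
    have heq := Subgroup.eq_of_le_of_card_ge hle (card_map_of_injective (MulAut.conj c).injective).ge
    refine Subgroup.mem_normalizer_iff.2 fun a => ⟨fun ha => h a ha, fun ha => ?_⟩
    obtain ⟨b, hb, e⟩ := heq.ge ha
    exact (MulAut.conj c).injective (show MulAut.conj c b = MulAut.conj c a from e) ▸ hb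
  have hSle : S.map (centralizer ({z} : Set G)).subtype ≤ MG cv ⊓ centralizer ({z} : Set G) := by
    rintro _ ⟨c, hcS, rfl⟩
    refine ⟨Subgroup.mem_normalizer_iff.2 fun a => ⟨?_, ?_⟩, c.2⟩
    · rintro ⟨a', ha', rfl⟩
      exact ⟨c * a' * c⁻¹, (Subgroup.mem_normalizer_iff.1 hcS a').1 ha', rfl⟩
    · rintro ⟨b, hb, e⟩
      have e' : (b : G) = c.1 * a * c.1⁻¹ := e
      refine ⟨c⁻¹ * b * c, (Subgroup.mem_normalizer_iff.1 hcS _).2 (by
        rwa [show c * (c⁻¹ * b * c) * c⁻¹ = b by group]), ?_⟩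
      show c.1⁻¹ * b.1 * c.1 = a
      rw [e']; group
  refine le_trans ?_ (Subgroup.card_le_of_le hSle)
  rw [card_map_of_injective (centralizer ({z} : Set G)).subtype_injective]
  obtain ⟨T, hT, hTn⟩ := exists_sylow cv hc hF
  have hTS : (T : Subgroup ↥(centralizer ({z} : Set G))) ≤ S := fun t ht => hmem t (hTn t ht)
  have hcq := D.ctx.card
  rw [card_map_of_injective (centralizer ({z} : Set G)).subtype_injective] at hcq
  have h21 : 2 ^ 21 ∣ Nat.card ↥S := by
    refine (T.pow_dvd_card_of_pow_dvd_card ?_).trans (Subgroup.card_dvd_of_le hTS)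
    rw [Subgroup.card_eq_card_quotient_mul_card_subgroup Q, D.card_R, hcq]
    norm_num
  set Sb := S.map (QuotientGroup.mk' Q) with hSb
  have hlift : ∀ g : ↥K0, (∀ v, piA v → piA (act g.1 v)) → D.co.tau6 g ∈ Sb := fun g hg => by
    obtain ⟨c, e⟩ := QuotientGroup.mk'_surjective Q (D.co.tau6 g)
    exact ⟨c, hmem c (conj_AA cv hc hF (by rw [e]; exact stab_of_keeps (D := D) hg)), e⟩
  have h27 : 27 ∣ Nat.card ↥S := by
    refine dvd_trans ?_ (card_map_dvd S (QuotientGroup.mk' Q))
    rw [← card_threeSub, ← card_map_of_injective D.co.tau6_injective]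
    refine Subgroup.card_dvd_of_le ?_
    rintro _ ⟨g, hg, rfl⟩
    exact hlift g hg.1
  have h5 : 5 ∣ Nat.card ↥S := by
    refine dvd_trans ?_ (card_map_dvd S (QuotientGroup.mk' Q))
    rw [← orderOf_five, ← orderOf_injective D.co.tau6 D.co.tau6_injective]
    exact orderOf_dvd_natCard Sb (hlift _ fun v hv => gS_piA 0 hv)
  have h135 : 135 ∣ Nat.card ↥S := Nat.Coprime.mul_dvd_of_dvd_of_dvd (m := 27) (n := 5) (by norm_num) h27 h5
  exact Nat.le_of_dvd Nat.card_pos
    (Nat.Coprime.mul_dvd_of_dvd_of_dvd (m := 2 ^ 21) (n := 135) (by norm_num) h21 h135)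

variable {cv} (B : Basis cv) (hN : ∀ i < 2048, isN i = true ↔ i ≠ 0 ∧ ¬ IsConj z (B.eg i))

/-- The element of a set of points. -/
noncomputable def eS (S : Finset Cfsg.GolayPt) : G := B.eg (ev S)

include hc in
theorem eS_symmDiff (S T : Finset Cfsg.GolayPt) : eS B (S ∆ T) = eS B S * eS B T := by
  rw [eS, ev_symmDiff, B.eg_xor hc]; rfl

include hc hN in
theorem exists_image {m : G} (hm : m ∈ MG cv) {S : Finset Cfsg.GolayPt} (hS : S.card = 2) :
    ∃ T : Finset Cfsg.GolayPt, T.card = 2 ∧ eS B T = m * eS B S * m⁻¹ := by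
  obtain ⟨p, q, hpq, rfl⟩ := Finset.card_eq_two.1 hS
  obtain ⟨h0, hn⟩ := (hN _ (ev_lt _)).1 (pair_isN hpq)
  obtain ⟨j, hj, e⟩ := B.eg_surj hc (conj_mem_AG cv hm (B.eg_mem hc (ev {p, q})))
  have hjN : isN j = true := by
    refine (hN j hj).2 ⟨fun e0 => h0 ?_, fun h => hn ((conj_iff m).1 (e ▸ h))⟩
    rw [e0, B.eg_zero hc, eq_comm, conj_eq_one_iff, ← B.eg_zero hc] at e
    exact B.eg_inj hc (ev_lt _) (by norm_num) e
  obtain ⟨T, hT, eT⟩ := exists_pair hj hjN
  exact ⟨T, hT, by rw [eS, eT, e]; rfl⟩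

include hc hN in
theorem exists_pi {m : G} (hm : m ∈ MG cv) :
    ∃ π : Equiv.Perm Cfsg.GolayPt, ∀ p q, p ≠ q → m * eS B {p, q} * m⁻¹ = eS B {π p, π q} := by
  choose f hf2 hfe using fun S hS => exists_image hc B hN hm (S := S) hS
  classical
  let F : Finset Cfsg.GolayPt → Finset Cfsg.GolayPt := fun S => if h : S.card = 2 then f S h else ∅
  have hF2 : ∀ S, S.card = 2 → (F S).card = 2 := fun S h => by simp [F, h, hf2]
  have hFe : ∀ S, S.card = 2 → eS B (F S) = m * eS B S * m⁻¹ := fun S h => by simp [F, h, hfe]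
  have hevi : ∀ S T, eS B S = eS B T → ev S = ev T := fun S T e => B.eg_inj hc (ev_lt S) (ev_lt T) e
  obtain ⟨π, hπ⟩ := exists_perm F hF2 (fun S T hS hT e => by
    have h := congrArg (eS B) e
    rw [hFe S hS, hFe T hT] at h
    exact pair_inj hS hT (hevi _ _ (mul_left_cancel (mul_right_cancel h))))
    (fun S T hS hT hST => triangle (hF2 S hS) (hF2 T hT) (hF2 _ hST) (B.eg_inj hc
      (Nat.xor_lt_two_pow (n := 11) (ev_lt _) (ev_lt _)) (ev_lt _) (by
        show B.eg (ev (F S) ^^^ ev (F T)) = eS B (F (S ∆ T))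
        rw [B.eg_xor hc, hFe _ hST, eS_symmDiff hc B]
        show eS B (F S) * eS B (F T) = _
        rw [hFe S hS, hFe T hT]
        group)))
  exact ⟨π, fun p q hpq => by rw [← hπ p q hpq, hFe _ (Finset.card_pair hpq)]⟩

include hc in
theorem pi_even {m : G} {π : Equiv.Perm Cfsg.GolayPt}
    (h : ∀ p q, p ≠ q → m * eS B {p, q} * m⁻¹ = eS B {π p, π q}) :
    ∀ S : Finset Cfsg.GolayPt, S.card % 2 = 0 → m * eS B S * m⁻¹ = eS B (π • S) := by
  intro S
  induction S using Finset.strongInduction with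
  | _ S ih =>
    intro he
    rcases Nat.eq_zero_or_pos S.card with h0 | h0
    · rw [Finset.card_eq_zero.1 h0, Finset.smul_finset_empty, eS, ev_empty, B.eg_zero hc]
      group
    obtain ⟨a, ha⟩ := Finset.card_pos.1 h0
    obtain ⟨b, hb⟩ := Finset.card_pos.1 (show 0 < (S.erase a).card by rw [Finset.card_erase_of_mem ha]; omega)
    have hab : a ≠ b := fun e => (Finset.mem_erase.1 hb).1 e.symm
    have hsub : ({a, b} : Finset Cfsg.GolayPt) ⊆ S :=
      Finset.insert_subset ha (Finset.singleton_subset_iff.2 (Finset.mem_erase.1 hb).2)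
    have hc2 : (S \ {a, b}).card + 2 = S.card := by
      have := Finset.card_sdiff_add_card_eq_card hsub
      rwa [Finset.card_pair hab] at this
    have hU : S = ({a, b} : Finset Cfsg.GolayPt) ∆ (S \ {a, b}) := by
      ext x
      simp only [Finset.mem_symmDiff, Finset.mem_sdiff]
      by_cases hx : x ∈ ({a, b} : Finset Cfsg.GolayPt)
      · simp [hx, hsub hx]
      · simp [hx]
    have hlt : S \ {a, b} ⊂ S := (Finset.ssubset_iff_of_subset Finset.sdiff_subset).2
      ⟨a, ha, fun h => (Finset.mem_sdiff.1 h).2 (Finset.mem_insert_self a {b})⟩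
    conv_lhs => rw [hU]
    conv_rhs => rw [hU]
    rw [Finset.smul_finset_symmDiff, eS_symmDiff hc B, eS_symmDiff hc B, ← ih _ hlt (by omega),
      Finset.smul_finset_insert, Finset.smul_finset_singleton]
    show m * (eS B {a, b} * eS B (S \ {a, b})) * m⁻¹ = eS B {π a, π b} * (m * eS B (S \ {a, b}) * m⁻¹)
    rw [← h a b hab]
    group

include hc in
theorem pi_mem {m : G} {π : Equiv.Perm Cfsg.GolayPt}
    (h : ∀ p q, p ≠ q → m * eS B {p, q} * m⁻¹ = eS B {π p, π q}) : π ∈ Cfsg.M24 := by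
  rw [Cfsg.Agent.Golay.mem_M24_iff]
  intro S hS
  obtain ⟨he, h0⟩ := ev_supports hS
  refine supports_of_ev (by rw [Finset.card_smul_finset]; exact he) ?_
  refine B.eg_inj hc (ev_lt _) (by norm_num) ?_
  have := pi_even hc B h S he
  rw [eS, h0, B.eg_zero hc] at this
  rw [B.eg_zero hc]
  exact (this.symm.trans (by group))

include hc in
theorem eS_inj_pair {p q p' q' : Cfsg.GolayPt} (h : p ≠ q) (h' : p' ≠ q') (e : eS B {p, q} = eS B {p', q'}) :
    ({p, q} : Finset Cfsg.GolayPt) = {p', q'} :=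
  pair_inj (Finset.card_pair h) (Finset.card_pair h') (B.eg_inj hc (ev_lt _) (ev_lt _) e)

include hc hN in
/-- The action on the points. -/
theorem exists_hom (hF : Cfsg.IsOfLargeFischerTypeAt z Q) : ∃ Φ : ↥(MG cv) →* ↥Cfsg.M24,
    (∀ m p q, p ≠ q → m.1 * eS B {p, q} * m.1⁻¹ = eS B {(Φ m).1 p, (Φ m).1 q}) ∧
      Φ.ker = (AG cv).subgroupOf (MG cv) ∧ Function.Surjective Φ := by
  choose π hπ using fun m : ↥(MG cv) => exists_pi hc B hN m.2
  have hu : ∀ (m : ↥(MG cv)) (ρ : Equiv.Perm Cfsg.GolayPt),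
      (∀ p q, p ≠ q → m.1 * eS B {p, q} * m.1⁻¹ = eS B {ρ p, ρ q}) → π m = ρ := fun m ρ h =>
    perm_unique fun p q hpq => eS_inj_pair hc B ((π m).injective.ne hpq) (ρ.injective.ne hpq)
      ((hπ m p q hpq).symm.trans (h p q hpq))
  let Φ : ↥(MG cv) →* ↥Cfsg.M24 := MonoidHom.mk' (fun m => ⟨π m, pi_mem hc B (hπ m)⟩) fun m n =>
    Subtype.ext (hu _ _ fun p q hpq => by
      show m.1 * n.1 * eS B {p, q} * (m.1 * n.1)⁻¹ = eS B {π m (π n p), π m (π n q)}
      rw [← hπ m _ _ ((π n).injective.ne hpq), ← hπ n p q hpq]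
      group)
  have hker : Φ.ker = (AG cv).subgroupOf (MG cv) := by
    ext m
    rw [MonoidHom.mem_ker, mem_subgroupOf, Subtype.ext_iff]
    show π m = 1 ↔ _
    constructor
    · intro h1
      rw [← centralizer_AG cv hc hF, mem_centralizer_iff]
      have hcomm : ∀ p q, p ≠ q → Commute m.1 (eS B {p, q}) := fun p q hpq => by
        have := hπ m p q hpq
        rw [h1] at this
        exact mul_inv_eq_iff_eq_mul.1 this
      have hpow : ∀ n < 11, Commute m.1 (B.eg (2 ^ n)) := fun n hn => by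
        obtain ⟨p, hp, q, hq, r, hr, s, hs, e⟩ := isN_span n hn
        have hd : ∀ p q : ℕ, p < 24 → q < 24 → Commute m.1 (B.eg (pp p ^^^ pp q)) := fun p q hp hq => by
          by_cases hpq : p = q
          · rw [hpq, Nat.xor_self, B.eg_zero hc]; exact Commute.one_right _
          · have hne : Cfsg.Agent.Golay.pt ⟨p, hp⟩ ≠ Cfsg.Agent.Golay.pt ⟨q, hq⟩ := fun e' => by
              have := congrArg Cfsg.Agent.Golay.idx e'
              rw [Cfsg.Agent.Golay.idx_pt, Cfsg.Agent.Golay.idx_pt] at this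
              exact hpq this
            have := hcomm _ _ hne
            rwa [eS, ev_pair hne, Cfsg.Agent.Golay.idx_pt, Cfsg.Agent.Golay.idx_pt] at this
        rcases e with e | e
        · rw [← e, B.eg_xor hc]
          exact (hd p q hp hq).mul_right (hd r s hr hs)
        · rw [← e]
          exact hd p q hp hq
      have hall : ∀ n ≤ 11, ∀ i < 2 ^ n, Commute m.1 (B.eg i) := by
        intro n
        induction n with
        | zero => intro _ i hi; rw [show i = 0 by simpa using hi, B.eg_zero hc]; exact Commute.one_right _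
        | succ n ih =>
          intro hn i hi
          by_cases hlt : i < 2 ^ n
          · exact ih (by omega) i hlt
          · have hb : i ^^^ 2 ^ n < 2 ^ n := by
              refine Nat.lt_pow_two_of_testBit _ fun j hj => ?_
              rw [Nat.testBit_xor, Nat.testBit_two_pow]
              rcases eq_or_lt_of_le hj with rfl | hj'
              · simp only [decide_true, Bool.xor_true, Bool.not_eq_false']
                rw [Nat.testBit_eq_decide_div_mod_eq, decide_eq_true_iff, pow_succ] at *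
                have h1 : i / 2 ^ n = 1 := Nat.div_eq_of_lt_le (by omega) (by omega)
                rw [h1]
              · rw [Nat.testBit_lt_two_pow (lt_of_lt_of_le hi (Nat.pow_le_pow_right (by norm_num) hj'))]
                simp
                omega
            rw [show i = (i ^^^ 2 ^ n) ^^^ 2 ^ n by rw [Nat.xor_assoc, Nat.xor_self, Nat.xor_zero], B.eg_xor hc]
            exact (ih (by omega) _ hb).mul_right (hpow n (by omega))
      intro a ha
      obtain ⟨i, hi, rfl⟩ := B.eg_surj hc ha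
      exact (hall 11 le_rfl i hi).eq.symm
    · intro hm
      refine hu m 1 fun p q _ => ?_
      have hcm : m.1 * eS B {p, q} = eS B {p, q} * m.1 := comm_of_sq (AG_sq cv) hm (B.eg_mem hc _)
      rw [hcm, mul_inv_cancel_right]
      rfl
  refine ⟨Φ, fun m p q h => hπ m p q h, hker, ?_⟩
  have hr : Φ.range = ⊤ := by
    refine Subgroup.eq_top_of_le_card _ ?_
    rw [Cfsg.Agent.Golay.card_M24]
    have h1 := Subgroup.card_eq_card_quotient_mul_card_subgroup Φ.ker
    rw [Nat.card_congr (QuotientGroup.quotientKerEquivRange Φ).toEquiv, hker,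
      Nat.card_congr (subgroupOfEquivOfLe (show AG cv ≤ MG cv from le_normalizer)).toEquiv, card_AG cv hc,
      ← card_orbit cv hc hF, (B.classify hc hF).1] at h1
    have h2 := Nat.mul_le_mul_left 1771 (le_card_inf cv hc hF)
    omega
  exact MonoidHom.range_eq_top.1 hr

end Cfsg.Agent.LargeFischer.Big
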