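import Cfsg.Agent.Lib.LargeFischer.BigFusion

/-! The orbit of elements not conjugate to the central involution. -/

set_option autoImplicit false
set_option maxRecDepth 100000
set_option maxHeartbeats 200000

namespace Cfsg.Agent.LargeFischer.Big

open Cfsg.Agent.RigidGraph.He Cfsg.Agent.U43InU62 Cfsg.Agent.LargeExtra
open Subgroup
open scoped Matrix

attribute [local irreducible] tm elN TT

theorem mul128_xor : ∀ k < 16, ∀ l < 16, (128 * k) ^^^ (128 * l) = 128 * (k ^^^ l) := by decide +kernel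

theorem pow_mul128 : ∀ j : Fin 4, (2 : ℕ) ^ (j : ℕ) < 16 ∧ (2 : ℕ) ^ (j : ℕ) = [1, 2, 4, 8].getD j 0 := by decide

theorem shift_zero : ∀ m < 64, shift 0 m = 0 := by decide +kernel

theorem pik_zero : ∀ g : Fin 2, pik g 0 = 0 := by decide +kernel

theorem flip_index : ∀ x < 64, (2 * x) ^^^ 0 ^^^ 1 = 2 * x + 1 := by decide +kernel

theorem oneL_lt : ∀ x ∈ oneL, x < 64 ∧ x ≠ 0 := by decide +kernel

theorem eOf_surj : ∀ b0 b1 b2 b3 b4 b5 b6 b7 b8 b9 b10 : Bool, ∃ n < 2048, ∀ k < 16, eOf n k =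
    [false, false, false, b0, false, b1, b2, b3, false, b4, b5, b6, b7, b8, b9, b10].getD k false := by
  intro b0 b1 b2 b3 b4 b5 b6 b7 b8 b9 b10
  refine ⟨b0.toNat + 2 * b1.toNat + 4 * b2.toNat + 8 * b3.toNat + 16 * b4.toNat + 32 * b5.toNat + 64 * b6.toNat +
    128 * b7.toNat + 256 * b8.toNat + 512 * b9.toNat + 1024 * b10.toNat, ?_, ?_⟩ <;>
  · revert b0 b1 b2 b3 b4 b5 b6 b7 b8 b9 b10
    decide +kernel

variable {G : Type*} [Group G] [Finite G] {z : G} {Q : Subgroup ↥(centralizer ({z} : Set G))} [Q.Normal]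
  {D : Model z Q} {cv : Cover D}

include D in
theorem mem_MG_of_spec (hc : cv.c = K4.w) (B : Basis cv) {c : ↥(centralizer ({z} : Set G))}
    (h : ∀ i < 2048, ∃ j, c * B.El i * c⁻¹ = B.El j) : c.1 ∈ MG cv := by
  have hle : (AG cv).map (MulAut.conj c.1).toMonoidHom ≤ AG cv := by
    rintro _ ⟨a, ha, rfl⟩
    obtain ⟨i, hi, rfl⟩ := B.eg_surj hc ha
    obtain ⟨j, hj⟩ := h i hi
    exact ⟨B.El j, B.El_mem hc j, (congrArg Subtype.val hj).symm⟩
  have heq : (AG cv).map (MulAut.conj c.1).toMonoidHom = AG cv :=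
    Subgroup.eq_of_le_of_card_ge hle (card_map_of_injective (MulAut.conj c.1).injective).ge
  refine Subgroup.mem_normalizer_iff.2 fun a => ⟨fun ha => hle ⟨a, ha, rfl⟩, fun ha => ?_⟩
  obtain ⟨b, hb, e⟩ := heq.ge ha
  exact (MulAut.conj c.1).injective (show MulAut.conj c.1 b = MulAut.conj c.1 a from e) ▸ hb

namespace Basis

variable (B : Basis cv)

/-- Conjugacy under the normaliser in coordinates. -/
def Rel (i j : ℕ) : Prop := ∃ m ∈ MG cv, m * B.eg i * m⁻¹ = B.eg j

theorem Rel.trans {i j k : ℕ} (h1 : B.Rel i j) (h2 : B.Rel j k) : B.Rel i k := by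
  obtain ⟨m, hm, e⟩ := h1
  obtain ⟨n, hn, e'⟩ := h2
  exact ⟨n * m, mul_mem hn hm, by rw [← e', ← e]; group⟩

theorem Rel.symm {i j : ℕ} (h : B.Rel i j) : B.Rel j i := by
  obtain ⟨m, hm, e⟩ := h
  exact ⟨m⁻¹, inv_mem hm, by rw [← e]; group⟩

theorem Rel.refl (i : ℕ) : B.Rel i i := ⟨1, one_mem _, by group⟩

variable (hc : cv.c = K4.w)

include hc in
theorem rel_sh {m i : ℕ} (hm : m < 64) (hi : i < 2048) : B.Rel i (sh m i) :=
  ⟨(uC cv (yv m)).1, mem_MG_of_spec hc B fun _ hj => ⟨_, B.sh_spec hc hm hj⟩,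
    congrArg Subtype.val (B.sh_spec hc hm hi)⟩

include hc in
theorem rel_xi (i : ℕ) : B.Rel i (xi i) :=
  ⟨cv.x.1, mem_MG_of_spec hc B fun _ _ => ⟨_, B.xi_spec hc⟩, congrArg Subtype.val (B.xi_spec hc)⟩

include hc in
theorem rel_cls {i : ℕ} (hi : i < 2048) (h : 128 ≤ i) : B.Rel (rep (i / 128) (cls i)) i := by
  have hw := wit_ok i hi h
  unfold witOK at hw
  rw [decide_eq_true_iff] at hw
  have hk : i / 128 < 16 := by omega
  have hrep : rep (i / 128) (cls i) < 2048 := by
    have hv := vrL_lt _ hk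
    have := hw.1
    unfold rep
    split_ifs <;> omega
  have hxi : ∀ n : ℕ, xi^[n] (rep (i / 128) (cls i)) < 2048 ∧
      B.Rel (rep (i / 128) (cls i)) (xi^[n] (rep (i / 128) (cls i))) := by
    intro n
    induction n with
    | zero => exact ⟨hrep, Rel.refl B _⟩
    | succ n ih =>
      rw [Function.iterate_succ_apply']
      exact ⟨xi_lt ih.1, Rel.trans B ih.2 (B.rel_xi hc _)⟩
  obtain ⟨h1, h2⟩ := hxi (wit i / 64 % 3)
  have := Rel.trans B h2 (B.rel_sh hc (m := wit i % 64) (Nat.mod_lt _ (by norm_num)) h1)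
  rwa [hw.2] at this

include hc in
/-- The action of a lift on the outer coordinates. -/
theorem lift_eta (hF : Cfsg.IsOfLargeFischerTypeAt z Q) (g : Fin 2) :
    ∃ η : ℕ → ℕ, (∀ k < 16, η k < 2 ∧ ∀ δ < 2, ∀ x < 64,
      B.Rel (δ + 2 * x + 128 * k) ((δ + η k) % 2 + 2 * gu g x + 128 * pik g k)) ∧
      (∀ k < 16, ∀ l < 16, η (k ^^^ l) = η k ^^^ η l) ∧
      ∀ k < 16, 1 ≤ k → η k = (B.fb (128 * k) != B.fb (128 * pik g k)).toNat := by
  obtain ⟨l, -, -, η, hη⟩ := B.exists_lift_spec hc g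
  have hlM : l.1 ∈ MG cv := mem_MG_of_spec hc B fun i hi => by
    obtain ⟨-, h⟩ := hη (i / 128) (by omega)
    refine ⟨((i % 2 + η (i / 128)) % 2) + 2 * gu g (i / 2 % 64) + 128 * pik g (i / 128), ?_⟩
    rw [← h (i % 2) (Nat.mod_lt _ (by norm_num)) (i / 2 % 64) (Nat.mod_lt _ (by norm_num))]
    congr 3
    omega
  refine ⟨η, fun k hk => ⟨(hη k hk).1, fun δ hδ x hx => ⟨l.1, hlM, congrArg Subtype.val ((hη k hk).2 δ hδ x hx)⟩⟩,
    fun k hk k' hk' => ?_, fun k hk hk1 => ?_⟩
  · have hkk : k ^^^ k' < 16 := Nat.xor_lt_two_pow (n := 4) hk hk'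
    have e : ∀ j < 16, l * B.El (128 * j) * l⁻¹ = B.El (η j + 128 * pik g j) := fun j hj => by
      have h := (hη j hj).2 0 (by norm_num) 0 (by norm_num)
      rw [gu_zero, zero_add, zero_add, Nat.mod_eq_of_lt (hη j hj).1, mul_zero, zero_add, add_zero] at h
      exact h
    have e3 := e _ hkk
    rw [← mul128_xor k hk k' hk', B.El_xor hc,
      show l * (B.El (128 * k) * B.El (128 * k')) * l⁻¹ = (l * B.El (128 * k) * l⁻¹) * (l * B.El (128 * k') * l⁻¹) by group,
      e k hk, e k' hk', ← B.El_xor hc] at e3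
    have hlt : ∀ j < 16, η j + 128 * pik g j < 2048 := fun j hj => by
      have := (hη j hj).1
      have := (pik_ok g j hj).1
      omega
    have h := B.El_inj hc (Nat.xor_lt_two_pow (n := 11) (hlt k hk) (hlt k' hk')) (hlt _ hkk) e3
    have h2 := congrArg (· % 2) h
    rw [(xor_parts _ _).1] at h2
    have a := (hη k hk).1
    have b := (hη k' hk').1
    have c := (hη _ hkk).1
    simp only [Nat.add_mul_mod_self_left, show ∀ a b : ℕ, (a + 128 * b) % 2 = a % 2 from fun a b => by omega,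
      Nat.mod_eq_of_lt a, Nat.mod_eq_of_lt b, Nat.mod_eq_of_lt c] at h2
    exact h2.symm
  · have hp := (pik_ok g k hk).1
    have hp1 := pik_pos g k hk hk1
    have h := (hη k hk).2 0 (by norm_num) 0 (by norm_num)
    rw [gu_zero, zero_add, zero_add, Nat.mod_eq_of_lt (hη k hk).1, mul_zero, zero_add, add_zero] at h
    have hb := B.fb_congr l h
    obtain ⟨-, -, hpair⟩ := B.classify hc hF
    have := hpair _ hp hp1
    rcases (show η k = 0 ∨ η k = 1 by have := (hη k hk).1; omega) with e | e <;> rw [e] at hb ⊢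
    · rw [zero_add] at hb
      rw [hb]
      simp
    · rw [add_comm, this] at hb
      rw [← hb]
      cases B.fb (128 * pik g k) <;> rfl

include B hc in
/-- A basis whose members are not conjugate to the central involution. -/
theorem exists_norm (hF : Cfsg.IsOfLargeFischerTypeAt z Q) :
    ∃ B' : Basis cv, ∀ j : Fin 4, B'.fb (128 * 2 ^ (j : ℕ)) = false := by
  classical
  let b' : Fin 4 → ↥(centralizer ({z} : Set G)) := fun j =>
    if B.fb (128 * 2 ^ (j : ℕ)) then zel z * B.b j else B.b j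
  have hzB : zel z ∈ cv.BA 1 := ⟨cv.z_mem, show QuotientGroup.mk' Q (zel z) ∈ D.AR 1 by
    rw [show QuotientGroup.mk' Q (zel z) = 1 from (QuotientGroup.eq_one_iff _).2 D.zel_mem]; exact one_mem _⟩
  let B' : Basis cv := ⟨b', fun j => by
    simp only [b']; split_ifs
    exacts [mul_mem hzB (B.mem j), B.mem j], fun j => by
    simp only [b']; split_ifs
    · rw [QuotientGroup.mk_mul, (QuotientGroup.eq_one_iff _).2 D.zel_mem, one_mul, B.img]
    · exact B.img j⟩
  refine ⟨B', fun j => ?_⟩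
  obtain ⟨hlt, -⟩ := pow_mul128 j
  have hz0 : uC cv (vd 0) = 1 := by
    rw [uC, show vd 0 = 0 from by decide +kernel, uq_zero cv hc, map_one]
  have hbp : ∀ C : Basis cv, C.bp (2 ^ (j : ℕ)) = C.b j := fun C => by
    fin_cases j <;> simp +decide [Basis.bp]
  have hel : ∀ C : Basis cv, ∀ δ < 2, C.El (128 * 2 ^ (j : ℕ) + δ) = zel z ^ δ * C.b j := fun C δ hδ => by
    have := C.El_parts (δ := δ) (x := 0) (k := 2 ^ (j : ℕ)) hδ (by norm_num)
    rw [hz0, mul_one, hbp] at this
    rw [← this]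
    congr 1
    omega
  obtain ⟨-, -, hpair⟩ := B.classify hc hF
  have hp := hpair _ hlt (Nat.one_le_two_pow)
  have h0 := hel B' 0 (by norm_num)
  rw [pow_zero, one_mul, add_zero] at h0
  by_cases hb : B.fb (128 * 2 ^ (j : ℕ)) = true
  · rw [hb, Bool.not_true] at hp
    rw [← hp, Bool.eq_iff_iff, fb_iff, fb_iff, eg, eg, h0, hel B 1 (by norm_num), pow_one]
    simp [B', b', hb]
  · have h1 := hel B 0 (by norm_num)
    rw [pow_zero, one_mul, add_zero] at h1
    rw [← Bool.eq_false_iff.2 hb, Bool.eq_iff_iff, fb_iff, fb_iff, eg, eg, h0, h1]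
    simp [B', b', hb]

variable (hn : ∀ j : Fin 4, B.fb (128 * 2 ^ (j : ℕ)) = false)

include hc hn in
/-- The parameters form one of four lists. -/
theorem exists_table (hF : Cfsg.IsOfLargeFischerTypeAt z Q) :
    ∃ t ∈ eTable, ∀ k < 16, t.getD k false = B.fb (128 * k) := by
  let e : ℕ → Bool := fun k => B.fb (128 * k)
  obtain ⟨n, hn2, hnk⟩ := eOf_surj (e 3) (e 5) (e 6) (e 7) (e 9) (e 10) (e 11) (e 12) (e 13) (e 14) (e 15)
  have he : ∀ k < 16, eOf n k = e k := fun k hk => by
    rw [hnk k hk]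
    have h1 : e 1 = false := hn 0
    have h2 : e 2 = false := hn 1
    have h4 : e 4 = false := hn 2
    have h8 : e 8 = false := hn 3
    have h0 : e 0 = false := B.fb_zero hc
    interval_cases k <;> simp [h0, h1, h2, h4, h8]
  refine (inv_cases n hn2 ?_).imp fun t ht => ⟨ht.1, fun k hk => (ht.2 k hk).trans (he k hk)⟩
  unfold invB
  simp only [List.all_eq_true, List.mem_range, decide_eq_true_eq]
  intro k hk l hl g _
  have hkl : k ^^^ l < 16 := Nat.xor_lt_two_pow (n := 4) hk hl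
  obtain ⟨η, -, hhom, heta⟩ := B.lift_eta hc hF g
  have hall : ∀ j < 16, η j = (e j != e (pik g j)).toNat := fun j hj => by
    rcases Nat.eq_zero_or_pos j with rfl | hj1
    · have h00 := hhom 0 (by norm_num) 0 (by norm_num)
      rw [Nat.xor_self] at h00
      simp only [Nat.xor_self] at h00
      rw [h00, pik_zero g]
      simp
    · exact heta j hj hj1
  have hp := fun j hj => (pik_ok g j hj).1
  rw [he k hk, he l hl, he _ hkl, he _ (hp k hk), he _ (hp l hl), he _ (hp _ hkl)]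
  have h := hhom k hk l hl
  rw [hall k hk, hall l hl, hall _ hkl] at h
  revert h
  generalize e k = a
  generalize e l = b
  generalize e (k ^^^ l) = c
  generalize e (pik g k) = a'
  generalize e (pik g l) = b'
  generalize e (pik g (k ^^^ l)) = c'
  revert a b c a' b' c'
  decide

variable (t : List Bool) (ht : ∀ k < 16, t.getD k false = B.fb (128 * k))

include hc ht in
theorem inN_iff (hF : Cfsg.IsOfLargeFischerTypeAt z Q) {i : ℕ} (hi : i < 2048) :
    inN t i = true ↔ i ≠ 0 ∧ ¬ IsConj z (B.eg i) := by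
  rw [← fb_iff]
  unfold inN
  by_cases h : i < 128
  · rw [if_pos h, B.fb_base hc hF h, base, decide_eq_true_iff, decide_eq_true_iff]
    constructor
    · intro hm
      refine ⟨fun e => ?_, fun hh => hh.2 hm⟩
      rw [e] at hm
      exact absurd hm (by decide +kernel)
    · rintro ⟨h0, hh⟩
      by_contra hm
      exact hh ⟨h0, hm⟩
  · rw [if_neg h]
    have hk : i / 128 < 16 := by omega
    obtain ⟨-, hσ, hpair⟩ := B.classify hc hF
    have hp := B.fb_pick hc (j := i % 128) hk (by omega) (Nat.mod_lt _ (by norm_num))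
    rw [Nat.div_add_mod, (B.fb_const hc hk (by omega)).1, hσ, hpair _ hk (by omega), ← ht _ hk] at hp
    rw [hp, ht _ hk]
    have h3 := wit_ok i hi (by omega)
    unfold witOK at h3
    rw [decide_eq_true_iff] at h3
    have := h3.1
    have h0 : i ≠ 0 := by omega
    rcases (show cls i = 0 ∨ cls i = 1 ∨ cls i = 2 by omega) with e | e | e <;> rw [e] <;>
      cases B.fb (128 * (i / 128)) <;> simp [pick, h0]

include hc in
/-- The normaliser moves the elements inside Q out of it. -/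
theorem exists_out (hF : Cfsg.IsOfLargeFischerTypeAt z Q) :
    ∃ x ∈ oneL, ∃ δ < 2, ∃ j < 2048, 128 ≤ j ∧ B.Rel (δ + 2 * x) j := by
  by_contra hcon
  push Not at hcon
  let W : Set G := {a | ∃ i < 128, B.eg i = a}
  have hW : ∀ m ∈ MG cv, ∀ x ∈ oneL, ∀ δ < 2, m * B.eg (δ + 2 * x) * m⁻¹ ∈ W := fun m hm x hx δ hδ => by
    obtain ⟨j, hj, e⟩ := B.eg_surj hc (conj_mem_AG cv hm (B.eg_mem hc (δ + 2 * x)))
    refine ⟨j, ?_, e⟩
    by_contra h
    exact hcon x hx δ hδ j hj (by omega) ⟨m, hm, e.symm⟩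
  obtain ⟨x, hx, y, hy, δ, hδ, δ', hδ', e⟩ := oneL_span 0 (by norm_num)
  obtain ⟨-, hσ, -⟩ := B.classify hc hF
  have hrep : rep 1 2 < 2048 ∧ 128 ≤ rep 1 2 := by decide +kernel
  obtain ⟨g, hg⟩ := isConj_iff.1 (B.fb_iff.1 hσ)
  obtain ⟨m, hm, em⟩ := fusion cv hc hF (z_mem_AG cv) (hg.symm ▸ B.eg_mem hc _ : g * z * g⁻¹ ∈ AG cv)
  obtain ⟨i1, hi1, e1⟩ := hW m hm x hx δ hδ
  obtain ⟨i2, hi2, e2⟩ := hW m hm y hy δ' hδ'
  have h : B.eg (i1 ^^^ i2) = B.eg (rep 1 2) := by
    rw [B.eg_xor hc, e1, e2, ← hg, ← em]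
    conv_rhs => rw [← B.eg_one hc, show (1 : ℕ) = 2 ^ 0 from rfl, ← e, B.eg_xor hc]
    group
  have h128 : i1 ^^^ i2 < 128 := Nat.xor_lt_two_pow (n := 7) hi1 hi2
  have := B.eg_inj hc (by omega) hrep.1 h
  omega

include hc ht in
/-- The normaliser is transitive on the elements not conjugate to the central involution. -/
theorem rel_N (hF : Cfsg.IsOfLargeFischerTypeAt z Q) {i : ℕ} (hi : i < 2048) (hN : inN t i = true) : B.Rel 2 i := by
  have hW : ∀ x ∈ oneL, ∀ δ < 2, B.Rel 2 (δ + 2 * x) := by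
    intro x hx δ hδ
    have key : ∀ w : List (Fin 2), ∀ y < 64, B.Rel (2 * y) (2 * runU w y) := by
      intro w
      induction w with
      | nil => exact fun y _ => Rel.refl B _
      | cons g w ih =>
        intro y hy
        obtain ⟨η, hη, hhom, -⟩ := B.lift_eta hc hF g
        have h00 := hhom 0 (by norm_num) 0 (by norm_num)
        simp only [Nat.xor_self] at h00
        have h := (hη 0 (by norm_num)).2 0 (by norm_num) y hy
        rw [h00, pik_zero g] at h
        simp only [mul_zero, add_zero, zero_add, Nat.zero_mod] at h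
        exact Rel.trans B h (ih _ (gu_ok g y hy).1)
    obtain ⟨hx64, hx0⟩ := oneL_lt x hx
    have h1 : B.Rel 2 (2 * x) := by
      have := key (wordU.getD (oneL.idxOf x) []) 1 (by norm_num)
      rwa [wordU_ok x hx] at this
    rcases (show δ = 0 ∨ δ = 1 by omega) with rfl | rfl
    · rwa [zero_add]
    · obtain ⟨m, hm, hp⟩ := flip_ok x hx64 hx0
      have h2 := B.rel_sh hc hm (show 2 * x < 2048 by omega)
      rw [sh, show 2 * x / 128 = 0 by omega, show 2 * x / 2 % 64 = x by omega, shift_zero m hm, hp,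
        flip_index x hx64, add_comm] at h2
      exact Rel.trans B h1 h2
  let rN : ℕ → ℕ := fun k => 128 * k + (B.fb (128 * k)).toNat
  have hto : ∀ j < 2048, 128 ≤ j → inN t j = true → B.Rel (rN (j / 128)) j := fun j hj h128 hNj => by
    have hk : j / 128 < 16 := by omega
    have h := B.rel_cls hc hj h128
    unfold inN at hNj
    rw [if_neg (by omega), ht _ hk] at hNj
    cases hb : B.fb (128 * (j / 128)) <;> rw [hb] at hNj <;> simp at hNj <;> rw [hNj] at h <;>
      simpa [rN, rep, hb] using h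
  have hconn : ∀ k < 16, 1 ≤ k → B.Rel (rN 1) (rN k) := by
    intro k hk hk1
    have key : ∀ w : List (Fin 2), ∀ j < 16, 1 ≤ j → B.Rel (rN j) (rN (runK w j)) := by
      intro w
      induction w with
      | nil => exact fun j _ _ => Rel.refl B _
      | cons g w ih =>
        intro j hj hj1
        obtain ⟨η, hη, -, heta⟩ := B.lift_eta hc hF g
        have hb2 : (B.fb (128 * j)).toNat < 2 := Bool.toNat_lt _
        have h := (hη j hj).2 _ hb2 0 (by norm_num)
        rw [gu_zero, heta j hj hj1] at h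
        simp only [mul_zero, add_zero] at h
        rw [add_comm] at h
        have e : ((B.fb (128 * j)).toNat + (B.fb (128 * j) != B.fb (128 * pik g j)).toNat) % 2 =
            (B.fb (128 * pik g j)).toNat := by
          cases B.fb (128 * j) <;> cases B.fb (128 * pik g j) <;> rfl
        rw [e, add_comm ((B.fb (128 * pik g j)).toNat)] at h
        exact Rel.trans B h (ih _ (pik_ok g j hj).1 (pik_pos g j hj hj1))
    have := key (wordK.getD (k - 1) []) 1 (by norm_num) (le_refl _)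
    rwa [wordK_ok k hk hk1] at this
  obtain ⟨x, hx, δ, hδ, j, hj, h128, hr⟩ := B.exists_out hc hF
  obtain ⟨hx64, -⟩ := oneL_lt x hx
  have hNj : inN t j = true := by
    have hx1 : inN t (δ + 2 * x) = true := by
      unfold inN
      rw [if_pos (by omega), decide_eq_true_iff, show (δ + 2 * x) / 2 % 64 = x by omega]
      exact hx
    obtain ⟨-, hn1⟩ := (B.inN_iff hc t ht hF (by omega)).1 hx1
    refine (B.inN_iff hc t ht hF hj).2 ⟨by omega, fun h => hn1 ?_⟩
    obtain ⟨m, -, e⟩ := hr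
    exact (conj_iff m).1 (e ▸ h)
  by_cases h : i < 128
  · have hxi : i / 2 % 64 ∈ oneL := by
      unfold inN at hN
      rw [if_pos h, decide_eq_true_iff] at hN
      exact hN
    have := hW _ hxi (i % 2) (Nat.mod_lt _ (by norm_num))
    rwa [show i % 2 + 2 * (i / 2 % 64) = i by omega] at this
  · have h1 := Rel.trans B (Rel.trans B (hW x hx δ hδ) hr) (Rel.symm B (hto j hj h128 hNj))
    have h2 := Rel.trans B (Rel.symm B (hconn _ (show j / 128 < 16 by omega) (by omega))) (hconn _ (show i / 128 < 16 by omega) (by omega))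
    exact Rel.trans B (Rel.trans B h1 h2) (hto i hi (by omega) hN)

include hc ht in
theorem deg_eq (hF : Cfsg.IsOfLargeFischerTypeAt z Q) {a b : ℕ} (ha : a < 2048) (hb : b < 2048) (h : B.Rel a b) :
    degN t a = degN t b := by
  obtain ⟨m, hm, e⟩ := h
  have hex : ∀ y, ∃ j < 2048, B.eg j = m * B.eg y * m⁻¹ := fun y =>
    B.eg_surj hc (conj_mem_AG cv hm (B.eg_mem hc y))
  choose σ hσ hσe using hex
  have hNσ : ∀ y < 2048, inN t (σ y) = inN t y := fun y hy => by
    rw [Bool.eq_iff_iff, B.inN_iff hc t ht hF (hσ y), B.inN_iff hc t ht hF hy, hσe, conj_iff]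
    refine and_congr_left fun _ => not_congr ⟨fun h0 => ?_, fun h0 => ?_⟩
    · have := hσe y
      rw [h0, B.eg_zero hc, eq_comm, conj_eq_one_iff] at this
      exact B.eg_inj hc hy (by norm_num) (this.trans (B.eg_zero hc).symm)
    · refine B.eg_inj hc (hσ y) (by norm_num) ?_
      rw [hσe, h0, B.eg_zero hc]
      group
  have hσx : ∀ x < 2048, ∀ y < 2048, σ (x ^^^ y) = σ x ^^^ σ y := fun x hx y hy => by
    refine B.eg_inj hc (hσ _) (Nat.xor_lt_two_pow (n := 11) (hσ x) (hσ y)) ?_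
    rw [hσe, B.eg_xor hc, B.eg_xor hc, hσe, hσe]
    group
  have hσa : σ a = b := B.eg_inj hc (hσ a) hb ((hσe a).trans e)
  have hnd : ∀ x, ((List.range 2048).filter fun y => inN t y && inN t (x ^^^ y)).Nodup := fun x =>
    List.nodup_range.filter _
  have hinj : ∀ u < 2048, ∀ v < 2048, σ u = σ v → u = v := fun u hu v hv h => by
    refine B.eg_inj hc hu hv ?_
    have := (hσe u).symm.trans ((congrArg B.eg h).trans (hσe v))
    exact mul_left_cancel (mul_right_cancel this)
  have hsurj : ∀ v < 2048, ∃ u < 2048, σ u = v := fun v hv => by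
    obtain ⟨u, hu, e'⟩ := B.eg_surj hc (conj_mem_AG cv (inv_mem hm) (B.eg_mem hc v))
    refine ⟨u, hu, B.eg_inj hc (hσ u) hv ?_⟩
    rw [hσe, e']
    group
  unfold degN
  rw [← List.toFinset_card_of_nodup (hnd a), ← List.toFinset_card_of_nodup (hnd b)]
  refine Finset.card_bij (fun y _ => σ y) (fun y hy => ?_) (fun u hu v hv h => ?_) (fun v hv => ?_)
  · simp only [List.mem_toFinset, List.mem_filter, List.mem_range, Bool.and_eq_true] at hy ⊢
    refine ⟨hσ y, (hNσ y hy.1).trans hy.2.1, ?_⟩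
    rw [← hσa, ← hσx a ha y hy.1, hNσ _ (Nat.xor_lt_two_pow (n := 11) ha hy.1)]
    exact hy.2.2
  · simp only [List.mem_toFinset, List.mem_filter, List.mem_range] at hu hv
    exact hinj u hu.1 v hv.1 h
  · simp only [List.mem_toFinset, List.mem_filter, List.mem_range, Bool.and_eq_true] at hv ⊢
    obtain ⟨u, hu, rfl⟩ := hsurj v hv.1
    refine ⟨u, ⟨hu, (hNσ u hu).symm.trans hv.2.1, ?_⟩, rfl⟩
    rw [← hNσ _ (Nat.xor_lt_two_pow (n := 11) ha hu), hσx a ha u hu, hσa]
    exact hv.2.2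

end Basis

/-- Coordinates in which the elements not conjugate to the central involution are a fixed set. -/
theorem exists_good (cv : Cover D) (hc : cv.c = K4.w) (hF : Cfsg.IsOfLargeFischerTypeAt z Q) :
    ∃ B : Basis cv, (∀ i < 2048, isN i = true ↔ i ≠ 0 ∧ ¬ IsConj z (B.eg i)) ∧
      ∀ i < 2048, isN i = true → B.Rel 2 i := by
  obtain ⟨B0⟩ := exists_basis cv
  obtain ⟨B, hn⟩ := B0.exists_norm hc hF
  obtain ⟨t, htm, ht⟩ := B.exists_table hc hn hF
  have h128 : inN t (128 * 1 + 0) = true := by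
    have h1 : B.fb (128 * 2 ^ ((0 : Fin 4) : ℕ)) = false := hn 0
    rw [B.inN_iff hc t ht hF (by norm_num), ← Basis.fb_iff]
    refine ⟨by norm_num, ?_⟩
    show ¬ B.fb (128 * 2 ^ ((0 : Fin 4) : ℕ)) = true
    rw [h1]
    decide
  have heq : t = eTable.getD 2 [] :=
    deg_cut t htm (B.deg_eq hc t ht hF (by norm_num) (by norm_num) (B.rel_N hc t ht hF (by norm_num) h128))
  refine ⟨B, fun i hi => ?_, fun i hi h => B.rel_N hc t ht hF hi (by rw [heq]; exact h)⟩
  rw [show isN i = inN t i by rw [heq]; rfl]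
  exact B.inN_iff hc t ht hF hi

end Cfsg.Agent.LargeFischer.Big
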