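import Cfsg.Agent.Lib.LargeFischer.BigElem
import Mathlib.GroupTheory.Nilpotent

/-! The large abelian subgroup in the whole group: uniqueness, centraliser and fusion. -/

set_option autoImplicit false
set_option maxRecDepth 100000
set_option maxHeartbeats 200000

namespace Cfsg.Agent.LargeFischer.Big

open Cfsg.Agent.RigidGraph.He Cfsg.Agent.U43InU62 Cfsg.Agent.LargeExtra
open Subgroup
open scoped Matrix

attribute [local irreducible] tm elN TT

variable {G : Type*} [Group G] [Finite G] {z : G} {Q : Subgroup ↥(centralizer ({z} : Set G))} [Q.Normal]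
  {D : Model z Q}

theorem Bp_add (D : Model z Q) (u v w : V6) : Bp (u + v) w = (Bp u w + Bp v w) % 2 := by
  obtain ⟨a, rfl⟩ := D.vec_surjective u
  obtain ⟨b, rfl⟩ := D.vec_surjective v
  obtain ⟨c, rfl⟩ := D.vec_surjective w
  have h : ((Bp (D.vec a + D.vec b) (D.vec c) : ℕ) : ZMod 2) = ((Bp (D.vec a) (D.vec c) + Bp (D.vec b) (D.vec c) : ℕ) : ZMod 2) := by
    rw [Nat.cast_add, ← D.vec_mul, Bp_chi, Bp_chi, Bp_chi, D.ctx.chi_mul]
  rw [ZMod.natCast_eq_natCast_iff'] at h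
  rw [← h]
  exact (Nat.mod_mod _ _).symm

theorem Bp_act (g : S6) (u v : V6) : Bp (act g u) (act g v) = Bp u v := by
  have e : act g u + act g v = act g (u + v) := (Matrix.mulVec_add _ _ _).symm
  have h1 := even_act_iff g (u + v)
  have h2 := even_act_iff g u
  have h3 := even_act_iff g v
  rw [Bp, Bp, e]
  omega

theorem piA_of_perp {x : V6} (h : ∀ p, piA p → Bp x p = 0) : piA x := by
  rw [vec_eta x] at h ⊢
  exact perp_coord _ _ _ _ _ _ fun j => h _ (vd_piA _)

include D in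
/-- The pointwise stabiliser of the fixed space in the copy. -/
theorem pointwise {g : ↥K0} (hg : ∀ v, piA v → act g.1 v = v) :
    g.1 ∈ A0 := by
  have hB : ∀ u v w : V6, Bp (u + v) w = (Bp u w + Bp v w) % 2 := Bp_add D
  have hmove : ∀ v, piA (act g.1 v + v) := fun v => piA_of_perp fun p hp => by
    rw [hB]
    have := Bp_act g.1 v p
    rw [hg p hp] at this
    rw [this]
    omega
  have hsq : g * g = 1 := Subtype.ext (ext_bv fun j => by
    show act (g.1 * g.1) (bv j) = act 1 (bv j)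
    have h1 := hg _ (hmove (bv j))
    rw [show act g.1 (act g.1 (bv j) + bv j) = act g.1 (act g.1 (bv j)) + act g.1 (bv j) from
      Matrix.mulVec_add _ _ _] at h1
    rw [act_mul, act_one]
    exact add_right_cancel (b := act g.1 (bv j)) (by rw [h1, add_comm]))
  have hcomm : ∀ a : ↥K0, a.1 ∈ A0 → a * g = g * a := fun a ha => Subtype.ext (ext_bv fun j => by
    show act (a.1 * g.1) (bv j) = act (g.1 * a.1) (bv j)
    have hm : piA (act a.1 (bv j) + bv j) := piA_of_perp fun p hp => by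
      rw [hB]
      have := Bp_act a.1 (bv j) p
      rw [A0_fix ha hp] at this
      rw [this]
      omega
    have h1 : act a.1 (act g.1 (bv j) + bv j) = act g.1 (bv j) + bv j := A0_fix ha (hmove _)
    have h2 : act g.1 (act a.1 (bv j) + bv j) = act a.1 (bv j) + bv j := hg _ hm
    have hadd : ∀ (k : S6) u v, act k (u + v) = act k u + act k v := fun k u v => Matrix.mulVec_add _ _ _
    rw [hadd] at h1 h2
    rw [act_mul, act_mul]
    calc act a.1 (act g.1 (bv j)) = act a.1 (act g.1 (bv j)) + (act a.1 (bv j) + act a.1 (bv j)) := by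
          rw [v6_add_self, add_zero]
      _ = act g.1 (bv j) + bv j + act a.1 (bv j) := by rw [← h1, add_assoc]
      _ = (act a.1 (bv j) + bv j) + act g.1 (bv j) := by abel
      _ = act g.1 (act a.1 (bv j)) + act g.1 (bv j) + act g.1 (bv j) := by rw [← h2]
      _ = act g.1 (act a.1 (bv j)) := by rw [add_assoc, v6_add_self, add_zero])
  set H := D.AR 1 ⊔ zpowers (D.co.tau6 g) with hH
  have hgK' : D.co.tau6 g ∈ D.env.K := D.co.tau6_mem g
  have hHK : H ≤ D.env.K := sup_le (D.AR_le 1) (zpowers_le.2 hgK')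
  have hc1 : zpowers (D.co.tau6 g) ≤ centralizer (D.AR 1 : Set (↥(centralizer ({z} : Set G)) ⧸ Q)) := by
    refine zpowers_le.2 (mem_centralizer_iff.2 fun r hr => ?_)
    obtain ⟨a, ha, rfl⟩ := D.mem_AR.1 hr
    rw [tauc_one, ← map_mul, ← map_mul, hcomm a ha]
  have hsqA : ∀ r ∈ D.AR 1, r * r = 1 := fun r hr => by
    obtain ⟨a, ha, rfl⟩ := D.mem_AR.1 hr
    rw [← map_mul, show a * a = 1 from Subtype.ext (A0_sq ha), map_one]
  have hsqH : ∀ r ∈ H, r * r = 1 := by
    have hg2 : D.co.tau6 g * D.co.tau6 g = 1 := by rw [← map_mul, hsq, map_one]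
    have hcA : D.AR 1 ≤ centralizer (D.AR 1 : Set (↥(centralizer ({z} : Set G)) ⧸ Q)) := fun a ha =>
      mem_centralizer_iff.2 fun b hb => comm_of_sq hsqA hb ha
    have hcz : zpowers (D.co.tau6 g) ≤ centralizer (zpowers (D.co.tau6 g) : Set (↥(centralizer ({z} : Set G)) ⧸ Q)) :=
      fun a ha => mem_centralizer_iff.2 fun b hb => by
        obtain ⟨i, rfl⟩ := mem_zpowers_iff.1 ha
        obtain ⟨j, rfl⟩ := mem_zpowers_iff.1 hb
        exact (Commute.zpow_zpow (Commute.refl _) j i).eq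
    have hc := le_centralizer_sup hcA hcz hc1
    let S : Subgroup (↥(centralizer ({z} : Set G)) ⧸ Q) :=
      { carrier := {a | a ∈ H ∧ a * a = 1}
        one_mem' := ⟨one_mem _, one_mul _⟩
        mul_mem' := fun {a b} ha hb => ⟨mul_mem ha.1 hb.1, by
          rw [mul_assoc, ← mul_assoc b, mem_centralizer_iff.1 (hc ha.1) b hb.1, mul_assoc a b, hb.2, mul_one, ha.2]⟩
        inv_mem' := fun {a} ha => by
          rw [Set.mem_ofPred_eq, inv_eq_of_mul_eq_one_right ha.2]; exact ha }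
    have : H ≤ S := sup_le (fun a ha => ⟨mem_sup_left ha, hsqA a ha⟩)
      (zpowers_le.2 ⟨mem_sup_right (mem_zpowers _), hg2⟩)
    exact fun r hr => (this hr).2
  have hp2 : IsPGroup 2 ↥H := fun r => ⟨1, Subtype.ext (by rw [pow_one, pow_two]; exact hsqH _ r.2)⟩
  obtain ⟨k, hk⟩ := D.exists_TT hHK hp2
  have h16 := (D.pull hk hsqH).1
  have heq : D.AR 1 = H := Subgroup.eq_of_le_of_card_ge le_sup_left (by rwa [D.card_AR])
  obtain ⟨a, ha, e⟩ := D.mem_AR.1 (heq.ge (mem_sup_right (mem_zpowers (D.co.tau6 g))))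
  rw [tauc_one] at e
  rw [← D.co.tau6_injective e]
  exact ha

include D in
/-- Elements keeping the fixed space normalise the moved subgroup. -/
theorem stab_of_keeps {g : ↥K0} (hg : ∀ v, piA v → piA (act g.1 v)) :
    ∀ r ∈ D.AR 1, D.co.tau6 g * r * (D.co.tau6 g)⁻¹ ∈ D.AR 1 := by
  intro r hr
  obtain ⟨a, ha, rfl⟩ := D.mem_AR.1 hr
  rw [tauc_one, ← map_inv, ← map_mul, ← map_mul]
  refine D.mem_AR.2 ⟨_, ?_, tauc_one _⟩
  refine pointwise (D := D) fun v hv => ?_
  classical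
  let f : {v // piA v} → {v // piA v} := fun v => ⟨act g.1 v.1, hg _ v.2⟩
  have hf : Function.Surjective f :=
    Finite.surjective_of_injective fun u w e => Subtype.ext (act_inj g.1 (congrArg Subtype.val e :))
  obtain ⟨⟨u, hu⟩, e⟩ := hf ⟨v, hv⟩
  have e' : act g.1 u = v := congrArg Subtype.val e
  show act (g.1 * a.1 * g.1⁻¹) v = v
  rw [← e', act_mul, ← act_mul g.1⁻¹, inv_mul_cancel, act_one, act_mul, A0_fix ha hu]

variable (cv : Cover D) (hc : cv.c = K4.w)

include hc in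
theorem card_AA : Nat.card ↥(AA cv) = 2048 := by
  obtain ⟨B⟩ := exists_basis cv
  exact B.card_AA hc

theorem AA_map : (AA cv).map (QuotientGroup.mk' Q) = D.AR 1 := by
  refine le_antisymm ?_ fun r hr => ?_
  · rw [Subgroup.map_sup]
    refine sup_le ?_ ?_
    · rintro _ ⟨a, ha, rfl⟩
      rw [show QuotientGroup.mk' Q a = 1 from (QuotientGroup.eq_one_iff _).2 (D.WQ_le 1 ha)]
      exact one_mem _
    · rintro _ ⟨a, ha, rfl⟩
      exact ha.2
  · obtain ⟨b, hb, e⟩ := exists_BA cv hr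
    exact ⟨b, mem_sup_right hb, e⟩

include hc in
/-- Elements normalising the moved subgroup normalise the large subgroup. -/
theorem conj_AA (hF : Cfsg.IsOfLargeFischerTypeAt z Q) {c : ↥(centralizer ({z} : Set G))}
    (h : ∀ r ∈ D.AR 1, QuotientGroup.mk' Q c * r * (QuotientGroup.mk' Q c)⁻¹ ∈ D.AR 1) :
    ∀ a ∈ AA cv, c * a * c⁻¹ ∈ AA cv := by
  haveI : Fact (Nat.Prime 2) := ⟨Nat.prime_two⟩
  set E := (AA cv).map (MulAut.conj c).toMonoidHom with hE
  set T := (D.AR 1).comap (QuotientGroup.mk' Q) with hT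
  have hTp : IsPGroup 2 ↥T := by
    refine IsPGroup.of_card (n := 17) ?_
    have hcq := D.ctx.card
    rw [card_map_of_injective (centralizer ({z} : Set G)).subtype_injective] at hcq
    rw [card_eq_map_mul (QuotientGroup.mk' Q) T, QuotientGroup.ker_mk',
      map_comap_eq_self_of_surjective (QuotientGroup.mk'_surjective Q), D.card_AR,
      inf_eq_right.2 (fun q hq => show QuotientGroup.mk' Q q ∈ D.AR 1 by
        rw [show QuotientGroup.mk' Q q = 1 from (QuotientGroup.eq_one_iff _).2 hq]; exact one_mem _), hcq]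
    norm_num
  have hET : E ≤ T := by
    rintro _ ⟨a, ha, rfl⟩
    show QuotientGroup.mk' Q (c * a * c⁻¹) ∈ D.AR 1
    rw [map_mul, map_mul, map_inv]
    exact h _ ((AA_map cv).le (mem_map_of_mem _ ha))
  have hEsq : ∀ a ∈ E, a * a = 1 := by
    rintro _ ⟨a, ha, rfl⟩
    rw [← map_mul, AA_sq cv a ha, map_one]
  intro a ha
  refine D.big_unique hF T hTp hET (map_le_iff_le_comap.1 (AA_map cv).le) hEsq (AA_sq cv) ?_ (card_AA cv hc).ge ⟨a, ha, rfl⟩
  rw [card_map_of_injective (MulAut.conj c).injective, card_AA cv hc]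

/-- The large abelian subgroup of the group. -/
noncomputable abbrev AG : Subgroup G := (AA cv).map (centralizer ({z} : Set G)).subtype

theorem mem_AG {a : G} : a ∈ AG cv ↔ ∃ h : a ∈ centralizer ({z} : Set G), (⟨a, h⟩ : ↥(centralizer ({z} : Set G))) ∈ AA cv :=
  ⟨fun ⟨a', ha, e⟩ => e ▸ ⟨a'.2, ha⟩, fun ⟨_, ha⟩ => ⟨_, ha, rfl⟩⟩

theorem AG_sq : ∀ a ∈ AG cv, a * a = 1 := by
  rintro _ ⟨a, ha, rfl⟩
  exact congrArg Subtype.val (AA_sq cv a ha)

theorem z_mem_AG : z ∈ AG cv := ⟨zel z, zel_mem_AA cv, rfl⟩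

include hc in
theorem card_AG : Nat.card ↥(AG cv) = 2048 := by
  rw [card_map_of_injective (centralizer ({z} : Set G)).subtype_injective, card_AA cv hc]

include hc in
theorem exists_sylow (hF : Cfsg.IsOfLargeFischerTypeAt z Q) :
    ∃ T : Sylow 2 ↥(centralizer ({z} : Set G)), AA cv ≤ (T : Subgroup ↥(centralizer ({z} : Set G))) ∧
      ∀ t ∈ (T : Subgroup ↥(centralizer ({z} : Set G))), ∀ a ∈ AA cv, t * a * t⁻¹ ∈ AA cv := by
  haveI : Fact (Nat.Prime 2) := ⟨Nat.prime_two⟩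
  have h2 : IsPGroup 2 ↥(AA cv) := IsPGroup.of_card (n := 11) (by rw [card_AA cv hc]; norm_num)
  obtain ⟨T, hT⟩ := h2.exists_le_sylow
  refine ⟨T, hT, fun t ht a ha => ?_⟩
  refine D.big_unique hF T T.isPGroup' (E := (AA cv).map (MulAut.conj t).toMonoidHom) ?_ hT ?_ (AA_sq cv) ?_
    (card_AA cv hc).ge ⟨a, ha, rfl⟩
  · rintro _ ⟨b, hb, rfl⟩
    exact mul_mem (mul_mem ht (hT hb)) (inv_mem ht)
  · rintro _ ⟨b, hb, rfl⟩
    rw [← map_mul, AA_sq cv b hb, map_one]
  · rw [card_map_of_injective (MulAut.conj t).injective, card_AA cv hc]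

include D in
/-- Sylow subgroups of the centraliser are Sylow subgroups of the group. -/
theorem sylow_of_centralizer (T : Sylow 2 ↥(centralizer ({z} : Set G))) :
    ∃ S : Sylow 2 G, (S : Subgroup G) = (T : Subgroup ↥(centralizer ({z} : Set G))).map (centralizer ({z} : Set G)).subtype := by
  haveI : Fact (Nat.Prime 2) := ⟨Nat.prime_two⟩
  set T' := (T : Subgroup ↥(centralizer ({z} : Set G))).map (centralizer ({z} : Set G)).subtype with hT'
  have h2 : IsPGroup 2 ↥T' := T.isPGroup'.map _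
  obtain ⟨S, hS⟩ := h2.exists_le_sylow
  refine ⟨S, le_antisymm ?_ hS⟩
  haveI : Group.IsNilpotent ↥(S : Subgroup G) := S.isPGroup'.isNilpotent
  by_contra hne
  have hlt : T'.subgroupOf (S : Subgroup G) < ⊤ := lt_top_iff_ne_top.2 fun e => hne (subgroupOf_eq_top.1 e)
  obtain ⟨n, hn, hnT⟩ := SetLike.exists_of_lt (Group.normalizerCondition_of_isNilpotent _ hlt)
  have hQT : QG Q ≤ T' := by
    have hcq := D.ctx.card
    rw [card_map_of_injective (centralizer ({z} : Set G)).subtype_injective] at hcq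
    exact map_mono ((IsPGroup.of_card (n := 13) (show Nat.card ↥Q = 2 ^ 13 by rw [hcq]; norm_num)).le_sylow_of_normal T)
  have hnorm : ∀ a : G, a ∈ T' ↔ n.1 * a * n.1⁻¹ ∈ T' := by
    intro a
    constructor
    · intro ha
      have := (Subgroup.mem_normalizer_iff.1 hn ⟨a, hS ha⟩).1 (mem_subgroupOf.2 ha)
      exact mem_subgroupOf.1 this
    · intro ha
      have haS : a ∈ (S : Subgroup G) := by
        have := mul_mem (mul_mem (inv_mem n.2) (hS ha)) n.2
        rwa [show n.1⁻¹ * (n.1 * a * n.1⁻¹) * n.1 = a by group] at this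
      exact mem_subgroupOf.1 ((Subgroup.mem_normalizer_iff.1 hn ⟨a, haS⟩).2 (mem_subgroupOf.2 ha))
  have hzc : n.1 * z * n.1⁻¹ = z := by
    have hzT := (hnorm z).1 (hQT D.ctx.xs.mem)
    have hcen : ∀ t ∈ T', n.1 * z * n.1⁻¹ * t = t * (n.1 * z * n.1⁻¹) := fun t ht => by
      have h1 : n.1⁻¹ * t * n.1 ∈ T' :=
        (hnorm _).2 (by rw [show n.1 * (n.1⁻¹ * t * n.1) * n.1⁻¹ = t by group]; exact ht)
      obtain ⟨t', -, e⟩ := h1
      have h2 : n.1⁻¹ * t * n.1 * z = z * (n.1⁻¹ * t * n.1) := by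
        rw [← e]; exact mem_centralizer_one.1 t'.2
      calc n.1 * z * n.1⁻¹ * t = n.1 * (z * (n.1⁻¹ * t * n.1)) * n.1⁻¹ := by group
        _ = n.1 * (n.1⁻¹ * t * n.1 * z) * n.1⁻¹ := by rw [h2]
        _ = t * (n.1 * z * n.1⁻¹) := by group
    obtain ⟨c, -, e⟩ := hzT
    have hcQ := D.ctx.ker c.1 c.2 fun x hx => by
      rw [show (c : G) = n.1 * z * n.1⁻¹ from e]; exact hcen x (hQT hx)
    rw [show (c : G) = n.1 * z * n.1⁻¹ from e] at hcQ
    have := D.ctx.xs.eq_of_central hcQ fun r hr => hcen r (hQT hr)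
    rcases this with h | h
    · exact absurd (conj_eq_one_iff.1 h) D.ctx.xs.ne_one
    · exact h
  have hnC : n.1 ∈ centralizer ({z} : Set G) := mem_centralizer_one.2 (mul_inv_eq_iff_eq_mul.1 hzc)
  set P := (S : Subgroup G).subgroupOf (centralizer ({z} : Set G))
  have hP : IsPGroup 2 ↥P :=
    S.isPGroup'.comap_of_injective _ (centralizer ({z} : Set G)).subtype_injective
  have hTP : (T : Subgroup ↥(centralizer ({z} : Set G))) ≤ P := fun t ht => mem_subgroupOf.2 (hS ⟨t, ht, rfl⟩)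
  have heq := T.is_maximal' hP hTP
  exact hnT (mem_subgroupOf.2 ⟨⟨n.1, hnC⟩, heq.le (mem_subgroupOf.2 n.2), rfl⟩)

include hc in
/-- The large subgroup is the only one of its kind in a two-subgroup containing it. -/
theorem unique_big (hF : Cfsg.IsOfLargeFischerTypeAt z Q) {P E : Subgroup G} (hP : IsPGroup 2 ↥P)
    (hA : AG cv ≤ P) (hE : E ≤ P) (hE2 : ∀ a ∈ E, a * a = 1) (hcard : 2048 ≤ Nat.card ↥E) : E = AG cv := by
  haveI : Fact (Nat.Prime 2) := ⟨Nat.prime_two⟩
  obtain ⟨T, hT, -⟩ := exists_sylow cv hc hF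
  obtain ⟨S, hS⟩ := sylow_of_centralizer (D := D) T
  obtain ⟨S', hS'⟩ := hP.exists_le_sylow
  obtain ⟨g, hg⟩ := MulAction.exists_smul_eq G S' S
  have key : ∀ F : Subgroup G, F ≤ P → (∀ a ∈ F, a * a = 1) → 2048 ≤ Nat.card ↥F →
      F.map (MulAut.conj g).toMonoidHom = AG cv := fun F hFP hF2 hFc => by
    set F' := F.map (MulAut.conj g).toMonoidHom with hF'
    have hle : F' ≤ (T : Subgroup ↥(centralizer ({z} : Set G))).map (centralizer ({z} : Set G)).subtype := by
      rw [← hS, ← hg]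
      rintro _ ⟨a, ha, rfl⟩
      rw [Sylow.coe_subgroup_smul, Subgroup.mem_pointwise_smul_iff_inv_smul_mem]
      show (MulAut.conj g)⁻¹ (MulAut.conj g a) ∈ (S' : Subgroup G)
      rw [MulAut.inv_apply_self]
      exact hS' (hFP ha)
    have hC : F' ≤ centralizer ({z} : Set G) := hle.trans (map_subtype_le _)
    set E' := F'.subgroupOf (centralizer ({z} : Set G))
    have h2 : ∀ a ∈ E', a * a = 1 := fun a ha => by
      obtain ⟨b, hb, e⟩ := mem_subgroupOf.1 ha
      refine Subtype.ext ?_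
      show a.1 * a.1 = 1
      rw [← e, ← map_mul, hF2 b hb, map_one]
    have hcE : 2048 ≤ Nat.card ↥E' := by
      rw [Nat.card_congr (subgroupOfEquivOfLe hC).toEquiv, card_map_of_injective (MulAut.conj g).injective]
      exact hFc
    have hET : E' ≤ (T : Subgroup ↥(centralizer ({z} : Set G))) := fun a ha => by
      obtain ⟨t, ht, e⟩ := hle (mem_subgroupOf.1 ha)
      exact (show t = a from Subtype.ext e) ▸ ht
    have h1 := D.big_unique hF T T.isPGroup' hET hT h2 (AA_sq cv) hcE (card_AA cv hc).ge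
    have h3 := D.big_unique hF T T.isPGroup' hT hET (AA_sq cv) h2 (card_AA cv hc).ge hcE
    rw [← map_subgroupOf_eq_of_le hC]
    exact congrArg (Subgroup.map (centralizer ({z} : Set G)).subtype) (le_antisymm h1 h3)
  exact map_injective (MulAut.conj g).injective
    ((key E hE hE2 hcard).trans (key _ hA (AG_sq cv) (card_AG cv hc).ge).symm)

include hc in
/-- The large subgroup is its own centraliser. -/
theorem centralizer_AG (hF : Cfsg.IsOfLargeFischerTypeAt z Q) : centralizer (AG cv : Set G) = AG cv := by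
  refine le_antisymm (fun c hcA => ?_) fun a ha => mem_centralizer_iff.2 fun b hb => comm_of_sq (AG_sq cv) hb ha
  have hcz : c ∈ centralizer ({z} : Set G) :=
    mem_centralizer_one.2 ((mem_centralizer_iff.1 hcA z (z_mem_AG cv)).symm)
  set cc : ↥(centralizer ({z} : Set G)) := ⟨c, hcz⟩
  have hcomm : ∀ a ∈ AA cv, a * cc = cc * a := fun a ha =>
    Subtype.ext (mem_centralizer_iff.1 hcA a.1 ⟨a, ha, rfl⟩)
  have hfix : ∀ v, piA v → D.co.r6 (QuotientGroup.mk cc) v = v := fun v hv => by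
    have h1 := hcomm _ (uC_mem cv hc hv)
    have h2 : cc * uC cv v * cc⁻¹ = uC cv v := by rw [← h1, mul_inv_cancel_right]
    rw [uC, toC_conj] at h2
    have h3 := congrArg D.vec (toC_injective D h2)
    rwa [D.vec_conj, vec_uq cv hc] at h3
  have hK : (QuotientGroup.mk cc : _ ⧸ Q) ∈ D.env.K := by
    by_contra hn
    have hs := D.semi_of_not_mem hF hn K4.w (bA 0)
    have hb : piA (bA 0) := ⟨1, 0, 0, by simp⟩
    have hwb : piA (K4.w • bA 0) := ⟨K4.w, 0, 0, by simp⟩
    rw [hfix _ hwb, hfix _ hb] at hs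
    exact absurd (congrFun hs 0) (by decide +kernel)
  obtain ⟨g, hg⟩ := D.co.exists_tau6 hK
  have hgA : g.1 ∈ A0 := pointwise (D := D) fun v hv => by
    rw [← D.co.tau6_spec, hg, hfix v hv]
  obtain ⟨b, hb, e⟩ := exists_BA cv (show D.co.tau6 g ∈ D.AR 1 from D.mem_AR.2 ⟨g, hgA, tauc_one g⟩)
  have hq : b⁻¹ * cc ∈ Q := QuotientGroup.eq.1 (e.trans hg)
  have hbA : b ∈ AA cv := mem_sup_right hb
  have hW : b⁻¹ * cc ∈ D.WQ 1 := D.centraliser_WQ hq fun w hw => by
    rw [← mul_assoc, AA_comm cv (mem_sup_left hw) (inv_mem hbA), mul_assoc, hcomm w (mem_sup_left hw), mul_assoc]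
  have hfin := mul_mem hbA (show b⁻¹ * cc ∈ AA cv from mem_sup_left hW)
  rw [mul_inv_cancel_left] at hfin
  exact ⟨cc, hfin, rfl⟩

include hc in
/-- The normaliser controls fusion. -/
theorem fusion (hF : Cfsg.IsOfLargeFischerTypeAt z Q) {a g : G} (ha : a ∈ AG cv) (hga : g * a * g⁻¹ ∈ AG cv) :
    ∃ m ∈ normalizer (AG cv : Set G), m * a * m⁻¹ = g * a * g⁻¹ := by
  haveI : Fact (Nat.Prime 2) := ⟨Nat.prime_two⟩
  set Y := centralizer ({a} : Set G) with hY
  set B := (AG cv).map (MulAut.conj g⁻¹).toMonoidHom with hB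
  have hAY : AG cv ≤ Y := fun x hx => mem_centralizer_one.2 (comm_of_sq (AG_sq cv) hx ha)
  have hBY : B ≤ Y := by
    rintro _ ⟨x, hx, rfl⟩
    refine mem_centralizer_one.2 ?_
    show g⁻¹ * x * g⁻¹⁻¹ * a = a * (g⁻¹ * x * g⁻¹⁻¹)
    have := comm_of_sq (AG_sq cv) hx hga
    calc g⁻¹ * x * g⁻¹⁻¹ * a = g⁻¹ * (x * (g * a * g⁻¹)) * g := by group
      _ = g⁻¹ * (g * a * g⁻¹ * x) * g := by rw [this]
      _ = a * (g⁻¹ * x * g⁻¹⁻¹) := by group
  have hAp : IsPGroup 2 ↥((AG cv).subgroupOf Y) := by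
    refine IsPGroup.of_card (n := 11) ?_
    rw [Nat.card_congr (subgroupOfEquivOfLe hAY).toEquiv, card_AG cv hc]; norm_num
  have hcB : Nat.card ↥B = 2048 := by
    rw [card_map_of_injective (MulAut.conj g⁻¹).injective, card_AG cv hc]
  have hBp : IsPGroup 2 ↥(B.subgroupOf Y) := by
    refine IsPGroup.of_card (n := 11) ?_
    rw [Nat.card_congr (subgroupOfEquivOfLe hBY).toEquiv, hcB]; norm_num
  obtain ⟨P, hP⟩ := hAp.exists_le_sylow
  obtain ⟨P', hP'⟩ := hBp.exists_le_sylow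
  obtain ⟨h, hh⟩ := MulAction.exists_smul_eq ↥Y P' P
  set E := B.map (MulAut.conj h.1).toMonoidHom with hE
  have heq : E = AG cv := by
    refine unique_big cv hc hF (P := (P : Subgroup ↥Y).map Y.subtype) (P.isPGroup'.map _)
      (fun x hx => ⟨⟨x, hAY hx⟩, hP (mem_subgroupOf.2 hx), rfl⟩) ?_ ?_ ?_
    · rintro _ ⟨x, hx, rfl⟩
      refine ⟨h * ⟨x, hBY hx⟩ * h⁻¹, ?_, rfl⟩
      rw [← hh, Sylow.coe_subgroup_smul, SetLike.mem_coe, Subgroup.mem_pointwise_smul_iff_inv_smul_mem]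
      show (MulAut.conj h)⁻¹ (MulAut.conj h ⟨x, hBY hx⟩) ∈ (P' : Subgroup ↥Y)
      rw [MulAut.inv_apply_self]
      exact hP' (mem_subgroupOf.2 hx)
    · rintro _ ⟨_, ⟨y, hy, rfl⟩, rfl⟩
      rw [← map_mul, ← map_mul, AG_sq cv y hy, map_one, map_one]
    · rw [card_map_of_injective (MulAut.conj h.1).injective, hcB]
  refine ⟨g * h.1⁻¹, ?_, ?_⟩
  · have e2 : (AG cv).map (MulAut.conj (h.1 * g⁻¹)).toMonoidHom = AG cv := by
      conv_rhs => rw [← heq, hE, hB, Subgroup.map_map]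
      congr 1
      ext x
      simp [mul_assoc]
    have hn : h.1 * g⁻¹ ∈ normalizer (AG cv : Set G) := by
      refine Subgroup.mem_normalizer_iff.2 fun x => ⟨fun hx => e2.le ⟨x, hx, rfl⟩, fun hx => ?_⟩
      obtain ⟨y, hy, e⟩ := e2.ge hx
      exact (MulAut.conj (h.1 * g⁻¹)).injective (show MulAut.conj (h.1 * g⁻¹) y = MulAut.conj (h.1 * g⁻¹) x from e) ▸ hy
    have := inv_mem hn
    rwa [_root_.mul_inv_rev, inv_inv] at this
  · have hc' : h.1 * a = a * h.1 := mem_centralizer_one.1 h.2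
    calc g * h.1⁻¹ * a * (g * h.1⁻¹)⁻¹ = g * (h.1⁻¹ * (a * h.1)) * g⁻¹ := by group
      _ = g * (h.1⁻¹ * (h.1 * a)) * g⁻¹ := by rw [hc']
      _ = g * a * g⁻¹ := by group

end Cfsg.Agent.LargeFischer.Big
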