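import Cfsg.Agent.Lib.LargeFischer.RankMain
import Cfsg.Agent.Lib.LargeFischer.BigChecks

/-! Canonical lifts of vectors to Q. -/

set_option autoImplicit false
set_option maxRecDepth 100000
set_option maxHeartbeats 200000

namespace Cfsg.Agent.LargeFischer.Big

open Cfsg.Agent.RigidGraph.He Cfsg.Agent.U43InU62 Cfsg.Agent.LargeExtra
open Subgroup

attribute [local irreducible] tm elN TT

variable {G : Type*} [Group G] [Finite G] {z : G} {Q : Subgroup ↥(centralizer ({z} : Set G))} [Q.Normal]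

/-- The central involution inside Q. -/
def zq (D : Model z Q) : ↥(QG Q) := ⟨z, D.ctx.xs.mem⟩

section

variable (D : Model z Q)

theorem zq_sq : zq D * zq D = 1 := Subtype.ext D.ctx.xs.sq

theorem zq_comm (a : ↥(QG Q)) : a * zq D = zq D * a := Subtype.ext (D.ctx.xs.comm a.2)

theorem zq_pow_mod (n : ℕ) : zq D ^ (n % 2) = zq D ^ n := by
  conv_rhs => rw [← Nat.div_add_mod n 2, pow_add, pow_mul, pow_two, zq_sq, one_pow, one_mul]

theorem vec_zq : D.vec (zq D) = 0 := D.vec_eq_zero.2 (Or.inr rfl)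

theorem vec_zq_pow (n : ℕ) : D.vec (zq D ^ n) = 0 := by
  induction n with
  | zero => rw [pow_zero, D.vec_one]
  | succ n ih => rw [pow_succ, D.vec_mul, ih, vec_zq, add_zero]

theorem wt_cast (x : ↥(QG Q)) : (wt (D.vec x) : ZMod 2) = Ctx.qV (mkV x) := by
  rw [← D.phi_vec x, ← D.q_eq, D.co.qφ]

theorem Bp_chi (a b : ↥(QG Q)) : ((Bp (D.vec a) (D.vec b) : ℕ) : ZMod 2) = Ctx.chi a b := by
  rw [Bp, ZMod.natCast_mod, Nat.cast_add, Nat.cast_add, ← D.vec_mul, wt_cast, wt_cast, wt_cast, mkV_mul,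
    D.ctx.qV_polar]

theorem swap_mul (a b : ↥(QG Q)) : b * a = a * b * zq D ^ Bp (D.vec a) (D.vec b) := by
  have h := Bp_chi D a b
  have hl : Bp (D.vec a) (D.vec b) < 2 := Nat.mod_lt _ (by norm_num)
  rcases D.ctx.xs.conj_cases b.2 a.2 with e | e
  · have hc : (a : G) * b = b * a := (XSub.conj_eq_self_iff.1 e).symm
    rw [Ctx.chi, if_pos hc] at h
    rcases (show Bp (D.vec a) (D.vec b) = 0 ∨ Bp (D.vec a) (D.vec b) = 1 by omega) with h0 | h0
    · rw [h0, pow_zero, mul_one]; exact Subtype.ext hc.symm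
    · rw [h0] at h; exact absurd h (by decide)
  · have hc : (a : G) * b ≠ b * a := fun hh =>
      D.ctx.xs.ne_mul_z _ ((XSub.conj_eq_self_iff.2 hh.symm).symm.trans e)
    rw [Ctx.chi, if_neg hc] at h
    rcases (show Bp (D.vec a) (D.vec b) = 0 ∨ Bp (D.vec a) (D.vec b) = 1 by omega) with h0 | h0
    · rw [h0] at h; exact absurd h (by decide)
    · rw [h0, pow_one]
      refine Subtype.ext ?_
      show (b : G) * a = a * b * z
      rw [mul_inv_eq_iff_eq_mul.1 e, mul_assoc (a : G), ← D.ctx.xs.comm b.2, mul_assoc]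

theorem sq_eq (a : ↥(QG Q)) : a * a = zq D ^ wt (D.vec a) := by
  rw [← zq_pow_mod]
  rcases D.ctx.xs.sq_cases a.2 with e | e
  · rw [(D.wt_vec a).2 e, pow_zero]; exact Subtype.ext e
  · have : wt (D.vec a) % 2 = 1 := by
      by_contra hne
      exact D.ctx.xs.ne_one (e.symm.trans ((D.wt_vec a).1 (by omega)))
    rw [this, pow_one]; exact Subtype.ext e

/-- Q inside the centraliser. -/
def toC : ↥(QG Q) →* ↥(centralizer ({z} : Set G)) where
  toFun q := ⟨q.1, D.ctx.xs.le_centralizer q.2⟩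
  map_one' := rfl
  map_mul' _ _ := rfl

theorem toC_injective : Function.Injective (toC D) := fun _ _ e => Subtype.ext (congrArg Subtype.val e :)

theorem toC_mem (q : ↥(QG Q)) : toC D q ∈ Q := by
  obtain ⟨q', hq, e⟩ := q.2
  exact (show q' = toC D q from Subtype.ext e) ▸ hq

theorem toC_surj {a : ↥(centralizer ({z} : Set G))} (ha : a ∈ Q) : ∃ q, toC D q = a :=
  ⟨⟨a.1, a, ha, rfl⟩, rfl⟩

theorem toC_zq : toC D (zq D) = zel z := rfl

theorem toC_conj (c : ↥(centralizer ({z} : Set G))) (q : ↥(QG Q)) :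
    c * toC D q * c⁻¹ = toC D (D.ctx.conjQ c q) := rfl

/-- Covers whose scalar is the primitive one. -/
theorem exists_cover_w : ∃ cv : Cover D, cv.c = K4.w := by
  obtain ⟨cv⟩ := exists_cover0 D
  rcases (by decide : ∀ c : K4, c ≠ 0 → c ≠ 1 → c = K4.w ∨ c = K4.v) cv.c cv.hc0 cv.hc1 with h | h
  · exact ⟨cv, h⟩
  · refine ⟨⟨cv.x * cv.x, cv.c * cv.c, ?_, mul_ne_zero cv.hc0 cv.hc0, ?_, fun v => ?_, ?_, fun r hr => ?_⟩,
      by show cv.c * cv.c = _; rw [h]; decide⟩
    · rw [(Commute.refl cv.x).mul_pow, cv.hx3, one_mul]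
    · rw [h]; decide
    · rw [QuotientGroup.mk_mul, D.co.r6_mul, cv.hsc, cv.hsc, smul_smul]
    · rw [QuotientGroup.mk_mul]; exact mul_mem cv.hmem cv.hmem
    · obtain ⟨i, hi⟩ := cv.hgen r hr
      refine ⟨2 * i, ?_⟩
      rw [QuotientGroup.mk_mul, ← pow_two, ← pow_mul, show 2 * (2 * i) = 3 * i + i by ring, pow_add, pow_mul,
        ← QuotientGroup.mk_pow, cv.hx3, QuotientGroup.mk_one, one_pow, one_mul, hi]

/-- A chosen lift. -/
noncomputable def sel (v : V6) : ↥(QG Q) := (D.vec_surjective v).choose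

theorem vec_sel (v : V6) : D.vec (sel D v) = v := (D.vec_surjective v).choose_spec

end

variable {D : Model z Q} (cv : Cover D)

/-- The canonical lift of a vector. -/
noncomputable def uq (v : V6) : ↥(QG Q) := sel D (K4.w • v) * D.ctx.conjQ cv.x (sel D (K4.w • v))

variable (hc : cv.c = K4.w)

include hc in
theorem uq_eq (a : ↥(QG Q)) : a * D.ctx.conjQ cv.x a = uq cv (K4.v • D.vec a) := by
  have h0 : D.vec (sel D (K4.w • K4.v • D.vec a)) = D.vec a := by
    rw [vec_sel, smul_smul, show K4.w * K4.v = 1 from rfl, one_smul]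
  unfold uq
  rcases D.vec_eq_iff.1 h0 with e | e
  · rw [show sel D (K4.w • K4.v • D.vec a) = a from Subtype.ext e.symm]
  · set s := sel D (K4.w • K4.v • D.vec a)
    have ha : a = s * zq D := Subtype.ext e
    have hz : D.ctx.conjQ cv.x (zq D) = zq D := Subtype.ext (by
      show cv.x.1 * z * cv.x.1⁻¹ = z
      rw [mem_centralizer_one.1 cv.x.2, mul_inv_cancel_right])
    rw [ha, map_mul, hz, mul_assoc s, ← mul_assoc (zq D), ← zq_comm D (D.ctx.conjQ cv.x s),
      mul_assoc (D.ctx.conjQ cv.x s), zq_sq, mul_one]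

include hc in
theorem vec_uq (v : V6) : D.vec (uq cv v) = v := by
  rw [uq, D.vec_mul, cv.vec_conj_x, vec_sel, hc, smul_smul, ← add_smul]
  exact one_smul _ v

include hc in
theorem uq_zero : uq cv 0 = 1 := by
  have := uq_eq cv hc 1
  rwa [D.vec_one, smul_zero, map_one, mul_one, eq_comm] at this

include hc in
theorem uq_mul (a b : V6) : uq cv a * uq cv b = uq cv (a + b) * zq D ^ Bp (K4.v • a) (K4.w • b) := by
  set s := sel D (K4.w • a) with hs
  set t := sel D (K4.w • b) with ht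
  have hvec : D.vec (D.ctx.conjQ cv.x s) = K4.v • a := by
    rw [cv.vec_conj_x, hs, vec_sel, hc, smul_smul]
    rfl
  have hst : uq cv (a + b) = s * t * (D.ctx.conjQ cv.x s * D.ctx.conjQ cv.x t) := by
    rw [← map_mul, uq_eq cv hc, D.vec_mul, hs, ht, vec_sel, vec_sel, ← smul_add, smul_smul,
      show K4.v * K4.w = 1 from rfl, one_smul]
  have hsw := swap_mul D (D.ctx.conjQ cv.x s) t
  rw [hvec, ht, vec_sel, ← ht] at hsw
  show s * D.ctx.conjQ cv.x s * (t * D.ctx.conjQ cv.x t) = _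
  rw [hst]
  set n := Bp (K4.v • a) (K4.w • b)
  have hn : zq D ^ n * zq D ^ n = 1 := by
    rw [← (show Commute (zq D) (zq D) from Commute.refl _).mul_pow, zq_sq, one_pow]
  have hcm : ∀ w, Commute w (zq D ^ n) := fun w => (show Commute w (zq D) from zq_comm D w).pow_right n
  symm
  calc s * t * (D.ctx.conjQ cv.x s * D.ctx.conjQ cv.x t) * zq D ^ n
      = s * (t * D.ctx.conjQ cv.x s) * D.ctx.conjQ cv.x t * zq D ^ n := by group
    _ = s * (D.ctx.conjQ cv.x s * t * zq D ^ n) * D.ctx.conjQ cv.x t * zq D ^ n := by rw [hsw]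
    _ = s * (D.ctx.conjQ cv.x s * t) * D.ctx.conjQ cv.x t * (zq D ^ n * zq D ^ n) := by
        rw [mul_assoc _ (zq D ^ n) (zq D ^ n) |>.symm, mul_assoc (s * (D.ctx.conjQ cv.x s * t)),
          (hcm (D.ctx.conjQ cv.x t)).eq]
        group
    _ = _ := by rw [hn, mul_one]; group

include hc in
theorem uq_inv (a : V6) : (uq cv a)⁻¹ = uq cv a * zq D ^ wt a := by
  refine inv_eq_of_mul_eq_one_right ?_
  rw [← mul_assoc, sq_eq, vec_uq cv hc, ← (show Commute (zq D) (zq D) from Commute.refl _).mul_pow, zq_sq, one_pow]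

include hc in
theorem eq_uq (q : ↥(QG Q)) : q = uq cv (D.vec q) ∨ q = uq cv (D.vec q) * zq D := by
  rcases D.vec_eq_iff.1 (vec_uq cv hc (D.vec q)) with e | e
  · exact Or.inl (Subtype.ext e)
  · exact Or.inr (Subtype.ext e)

include hc in
theorem conj_uq {l : ↥(centralizer ({z} : Set G))} (hl : l * cv.x = cv.x * l)
    (hlin : ∀ (d : K4) v, D.co.r6 (QuotientGroup.mk l) (d • v) = d • D.co.r6 (QuotientGroup.mk l) v) (v : V6) :
    D.ctx.conjQ l (uq cv v) = uq cv (D.co.r6 (QuotientGroup.mk l) v) := by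
  set s := sel D (K4.w • v) with hs
  show D.ctx.conjQ l (s * D.ctx.conjQ cv.x s) = _
  rw [map_mul, ← Ctx.conjQ_mul, hl, Ctx.conjQ_mul, uq_eq cv hc, D.vec_conj, hs, vec_sel, hlin, smul_smul,
    show K4.v * K4.w = 1 from rfl, one_smul]

end Cfsg.Agent.LargeFischer.Big
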