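import Cfsg.Agent.Lib.LargeFischer.Stabs

/-! Linear elements lie in the standard copy. -/

set_option autoImplicit false
set_option maxRecDepth 100000

namespace Cfsg.Agent.LargeFischer

open Cfsg.Agent.RigidGraph.He Cfsg.Agent.U43InU62
open Matrix

/-- A linear map fixing the short vector and preserving weights is the stabiliser on the four-space up to a scalar. -/
theorem exists_blk (u : V6 →ₗ[K4] V6) (hv : u v0 = v0) (hwt : ∀ x, wt (u x) % 2 = wt x % 2) :
    ∃ (s : S0) (c : K4), c ≠ 0 ∧ ∀ x : V6, x 0 = x 1 →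
      u x 0 = u x 1 ∧ low (u x) = c • (blkHom s *ᵥ low x) := by
  have hherm := herm_of_parity u hwt
  have hperp : ∀ x : V6, x 0 = x 1 → u x 0 = u x 1 := fun x hx => by
    have := hherm x v0
    rw [hv, herm_v0, herm_v0, add_eq_zero.2 hx] at this
    exact add_eq_zero.1 this
  let uW : (Fin 4 → K4) →ₗ[K4] (Fin 4 → K4) :=
    { toFun := fun y => low (u (emb y))
      map_add' := fun y y' => by
        have : emb (y + y') = emb y + emb y' := by funext i; fin_cases i <;> simp [emb]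
        rw [this, map_add]; rfl
      map_smul' := fun c y => by
        have : emb (c • y) = c • emb y := by funext i; fin_cases i <;> simp [emb]
        rw [this, map_smul]; rfl }
  set B := LinearMap.toMatrix' uW with hB
  have hBv : ∀ y, B *ᵥ y = low (u (emb y)) := fun y => LinearMap.toMatrix'_mulVec uW y
  have hlowu : ∀ x : V6, x 0 = x 1 → low (u x) = B *ᵥ low x := fun x hx => by
    rw [hBv]
    conv_lhs => rw [emb_low hx]
    rw [map_add, map_smul, hv]
    funext i; fin_cases i <;> simp [low, up, v0]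
  have hherm4 : ∀ y y', Cfsg.hermForm 4 K4 2 (B *ᵥ y) (B *ᵥ y') = Cfsg.hermForm 4 K4 2 y y' := fun y y' => by
    rw [hBv, hBv, ← herm_low (hperp _ (emb_perp y)) (hperp _ (emb_perp y')), hherm,
      herm_low (emb_perp y) (emb_perp y'), low_emb, low_emb]
  have hinj : Function.Injective B.mulVec := fun y y' e => funext fun i => by
    have h : ∀ j, Cfsg.hermForm 4 K4 2 y (Pi.single j 1) = Cfsg.hermForm 4 K4 2 y' (Pi.single j 1) := fun j => by
      rw [← hherm4, show B *ᵥ y = B *ᵥ y' from e, hherm4]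
    simpa [Cfsg.hermForm, Pi.single_apply] using h i
  have hd : B.det ≠ 0 := by
    have := Matrix.mulVec_injective_iff_isUnit.1 hinj
    exact ((Matrix.isUnit_iff_isUnit_det B).1 this).ne_zero
  have hc3 : B.det ^ 3 = 1 := by rw [pow_succ, pow_two]; revert hd; generalize B.det = c; revert c; decide
  have hinv : ∀ c : K4, c ≠ 0 → c⁻¹ ^ 4 * c = 1 ∧ c⁻¹ * c⁻¹ ^ 2 = 1 := by decide
  obtain ⟨h4, h12⟩ := hinv _ hd
  have hdet : (B.det⁻¹ • B).det = 1 := by rw [Matrix.det_smul, Fintype.card_fin]; exact h4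
  have hmem : (⟨B.det⁻¹ • B, hdet⟩ : Matrix.SpecialLinearGroup (Fin 4) K4) ∈ Cfsg.SU 4 K4 2 := fun y y' => by
    show Cfsg.hermForm 4 K4 2 ((B.det⁻¹ • B) *ᵥ y) ((B.det⁻¹ • B) *ᵥ y') = _
    rw [Matrix.smul_mulVec, Matrix.smul_mulVec, ← hherm4 y y']
    simp only [Cfsg.hermForm, Pi.smul_apply, smul_eq_mul]
    refine Finset.sum_congr rfl fun j _ => ?_
    calc B.det⁻¹ * (B *ᵥ y) j * (B.det⁻¹ * (B *ᵥ y') j) ^ 2
        = (B.det⁻¹ * B.det⁻¹ ^ 2) * ((B *ᵥ y) j * (B *ᵥ y') j ^ 2) := by ring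
      _ = _ := by rw [h12, one_mul]
  obtain ⟨s, hs⟩ := toSU_bijective.2 ⟨_, hmem⟩
  have hs' : blkHom s.1 = B.det⁻¹ • B := congrArg (fun x : ↥(Cfsg.SU 4 K4 2) => x.1.1) hs
  refine ⟨s.1, B.det, hd, fun x hx => ⟨hperp x hx, ?_⟩⟩
  rw [hlowu x hx, hs', Matrix.smul_mulVec, smul_smul, mul_inv_cancel₀ hd, one_smul]

namespace Env.Coords

variable {V R : Type*} [AddCommGroup V] [Group R] [Finite R] {W : Env V R} (C : W.Coords)

theorem linear_fix_mem {E : Subgroup R} (h2 : IsPGroup 2 ↥E) (h32 : 32 ≤ Nat.card ↥E)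
    (hE : E ≤ C.stab6 w0) (hn : ∀ x ∈ C.stab6 w0, ∀ e ∈ E, x * e * x⁻¹ ∈ E)
    {u : R} (hu : u ∈ C.stab6 v0) (hlin : ∀ (c : K4) v, C.r6 u (c • v) = c • C.r6 u v) : u ∈ W.K := by
  let ul : V6 →ₗ[K4] V6 := { toFun := C.r6 u, map_add' := C.r6_add u, map_smul' := hlin }
  obtain ⟨s, c, hc, hs⟩ := exists_blk ul hu (C.r6_wt u)
  suffices h : (C.iota v0 s)⁻¹ * u = 1 by
    rw [inv_mul_eq_one] at h
    exact h ▸ C.tau6_mem _
  refine C.centralise_eq_one h2 h32 hE hn
    ((C.stab6 v0).mul_mem ((C.stab6 v0).inv_mem ((C.iota_range v0).le ⟨s, rfl⟩).2) hu) fun g => ?_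
  obtain ⟨g', hg'⟩ : u * C.iota v0 g * u⁻¹ ∈ (C.iota v0).range := (C.iota_range v0).ge
    ⟨C.K_normal.conj_mem _ (C.tau6_mem _) _,
      (C.stab6 v0).mul_mem ((C.stab6 v0).mul_mem hu ((C.iota_range v0).le ⟨g, rfl⟩).2) ((C.stab6 v0).inv_mem hu)⟩
  have hug : u * C.iota v0 g = C.iota v0 g' * u := by rw [hg', inv_mul_cancel_right]
  have hcomm : ∀ v, ul (act g.1 v) = act g'.1 (ul v) := fun v => by
    show C.r6 u (act g.1 v) = act g'.1 (C.r6 u v)
    rw [← C.iota_spec v0 g, ← C.r6_mul, hug, C.r6_mul, C.iota_spec]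
  have hblk : blkHom s * blkHom g = blkHom g' * blkHom s := by
    refine Matrix.ext_of_mulVec_single fun j => ?_
    have hp := emb_perp (Pi.single j (1 : K4))
    have e1 : low (ul (act g.1 (emb (Pi.single j 1)))) = c • ((blkHom s * blkHom g) *ᵥ Pi.single j 1) := by
      rw [(hs _ (perp hp)).2, low_act g hp, low_emb, ← Matrix.mulVec_mulVec]; rfl
    have e2 : low (act g'.1 (ul (emb (Pi.single j 1)))) = c • ((blkHom g' * blkHom s) *ᵥ Pi.single j 1) := by
      rw [low_act g' (hs _ hp).1, (hs _ hp).2, low_emb, Matrix.mulVec_smul, ← Matrix.mulVec_mulVec]; rfl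
    rw [hcomm, e2] at e1
    funext i
    exact (mul_left_cancel₀ hc (congrFun e1 i)).symm
  have hinj : Function.Injective blkHom := (injective_iff_map_eq_one blkHom).2 fun x hx => blk_injective hx
  have hsg : g' = s * g * s⁻¹ := eq_mul_inv_of_mul_eq (hinj (by rw [map_mul, map_mul, hblk]))
  rw [mul_assoc, hug, hsg, map_mul, map_mul, map_inv]
  group

include C in
theorem exists_act_v0 {y : V6} (hy : In1 y) : ∃ k ∈ W.K, C.r6 k y = v0 := by
  obtain ⟨g, hg, e⟩ := reach1 hy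
  exact ⟨C.tau6 ⟨g⁻¹, inv_mem hg⟩, C.tau6_mem _, by
    rw [C.tau6_spec, ← e, ← act_mul, inv_mul_cancel, act_one]⟩

/-- Linear elements lie in K. -/
theorem linear_mem {E : Subgroup R} (h2 : IsPGroup 2 ↥E) (h32 : 32 ≤ Nat.card ↥E)
    (hE : E ≤ C.stab6 w0) (hn : ∀ x ∈ C.stab6 w0, ∀ e ∈ E, x * e * x⁻¹ ∈ E)
    {u : R} (hlin : ∀ (c : K4) v, C.r6 u (c • v) = c • C.r6 u v) : u ∈ W.K := by
  obtain ⟨k, hk, e⟩ := C.exists_act_v0 (C.in1_r6 u v0_in)
  have h := C.linear_fix_mem h2 h32 hE hn (u := k * u)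
    (show C.r6 (k * u) v0 = v0 by rw [C.r6_mul, e]) (fun c v => by
      obtain ⟨g, hg⟩ := C.exists_tau6 hk
      rw [C.r6_mul, hlin, ← hg, C.tau6_spec, C.r6_mul, C.tau6_spec, act_smul])
  have := W.K.mul_mem (W.K.inv_mem hk) h
  rwa [inv_mul_cancel_left] at this

/-- The central subgroup acts by scalars. -/
theorem r6_scalar {r : R} (hr : r ∈ W.P) : ∃ c : K4, c ≠ 0 ∧ (∀ v, C.r6 r v = c • v) ∧ (c = 1 → r = 1) := by
  obtain ⟨m, hm⟩ := W.exists_pow (x := ⟨r, W.PK hr⟩) (by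
    rw [← MonoidHom.mem_ker, W.ker]; exact hr)
  have hm' : r = (W.p : R) ^ m := congrArg Subtype.val hm
  have key : ∀ (v : V6) (m : ℕ), C.r6 ((W.p : R) ^ m) v = K4.w ^ m • v := fun v m => by
    induction m with
    | zero => rw [pow_zero, pow_zero, r6_one, one_smul]
    | succ m ih =>
      rw [pow_succ', r6_mul, ih, pow_succ', ← smul_smul]
      exact C.bij.1 (by rw [r6_spec, C.smul K4.w]; rfl)
  refine ⟨K4.w ^ m, pow_ne_zero _ (by decide), fun v => hm' ▸ key v m, fun h => C.r6_ext fun v => ?_⟩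
  rw [hm', key, h, one_smul, C.r6_one]

end Env.Coords

end Cfsg.Agent.LargeFischer
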