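import Cfsg.Agent.Lib.LargeFischer.Fusion
import Cfsg.Agent.Lib.LargeFischer.Linear

/-! The centraliser of a subgroup of order three modulo the centre of Q. -/

set_option autoImplicit false
set_option maxRecDepth 100000

namespace Cfsg.Agent.LargeFischer

open Cfsg.Agent.RigidGraph.He Cfsg.Agent.U43InU62 Cfsg.Agent.LargeExtra
open Subgroup
open scoped commutatorElement

variable {G : Type*} [Group G] [Finite G] {z : G} {Q : Subgroup ↥(centralizer ({z} : Set G))} [Q.Normal]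

theorem k4_facts : ∀ c : K4, c ≠ 0 → c ≠ 1 →
    c * c * c = 1 ∧ 1 + c + c * c = 0 ∧ 1 + c ≠ 0 ∧ c * c ≠ c ∧ c * c ≠ 0 ∧ c * c ≠ 1 := by decide

theorem v6_add_self (v : V6) : v + v = 0 := funext fun _ => k4_char _

theorem v6_eq_of_add {u v : V6} (h : u + v = 0) : v = u := by
  have := congrArg (u + ·) h
  simp only [← add_assoc, v6_add_self, zero_add, add_zero] at this
  exact this

theorem v6_smul_fix {c : K4} (hc : c ≠ 1) {v : V6} (h : c • v = v) : v = 0 := funext fun i => by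
  have h1 : c * v i = v i := congrFun h i
  exact ((by decide : ∀ a b : K4, a ≠ 1 → a * b = b → b = 0) c (v i) hc h1)

theorem v0_ne : v0 ≠ 0 := fun e => absurd (congrFun e 0) (by decide +kernel)

theorem w0_ne : w0 ≠ 0 := fun e => absurd (congrFun e 0) (by decide +kernel)

namespace Model

variable (D : Model z Q)

theorem vec_mul (x y : ↥(QG Q)) : D.vec (x * y) = D.vec x + D.vec y := D.co.bij.1 (by
  rw [map_add, D.phi_vec, D.phi_vec, D.phi_vec, mkV_mul])

theorem vec_one : D.vec 1 = 0 := D.vec_eq_zero.2 (Or.inl rfl)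

theorem vec_inv (x : ↥(QG Q)) : D.vec x⁻¹ = D.vec x :=
  v6_eq_of_add (by rw [← D.vec_mul, mul_inv_cancel, D.vec_one])

/-- Elements commuting with a non-trivial scalar lie in K. -/
theorem mem_K_of_comm (hF : Cfsg.IsOfLargeFischerTypeAt z Q) {e r : ↥(centralizer ({z} : Set G)) ⧸ Q} {c : K4}
    (hc0 : c ≠ 0) (hc1 : c ≠ 1) (he : ∀ v, D.co.r6 e v = c • v) (hr : r * e = e * r) : r ∈ D.env.K := by
  obtain ⟨g, s, hg, hs, hw⟩ := D.exists_at_w0 hF
  have hlin : ∀ (d : K4) v, D.co.r6 r (d • v) = d • D.co.r6 r v := by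
    refine (D.co.r6_semi r).resolve_right fun hsemi => ?_
    have h1 : D.co.r6 r (c • v0) = c • D.co.r6 r v0 := by
      rw [← he v0, ← D.co.r6_mul, hr, D.co.r6_mul, he]
    rw [hsemi] at h1
    have h2 : D.co.r6 r v0 = 0 := funext fun i => by
      have h3 : c ^ 2 * D.co.r6 r v0 i = c * D.co.r6 r v0 i := congrFun h1 i
      exact (by decide : ∀ a b : K4, a ≠ 0 → a ≠ 1 → a ^ 2 * b = a * b → b = 0) c _ hc0 hc1 h3
    have h4 := congrArg (D.co.r6 r⁻¹) h2
    rw [D.co.r6_inv, D.co.r6_zero] at h4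
    exact v0_ne h4
  exact D.co.linear_mem (D.Eg_two hg hs) (D.Eg_ge hg hs) (hw ▸ D.Eg_le hg) (hw ▸ D.Eg_normal hg hs) hlin

/-- Elements of K are linear. -/
theorem K_comm {e r : ↥(centralizer ({z} : Set G)) ⧸ Q} {c : K4}
    (he : ∀ v, D.co.r6 e v = c • v) (hr : r ∈ D.env.K) : r * e = e * r := by
  obtain ⟨t, rfl⟩ := D.co.exists_tau6 hr
  refine D.co.r6_ext fun v => ?_
  rw [D.co.r6_mul, D.co.r6_mul, he, he, D.co.tau6_spec, D.co.tau6_spec, act_smul]

end Model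

/-- An element of order three acting as a scalar. -/
structure Cover (D : Model z Q) where
  x : ↥(centralizer ({z} : Set G))
  c : K4
  hx3 : x ^ 3 = 1
  hc0 : c ≠ 0
  hc1 : c ≠ 1
  hsc : ∀ v, D.co.r6 (QuotientGroup.mk x) v = c • v
  hmem : (QuotientGroup.mk x : _ ⧸ Q) ∈ D.env.P
  hgen : ∀ r ∈ D.env.P, ∃ i : ℕ, (QuotientGroup.mk x : _ ⧸ Q) ^ i = r

theorem exists_cover (hF : Cfsg.IsOfLargeFischerTypeAt z Q) (D : Model z Q)
    (X : Subgroup ↥(centralizer ({z} : Set G))) (hX : Nat.card ↥X = 3) (hXQ : (X ⊔ Q).Normal) :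
    ∃ cv : Cover D, centralizer (X : Set ↥(centralizer ({z} : Set G))) = centralizer {cv.x} := by
  haveI : Fact (Nat.Prime 3) := ⟨Nat.prime_three⟩
  have hc := D.ctx.card
  rw [card_map_of_injective (centralizer ({z} : Set G)).subtype_injective] at hc
  have hdisj : ∀ a ∈ X, a ∈ Q → a = 1 := fun a ha haQ => by
    have h3 : orderOf a ∣ 3 := hX ▸ orderOf_dvd_natCard X ha
    have h2 : orderOf a ∣ 8192 := hc ▸ orderOf_dvd_natCard Q haQ
    exact orderOf_eq_one_iff.1 (Nat.eq_one_of_dvd_coprimes (by norm_num) h3 h2)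
  set N := X.map (QuotientGroup.mk' Q) with hNdef
  have hN : N.Normal := by
    have := hXQ.map (QuotientGroup.mk' Q) (QuotientGroup.mk'_surjective Q)
    rwa [Subgroup.map_sup, QuotientGroup.map_mk'_self, sup_bot_eq] at this
  have hN3 : Nat.card ↥N = 3 := by
    rw [← hX]
    refine (Nat.card_congr (Equiv.ofBijective
      (fun a : ↥X => (⟨QuotientGroup.mk' Q a.1, mem_map_of_mem _ a.2⟩ : ↥N)) ⟨fun a b e => ?_, ?_⟩)).symm
    · exact Subtype.ext (inv_mul_eq_one.1 (hdisj _ (mul_mem (inv_mem a.2) b.2)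
        (QuotientGroup.eq.1 (congrArg Subtype.val e))))
    · rintro ⟨_, a, ha, rfl⟩
      exact ⟨⟨a, ha⟩, rfl⟩
  have hcube : ∀ n ∈ N, n ^ 3 = 1 := fun n hn => by
    have := pow_card_eq_one' (G := ↥N) (x := ⟨n, hn⟩)
    rw [hN3] at this
    exact congrArg Subtype.val this
  have hNK : N ≤ D.env.K := fun n hn => by
    have hsq : n * n ∈ D.env.K := mul_self_mem_of_index_two D.env.idxK n
    have : n = n * n * (n * n) := by
      calc n = n ^ 3 * n := by rw [hcube n hn, one_mul]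
        _ = n * n * (n * n) := by rw [pow_succ, pow_two]; simp [mul_assoc]
    rw [this]
    exact mul_mem hsq hsq
  have hNP : N = D.env.P := by
    refine Subgroup.eq_of_le_of_card_ge (fun n hn => ?_) (by rw [hN3, D.env.cardP])
    have := gen_simple
    have hnor : ((N.subgroupOf D.env.K).map D.env.θ).Normal :=
      (Subgroup.normal_subgroupOf (H := D.env.K) (N := N)).map _ D.env.surj
    rcases hnor.eq_bot_or_eq_top with h | h
    · have h1 : D.env.θ ⟨n, hNK hn⟩ ∈ (⊥ : Subgroup ↥Gen) :=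
        h ▸ mem_map_of_mem _ (mem_subgroupOf.2 hn)
      have h2 : (⟨n, hNK hn⟩ : ↥D.env.K) ∈ D.env.θ.ker := MonoidHom.mem_ker.2 (mem_bot.1 h1)
      rw [D.env.ker] at h2
      exact mem_subgroupOf.1 h2
    · have h1 := (N.subgroupOf D.env.K).card_map_dvd D.env.θ
      rw [h, card_top, card_Gen, Nat.card_congr (subgroupOfEquivOfLe hNK).toEquiv, hN3] at h1
      exact absurd (Nat.le_of_dvd (by norm_num) h1) (by norm_num)
  have hbot : X ≠ ⊥ := fun h => by rw [h, card_bot] at hX; omega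
  obtain ⟨x, hxX, hx1⟩ : ∃ x ∈ X, x ≠ (1 : ↥(centralizer ({z} : Set G))) := by
    by_contra h
    push Not at h
    exact hbot ((Subgroup.eq_bot_iff_forall _).2 h)
  have hxN : (QuotientGroup.mk x : _ ⧸ Q) ∈ D.env.P := hNP ▸ mem_map_of_mem _ hxX
  have hmk1 : (QuotientGroup.mk x : _ ⧸ Q) ≠ 1 := fun e => hx1 (hdisj x hxX ((QuotientGroup.eq_one_iff _).1 e))
  obtain ⟨c, hc0, hsc, hc1⟩ := D.co.r6_scalar hxN
  have hzx : zpowers x = X := by
    refine Subgroup.eq_of_le_of_card_ge (zpowers_le.2 hxX) ?_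
    rw [hX, Nat.card_zpowers, orderOf_eq_prime (p := 3) ?_ hx1]
    have := pow_card_eq_one' (G := ↥X) (x := ⟨x, hxX⟩)
    rw [hX] at this
    exact congrArg Subtype.val this
  refine ⟨⟨x, c, ?_, hc0, fun e => hmk1 (hc1 e), hsc, hxN, fun r hr => ?_⟩, ?_⟩
  · have := pow_card_eq_one' (G := ↥X) (x := ⟨x, hxX⟩)
    rw [hX] at this
    exact congrArg Subtype.val this
  · rw [← hNP] at hr
    obtain ⟨a, ha, rfl⟩ := hr
    rw [SetLike.mem_coe, ← hzx] at ha
    obtain ⟨i, hi⟩ : a ∈ Submonoid.powers x := (isOfFinOrder_of_finite x).mem_powers_iff_mem_zpowers.2 ha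
    exact ⟨i, by rw [← hi]; rfl⟩
  · show _ = centralizer {x}
    rw [← hzx]
    ext a
    simp only [mem_centralizer_iff, Set.mem_singleton_iff, forall_eq, SetLike.mem_coe]
    exact ⟨fun h => h x (mem_zpowers x), fun h y hy => by
      obtain ⟨i, rfl⟩ := mem_zpowers_iff.1 hy
      exact (Commute.zpow_left (show Commute x a from h) i).eq⟩

/-- The central involution inside its centraliser. -/
def zel (z : G) : ↥(centralizer ({z} : Set G)) := ⟨z, mem_centralizer_one.2 rfl⟩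

theorem zel_comm (a : ↥(centralizer ({z} : Set G))) : a * zel z = zel z * a :=
  Subtype.ext (mem_centralizer_one.1 a.2)

namespace Model

variable (D : Model z Q)

include D in
theorem zel_mem : zel z ∈ Q := by
  obtain ⟨q, hq, e⟩ := D.ctx.xs.mem
  exact (show q = zel z from Subtype.ext e) ▸ hq

include D in
theorem zel_sq : zel z * zel z = 1 := Subtype.ext D.ctx.xs.sq

include D in
theorem zel_ne : zel z ≠ 1 := fun e => D.ctx.xs.ne_one (congrArg Subtype.val e)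

include D in
/-- An element of Q as an element of the centraliser. -/
theorem exists_coe (q : ↥(QG Q)) : ∃ a : ↥(centralizer ({z} : Set G)), a ∈ Q ∧ (a : G) = q := by
  obtain ⟨q', hq, e⟩ := q.2
  exact ⟨q', hq, e⟩

end Model

namespace Cover

variable {D : Model z Q} (cv : Cover D)

/-- The centraliser of the element. -/
abbrev L : Subgroup ↥(centralizer ({z} : Set G)) := centralizer {cv.x}

theorem mem_L {a : ↥(centralizer ({z} : Set G))} : a ∈ cv.L ↔ a * cv.x = cv.x * a := mem_centralizer_one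

theorem x_mem : cv.x ∈ cv.L := cv.mem_L.2 rfl

theorem z_mem : zel z ∈ cv.L := cv.mem_L.2 (zel_comm cv.x).symm

theorem vec_conj_x (q : ↥(QG Q)) : D.vec (D.ctx.conjQ cv.x q) = cv.c • D.vec q := by rw [D.vec_conj, cv.hsc]

theorem inf_Q {a : ↥(centralizer ({z} : Set G))} (ha : a ∈ cv.L) (hq : a ∈ Q) : a = 1 ∨ a = zel z := by
  have hfix : D.ctx.conjQ cv.x ⟨a.1, a, hq, rfl⟩ = ⟨a.1, a, hq, rfl⟩ := Subtype.ext (by
    show cv.x.1 * a.1 * cv.x.1⁻¹ = a.1
    have hh : a.1 * cv.x.1 = cv.x.1 * a.1 := congrArg Subtype.val (cv.mem_L.1 ha)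
    rw [← hh]
    exact mul_inv_cancel_right _ _)
  have h := cv.vec_conj_x ⟨a.1, a, hq, rfl⟩
  rw [hfix] at h
  exact (D.vec_eq_zero.1 (v6_smul_fix cv.hc1 h.symm)).imp Subtype.ext Subtype.ext

theorem mk_mem (hF : Cfsg.IsOfLargeFischerTypeAt z Q) {a : ↥(centralizer ({z} : Set G))} (ha : a ∈ cv.L) :
    (QuotientGroup.mk a : _ ⧸ Q) ∈ D.env.K :=
  D.mem_K_of_comm hF cv.hc0 cv.hc1 cv.hsc (by rw [← QuotientGroup.mk_mul, cv.mem_L.1 ha, QuotientGroup.mk_mul])

theorem exists_lift {r : ↥(centralizer ({z} : Set G)) ⧸ Q} (hr : r ∈ D.env.K) :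
    ∃ l ∈ cv.L, (QuotientGroup.mk l : _ ⧸ Q) = r := by
  obtain ⟨c0, rfl⟩ := QuotientGroup.mk'_surjective Q r
  have hu : c0 * cv.x * c0⁻¹ * cv.x⁻¹ ∈ Q := by
    rw [← QuotientGroup.eq_one_iff]
    show QuotientGroup.mk' Q (c0 * cv.x * c0⁻¹ * cv.x⁻¹) = 1
    rw [map_mul, map_mul, map_mul, map_inv, map_inv,
      show QuotientGroup.mk' Q c0 * QuotientGroup.mk' Q cv.x = QuotientGroup.mk' Q cv.x * QuotientGroup.mk' Q c0 from
        D.K_comm cv.hsc hr]
    group
  let u : ↥(QG Q) := ⟨(c0 * cv.x * c0⁻¹ * cv.x⁻¹).1, _, hu, rfl⟩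
  obtain ⟨q, hq⟩ := D.vec_surjective ((1 + cv.c)⁻¹ • D.vec u)
  obtain ⟨qc, hqc, hqe⟩ := D.exists_coe q
  have ht : D.vec (q * D.ctx.conjQ cv.x q⁻¹) = D.vec u := by
    rw [D.vec_mul, cv.vec_conj_x, D.vec_inv, hq,
      show (1 + cv.c)⁻¹ • D.vec u + cv.c • ((1 + cv.c)⁻¹ • D.vec u) = (1 + cv.c) • ((1 + cv.c)⁻¹ • D.vec u) by
        rw [add_smul, one_smul],
      smul_inv_smul₀ (k4_facts _ cv.hc0 cv.hc1).2.2.1]
  refine ⟨qc⁻¹ * c0, cv.mem_L.2 ?_, ?_⟩
  · rcases D.vec_eq_iff.1 ht with e | e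
    · have e1 : c0 * cv.x * c0⁻¹ * cv.x⁻¹ = qc * (cv.x * qc⁻¹ * cv.x⁻¹) := Subtype.ext (by
        refine e.trans ?_
        show (q : G) * (cv.x.1 * (q : G)⁻¹ * cv.x.1⁻¹) = qc.1 * (cv.x.1 * qc.1⁻¹ * cv.x.1⁻¹)
        rw [hqe])
      calc qc⁻¹ * c0 * cv.x = qc⁻¹ * (c0 * cv.x * c0⁻¹ * cv.x⁻¹) * cv.x * c0 := by group
        _ = qc⁻¹ * (qc * (cv.x * qc⁻¹ * cv.x⁻¹)) * cv.x * c0 := by rw [e1]
        _ = cv.x * (qc⁻¹ * c0) := by group
    · exfalso
      have e1 : c0 * cv.x * c0⁻¹ * cv.x⁻¹ = qc * (cv.x * qc⁻¹ * cv.x⁻¹) * zel z := Subtype.ext (by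
        refine e.trans ?_
        show (q : G) * (cv.x.1 * (q : G)⁻¹ * cv.x.1⁻¹) * z = qc.1 * (cv.x.1 * qc.1⁻¹ * cv.x.1⁻¹) * z
        rw [hqe])
      have e2 : c0 * cv.x * c0⁻¹ = qc * cv.x * qc⁻¹ * zel z := by
        calc c0 * cv.x * c0⁻¹ = c0 * cv.x * c0⁻¹ * cv.x⁻¹ * cv.x := by group
          _ = qc * (cv.x * qc⁻¹ * cv.x⁻¹) * (zel z * cv.x) := by rw [e1]; group
          _ = qc * cv.x * qc⁻¹ * zel z := by rw [← zel_comm]; group
      have h3 := congrArg (· ^ 3) e2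
      rw [(show Commute (qc * cv.x * qc⁻¹) (zel z) from zel_comm _).mul_pow, conj_pow, conj_pow, cv.hx3,
        mul_one, mul_inv_cancel, mul_one, mul_inv_cancel, one_mul, pow_succ, pow_two, D.zel_sq, one_mul] at h3
      exact D.zel_ne h3.symm
  · rw [QuotientGroup.mk_mul, (QuotientGroup.eq_one_iff _).2 (inv_mem hqc), one_mul]
    rfl

variable (hF : Cfsg.IsOfLargeFischerTypeAt z Q)

/-- The map onto K. -/
noncomputable def toK : ↥cv.L →* ↥D.env.K :=
  ((QuotientGroup.mk' Q).comp cv.L.subtype).codRestrict _ fun a => cv.mk_mem hF a.2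

theorem toK_surjective : Function.Surjective (cv.toK hF) := fun r => by
  obtain ⟨l, hl, e⟩ := cv.exists_lift r.2
  exact ⟨⟨l, hl⟩, Subtype.ext e⟩

theorem toK_eq_one {a : ↥cv.L} : cv.toK hF a = 1 ↔ a.1 = 1 ∨ a.1 = zel z := by
  refine ⟨fun h => cv.inf_Q a.2 ((QuotientGroup.eq_one_iff _).1 (congrArg Subtype.val h)), fun h => Subtype.ext ?_⟩
  show (QuotientGroup.mk a.1 : _ ⧸ Q) = 1
  rw [QuotientGroup.eq_one_iff]
  rcases h with e | e <;> rw [e]
  exacts [one_mem _, D.zel_mem]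

/-- The map onto the simple group. -/
noncomputable def toGen : ↥cv.L →* ↥Gen := D.env.θ.comp (cv.toK hF)

theorem toGen_surjective : Function.Surjective (cv.toGen hF) := D.env.surj.comp (cv.toK_surjective hF)

/-- A generator of the centre. -/
def xz : ↥cv.L := ⟨cv.x * zel z, mul_mem cv.x_mem cv.z_mem⟩

theorem toGen_ker : (cv.toGen hF).ker = zpowers cv.xz := by
  refine le_antisymm (fun a ha => ?_) (zpowers_le.2 (MonoidHom.mem_ker.2 ?_))
  · have h1 : cv.toK hF a ∈ D.env.θ.ker := ha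
    rw [D.env.ker] at h1
    obtain ⟨i, hi⟩ := cv.hgen _ (mem_subgroupOf.1 h1)
    have h2 : a * (⟨cv.x, cv.x_mem⟩ : ↥cv.L)⁻¹ ^ i ∈ (cv.toK hF).ker := by
      refine MonoidHom.mem_ker.2 (Subtype.ext ?_)
      show (QuotientGroup.mk (a.1 * cv.x⁻¹ ^ i) : _ ⧸ Q) = 1
      rw [QuotientGroup.mk_mul, ← show _ = (QuotientGroup.mk a.1 : _ ⧸ Q) from hi, QuotientGroup.mk_pow,
        QuotientGroup.mk_inv, inv_pow, mul_inv_cancel]
    have hz4 : cv.xz ^ 4 = ⟨cv.x, cv.x_mem⟩ ∧ cv.xz ^ 3 = ⟨zel z, cv.z_mem⟩ := by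
      constructor <;> refine Subtype.ext ?_
      · show (cv.x * zel z) ^ 4 = cv.x
        rw [(show Commute cv.x (zel z) from zel_comm _).mul_pow, pow_succ cv.x 3, cv.hx3, one_mul,
          show (zel z) ^ 4 = (zel z * zel z) * (zel z * zel z) by simp [pow_succ, mul_assoc], D.zel_sq, one_mul, mul_one]
      · show (cv.x * zel z) ^ 3 = zel z
        rw [(show Commute cv.x (zel z) from zel_comm _).mul_pow, cv.hx3, one_mul,
          show (zel z) ^ 3 = (zel z * zel z) * zel z by simp [pow_succ, mul_assoc], D.zel_sq, one_mul]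
    have hx : (⟨cv.x, cv.x_mem⟩ : ↥cv.L) ∈ zpowers cv.xz := hz4.1 ▸ pow_mem (mem_zpowers _) 4
    have hz : (⟨zel z, cv.z_mem⟩ : ↥cv.L) ∈ zpowers cv.xz := hz4.2 ▸ pow_mem (mem_zpowers _) 3
    have h3 : a * (⟨cv.x, cv.x_mem⟩ : ↥cv.L)⁻¹ ^ i ∈ zpowers cv.xz := by
      rcases (cv.toK_eq_one hF).1 (MonoidHom.mem_ker.1 h2) with e | e
      · rw [show a * (⟨cv.x, cv.x_mem⟩ : ↥cv.L)⁻¹ ^ i = 1 from Subtype.ext e]; exact one_mem _
      · rw [show a * (⟨cv.x, cv.x_mem⟩ : ↥cv.L)⁻¹ ^ i = ⟨zel z, cv.z_mem⟩ from Subtype.ext e]; exact hz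
    have := mul_mem h3 (pow_mem hx i)
    rwa [inv_pow, inv_mul_cancel_right] at this
  · show D.env.θ (cv.toK hF cv.xz) = 1
    rw [← MonoidHom.mem_ker, D.env.ker, mem_subgroupOf]
    show (QuotientGroup.mk (cv.x * zel z) : _ ⧸ Q) ∈ D.env.P
    rw [QuotientGroup.mk_mul, (QuotientGroup.eq_one_iff _).2 D.zel_mem, mul_one]
    exact cv.hmem

include hF in
theorem center_eq : Subgroup.center ↥cv.L = zpowers cv.xz := by
  refine le_antisymm (fun a ha => ?_) (zpowers_le.2 (mem_center_iff.2 fun a => Subtype.ext ?_))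
  · rw [← cv.toGen_ker hF, MonoidHom.mem_ker, ← Subgroup.mem_bot, ← gen_center, mem_center_iff]
    intro g
    obtain ⟨b, rfl⟩ := cv.toGen_surjective hF g
    rw [← map_mul, ← map_mul, mem_center_iff.1 ha b]
  · show a.1 * (cv.x * zel z) = cv.x * zel z * a.1
    rw [← mul_assoc, cv.mem_L.1 a.2, mul_assoc, zel_comm a.1, ← mul_assoc]

theorem orderOf_xz : orderOf cv.xz = 6 := by
  rw [← Subgroup.orderOf_coe]
  show orderOf (cv.x * zel z) = 6
  haveI : Fact (Nat.Prime 3) := ⟨Nat.prime_three⟩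
  haveI : Fact (Nat.Prime 2) := ⟨Nat.prime_two⟩
  have h1 : orderOf cv.x = 3 := orderOf_eq_prime cv.hx3 fun e => cv.hc1 (by
    have := cv.hsc v0
    rw [e, QuotientGroup.mk_one, D.co.r6_one] at this
    by_contra hne
    exact v0_ne (v6_smul_fix hne this.symm))
  have h2 : orderOf (zel z) = 2 := orderOf_eq_prime (by rw [pow_two]; exact D.zel_sq) D.zel_ne
  rw [(show Commute cv.x (zel z) from zel_comm _).orderOf_mul_eq_mul_orderOf_of_coprime (by rw [h1, h2]; norm_num),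
    h1, h2]

include hF in
theorem center_props : IsCyclic ↥(Subgroup.center ↥cv.L) ∧ Nat.card ↥(Subgroup.center ↥cv.L) = 6 := by
  rw [cv.center_eq hF, Nat.card_zpowers, cv.orderOf_xz]
  exact ⟨inferInstance, rfl⟩

include hF in
theorem quotient_equiv : Nonempty (↥cv.L ⧸ Subgroup.center ↥cv.L ≃* ↥Gen) :=
  ⟨(QuotientGroup.quotientMulEquivOfEq ((cv.center_eq hF).trans (cv.toGen_ker hF).symm)).trans
    (QuotientGroup.quotientKerEquivOfSurjective _ (cv.toGen_surjective hF))⟩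

/-- The scalar as a commutator in the monomial group. -/
theorem scalar_commutator : ∃ a b : ↥K0, ∀ v, act (⁅a, b⁆).1 v = K4.w • v := by
  let π : Equiv.Perm (Fin 6) := Equiv.swap 0 1 * Equiv.swap 1 2 * (Equiv.swap 3 4 * Equiv.swap 4 5)
  let d : Dg := ⟨![.l, .w, .v, .l, .w, .v], by decide +kernel⟩
  have hπ : Equiv.Perm.sign π = 1 := by decide +kernel
  have hd : dmul 1 (constD 1) d = dperm d π := by decide +kernel
  refine ⟨⟨(mel π done)⁻¹, inv_mem (N0_le_K0 (mem_N0.2 ⟨π, hπ, done, rfl⟩))⟩, ⟨mel 1 d, diag_mem d⟩, fun v => ?_⟩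
  have e : (mel π done)⁻¹ * mel 1 d * (mel π done)⁻¹⁻¹ * (mel 1 d)⁻¹ = mel 1 (constD 1) := by
    rw [inv_inv, conj_diag, ← hd, mul_inv_eq_iff_eq_mul, mel_mul, mul_one]
  show act ((mel π done)⁻¹ * mel 1 d * (mel π done)⁻¹⁻¹ * (mel 1 d)⁻¹) v = _
  rw [e]
  funext i
  rw [act_mel]
  rfl

include hF in
theorem commutator_K : _root_.commutator ↥D.env.K = ⊤ := by
  have := gen_simple
  let τ : ↥K0 →* ↥D.env.K := D.co.tau6.codRestrict _ D.co.tau6_mem
  have hp : D.env.p ∈ _root_.commutator ↥D.env.K := by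
    obtain ⟨a, b, hab⟩ := scalar_commutator
    have : D.env.p = ⁅τ a, τ b⁆ := Subtype.ext (D.co.r6_ext fun v => by
      rw [show ((⁅τ a, τ b⁆ : ↥D.env.K) : ↥(centralizer ({z} : Set G)) ⧸ Q) = D.co.tau6 ⁅a, b⁆ from
        congrArg Subtype.val (map_commutatorElement τ a b).symm, D.co.tau6_spec, hab]
      exact D.co.bij.1 (by rw [D.co.r6_spec, D.co.smul K4.w]; rfl))
    rw [this, commutator_def]
    exact commutator_mem_commutator (mem_top _) (mem_top _)
  have hx : ∃ x ∈ _root_.commutator ↥D.env.K, D.env.θ x ≠ 1 := by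
    by_contra h
    push Not at h
    have htop : Subgroup.center ↥Gen = ⊤ := by
      refine (Subgroup.eq_top_iff' _).2 fun a => mem_center_iff.2 fun b => ?_
      obtain ⟨a, rfl⟩ := D.env.surj a
      obtain ⟨b, rfl⟩ := D.env.surj b
      refine commutatorElement_eq_one_iff_mul_comm.1 ?_
      rw [← map_commutatorElement]
      exact h _ (by rw [commutator_def]; exact commutator_mem_commutator (mem_top _) (mem_top _))
    have := congrArg (fun H : Subgroup ↥Gen => Nat.card ↥H) (gen_center.symm.trans htop)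
    simp only [card_bot, card_top, card_Gen] at this
    omega
  obtain ⟨x, hx, hx1⟩ := hx
  exact (Subgroup.eq_top_iff' _).2 fun y => D.env.normal_top inferInstance hp hx hx1 y

theorem exists_derived (a : ↥cv.L) : ∃ b ∈ _root_.commutator ↥cv.L, cv.toK hF b = cv.toK hF a := by
  have h : (_root_.commutator ↥cv.L).map (cv.toK hF) = ⊤ := by
    rw [commutator_def, map_commutator, map_top_of_surjective _ (cv.toK_surjective hF), ← commutator_def,
      commutator_K hF]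
  exact mem_map.1 (h ▸ mem_top (cv.toK hF a))

include hF in
theorem perfect_of_z (hz : (⟨zel z, cv.z_mem⟩ : ↥cv.L) ∈ _root_.commutator ↥cv.L) : Group.IsPerfect ↥cv.L := by
  refine ⟨(Subgroup.eq_top_iff' _).2 fun a => ?_⟩
  obtain ⟨b, hb, e⟩ := cv.exists_derived hF a
  have h1 : b⁻¹ * a ∈ _root_.commutator ↥cv.L := by
    rcases (cv.toK_eq_one hF (a := b⁻¹ * a)).1 (by rw [map_mul, map_inv, e, inv_mul_cancel]) with h | h
    · rw [show b⁻¹ * a = 1 from Subtype.ext h]; exact one_mem _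
    · rw [show b⁻¹ * a = ⟨zel z, cv.z_mem⟩ from Subtype.ext h]; exact hz
  have := mul_mem hb h1
  rwa [mul_inv_cancel_left] at this

end Cover

end Cfsg.Agent.LargeFischer
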