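import Cfsg.Agent.Lib.LargeFischer.StabB

/-! The module attached to a vector of the long orbit does not split. -/

set_option autoImplicit false
set_option maxRecDepth 100000
set_option maxHeartbeats 1000000

namespace Cfsg.Agent.LargeFischer

open Cfsg.Agent.RigidGraph.He Cfsg.Agent.U43InU62
open Matrix

/-- The vectors moved only along w0 by the kernel. -/
def InR (v : V6) : Prop := ∀ k : Fin 4, wMat (Fin.castLE (by omega) k) *ᵥ v = v ∨
  wMat (Fin.castLE (by omega) k) *ᵥ v = v + w0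

instance : DecidablePred InR := fun v => by unfold InR; infer_instance

theorem card_InR : (Finset.univ.filter InR).card = 64 := by decide +kernel

theorem InR_line_coord : ∀ a b c e f g : K4, InR ![a, b, c, e, f, g] → InR (K4.w • (![a, b, c, e, f, g] : V6)) →
    ∃ x : K4, (![a, b, c, e, f, g] : V6) = x • w0 := by decide +kernel

theorem InR_line {v : V6} (h : InR v) (hw : InR (K4.w • v)) : ∃ x : K4, v = x • w0 := by
  rw [vec_eta v] at h hw ⊢
  exact InR_line_coord _ _ _ _ _ _ h hw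

theorem InR_smul_line : ∀ x : K4, InR (x • w0) := by decide +kernel

/-- Representatives modulo the line. -/
def rb : Fin 4 → V6 := ![![.o, .o, .o, .o, .l, .l], ![.o, .o, .o, .o, .w, .v], ![.o, .o, .l, .l, .o, .o], ![.o, .l, .o, .l, .o, .o]]

/-- A shifted basis vector. -/
def mb (a b c e : K4) : Fin 4 → V6 :=
  ![rb 0 + a • w0, rb 1 + b • w0, rb 2 + c • w0, rb 3 + e • w0]

/-- A combination. -/
def comb (m : Fin 4 → V6) (t : Fin 2 × Fin 2 × Fin 2 × Fin 2) : V6 :=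
  (if t.1 = 0 then 0 else m 0) + (if t.2.1 = 0 then 0 else m 1) +
    ((if t.2.2.1 = 0 then 0 else m 2) + (if t.2.2.2 = 0 then 0 else m 3))

/-- The kernel element applied to a vector. -/
def kact (t : Fin 2 × Fin 2 × Fin 2 × Fin 2) (v : V6) : V6 :=
  let v3 := if t.2.2.2 = 0 then v else wMat 3 *ᵥ v
  let v2 := if t.2.2.1 = 0 then v3 else wMat 2 *ᵥ v3
  let v1 := if t.2.1 = 0 then v2 else wMat 1 *ᵥ v2
  if t.1 = 0 then v1 else wMat 0 *ᵥ v1

theorem kact_eq (t : Fin 2 × Fin 2 × Fin 2 × Fin 2) (v : V6) : kMat t *ᵥ v = kact t v := by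
  unfold kMat kact
  split_ifs <;> simp [Matrix.mulVec_mulVec, Matrix.mul_assoc]

theorem InR_decomp : ∀ a b c e f g : K4, InR ![a, b, c, e, f, g] →
    ∃ (t : Fin 2 × Fin 2 × Fin 2 × Fin 2) (x : K4), (![a, b, c, e, f, g] : V6) = comb rb t + x • w0 := by decide +kernel

theorem no_split : ∀ a b c e : K4, ∃ k : Fin 4, ∀ t : Fin 2 × Fin 2 × Fin 2 × Fin 2, ∃ i : Fin 4,
    ∀ u : Fin 2 × Fin 2 × Fin 2 × Fin 2,
      wMat (Fin.natAdd 4 k) *ᵥ kact t (mb a b c e i) ≠ comb (mb a b c e) u := by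
  decide +kernel

theorem no_fixed_coord : ∀ a b c e f g : K4, InR ![a, b, c, e, f, g] →
    (∀ x : K4, (![a, b, c, e, f, g] : V6) ≠ x • w0) → ∃ k : Fin 4, ∀ t : Fin 2 × Fin 2 × Fin 2 × Fin 2,
      wMat (Fin.natAdd 4 k) *ᵥ kact t ![a, b, c, e, f, g] ≠ ![a, b, c, e, f, g] := by
  decide +kernel

theorem no_fixed {v : V6} (h : InR v) (hl : ∀ x : K4, v ≠ x • w0) :
    ∃ k : Fin 4, ∀ t, wMat (Fin.natAdd 4 k) *ᵥ kact t v ≠ v := by
  rw [vec_eta v] at h hl ⊢
  exact no_fixed_coord _ _ _ _ _ _ h hl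

/-- A product of the four kernel generators. -/
noncomputable def wprod (t : Fin 2 × Fin 2 × Fin 2 × Fin 2) : S6 :=
  (if t.1 = 0 then 1 else wel 0) * (if t.2.1 = 0 then 1 else wel 1) *
    ((if t.2.2.1 = 0 then 1 else wel 2) * (if t.2.2.2 = 0 then 1 else wel 3))

theorem mat_mul' (g h : S6) : mat (g * h) = mat g * mat h := rfl

theorem mat_one' : mat (1 : S6) = 1 := rfl

theorem mat_wprod (t : Fin 2 × Fin 2 × Fin 2 × Fin 2) : mat (wprod t) = kMat t := by
  simp only [wprod, mat_mul', kMat]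
  split_ifs <;> simp [mat_one', mat_wel]

theorem wel_ker (k : Fin 4) : β ⟨wel (Fin.castLE (by omega) k), wel_mem _⟩ = 1 :=
  Subtype.ext ((beta_eq _ (wel_per _)).trans (by revert k; decide +kernel))

theorem wprod_mem (t : Fin 2 × Fin 2 × Fin 2 × Fin 2) : ∃ h : wprod t ∈ Wgrp, β ⟨wprod t, h⟩ = 1 := by
  have hf : ∀ (k : Fin 8) (hk : (k : ℕ) < 4) (a : Fin 2), ∃ x : ↥β.ker, x.1.1 = if a = 0 then 1 else wel k :=
    fun k hk a => by
      by_cases ha : a = 0
      · exact ⟨1, by rw [if_pos ha]; rfl⟩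
      · refine ⟨⟨⟨wel k, wel_mem k⟩, MonoidHom.mem_ker.2 (Subtype.ext ((beta_eq _ (wel_per k)).trans ?_))⟩,
          by rw [if_neg ha]⟩
        revert hk; revert k; decide +kernel
  obtain ⟨a, ha⟩ := hf 0 (by decide) t.1
  obtain ⟨b, hb⟩ := hf 1 (by decide) t.2.1
  obtain ⟨c, hc⟩ := hf 2 (by decide) t.2.2.1
  obtain ⟨e, he⟩ := hf 3 (by decide) t.2.2.2
  have e' : (a * b * (c * e)).1.1 = wprod t := by
    show a.1.1 * b.1.1 * (c.1.1 * e.1.1) = wprod t
    rw [ha, hb, hc, he]; rfl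
  refine ⟨e' ▸ (a * b * (c * e)).1.2, ?_⟩
  exact (congrArg β (Subtype.ext e'.symm)).trans (MonoidHom.mem_ker.1 (a * b * (c * e)).2)

theorem ker_wprod {g : ↥Wgrp} (hg : β g = 1) : ∃ t, g.1 = wprod t := by
  let f : Fin 2 × Fin 2 × Fin 2 × Fin 2 → ↥β.ker := fun t =>
    ⟨⟨wprod t, (wprod_mem t).1⟩, MonoidHom.mem_ker.2 (wprod_mem t).2⟩
  have hf : Function.Injective f := fun s t e => kMat_inj (by
    rw [← mat_wprod, ← mat_wprod]
    exact congrArg (fun x : ↥β.ker => mat x.1.1) e)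
  have hb : Function.Bijective f := (Nat.bijective_iff_injective_and_card f).2 ⟨hf, by rw [card_ker]; simp⟩
  obtain ⟨t, ht⟩ := hb.2 ⟨g, MonoidHom.mem_ker.2 hg⟩
  exact ⟨t, (congrArg (fun x : ↥β.ker => x.1.1) ht).symm⟩

/-- Elements over a given three-cycle. -/
theorem over_perm {g : ↥Wgrp} {k : Fin 8} (hg : (β g).1 = wPerm k) :
    ∃ t, ∀ v, act g.1 v = wMat k *ᵥ kact t v := by
  have hk : wel k ∈ Wgrp := wel_mem k
  have hkb : β ⟨wel k, hk⟩ = β g := Subtype.ext ((beta_eq hk (wel_per k)).trans hg.symm)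
  obtain ⟨t, ht⟩ := ker_wprod (g := ⟨wel k, hk⟩⁻¹ * g) (by rw [map_mul, map_inv, hkb, inv_mul_cancel])
  refine ⟨t, fun v => ?_⟩
  have e : g.1 = wel k * wprod t := by
    rw [← ht]
    show g.1 = wel k * ((wel k)⁻¹ * g.1)
    rw [mul_inv_cancel_left]
  rw [e, act_mul, ← kact_eq, ← mat_wprod, ← mat_wel]
  rfl

end Cfsg.Agent.LargeFischer
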