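import Cfsg.Agent.Lib.LargeFischer.Meet
import Cfsg.Agent.Lib.LargeFischer.StabR
import Cfsg.Agent.Lib.LargeFischer.Cover

/-! The central involution lies in the derived group of the cover. -/

set_option autoImplicit false
set_option maxRecDepth 100000
set_option maxHeartbeats 200000

namespace Cfsg.Agent.LargeFischer

open Cfsg.Agent.RigidGraph.He Cfsg.Agent.U43InU62 Cfsg.Agent.LargeExtra
open Subgroup
open scoped Matrix

variable {G : Type*} [Group G] [Finite G] {z : G} {Q : Subgroup ↥(centralizer ({z} : Set G))} [Q.Normal]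

theorem InR_rb : ∀ i : Fin 4, InR (rb i) := by decide +kernel

theorem wPerm_pow4 : ∀ k : Fin 4, wPerm (Fin.natAdd 4 k) ^ 4 = wPerm (Fin.natAdd 4 k) := by decide +kernel

theorem comb_shift (a b c e : K4) (u : Fin 2 × Fin 2 × Fin 2 × Fin 2) :
    ∃ y : K4, comb (mb a b c e) u = comb rb u + y • w0 := by
  refine ⟨(if u.1 = 0 then 0 else a) + (if u.2.1 = 0 then 0 else b) +
    ((if u.2.2.1 = 0 then 0 else c) + (if u.2.2.2 = 0 then 0 else e)), ?_⟩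
  unfold comb mb
  split_ifs <;> simp [add_smul] <;> abel

namespace Cover

variable {D : Model z Q} (cv : Cover D)

/-- The conjugate of an element of Q by the element of order three. -/
abbrev rot (s : ↥(QG Q)) : ↥(QG Q) := D.ctx.conjQ cv.x s

theorem vec_rot (s : ↥(QG Q)) (hw : D.vec s = w0) : D.vec (cv.rot s) = cv.c • w0 := by rw [cv.vec_conj_x, hw]

theorem rot_val (s : ↥(QG Q)) : (cv.rot s : G) = cv.x.1 * s * cv.x.1⁻¹ := rfl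

theorem rot_mem {g : G} {s : ↥(QG Q)} (hg : g * z * g⁻¹ = s) (hs : (s : G) ≠ z) (hw : D.vec s = w0) :
    (cv.rot s : G) ∈ Qc Q g := by
  obtain ⟨y, hy, e⟩ := D.vec_meet_surj hg hs hw (InR_smul_line cv.c)
  rw [← cv.vec_rot s hw, D.vec_eq_iff] at e
  rcases e with e | e <;> rw [e]
  · exact hy
  · exact mul_mem hy (D.z_mem hg hs)

/-- Three conjugates of the central involution with trivial product. -/
structure Frame where
  g : G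
  s : ↥(QG Q)
  hg : g * z * g⁻¹ = s
  hs : (s : G) ≠ z
  hw : D.vec s = w0
  hprod : (s : G) * cv.rot s * cv.rot (cv.rot s) = 1
  h : G
  hh : h * z * h⁻¹ = s
  r0 : ↥(QG Q)
  hr0 : (r0 : G) = h⁻¹ * cv.rot s * h
  hw0 : D.vec r0 = w0

theorem exists_frame (hF : Cfsg.IsOfLargeFischerTypeAt z Q) : Nonempty cv.Frame := by
  obtain ⟨g0, s0, hg0, hs0, hw0'⟩ := D.exists_at_w0 hF
  have hv : D.vec (s0 * cv.rot s0 * cv.rot (cv.rot s0)) = 0 := by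
    rw [D.vec_mul, D.vec_mul, cv.vec_conj_x (cv.rot s0), cv.vec_rot s0 hw0', hw0', smul_smul,
      show w0 + cv.c • w0 + (cv.c * cv.c) • w0 = (1 + cv.c + cv.c * cv.c) • w0 by rw [add_smul, add_smul, one_smul],
      (k4_facts _ cv.hc0 cv.hc1).2.1, zero_smul]
  have hgs : ∃ (g : G) (s : ↥(QG Q)), g * z * g⁻¹ = s ∧ (s : G) ≠ z ∧ D.vec s = w0 ∧
      (s : G) * cv.rot s * cv.rot (cv.rot s) = 1 := by
    rcases D.vec_eq_zero.1 hv with e | e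
    · exact ⟨g0, s0, hg0, hs0, hw0', e⟩
    obtain ⟨q, hq, hq'⟩ := D.ctx.xs.exists_conj s0.2 (D.s_ne_one hg0) hs0
    refine ⟨q * g0, s0 * ⟨z, D.ctx.xs.mem⟩, ?_, ?_, ?_, ?_⟩
    · show q * g0 * z * (q * g0)⁻¹ = s0 * z
      rw [show q * g0 * z * (q * g0)⁻¹ = q * (g0 * z * g0⁻¹) * q⁻¹ by group, hg0, hq']
    · exact fun h => D.s_ne_one hg0 (mul_eq_right.1 h)
    · rw [D.vec_mul, (D.vec_eq_zero (x := ⟨z, D.ctx.xs.mem⟩)).2 (Or.inr rfl), add_zero, hw0']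
    · have hc : ∀ a : ↥(QG Q), cv.x.1 * (a * z) * cv.x.1⁻¹ = cv.x.1 * a * cv.x.1⁻¹ * z := fun a => by
        have hxz := mem_centralizer_one.1 (inv_mem cv.x.2)
        rw [mul_assoc, mul_assoc, ← hxz]
        group
      show (s0 : G) * z * (cv.x.1 * (s0 * z) * cv.x.1⁻¹) * (cv.x.1 * (cv.x.1 * (s0 * z) * cv.x.1⁻¹) * cv.x.1⁻¹) = 1
      have e' : (s0 : G) * cv.rot s0 * cv.rot (cv.rot s0) = z := e
      rw [hc s0]
      show (s0 : G) * z * ((cv.rot s0 : G) * z) * (cv.x.1 * ((cv.rot s0 : G) * z) * cv.x.1⁻¹) = 1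
      rw [hc (cv.rot s0)]
      show (s0 : G) * z * ((cv.rot s0 : G) * z) * ((cv.rot (cv.rot s0) : G) * z) = 1
      have hz : ∀ a : ↥(QG Q), (a : G) * z = z * a := fun a => D.ctx.xs.comm a.2
      calc (s0 : G) * z * ((cv.rot s0 : G) * z) * ((cv.rot (cv.rot s0) : G) * z)
          = s0 * (z * cv.rot s0) * (z * cv.rot (cv.rot s0)) * z := by group
        _ = s0 * cv.rot s0 * (z * (z * cv.rot (cv.rot s0))) * z := by rw [← hz]; group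
        _ = (s0 * cv.rot s0 * cv.rot (cv.rot s0)) * z := by rw [← mul_assoc z, D.ctx.xs.sq, one_mul]
        _ = 1 := by rw [e', D.ctx.xs.sq]
  obtain ⟨g, s, hg, hs, hw, hprod⟩ := hgs
  have hk : cv.x.1 * g * z * (cv.x.1 * g)⁻¹ = (cv.rot s : G) := by
    rw [cv.rot_val, ← hg]; group
  have hne : cv.x.1 * g * z * (cv.x.1 * g)⁻¹ ≠ g * z * g⁻¹ := fun e => by
    rw [hk, hg] at e
    have := cv.vec_rot s hw
    rw [Subtype.ext e, hw] at this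
    exact w0_ne (v6_smul_fix cv.hc1 this.symm)
  obtain ⟨t, ht, htz⟩ := D.rel_props (g := g) (h := cv.x.1 * g) (hk.symm ▸ cv.rot_mem hg hs hw) hne
  obtain ⟨c0, hc0⟩ := D.exists_r6_in2 (D.long ht htz) w0_in
  refine ⟨⟨g, s, hg, hs, hw, hprod, g * c0.1⁻¹, ?_, D.ctx.conjQ c0 t, ?_, (D.vec_conj c0 t).trans hc0⟩⟩
  · have h1 := mem_centralizer_one.1 (inv_mem c0.2)
    rw [show g * c0.1⁻¹ * z * (g * c0.1⁻¹)⁻¹ = g * (c0.1⁻¹ * z) * c0.1 * g⁻¹ by group, h1, ← hg]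
    group
  · show c0.1 * (t : G) * c0.1⁻¹ = (g * c0.1⁻¹)⁻¹ * (cv.rot s : G) * (g * c0.1⁻¹)
    rw [← ht, ← hk]
    group

namespace Frame

variable {cv} (F : cv.Frame)

/-- The second group element. -/
abbrev k1 : G := cv.x.1 * F.g

/-- The third group element. -/
abbrev k2 : G := cv.x.1 * F.k1

theorem k1_z : F.k1 * z * F.k1⁻¹ = (cv.rot F.s : G) := by rw [cv.rot_val, ← F.hg]; group

theorem k2_z : F.k2 * z * F.k2⁻¹ = (cv.rot (cv.rot F.s) : G) := by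
  rw [cv.rot_val, ← F.k1_z]; group

theorem vec_r : D.vec (cv.rot F.s) = cv.c • w0 := cv.vec_rot _ F.hw

theorem vec_r' : D.vec (cv.rot (cv.rot F.s)) = (cv.c * cv.c) • w0 := by rw [cv.vec_conj_x, F.vec_r, smul_smul]

theorem r'_eq : (cv.rot (cv.rot F.s) : G) = F.s * cv.rot F.s := by
  have h1 := eq_inv_of_mul_eq_one_left F.hprod
  rw [h1]
  refine eq_inv_of_mul_eq_one_left ?_
  rw [← F.k2_z, show F.k2 * z * F.k2⁻¹ * (F.k2 * z * F.k2⁻¹) = F.k2 * (z * z) * F.k2⁻¹ by group, D.ctx.xs.sq]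
  group

theorem r_ne : (cv.rot F.s : G) ≠ F.s := fun e => by
  have := F.vec_r
  rw [Subtype.ext e, F.hw] at this
  exact w0_ne (v6_smul_fix cv.hc1 this.symm)

theorem hb : F.k1 * z * F.k1⁻¹ ∈ Qc Q F.g := by rw [F.k1_z]; exact cv.rot_mem F.hg F.hs F.hw

theorem hne : F.k1 * z * F.k1⁻¹ ≠ F.g * z * F.g⁻¹ := by rw [F.k1_z, F.hg]; exact F.r_ne

/-- The elementary subgroup. -/
abbrev U : Subgroup G := Qc Q F.g ⊓ Qc Q F.k1

theorem U_eq : F.U = Qc Q F.g ⊓ Qc Q F.k2 :=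
  D.meet_third F.hb F.hne (by rw [F.k2_z, F.k1_z, F.hg, F.r'_eq])

theorem U_comm {a b : G} (ha : a ∈ F.U) (hb : b ∈ F.U) : a * b = b * a :=
  congrArg Subtype.val ((D.meet_elem F.hb F.hne).1.1.1 ⟨a, ha⟩ ⟨b, hb⟩)

theorem z_U : z ∈ F.U := by
  refine ⟨D.z_mem F.hg F.hs, Qc_mul.2 ?_⟩
  rw [show cv.x.1⁻¹ * z * cv.x.1 = z by rw [mem_centralizer_one.1 (inv_mem cv.x.2)]; group]
  exact D.z_mem F.hg F.hs

theorem s_U : (F.s : G) ∈ F.U := by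
  rw [← F.hg]
  exact ⟨(D.ctx.xs.conj F.g).mem, D.mem_symm F.hb F.hne⟩

theorem r_U : (cv.rot F.s : G) ∈ F.U := by
  rw [← F.k1_z]
  exact ⟨F.hb, (D.ctx.xs.conj F.k1).mem⟩

theorem U_le_C : F.U ≤ centralizer ({z} : Set G) := fun _ ha => mem_centralizer_one.2 (F.U_comm ha F.z_U)

theorem U_conj {a : G} (ha : a ∈ F.U) : cv.x.1 * a * cv.x.1⁻¹ ∈ F.U := by
  have h2 : a ∈ Qc Q F.k2 := (F.U_eq.le ha).2
  have e : cv.x.1⁻¹ * (cv.x.1 * a * cv.x.1⁻¹) * cv.x.1 = a := by group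
  refine ⟨?_, Qc_mul.2 (e.symm ▸ ha.1)⟩
  have h3 : cv.x.1 * F.k2 = F.g := by
    rw [show cv.x.1 * F.k2 = (cv.x ^ 3).1 * F.g by
      simp [pow_succ, mul_assoc, k1, k2], cv.hx3, Subgroup.coe_one, one_mul]
  rw [← h3]
  exact Qc_mul.2 (e.symm ▸ h2)

theorem mk_Eg {a : ↥(centralizer ({z} : Set G))} (ha : a.1 ∈ F.U) :
    (QuotientGroup.mk a : _ ⧸ Q) ∈ Model.Eg z Q F.g := Model.mem_Eg.2 ⟨a, ha.1, rfl⟩

theorem mk_conj {a : ↥(centralizer ({z} : Set G))} (ha : a.1 ∈ F.U) :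
    (QuotientGroup.mk (cv.x * a * cv.x⁻¹) : _ ⧸ Q) = QuotientGroup.mk a := by
  set e : _ ⧸ Q := QuotientGroup.mk cv.x with he
  set r : _ ⧸ Q := QuotientGroup.mk a with hr
  have hr' : e * r * e⁻¹ ∈ Model.Eg z Q F.g := F.mk_Eg (a := cv.x * a * cv.x⁻¹) (F.U_conj ha)
  set d := e * r * e⁻¹ * r⁻¹ with hd
  have hdE : d ∈ Model.Eg z Q F.g := mul_mem hr' (inv_mem (F.mk_Eg ha))
  have hdP : d ∈ D.env.P := by
    rw [hd, show e * r * e⁻¹ * r⁻¹ = e * (r * e⁻¹ * r⁻¹) by group]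
    exact mul_mem cv.hmem (D.env.normalP.conj_mem _ (inv_mem cv.hmem) r)
  have h3 := pow_card_eq_one' (G := ↥D.env.P) (x := ⟨d, hdP⟩)
  rw [D.env.cardP] at h3
  have h3' : d ^ 3 = 1 := congrArg Subtype.val h3
  have h2 := D.Eg_sq F.hg F.hs d hdE
  rw [pow_succ, pow_two, h2, one_mul, hd, mul_inv_eq_one] at h3'
  exact h3'

theorem exists_fixed_lift {a : ↥(centralizer ({z} : Set G))} (ha : a.1 ∈ F.U) :
    ∃ b ∈ cv.L, b.1 ∈ F.U ∧ (QuotientGroup.mk b : _ ⧸ Q) = QuotientGroup.mk a := by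
  set a1 := cv.x * a * cv.x⁻¹ with ha1
  set a2 := cv.x * a1 * cv.x⁻¹ with ha2
  have h1 : a1.1 ∈ F.U := F.U_conj ha
  have h2 : a2.1 ∈ F.U := F.U_conj h1
  have h3 : cv.x * a2 * cv.x⁻¹ = a := by
    rw [ha2, ha1, show cv.x * (cv.x * (cv.x * a * cv.x⁻¹) * cv.x⁻¹) * cv.x⁻¹ = cv.x ^ 3 * a * (cv.x ^ 3)⁻¹ by
      simp [pow_succ, mul_assoc], cv.hx3]
    group
  refine ⟨a * a1 * a2, cv.mem_L.2 ?_, mul_mem (mul_mem ha h1) h2, ?_⟩
  · symm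
    rw [← mul_inv_eq_iff_eq_mul]
    calc cv.x * (a * a1 * a2) * cv.x⁻¹ = a1 * a2 * (cv.x * a2 * cv.x⁻¹) := by rw [ha2, ha1]; group
      _ = a1 * a2 * a := by rw [h3]
      _ = a * a1 * a2 := Subtype.ext (by
        show a1.1 * a2.1 * a.1 = a.1 * a1.1 * a2.1
        rw [F.U_comm (mul_mem h1 h2) ha, mul_assoc])
  · rw [QuotientGroup.mk_mul, QuotientGroup.mk_mul, ha2, F.mk_conj h1, ha1, F.mk_conj ha,
      D.Eg_sq F.hg F.hs _ (F.mk_Eg ha), one_mul]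

theorem hh_ne : (F.r0 : G) ≠ z := fun e => F.r_ne (by
  have e1 : F.h⁻¹ * (cv.rot F.s : G) * F.h = z := F.hr0.symm.trans e
  calc (cv.rot F.s : G) = F.h * (F.h⁻¹ * (cv.rot F.s : G) * F.h) * F.h⁻¹ := by group
    _ = (F.s : G) := by rw [e1, F.hh])

theorem g'_z : F.h⁻¹ * F.k1 * z * (F.h⁻¹ * F.k1)⁻¹ = (F.r0 : G) := by rw [F.hr0, ← F.k1_z]; group

theorem Qc_h : Qc Q F.g = Qc Q F.h := D.Qc_congr (F.hg.trans F.hh.symm)

theorem pull_mem {a : G} (ha : a ∈ F.U) : F.h⁻¹ * a * F.h ∈ QG Q := mem_Qc.1 (F.Qc_h ▸ ha.1)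

/-- The coordinates after conjugation. -/
noncomputable def nu (a : ↥F.U) : V6 := D.vec ⟨F.h⁻¹ * a * F.h, F.pull_mem a.2⟩

theorem nu_mul (a b : ↥F.U) : F.nu (a * b) = F.nu a + F.nu b := by
  rw [nu, nu, nu, ← D.vec_mul]
  exact congrArg D.vec (Subtype.ext (by simp [mul_assoc]))

theorem nu_InR (a : ↥F.U) : InR (F.nu a) := by
  refine D.vec_meet_mem F.g'_z F.hh_ne F.hw0 _ (Qc_mul.2 ?_)
  rw [show F.h⁻¹⁻¹ * (F.h⁻¹ * (a : G) * F.h) * F.h⁻¹ = a by group]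
  exact a.2.2

theorem nu_surj {v : V6} (hv : InR v) : ∃ a : ↥F.U, F.nu a = v := by
  obtain ⟨y, hy, e⟩ := D.vec_meet_surj F.g'_z F.hh_ne F.hw0 hv
  have h1 : F.h * y * F.h⁻¹ ∈ Qc Q F.g := by
    rw [F.Qc_h, mem_Qc, show F.h⁻¹ * (F.h * (y : G) * F.h⁻¹) * F.h = y by group]
    exact y.2
  have h2 : F.h * y * F.h⁻¹ ∈ Qc Q F.k1 := by
    have := Qc_mul.1 hy
    rwa [inv_inv] at this
  exact ⟨⟨_, h1, h2⟩, (congrArg D.vec (Subtype.ext (by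
    show F.h⁻¹ * (F.h * (y : G) * F.h⁻¹) * F.h = y
    group))).trans e⟩

theorem nu_eq_zero {a : ↥F.U} : F.nu a = 0 ↔ (a : G) = 1 ∨ (a : G) = F.s := by
  have key : ∀ b : G, F.h⁻¹ * (a : G) * F.h = b ↔ (a : G) = F.h * b * F.h⁻¹ := fun b =>
    ⟨fun e => by rw [← e]; group, fun e => by rw [e]; group⟩
  rw [nu, D.vec_eq_zero]
  refine or_congr ((key 1).trans ?_) ((key z).trans (by rw [F.hh]))
  rw [mul_one, mul_inv_cancel]

theorem nu_r : F.nu ⟨_, F.r_U⟩ = w0 := (congrArg D.vec (Subtype.ext F.hr0.symm)).trans F.hw0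

/-- The elements of the cover fixing the first conjugate. -/
abbrev Ls : Subgroup ↥(centralizer ({z} : Set G)) :=
  cv.L ⊓ (centralizer ({(F.s : G)} : Set G)).comap (centralizer ({z} : Set G)).subtype

theorem fix_s (c : ↥F.Ls) : c.1.1 * (F.s : G) * c.1.1⁻¹ = F.s :=
  mul_inv_eq_iff_eq_mul.2 (mem_centralizer_one.1 c.2.2)

theorem fix_r (c : ↥F.Ls) : c.1.1 * (cv.rot F.s : G) * c.1.1⁻¹ = (cv.rot F.s : G) := by
  have hx : c.1.1 * cv.x.1 = cv.x.1 * c.1.1 := congrArg Subtype.val (cv.mem_L.1 c.2.1)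
  rw [cv.rot_val, show c.1.1 * (cv.x.1 * (F.s : G) * cv.x.1⁻¹) * c.1.1⁻¹ =
    (c.1.1 * cv.x.1) * F.s * (c.1.1 * cv.x.1)⁻¹ by group, hx,
    show cv.x.1 * c.1.1 * (F.s : G) * (cv.x.1 * c.1.1)⁻¹ = cv.x.1 * (c.1.1 * F.s * c.1.1⁻¹) * cv.x.1⁻¹ by group,
    F.fix_s c]

theorem U_stable (c : ↥F.Ls) {a : G} (ha : a ∈ F.U) : c.1.1 * a * c.1.1⁻¹ ∈ F.U := by
  have key : ∀ k : G, c.1.1 * (k * z * k⁻¹) * c.1.1⁻¹ = k * z * k⁻¹ → a ∈ Qc Q k →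
      c.1.1 * a * c.1.1⁻¹ ∈ Qc Q k := fun k hk hm => by
    rw [← D.Qc_congr (g := c.1.1 * k) (g' := k)
      (by rw [show c.1.1 * k * z * (c.1.1 * k)⁻¹ = c.1.1 * (k * z * k⁻¹) * c.1.1⁻¹ by group, hk]), Qc_mul,
      show c.1.1⁻¹ * (c.1.1 * a * c.1.1⁻¹) * c.1.1 = a by group]
    exact hm
  exact ⟨key _ (by rw [F.hg]; exact F.fix_s c) ha.1, key _ (by rw [F.k1_z]; exact F.fix_r c) ha.2⟩

/-- Conjugation by h. -/
def pullC : ↥F.Ls →* ↥(centralizer ({z} : Set G)) :=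
  MonoidHom.mk' (fun c => ⟨F.h⁻¹ * c.1.1 * F.h, mem_centralizer_one.2 (by
    calc F.h⁻¹ * c.1.1 * F.h * z = F.h⁻¹ * (c.1.1 * (F.h * z * F.h⁻¹) * c.1.1⁻¹) * c.1.1 * F.h := by group
      _ = F.h⁻¹ * (F.h * z * F.h⁻¹) * c.1.1 * F.h := by rw [F.hh, F.fix_s]
      _ = z * (F.h⁻¹ * c.1.1 * F.h) := by group)⟩) fun a b => Subtype.ext (by simp [mul_assoc])

/-- The action on the coordinates. -/
noncomputable def toS : ↥F.Ls →* ↥(D.co.stab6 w0) :=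
  ((QuotientGroup.mk' Q).comp F.pullC).codRestrict _ fun c => by
    show D.co.r6 (QuotientGroup.mk (F.pullC c)) w0 = w0
    rw [← F.hw0, ← D.vec_conj]
    refine congrArg D.vec (Subtype.ext ?_)
    show F.h⁻¹ * c.1.1 * F.h * (F.r0 : G) * (F.h⁻¹ * c.1.1 * F.h)⁻¹ = F.r0
    rw [F.hr0, show F.h⁻¹ * c.1.1 * F.h * (F.h⁻¹ * (cv.rot F.s : G) * F.h) * (F.h⁻¹ * c.1.1 * F.h)⁻¹ =
      F.h⁻¹ * (c.1.1 * (cv.rot F.s : G) * c.1.1⁻¹) * F.h by group, F.fix_r c]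

theorem nu_conj (c : ↥F.Ls) (a : ↥F.U) :
    F.nu ⟨_, F.U_stable c a.2⟩ = D.co.r6 (F.toS c).1 (F.nu a) := by
  rw [nu, nu, show (F.toS c).1 = QuotientGroup.mk (F.pullC c) from rfl, ← D.vec_conj]
  refine congrArg D.vec (Subtype.ext ?_)
  show F.h⁻¹ * (c.1.1 * (a : G) * c.1.1⁻¹) * F.h = F.h⁻¹ * c.1.1 * F.h * (F.h⁻¹ * (a : G) * F.h) * (F.h⁻¹ * c.1.1 * F.h)⁻¹
  group

variable (hF : Cfsg.IsOfLargeFischerTypeAt z Q)

/-- Elements of the stabiliser lift to the cover fixing the conjugate. -/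
theorem exists_Ls {r : ↥(centralizer ({z} : Set G)) ⧸ Q} (hr : r ∈ (D.co.iota w0).range) :
    ∃ c : ↥F.Ls, (QuotientGroup.mk c.1 : _ ⧸ Q) = r := by
  obtain ⟨hrK, hrw⟩ := (D.co.iota_range w0).le hr
  obtain ⟨l, hl, e⟩ := cv.exists_lift hrK
  have h1 : D.vec (D.ctx.conjQ l F.s) = D.vec F.s := by
    rw [D.vec_conj, e, F.hw]
    exact hrw
  have hls : l.1 * (F.s : G) * l.1⁻¹ = F.s := by
    rcases D.vec_eq_iff.1 h1 with e' | e'
    · exact e'.symm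
    · exfalso
      have es : l.1 * (F.s : G) * l.1⁻¹ = F.s * z := by
        have e'' : (F.s : G) = l.1 * F.s * l.1⁻¹ * z := e'
        calc l.1 * (F.s : G) * l.1⁻¹ = l.1 * F.s * l.1⁻¹ * (z * z) := by rw [D.ctx.xs.sq, mul_one]
          _ = l.1 * F.s * l.1⁻¹ * z * z := by group
          _ = F.s * z := by rw [← e'']
      have hx : l.1 * cv.x.1 = cv.x.1 * l.1 := congrArg Subtype.val (cv.mem_L.1 hl)
      have hrot : ∀ a : ↥(QG Q), l.1 * (a : G) * l.1⁻¹ = a * z →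
          l.1 * (cv.rot a : G) * l.1⁻¹ = (cv.rot a : G) * z := fun a ha => by
        rw [cv.rot_val, show l.1 * (cv.x.1 * (a : G) * cv.x.1⁻¹) * l.1⁻¹ =
          (l.1 * cv.x.1) * a * (l.1 * cv.x.1)⁻¹ by group, hx,
          show cv.x.1 * l.1 * (a : G) * (cv.x.1 * l.1)⁻¹ = cv.x.1 * (l.1 * a * l.1⁻¹) * cv.x.1⁻¹ by group, ha,
          mul_assoc (cv.x.1) ((a : G) * z), mul_assoc (a : G) z, ← mem_centralizer_one.1 (inv_mem cv.x.2)]
        group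
      have h0 : (1 : G) = z := by
        calc (1 : G) = l.1 * ((F.s : G) * cv.rot F.s * cv.rot (cv.rot F.s)) * l.1⁻¹ := by rw [F.hprod]; group
          _ = (l.1 * (F.s : G) * l.1⁻¹) * (l.1 * (cv.rot F.s : G) * l.1⁻¹) * (l.1 * (cv.rot (cv.rot F.s) : G) * l.1⁻¹) := by
            group
          _ = F.s * (z * cv.rot F.s) * (z * cv.rot (cv.rot F.s)) * z := by rw [es, hrot _ es, hrot _ (hrot _ es)]; group
          _ = F.s * cv.rot F.s * (z * (z * cv.rot (cv.rot F.s))) * z := by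
            rw [← D.ctx.xs.comm (cv.rot F.s).2]; group
          _ = z := by rw [← mul_assoc z, D.ctx.xs.sq, one_mul, F.hprod, one_mul]
      exact D.ctx.xs.ne_one h0.symm
  exact ⟨⟨l, hl, mem_centralizer_one.2 (mul_inv_eq_iff_eq_mul.1 hls)⟩, e⟩


include hF in
theorem exists_chi : ∃ χ : ↥F.Ls →* ↥(alternatingGroup (Fin 6)), Function.Surjective χ := by
  have hmem : ∀ c : ↥F.Ls, (QuotientGroup.mk c.1 : _ ⧸ Q) ∈ (D.co.iota w0).range := fun c => by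
    rw [D.co.iota_range, Subgroup.mem_inf]
    refine ⟨cv.mk_mem hF c.2.1, ?_⟩
    show D.co.r6 (QuotientGroup.mk c.1) w0 = w0
    rw [← F.hw, ← D.vec_conj]
    exact congrArg D.vec (Subtype.ext (F.fix_s c))
  let f1 : ↥F.Ls →* ↥(D.co.iota w0).range := ((QuotientGroup.mk' Q).comp F.Ls.subtype).codRestrict _ hmem
  let e1 := MonoidHom.ofInjective (D.co.iota_injective w0)
  let e2 : ↥(stab w0) ≃* ↥Wgrp := MulEquiv.subgroupCongr wgrp_eq.symm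
  refine ⟨β.comp ((e1.symm.trans e2).toMonoidHom.comp f1),
    beta_surjective.comp ((e1.symm.trans e2).surjective.comp fun r => ?_)⟩
  obtain ⟨c, e⟩ := F.exists_Ls r.2
  exact ⟨c, Subtype.ext e⟩


theorem pullC_pow8 {c : ↥F.Ls} (hc : (F.toS c).1 ∈ Model.Eg z Q (F.h⁻¹ * F.k1)) : c ^ 8 = 1 := by
  have h2 := D.Eg_sq F.g'_z F.hh_ne _ hc
  have h3 : F.pullC c * F.pullC c ∈ Q := (QuotientGroup.eq_one_iff _).1 h2
  have h4 : (F.pullC c * F.pullC c).1 ∈ QG Q := ⟨_, h3, rfl⟩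
  set q := (F.pullC c * F.pullC c).1 with hq
  have h5 : q * q * (q * q) = 1 := by
    rcases D.ctx.xs.sq_cases h4 with e | e <;> rw [e]
    exacts [one_mul _, D.ctx.xs.sq]
  have h6 : (F.h⁻¹ * c.1.1 * F.h) ^ 8 = 1 := by
    rw [← h5, hq]
    show _ = (F.h⁻¹ * c.1.1 * F.h) * (F.h⁻¹ * c.1.1 * F.h) * _ * _
    simp [pow_succ, mul_assoc, pullC]
  have h7 : c.1.1 ^ 8 = 1 := by
    have h8 : (F.h⁻¹ * c.1.1 * (F.h⁻¹)⁻¹) ^ 8 = 1 := by rwa [inv_inv]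
    rw [conj_pow] at h8
    exact conj_eq_one_iff.1 h8
  exact Subtype.ext (Subtype.ext (by simpa using h7))

/-- The image in the quotient of the stabiliser. -/
theorem Eg'_props : Model.Eg z Q (F.h⁻¹ * F.k1) ≤ D.co.stab6 w0 ∧
    ∀ x ∈ D.co.stab6 w0, ∀ e ∈ Model.Eg z Q (F.h⁻¹ * F.k1), x * e * x⁻¹ ∈ Model.Eg z Q (F.h⁻¹ * F.k1) :=
  ⟨F.hw0 ▸ D.Eg_le F.g'_z, F.hw0 ▸ D.Eg_normal F.g'_z F.hh_ne⟩

include hF in
theorem exists_over (r : ↥(D.co.stab6 w0)) :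
    ∃ c : ↥F.Ls, r⁻¹ * F.toS c ∈ (Model.Eg z Q (F.h⁻¹ * F.k1)).subgroupOf (D.co.stab6 w0) := by
  obtain ⟨χ, hχ⟩ := F.exists_chi hF
  obtain ⟨hE, hn⟩ := F.Eg'_props
  obtain ⟨-, hnor, ⟨ea⟩⟩ := D.co.long_at_w0 (D.Eg_two F.g'_z F.hh_ne) (D.Eg_ge F.g'_z F.hh_ne) hE hn
  let π : ↥F.Ls →* ↥(D.co.stab6 w0) ⧸ (Model.Eg z Q (F.h⁻¹ * F.k1)).subgroupOf (D.co.stab6 w0) :=
    (QuotientGroup.mk' _).comp F.toS
  have hp : IsPGroup 2 ↥π.ker := fun c => ⟨3, Subtype.ext (F.pullC_pow8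
    (mem_subgroupOf.1 ((QuotientGroup.eq_one_iff _).1 (MonoidHom.mem_ker.1 c.2))))⟩
  have hker : π.ker ≤ χ.ker := by
    rw [← Subgroup.map_eq_bot_iff]
    have : IsSimpleGroup ↥(alternatingGroup (Fin 6)) := alternatingGroup.isSimpleGroup (by simp)
    refine ((MonoidHom.normal_ker π).map χ hχ).eq_bot_or_eq_top.resolve_right fun htop => ?_
    have hq := hp.map χ
    rw [htop] at hq
    haveI : Fact (Nat.Prime 2) := ⟨Nat.prime_two⟩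
    obtain ⟨n, hn'⟩ := IsPGroup.iff_card.1 hq
    rw [Subgroup.card_top, card_alt] at hn'
    have : 5 ∣ 2 ^ n := hn' ▸ (by norm_num)
    exact absurd (Nat.Prime.dvd_of_dvd_pow (by norm_num) this) (by norm_num)
  have hπ : Function.Surjective π := by
    rw [← MonoidHom.range_eq_top]
    refine Subgroup.eq_top_of_le_card _ ?_
    rw [Nat.card_congr ea.toEquiv, card_alt]
    have h1 := Subgroup.card_eq_card_quotient_mul_card_subgroup π.ker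
    have h2 := Subgroup.card_eq_card_quotient_mul_card_subgroup χ.ker
    rw [Nat.card_congr (QuotientGroup.quotientKerEquivRange π).toEquiv] at h1
    rw [Nat.card_congr (QuotientGroup.quotientKerEquivOfSurjective χ hχ).toEquiv, card_alt] at h2
    have h3 := Nat.le_of_dvd Nat.card_pos (Subgroup.card_dvd_of_le hker)
    have h4 := Nat.mul_le_mul_left (Nat.card ↥π.range) h3
    exact Nat.le_of_mul_le_mul_right (h2 ▸ h1 ▸ h4) Nat.card_pos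
  obtain ⟨c, hc⟩ := hπ (QuotientGroup.mk r)
  exact ⟨c, QuotientGroup.eq.1 hc.symm⟩

theorem exists_gW (k : Fin 4) : ∃ g : ↥Wgrp, ((β g) ^ 4).1 = wPerm (Fin.natAdd 4 k) :=
  ⟨⟨wel (Fin.natAdd 4 k), wel_mem _⟩, by
    rw [SubmonoidClass.coe_pow, beta_eq (wel_mem _) (wel_per _), wPerm_pow4]⟩

include hF in
theorem exists_perm (k : Fin 4) :
    ∃ (c : ↥F.Ls) (t : Fin 2 × Fin 2 × Fin 2 × Fin 2),
      ∀ v, D.co.r6 (F.toS c).1 v = wMat (Fin.natAdd 4 k) *ᵥ kact t v := by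
  obtain ⟨gW, hgW⟩ := exists_gW k
  let e : ↥(stab w0) ≃* ↥Wgrp := MulEquiv.subgroupCongr wgrp_eq.symm
  obtain ⟨gs, rfl⟩ := e.surjective gW
  obtain ⟨c, hc⟩ := F.exists_over hF ⟨D.co.iota w0 gs, ((D.co.iota_range w0).le ⟨gs, rfl⟩).2⟩
  obtain ⟨hE, hn⟩ := F.Eg'_props
  obtain ⟨-, hnor, -⟩ := D.co.long_at_w0 (D.Eg_two F.g'_z F.hh_ne) (D.Eg_ge F.g'_z F.hh_ne) hE hn
  have hc4 := QuotientGroup.eq.1 (show (QuotientGroup.mk _ : ↥(D.co.stab6 w0) ⧸ _) ^ 4 = (QuotientGroup.mk _) ^ 4 from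
    congrArg (· ^ 4) (QuotientGroup.eq.2 hc))
  have hy : (F.toS (c ^ 4)).1 ∈ (D.co.iota w0).range := by
    rw [D.co.iota_range, Subgroup.mem_inf]
    refine ⟨?_, (F.toS (c ^ 4)).2⟩
    rw [map_pow, SubmonoidClass.coe_pow, show (4 : ℕ) = 2 * 2 from rfl, pow_mul, pow_two (F.toS c).1]
    exact pow_mem (mul_self_mem_of_index_two D.env.idxK _) 2
  obtain ⟨g4, hg4⟩ := hy
  have hmem : D.co.iota w0 ((gs ^ 4)⁻¹ * g4) ∈ Model.Eg z Q (F.h⁻¹ * F.k1) := by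
    rw [map_mul, map_inv, map_pow, hg4, map_pow, SubmonoidClass.coe_pow]
    have := mem_subgroupOf.1 hc4
    simpa using this
  have hb : β (e ((gs ^ 4)⁻¹ * g4)) = 1 :=
    D.co.comap_le_ker (D.Eg_two F.g'_z F.hh_ne) hn _ hmem (e ((gs ^ 4)⁻¹ * g4)).2
  rw [map_mul, map_inv, map_pow, map_mul, map_inv, map_pow, inv_mul_eq_one] at hb
  have hβ : (β (e g4)).1 = wPerm (Fin.natAdd 4 k) := by rw [← hb]; exact hgW
  obtain ⟨t, ht⟩ := over_perm hβ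
  exact ⟨c ^ 4, t, fun v => by rw [← hg4, D.co.iota_spec]; exact ht v⟩

/-- The class of the central involution. -/
abbrev zU : ↥F.U := ⟨z, F.z_U⟩

include hF in
theorem nu_z : ∃ a : K4, F.nu F.zU = a • w0 ∧ a ≠ 0 ∧ a ≠ 1 := by
  have hex : ∃ a : K4, F.nu F.zU = a • w0 := by
    by_contra h
    push Not at h
    obtain ⟨k, hk⟩ := no_fixed (F.nu_InR F.zU) h
    obtain ⟨c, t, ht⟩ := F.exists_perm hF k
    refine hk t ?_
    rw [← ht, ← F.nu_conj]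
    exact congrArg F.nu (Subtype.ext (mul_inv_eq_iff_eq_mul.2 (mem_centralizer_one.1 c.1.2)))
  obtain ⟨a, ha⟩ := hex
  refine ⟨a, ha, fun e => ?_, fun e => ?_⟩
  · rw [e, zero_smul, F.nu_eq_zero] at ha
    exact ha.elim D.ctx.xs.ne_one fun h => F.hs h.symm
  · have h1 : F.nu (F.zU * ⟨_, F.r_U⟩) = 0 := by
      rw [F.nu_mul, ha, e, one_smul, F.nu_r, v6_add_self]
    have hr2 : (cv.rot F.s : G) * cv.rot F.s = 1 := by
      rw [← F.k1_z, show F.k1 * z * F.k1⁻¹ * (F.k1 * z * F.k1⁻¹) = F.k1 * (z * z) * F.k1⁻¹ by group, D.ctx.xs.sq]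
      group
    rcases F.nu_eq_zero.1 h1 with e' | e'
    · have e'' : z * (cv.rot F.s : G) = 1 := e'
      have h2 : (cv.rot F.s : G) = z := by
        calc (cv.rot F.s : G) = z * (z * cv.rot F.s) := by rw [← mul_assoc, D.ctx.xs.sq, one_mul]
          _ = z := by rw [e'', mul_one]
      have := F.vec_r
      rw [D.vec_eq_zero.2 (Or.inr h2)] at this
      exact w0_ne ((smul_eq_zero.1 this.symm).resolve_left cv.hc0)
    · have e'' : z * (cv.rot F.s : G) = F.s := e'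
      have h2 : (cv.rot (cv.rot F.s) : G) = z := by rw [F.r'_eq, ← e'', mul_assoc, hr2, mul_one]
      have := F.vec_r'
      rw [D.vec_eq_zero.2 (Or.inr h2)] at this
      exact w0_ne ((smul_eq_zero.1 this.symm).resolve_left (k4_facts _ cv.hc0 cv.hc1).2.2.2.2.1)

include hF in
theorem nu_Q (a : ↥F.U) (ha : (a : G) ∈ QG Q) : ∃ y : K4, F.nu a = y • w0 := by
  obtain ⟨b, hb, -, -⟩ := F.nu_z hF
  have hI : InR (D.vec ⟨a, ha⟩) := D.vec_meet_mem F.hg F.hs F.hw _ a.2.1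
  have h1 : InR (cv.c • D.vec ⟨a, ha⟩) := by
    rw [← cv.vec_conj_x]
    exact D.vec_meet_mem F.hg F.hs F.hw _ (F.U_conj a.2).1
  have h2 : InR ((cv.c * cv.c) • D.vec ⟨a, ha⟩) := by
    rw [← smul_smul, ← cv.vec_conj_x, ← cv.vec_conj_x]
    exact D.vec_meet_mem F.hg F.hs F.hw _ (F.U_conj (F.U_conj a.2)).1
  have hw' : InR (K4.w • D.vec ⟨a, ha⟩) := by
    rcases (by decide : ∀ c : K4, c ≠ 0 → c ≠ 1 → c = K4.w ∨ c * c = K4.w) _ cv.hc0 cv.hc1 with e | e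
    · exact e ▸ h1
    · exact e ▸ h2
  obtain ⟨y, hy⟩ := InR_line hI hw'
  have key : ∀ q : ↥F.U, ∀ hq : (q : G) ∈ QG Q, D.vec ⟨q, hq⟩ = D.vec ⟨a, ha⟩ → ∀ y' : K4, F.nu q = y' • w0 →
      ∃ y : K4, F.nu a = y • w0 := fun q hq e y' hy' => by
    rcases D.vec_eq_iff.1 e with e' | e'
    · exact ⟨y', (congrArg F.nu (Subtype.ext e')).trans hy'⟩
    · refine ⟨y' + b, ?_⟩
      rw [add_smul, ← hy', ← hb, ← F.nu_mul]
      exact congrArg F.nu (Subtype.ext e')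
  have hsr : (F.s : G) * cv.rot F.s ∈ QG Q := mul_mem F.s.2 (cv.rot F.s).2
  rcases (by decide : ∀ c y : K4, c ≠ 0 → c ≠ 1 → y = 0 ∨ y = 1 ∨ y = c ∨ y = 1 + c) _ y cv.hc0 cv.hc1 with
    e | e | e | e <;> rw [e] at hy
  · exact key 1 (one_mem _) (by rw [hy, zero_smul]; exact D.vec_one) 0 (by rw [zero_smul, F.nu_eq_zero]; exact Or.inl rfl)
  · exact key ⟨F.s, F.s_U⟩ F.s.2 (by rw [hy, one_smul]; exact F.hw) 0 (by rw [zero_smul, F.nu_eq_zero]; exact Or.inr rfl)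
  · exact key ⟨_, F.r_U⟩ (cv.rot F.s).2 (hy.symm ▸ F.vec_r) 1 (by rw [one_smul]; exact F.nu_r)
  · refine key (⟨F.s, F.s_U⟩ * ⟨_, F.r_U⟩) hsr ?_ 1 ?_
    · rw [hy, add_smul, one_smul]
      exact (D.vec_mul F.s (cv.rot F.s)).trans (by rw [F.hw, F.vec_r])
    · rw [F.nu_mul, F.nu_eq_zero.2 (Or.inr rfl), F.nu_r, zero_add, one_smul]

end Frame

/-- The derived group inside the centraliser. -/
abbrev der : Subgroup ↥(centralizer ({z} : Set G)) := (_root_.commutator ↥cv.L).map cv.L.subtype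

theorem z_mem_derived (hF : Cfsg.IsOfLargeFischerTypeAt z Q) :
    (⟨zel z, cv.z_mem⟩ : ↥cv.L) ∈ _root_.commutator ↥cv.L := by
  by_contra hz
  obtain ⟨F⟩ := cv.exists_frame hF
  have hderQ : ∀ b ∈ cv.der, b ∈ Q → b = 1 := by
    rintro _ ⟨b, hb, rfl⟩ hbQ
    refine (cv.inf_Q b.2 hbQ).resolve_right fun e => hz ?_
    have e' : b = ⟨zel z, cv.z_mem⟩ := Subtype.ext e
    exact e' ▸ hb
  let W0 : Set ↥F.U := {a | ∃ b ∈ cv.der, b.1 = (a : G)}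
  have hW0 : ∀ a : ↥F.U, ∃ b : ↥F.U, b ∈ W0 ∧ (b : G)⁻¹ * a ∈ QG Q := fun a => by
    obtain ⟨b, hbL, hbU, e⟩ := F.exists_fixed_lift (a := ⟨a, F.U_le_C a.2⟩) a.2
    obtain ⟨d, hd, ed⟩ := cv.exists_derived hF ⟨b, hbL⟩
    have hdz : b = d.1 ∨ b = d.1 * zel z := by
      rcases (cv.toK_eq_one hF (a := d⁻¹ * ⟨b, hbL⟩)).1 (by rw [map_mul, map_inv, ed, inv_mul_cancel]) with h | h
      · left; exact (inv_mul_eq_one.1 h).symm
      · right; exact inv_mul_eq_iff_eq_mul.1 h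
    have hdU : d.1.1 ∈ F.U := by
      rcases hdz with h | h
      · exact h ▸ hbU
      · have : d.1.1 = b.1 * z := by
          rw [h]
          show d.1.1 = d.1.1 * z * z
          rw [mul_assoc, D.ctx.xs.sq, mul_one]
        rw [this]
        exact mul_mem hbU F.z_U
    have h1 : (QuotientGroup.mk d.1 : _ ⧸ Q) = QuotientGroup.mk (⟨a, F.U_le_C a.2⟩ : ↥(centralizer ({z} : Set G))) :=
      (congrArg Subtype.val ed).trans e
    exact ⟨⟨d.1.1, hdU⟩, ⟨d.1, mem_map_of_mem _ hd, rfl⟩, ⟨_, QuotientGroup.eq.1 h1, rfl⟩⟩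
  obtain ⟨b0, hb0, hb00, hb01⟩ := F.nu_z hF
  have hline : ∀ a : ↥F.U, a ∈ W0 → ∀ y : K4, F.nu a = y • w0 → F.nu a = 0 := by
    rintro a ⟨b, hb, hba⟩ y hy
    have aux : ∀ q : ↥F.U, (q : G) ∈ QG Q → F.nu (a * q) = 0 → F.nu a = 0 := fun q hq e => by
      have haQ : (a : G) ∈ QG Q := by
        rcases F.nu_eq_zero.1 e with e' | e' <;>
        · have e'' : (a : G) * q = _ := e'
          rw [← eq_mul_inv_iff_mul_eq] at e''
          rw [e'']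
          first
            | exact mul_mem (one_mem _) (inv_mem hq)
            | exact mul_mem F.s.2 (inv_mem hq)
      obtain ⟨b', hb', e'⟩ := haQ
      have hbQ : b ∈ Q := (show b' = b from Subtype.ext (e'.trans hba.symm)) ▸ hb'
      rw [F.nu_eq_zero]
      exact Or.inl (by rw [← hba, hderQ b hb hbQ]; rfl)
    rcases (by decide : ∀ a y : K4, a ≠ 0 → a ≠ 1 → y = 0 ∨ y = 1 ∨ y = a ∨ y = a + 1) _ y hb00 hb01 with
      e | e | e | e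
    · rw [hy, e, zero_smul]
    · exact aux ⟨_, F.r_U⟩ (cv.rot F.s).2 (by rw [F.nu_mul, hy, F.nu_r, e, one_smul, v6_add_self])
    · exact aux F.zU D.ctx.xs.mem (by rw [F.nu_mul, hy, hb0, e, v6_add_self])
    · exact aux (F.zU * ⟨_, F.r_U⟩) (mul_mem D.ctx.xs.mem (cv.rot F.s).2)
        (by rw [F.nu_mul, F.nu_mul, hy, hb0, F.nu_r, e, add_smul, one_smul, v6_add_self])
  have hbasis : ∀ i : Fin 4, ∃ (a : ↥F.U) (x : K4), a ∈ W0 ∧ F.nu a = rb i + x • w0 := fun i => by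
    obtain ⟨a, ha⟩ := F.nu_surj (InR_rb i)
    obtain ⟨b, hb, hq⟩ := hW0 a
    obtain ⟨y, hy⟩ := F.nu_Q hF (b⁻¹ * a) hq
    have h1 : rb i = F.nu b + y • w0 := by
      rw [← hy, ← F.nu_mul, mul_inv_cancel_left, ha]
    exact ⟨b, y, hb, by rw [h1, add_assoc, v6_add_self, add_zero]⟩
  choose bs xs hbs hnu using hbasis
  have hm : ∀ i, mb (xs 0) (xs 1) (xs 2) (xs 3) i = F.nu (bs i) := fun i => by
    rw [hnu i]; fin_cases i <;> rfl
  have hW0m : ∀ a b : ↥F.U, a ∈ W0 → b ∈ W0 → a * b ∈ W0 := by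
    rintro a b ⟨a', ha, ea⟩ ⟨b', hb, eb⟩
    exact ⟨a' * b', mul_mem ha hb, by rw [Subgroup.coe_mul, ea, eb]; rfl⟩
  have h1W : (1 : ↥F.U) ∈ W0 := ⟨1, one_mem _, rfl⟩
  have hone : F.nu 1 = 0 := F.nu_eq_zero.2 (Or.inl rfl)
  have hspan : ∀ u, ∃ a ∈ W0, F.nu a = comb (mb (xs 0) (xs 1) (xs 2) (xs 3)) u := fun u => by
    have hite : ∀ (p : Fin 2) (i : Fin 4), ∃ a ∈ W0,
        F.nu a = if p = 0 then 0 else mb (xs 0) (xs 1) (xs 2) (xs 3) i := fun p i => by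
      by_cases hp : p = 0
      · exact ⟨1, h1W, by rw [if_pos hp, hone]⟩
      · exact ⟨bs i, hbs i, by rw [if_neg hp, hm i]⟩
    obtain ⟨a, ha, ea⟩ := hite u.1 0
    obtain ⟨b, hb, eb⟩ := hite u.2.1 1
    obtain ⟨c, hc, ec⟩ := hite u.2.2.1 2
    obtain ⟨e, he, ee⟩ := hite u.2.2.2 3
    exact ⟨a * b * (c * e), hW0m _ _ (hW0m _ _ ha hb) (hW0m _ _ hc he), by
      rw [F.nu_mul, F.nu_mul, F.nu_mul, ea, eb, ec, ee]; rfl⟩
  obtain ⟨k, hk⟩ := no_split (xs 0) (xs 1) (xs 2) (xs 3)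
  obtain ⟨c, t, ht⟩ := F.exists_perm hF k
  obtain ⟨i, hi⟩ := hk t
  set a' : ↥F.U := ⟨_, F.U_stable c (bs i).2⟩ with ha'
  have ha'W : a' ∈ W0 := by
    obtain ⟨b, ⟨b', hb', eb'⟩, eb⟩ := hbs i
    refine ⟨c.1 * b * c.1⁻¹, ⟨⟨c.1, c.2.1⟩ * b' * (⟨c.1, c.2.1⟩ : ↥cv.L)⁻¹,
      (inferInstance : (_root_.commutator ↥cv.L).Normal).conj_mem _ hb' _, by rw [← eb']; rfl⟩, ?_⟩
    show c.1.1 * b.1 * c.1.1⁻¹ = c.1.1 * (bs i : G) * c.1.1⁻¹
    rw [eb]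
  have hv : F.nu a' = wMat (Fin.natAdd 4 k) *ᵥ kact t (mb (xs 0) (xs 1) (xs 2) (xs 3) i) := by
    rw [hm, ← ht]; exact F.nu_conj c (bs i)
  obtain ⟨u, y, hu⟩ : ∃ u y, F.nu a' = comb rb u + y • w0 := by
    have := F.nu_InR a'
    rw [vec_eta (F.nu a')] at this ⊢
    exact InR_decomp _ _ _ _ _ _ this
  obtain ⟨y', hy'⟩ := comb_shift (xs 0) (xs 1) (xs 2) (xs 3) u
  obtain ⟨d, hd, ed⟩ := hspan u
  have h0 : F.nu (a' * d) = 0 := hline _ (hW0m _ _ ha'W hd) (y + y') (by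
    rw [F.nu_mul, hu, ed, hy', add_smul, add_add_add_comm, v6_add_self, zero_add])
  rw [F.nu_mul, hv, ed] at h0
  exact hi u (v6_eq_of_add h0).symm

end Cover

end Cfsg.Agent.LargeFischer
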