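import Mathlib.Algebra.Group.Subgroup.Basic
import Mathlib.Data.ZMod.Basic
import Mathlib.GroupTheory.Perm.Basic
import Mathlib.Algebra.BigOperators.Group.Finset.Basic
import Mathlib.Tactic

/-!
Simultaneous eigenspaces of five commuting automorphisms of order three on an elementary abelian 2-group with a
fixed-point-free automorphism of order three.
-/

set_option autoImplicit false

namespace Cfsg.Agent.LargeFischer

/-- The data. -/
structure Dec (M : Type*) [AddCommGroup M] where
  two : ∀ x : M, x + x = 0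
  T : M →+ M
  E : Fin 5 → M →+ M
  fpf : ∀ x, x + T x + T (T x) = 0
  E3 : ∀ i x, E i (E i (E i x)) = x
  comm : ∀ i j x, E i (E j x) = E j (E i x)
  commT : ∀ i x, E i (T x) = T (E i x)

namespace Dec

variable {M : Type*} [AddCommGroup M] (D : Dec M)

include D in
theorem sum_two (x y : M) : x + y + x = y := by
  have h := D.two x
  calc x + y + x = y + (x + x) := by abel
    _ = y := by rw [h, add_zero]

include D in
theorem three (x : M) : x + x + x = x := by rw [D.two, zero_add]

theorem T3 (x : M) : D.T (D.T (D.T x)) = x := by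
  have h := D.fpf (D.T x)
  have h' := D.fpf x
  have e : x = D.T (D.T (D.T x)) := by
    have : (x + D.T x + D.T (D.T x)) + (D.T x + D.T (D.T x) + D.T (D.T (D.T x))) = 0 := by rw [h, h', add_zero]
    have hh : x + D.T (D.T (D.T x)) = 0 := by
      rw [← this]
      have a := D.two (D.T x)
      have b := D.two (D.T (D.T x))
      calc x + D.T (D.T (D.T x)) = x + D.T (D.T (D.T x)) + (D.T x + D.T x) + (D.T (D.T x) + D.T (D.T x)) := by
            rw [a, b, add_zero, add_zero]
        _ = _ := by abel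
    exact (eq_neg_of_add_eq_zero_left hh).trans (neg_eq_of_add_eq_zero_left (D.two _))
  exact e.symm

/-- The powers of T. -/
def tp (k : ZMod 3) : M →+ M := if k = 0 then AddMonoidHom.id M else if k = 1 then D.T else D.T.comp D.T

@[simp] theorem tp_zero (x : M) : D.tp 0 x = x := rfl

theorem tp_one (x : M) : D.tp 1 x = D.T x := rfl

theorem tp_two (x : M) : D.tp 2 x = D.T (D.T x) := rfl

theorem zcases : ∀ a : ZMod 3, a = 0 ∨ a = 1 ∨ a = 2 := by decide

theorem tp_add (a b : ZMod 3) (x : M) : D.tp a (D.tp b x) = D.tp (a + b) x := by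
  rcases zcases a with rfl | rfl | rfl <;> rcases zcases b with rfl | rfl | rfl
  · rfl
  · rfl
  · rfl
  · rfl
  · rfl
  · rw [show (1 : ZMod 3) + 2 = 0 from by decide]; exact D.T3 x
  · rfl
  · rw [show (2 : ZMod 3) + 1 = 0 from by decide]; exact D.T3 x
  · rw [show (2 : ZMod 3) + 2 = 1 from by decide]; exact congrArg D.T (D.T3 x)

theorem fix_zero {c : ZMod 3} {x : M} (hc : c ≠ 0) (h : D.tp c x = x) : x = 0 := by
  have hT : D.T x = x := by
    rcases zcases c with rfl | rfl | rfl
    · exact absurd rfl hc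
    · exact h
    · have h2 : D.T (D.T x) = x := h
      conv_lhs => rw [← h2]
      exact D.T3 x
  have := D.fpf x
  rw [hT, hT, D.three] at this
  exact this

theorem tp_unique {a b : ZMod 3} {x : M} (hx : x ≠ 0) (h : D.tp a x = D.tp b x) : a = b := by
  by_contra hne
  refine hx (D.fix_zero (c := -b + a) (fun e => hne (by linear_combination e)) ?_)
  rw [← tp_add, h, tp_add, neg_add_cancel, tp_zero]

theorem E_tp (i : Fin 5) (c : ZMod 3) (x : M) : D.E i (D.tp c x) = D.tp c (D.E i x) := by
  rcases zcases c with rfl | rfl | rfl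
  · rfl
  · exact D.commT i x
  · rw [tp_two, tp_two, D.commT, D.commT]

/-- The simultaneous eigenspaces. -/
def W (k : Fin 5 → ZMod 3) : AddSubgroup M where
  carrier := {x | ∀ i, D.E i x = D.tp (k i) x}
  zero_mem' := fun i => by rw [map_zero, map_zero]
  add_mem' := fun {x y} hx hy i => by rw [map_add, map_add, hx, hy]
  neg_mem' := fun {x} hx i => by rw [map_neg, map_neg, hx]

theorem mem_W {k : Fin 5 → ZMod 3} {x : M} : x ∈ D.W k ↔ ∀ i, D.E i x = D.tp (k i) x := Iff.rfl

theorem W_unique {k k' : Fin 5 → ZMod 3} {x : M} (hx : x ≠ 0) (h : x ∈ D.W k) (h' : x ∈ D.W k') : k = k' :=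
  funext fun i => D.tp_unique hx ((h i).symm.trans (h' i))

theorem tp_mem {k : Fin 5 → ZMod 3} {x : M} (c : ZMod 3) (h : x ∈ D.W k) : D.tp c x ∈ D.W k := fun i => by
  rw [E_tp, h, tp_add, tp_add, add_comm]

/-- A map commuting with T moves an eigenspace to an eigenspace. -/
theorem map_mem {N : M →+ M} (hN : ∀ x, N (D.T x) = D.T (N x)) {k k' : Fin 5 → ZMod 3} {x : M}
    (h : ∀ i, D.E i (N x) = N (D.tp (k' i) x)) : N x ∈ D.W k' := fun i => by
  rw [h]
  rcases zcases (k' i) with e | e | e <;> rw [e]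
  · rfl
  · exact hN x
  · rw [tp_two, tp_two, hN, hN]

/-- The projectors. -/
def e (i : Fin 5) (c : ZMod 3) : M →+ M :=
  AddMonoidHom.id M + (D.tp (-c)).comp (D.E i) + (D.tp (-c + -c)).comp ((D.E i).comp (D.E i))

theorem e_apply (i : Fin 5) (c : ZMod 3) (x : M) :
    D.e i c x = x + D.tp (-c) (D.E i x) + D.tp (-c + -c) (D.E i (D.E i x)) := rfl

theorem e_sum (i : Fin 5) (x : M) : D.e i 0 x + D.e i 1 x + D.e i 2 x = x := by
  have h1 := D.fpf (D.E i x)
  have h2 := D.fpf (D.E i (D.E i x))
  rw [e_apply, e_apply, e_apply, show -(0 : ZMod 3) + -0 = 0 from by decide, show -(1 : ZMod 3) + -1 = 1 from by decide,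
    show -(1 : ZMod 3) = 2 from by decide, show -(2 : ZMod 3) + -2 = 2 from by decide,
    show -(2 : ZMod 3) = 1 from by decide, neg_zero, tp_zero, tp_zero, tp_one, tp_two, tp_one, tp_two]
  calc _ = (x + x + x) + (D.E i x + D.T (D.E i x) + D.T (D.T (D.E i x))) +
        (D.E i (D.E i x) + D.T (D.E i (D.E i x)) + D.T (D.T (D.E i (D.E i x)))) := by abel
    _ = x := by rw [h1, h2, D.three, add_zero, add_zero]

theorem e_eigen (i : Fin 5) (c : ZMod 3) (x : M) : D.E i (D.e i c x) = D.tp c (D.e i c x) := by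
  rw [e_apply, map_add, map_add, map_add, map_add, E_tp, E_tp, D.E3, tp_add, tp_add,
    show c + -c = 0 from add_neg_cancel c, show c + (-c + -c) = -c from by ring, tp_zero,
    show -c + -c = c from (by decide : ∀ c : ZMod 3, -c + -c = c) c]
  abel

theorem E_e (i j : Fin 5) (c : ZMod 3) (x : M) : D.E j (D.e i c x) = D.e i c (D.E j x) := by
  rw [e_apply, e_apply, map_add, map_add, E_tp, E_tp, D.comm j i, D.comm j i, D.comm j i]

theorem e_of_eigen {i : Fin 5} {b : ZMod 3} {x : M} (c : ZMod 3) (h : D.E i x = D.tp b x) :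
    D.e i c x = if c = b then x else 0 := by
  rw [e_apply, h, E_tp, h, tp_add, tp_add, tp_add]
  split_ifs with hc
  · subst hc
    rw [show -c + c = 0 from neg_add_cancel c, show -c + -c + c + c = 0 from by ring, tp_zero, D.three]
  · have hne : -c + b ≠ 0 := fun e => hc (by linear_combination -e)
    rcases zcases (-c + b) with e | e | e
    · exact absurd e hne
    · rw [e, show -c + -c + b + b = 2 from by linear_combination 2 * e]
      exact D.fpf x
    · rw [e, show -c + -c + b + b = 1 from by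
        rw [show -c + -c + b + b = (-c + b) + (-c + b) by ring, e]; decide]
      rw [tp_two, tp_one, add_right_comm]
      exact D.fpf x

/-- The projector on an eigenspace. -/
def P (k : Fin 5 → ZMod 3) : M →+ M :=
  (D.e 4 (k 4)).comp ((D.e 3 (k 3)).comp ((D.e 2 (k 2)).comp ((D.e 1 (k 1)).comp (D.e 0 (k 0)))))

theorem P_of_mem {k' : Fin 5 → ZMod 3} {x : M} (k : Fin 5 → ZMod 3) (h : x ∈ D.W k') :
    D.P k x = if k = k' then x else 0 := by
  have he : ∀ i, D.e i (k i) x = if k i = k' i then x else 0 := fun i => D.e_of_eigen _ (h i)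
  show D.e 4 (k 4) (D.e 3 (k 3) (D.e 2 (k 2) (D.e 1 (k 1) (D.e 0 (k 0) x)))) = _
  rw [he]
  by_cases h0 : k 0 = k' 0
  · rw [if_pos h0, he]
    by_cases h1 : k 1 = k' 1
    · rw [if_pos h1, he]
      by_cases h2 : k 2 = k' 2
      · rw [if_pos h2, he]
        by_cases h3 : k 3 = k' 3
        · rw [if_pos h3, he]
          refine if_congr ⟨fun h4 => funext fun i => ?_, fun e => congrFun e 4⟩ rfl rfl
          fin_cases i
          exacts [h0, h1, h2, h3, h4]
        · rw [if_neg h3, map_zero, if_neg fun e => h3 (congrFun e 3)]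
      · rw [if_neg h2, map_zero, map_zero, if_neg fun e => h2 (congrFun e 2)]
    · rw [if_neg h1, map_zero, map_zero, map_zero, if_neg fun e => h1 (congrFun e 1)]
  · rw [if_neg h0, map_zero, map_zero, map_zero, map_zero, if_neg fun e => h0 (congrFun e 0)]

theorem iSup_W : ⨆ k, D.W k = ⊤ := by
  have key : ∀ n ≤ 5, ∀ x : M, (∀ i : Fin 5, n ≤ (i : ℕ) → ∃ c, D.E i x = D.tp c x) → x ∈ ⨆ k, D.W k := by
    intro n
    induction n with
    | zero =>
      intro _ x hx
      choose c hc using fun i => hx i (Nat.zero_le _)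
      exact (le_iSup D.W c) hc
    | succ n ih =>
      intro hn x hx
      rw [← D.e_sum ⟨n, by omega⟩ x]
      have step : ∀ c, D.e ⟨n, by omega⟩ c x ∈ ⨆ k, D.W k := fun c => by
        refine ih (by omega) _ fun i hi => ?_
        by_cases hin : (i : ℕ) = n
        · exact ⟨c, by rw [show i = ⟨n, by omega⟩ from Fin.ext hin]; exact D.e_eigen _ _ _⟩
        · obtain ⟨b, hb⟩ := hx i (by omega)
          refine ⟨b, ?_⟩
          rw [E_e, hb, e_apply, e_apply, map_add, map_add, E_tp, E_tp, tp_add, tp_add, tp_add, tp_add,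
            add_comm b, add_comm b]
      exact add_mem (add_mem (step 0) (step 1)) (step 2)
  refine eq_top_iff.2 fun x _ => key 5 le_rfl x fun i hi => ?_
  have := i.2
  omega

theorem exists_nonzero [Nontrivial M] : ∃ k, D.W k ≠ ⊥ := by
  by_contra h
  push Not at h
  obtain ⟨x, hx⟩ := exists_ne (0 : M)
  have : x ∈ ⨆ k, D.W k := by rw [D.iSup_W]; exact AddSubgroup.mem_top x
  rw [iSup_eq_bot.2 h] at this
  exact hx (AddSubgroup.mem_bot.1 this)

theorem single {k : Fin 5 → ZMod 3} (h : ∀ k', D.W k' ≠ ⊥ → k' = k) : D.W k = ⊤ := by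
  refine eq_top_iff.2 ?_
  rw [← D.iSup_W]
  refine iSup_le fun k' => ?_
  by_cases hk : D.W k' = ⊥
  · rw [hk]; exact bot_le
  · rw [h k' hk]

theorem sum_injective (S : Finset (Fin 5 → ZMod 3)) :
    Function.Injective (fun f : (k : ↥S) → ↥(D.W k) => ∑ k, (f k : M)) := by
  intro f g e
  funext k
  have key : ∀ f : (k : ↥S) → ↥(D.W k), D.P k.1 (∑ j, (f j : M)) = (f k : M) := fun f => by
    rw [map_sum, Finset.sum_eq_single k]
    · rw [D.P_of_mem _ (f k).2, if_pos rfl]
    · intro j _ hj
      rw [D.P_of_mem _ (f j).2, if_neg fun h => hj (Subtype.ext h.symm)]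
    · exact fun h => absurd (Finset.mem_univ k) h
  exact Subtype.ext ((key f).symm.trans ((congrArg _ e).trans (key g)))

theorem four_le [Finite M] {k : Fin 5 → ZMod 3} (h : D.W k ≠ ⊥) : 4 ≤ Nat.card ↥(D.W k) := by
  classical
  obtain ⟨x, hx, h0⟩ : ∃ x ∈ D.W k, x ≠ 0 := by
    by_contra hh
    push Not at hh
    exact h ((AddSubgroup.eq_bot_iff_forall _).2 hh)
  let f : Fin 4 → ↥(D.W k) := ![0, ⟨x, hx⟩, ⟨D.tp 1 x, D.tp_mem 1 hx⟩, ⟨D.tp 2 x, D.tp_mem 2 hx⟩]
  have hne : ∀ c : ZMod 3, D.tp c x ≠ 0 := fun c e => h0 (by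
    have := congrArg (D.tp (-c)) e
    rwa [tp_add, neg_add_cancel, tp_zero, map_zero] at this)
  have hd : ∀ a b : ZMod 3, a ≠ b → D.tp a x ≠ D.tp b x := fun a b hab e => hab (D.tp_unique h0 e)
  have hf : Function.Injective f := by
    intro a b e
    have e' : ((f a : M)) = f b := congrArg Subtype.val e
    fin_cases a <;> fin_cases b <;>
      first
      | rfl
      | exact absurd e' (hne 1)
      | exact absurd e' (hne 2)
      | exact absurd e' h0
      | exact absurd e'.symm (hne 1)
      | exact absurd e'.symm (hne 2)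
      | exact absurd e'.symm h0
      | exact absurd e' (hd 0 1 (by decide))
      | exact absurd e' (hd 0 2 (by decide))
      | exact absurd e' (hd 1 0 (by decide))
      | exact absurd e' (hd 1 2 (by decide))
      | exact absurd e' (hd 2 0 (by decide))
      | exact absurd e' (hd 2 1 (by decide))
  have := Nat.card_le_card_of_injective f hf
  simpa using this

theorem prod_le [Finite M] (S : Finset (Fin 5 → ZMod 3)) :
    ∏ k ∈ S, Nat.card ↥(D.W k) ≤ Nat.card M := by
  classical
  refine le_trans (le_of_eq ?_) (Nat.card_le_card_of_injective _ (D.sum_injective S))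
  rw [Nat.card_pi]
  exact (Finset.prod_coe_sort S fun k => Nat.card ↥(D.W k)).symm

theorem pow_le [Finite M] {S : Finset (Fin 5 → ZMod 3)} (h : ∀ k ∈ S, D.W k ≠ ⊥) :
    4 ^ S.card ≤ Nat.card M := by
  refine le_trans ?_ (D.prod_le S)
  rw [← Finset.prod_const]
  exact Finset.prod_le_prod' fun k hk => D.four_le (h k hk)

theorem card_four [Finite M] {S : Finset (Fin 5 → ZMod 3)} (h : ∀ k ∈ S, D.W k ≠ ⊥)
    (hc : Nat.card M ≤ 4 ^ S.card) {k : Fin 5 → ZMod 3} (hk : k ∈ S) : Nat.card ↥(D.W k) = 4 := by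
  classical
  refine le_antisymm ?_ (D.four_le (h k hk))
  by_contra hlt
  have h1 : 4 ^ (S.erase k).card ≤ ∏ j ∈ S.erase k, Nat.card ↥(D.W j) := by
    rw [← Finset.prod_const]
    exact Finset.prod_le_prod' fun j hj => D.four_le (h j (Finset.mem_of_mem_erase hj))
  have h2 := D.prod_le S
  rw [← Finset.mul_prod_erase S _ hk] at h2
  have h3 : 5 * 4 ^ (S.erase k).card ≤ Nat.card M := le_trans (Nat.mul_le_mul (by omega) h1) h2
  rw [← Finset.insert_erase hk, Finset.card_insert_of_notMem (Finset.notMem_erase k S), pow_succ] at hc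
  have : 0 < 4 ^ (S.erase k).card := pow_pos (by norm_num) _
  omega

end Dec

end Cfsg.Agent.LargeFischer
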