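import Cfsg.Agent.Lib.LargeFischer.Monomial
import Mathlib.Algebra.Group.Subgroup.Finite
import Mathlib.GroupTheory.QuotientGroup.Basic

/-! The abstract action of a central extension of U4(3) by three on a space of dimension twelve: the lifts. -/

set_option autoImplicit false
set_option maxRecDepth 100000

namespace Cfsg.Agent.LargeFischer

open Cfsg.Agent.RigidGraph.He Cfsg.Agent.U43InU62

/-- The data. -/
structure Env (V : Type*) (R : Type*) [AddCommGroup V] [Group R] where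
  two : ∀ x : V, x + x = 0
  cardV : Nat.card V = 4096
  q : V → ZMod 2
  b_add : ∀ x y z : V, q (x + y + z) + q (x + y) + q z =
    (q (x + z) + q x + q z) + (q (y + z) + q y + q z)
  nondeg : ∀ x : V, (∀ y, q (x + y) = q x + q y) → x = 0
  ρ : R →* Equiv.Perm V
  radd : ∀ r x y, ρ r (x + y) = ρ r x + ρ r y
  inj : Function.Injective ρ
  qinv : ∀ r x, q (ρ r x) = q x
  P : Subgroup R
  K : Subgroup R
  normalP : P.Normal
  cardP : Nat.card ↥P = 3
  PK : P ≤ K
  idxK : K.index = 2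
  θ : ↥K →* ↥Gen
  surj : Function.Surjective θ
  ker : θ.ker = P.subgroupOf K

namespace Env

variable {V R : Type*} [AddCommGroup V] [Group R] [Finite R] (W : Env V R)

/-- The action. -/
def act' (r : R) : V →+ V := AddMonoidHom.mk' (W.ρ r) (W.radd r)

theorem act_mul' (a b : R) (x : V) : W.act' (a * b) x = W.act' a (W.act' b x) := by
  show W.ρ (a * b) x = _
  rw [map_mul]
  rfl

theorem act_one' (x : V) : W.act' 1 x = x := by
  show W.ρ 1 x = x
  rw [map_one]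
  rfl

theorem eq_one_of_act {r : R} (h : ∀ x, W.act' r x = x) : r = 1 :=
  W.inj ((map_one W.ρ).symm ▸ (Equiv.ext h : W.ρ r = 1))

/-- The action of K. -/
def m (k : ↥W.K) : V →+ V := W.act' k.1

theorem m_mul (a b : ↥W.K) (x : V) : W.m (a * b) x = W.m a (W.m b x) := W.act_mul' _ _ _

theorem m_one (x : V) : W.m 1 x = x := W.act_one' x

theorem m_ext {a b : ↥W.K} (h : ∀ x, W.m a x = W.m b x) : a = b := by
  rw [← mul_inv_eq_one]
  refine Subtype.ext (W.eq_one_of_act fun x => ?_)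
  show W.m (a * b⁻¹) x = x
  rw [m_mul, h, ← m_mul, mul_inv_cancel, m_one]

theorem card_ker : Nat.card ↥W.θ.ker = 3 := by
  rw [W.ker, Nat.card_congr (Subgroup.subgroupOfEquivOfLe W.PK).toEquiv, W.cardP]

theorem exists_p : ∃ p : ↥W.K, p ∈ W.θ.ker ∧ p ≠ 1 := by
  by_contra h
  push Not at h
  have : W.θ.ker = ⊥ := (Subgroup.eq_bot_iff_forall _).2 h
  have h3 := W.card_ker
  rw [this, Subgroup.card_bot] at h3
  omega

/-- A generator of P. -/
noncomputable def p : ↥W.K := W.exists_p.choose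

theorem theta_p : W.θ W.p = 1 := W.exists_p.choose_spec.1

theorem p_ne : W.p ≠ 1 := W.exists_p.choose_spec.2

theorem ker_eq : W.θ.ker = Subgroup.zpowers W.p := by
  haveI : Fact (Nat.Prime 3) := ⟨Nat.prime_three⟩
  refine (Subgroup.eq_of_le_of_card_ge (Subgroup.zpowers_le.2 (MonoidHom.mem_ker.2 W.theta_p)) ?_).symm
  have hd := Subgroup.card_dvd_of_le (Subgroup.zpowers_le.2 (MonoidHom.mem_ker.2 W.theta_p) :
    Subgroup.zpowers W.p ≤ W.θ.ker)
  rw [W.card_ker] at hd ⊢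
  rcases (Nat.dvd_prime Nat.prime_three).1 hd with h | h
  · exact absurd (Subgroup.mem_bot.1 (Subgroup.eq_bot_of_card_eq _ h ▸ Subgroup.mem_zpowers W.p)) W.p_ne
  · omega

theorem p_cube : W.p ^ 3 = 1 := by
  have h := W.card_ker
  rw [W.ker_eq, Nat.card_zpowers] at h
  rw [← h]
  exact pow_orderOf_eq_one _

theorem exists_pow {x : ↥W.K} (h : W.θ x = 1) : ∃ n : ℕ, x = W.p ^ n := by
  classical
  have : x ∈ Subgroup.zpowers W.p := W.ker_eq ▸ MonoidHom.mem_ker.2 h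
  obtain ⟨n, hn⟩ := (mem_zpowers_iff_mem_range_orderOf.1 this) |> Finset.mem_image.1
  exact ⟨n, hn.2.symm⟩

theorem normal_top {N : Subgroup ↥W.K} (hN : N.Normal) (hp : W.p ∈ N) {x : ↥W.K} (hx : x ∈ N)
    (hx1 : W.θ x ≠ 1) (y : ↥W.K) : y ∈ N := by
  have := gen_simple
  have hker : W.θ.ker ≤ N := by rw [W.ker_eq]; exact Subgroup.zpowers_le.2 hp
  rcases (hN.map W.θ W.surj).eq_bot_or_eq_top with h | h
  · exact absurd (Subgroup.mem_bot.1 (h ▸ (⟨x, hx, rfl⟩ : W.θ x ∈ N.map W.θ))) hx1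
  · obtain ⟨n, hn, e⟩ : W.θ y ∈ N.map W.θ := h ▸ Subgroup.mem_top _
    have : n⁻¹ * y ∈ N := hker (MonoidHom.mem_ker.2 (by rw [map_mul, map_inv, e, inv_mul_cancel]))
    have := mul_mem hn this
    rwa [mul_inv_cancel_left] at this

/-- A lift of an element of the model. -/
noncomputable def lift (g : S6) (hg : g ∈ K0) : ↥W.K := (W.surj (ψ ⟨g, hg⟩)).choose

theorem theta_lift (g : S6) (hg : g ∈ K0) : W.θ (W.lift g hg) = ψ ⟨g, hg⟩ := (W.surj (ψ ⟨g, hg⟩)).choose_spec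

theorem exists_mul_pow {x y : ↥W.K} (h : W.θ x = W.θ y) : ∃ n : ℕ, x = y * W.p ^ n := by
  obtain ⟨n, hn⟩ := W.exists_pow (x := y⁻¹ * x) (by rw [map_mul, map_inv, h, inv_mul_cancel])
  exact ⟨n, by rw [← hn, mul_inv_cancel_left]⟩

/-- The five lifts. -/
noncomputable def a (i : Fin 5) : ↥W.K := W.lift (mel 1 (gd i)) (diag_mem _)

theorem theta_a0 : W.θ (W.a 0) ≠ 1 := by
  rw [a, theta_lift]; exact psi_gd_ne

theorem p_central (k : ↥W.K) : k * W.p * k⁻¹ = W.p := by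
  haveI : (W.θ.ker).Normal := inferInstance
  have hcases : ∀ k : ↥W.K, k * W.p * k⁻¹ = W.p ∨ k * W.p * k⁻¹ = W.p⁻¹ := fun k => by
    obtain ⟨n, hn⟩ := W.exists_pow (x := k * W.p * k⁻¹) (by simp [W.theta_p])
    rw [hn, ← Nat.mod_add_div n 3, pow_add, pow_mul, W.p_cube, one_pow, mul_one]
    have : n % 3 = 0 ∨ n % 3 = 1 ∨ n % 3 = 2 := by omega
    rcases this with h | h | h
    · exfalso
      rw [← Nat.mod_add_div n 3, pow_add, pow_mul, W.p_cube, one_pow, mul_one, h, pow_zero, mul_inv_eq_one] at hn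
      exact W.p_ne (mul_eq_left.1 hn)
    · left; rw [h, pow_one]
    · right; rw [h]; exact eq_inv_of_mul_eq_one_left (by rw [← pow_succ, W.p_cube])
  let C : Subgroup ↥W.K :=
    { carrier := {k | k * W.p * k⁻¹ = W.p}
      one_mem' := by simp
      mul_mem' := fun {x y} hx hy => by
        have hx' : x * W.p * x⁻¹ = W.p := hx
        have hy' : y * W.p * y⁻¹ = W.p := hy
        show x * y * W.p * (x * y)⁻¹ = W.p
        rw [show x * y * W.p * (x * y)⁻¹ = x * (y * W.p * y⁻¹) * x⁻¹ by group, hy', hx']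
      inv_mem' := fun {x} hx => by
        have hx' : x * W.p * x⁻¹ = W.p := hx
        show x⁻¹ * W.p * x⁻¹⁻¹ = W.p
        conv_lhs => rw [← hx']
        group }
  have hC : C.Normal := ⟨fun c hc g => by
    have hc' : c * W.p * c⁻¹ = W.p := hc
    show g * c * g⁻¹ * W.p * (g * c * g⁻¹)⁻¹ = W.p
    rcases hcases g⁻¹ with h | h
    · rw [show g * c * g⁻¹ * W.p * (g * c * g⁻¹)⁻¹ = g * (c * (g⁻¹ * W.p * g⁻¹⁻¹) * c⁻¹) * g⁻¹ by group, h, hc']
      nth_rewrite 1 [← h]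
      group
    · rw [show g * c * g⁻¹ * W.p * (g * c * g⁻¹)⁻¹ = g * (c * (g⁻¹ * W.p * g⁻¹⁻¹) * c⁻¹) * g⁻¹ by group, h,
        show c * W.p⁻¹ * c⁻¹ = (c * W.p * c⁻¹)⁻¹ by group, hc']
      nth_rewrite 1 [← h]
      group⟩
  have hsq : ∀ x : ↥W.K, x * x ∈ C := fun x => by
    show x * x * W.p * (x * x)⁻¹ = W.p
    rw [show x * x * W.p * (x * x)⁻¹ = x * (x * W.p * x⁻¹) * x⁻¹ by group]
    rcases hcases x with h | h
    · rw [h, h]
    · rw [h, show x * W.p⁻¹ * x⁻¹ = (x * W.p * x⁻¹)⁻¹ by group, h, inv_inv]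
  refine W.normal_top hC ?_ (hsq (W.a 0)) (fun e => ?_) k
  · show W.p * W.p * W.p⁻¹ = W.p
    group
  · refine W.theta_a0 ?_
    have h3 : W.θ (W.a 0) ^ 3 = 1 := by
      rw [a, theta_lift, ← map_pow,
        show (⟨mel 1 (gd 0), diag_mem _⟩ : ↥K0) ^ 3 = 1 from Subtype.ext (by
          obtain ⟨e, he, hk⟩ := mel_pow (gd 0) 3
          show mel 1 (gd 0) ^ 3 = 1
          rw [he, ← mel_one]
          exact congrArg _ (Subtype.ext (funext fun j => (hk j).trans
            ((by decide +kernel : ∀ j, (gd 0).1 j ^ 3 = 1) j)))), map_one]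
    rw [map_mul] at e
    calc W.θ (W.a 0) = W.θ (W.a 0) * (W.θ (W.a 0) * W.θ (W.a 0)) := by rw [e, mul_one]
      _ = W.θ (W.a 0) ^ 3 := by rw [pow_succ', pow_two]
      _ = 1 := h3

theorem p_comm (k : ↥W.K) : k * W.p = W.p * k := mul_inv_eq_iff_eq_mul.1 (W.p_central k)

theorem pow_comm (n : ℕ) (k : ↥W.K) : k * W.p ^ n = W.p ^ n * k :=
  (Commute.pow_right (W.p_comm k) n).eq

/-- The word of a diagonal. -/
noncomputable def word (e : Fin 5 → ℕ) : ↥W.K :=
  W.a 0 ^ e 0 * W.a 1 ^ e 1 * W.a 2 ^ e 2 * W.a 3 ^ e 3 * W.a 4 ^ e 4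

theorem theta_word (d : Dg) : W.θ (W.word (expo d.1)) = ψ ⟨mel 1 d, diag_mem d⟩ := by
  simp only [word, map_mul, map_pow, a, theta_lift]
  simp only [← map_pow, ← map_mul]
  exact congrArg ψ (Subtype.ext (mel_word d).symm)

theorem exists_word {x : ↥W.K} {d : Dg} (h : W.θ x = ψ ⟨mel 1 d, diag_mem d⟩) :
    ∃ n : ℕ, x = W.word (expo d.1) * W.p ^ n :=
  W.exists_mul_pow (h.trans (W.theta_word d).symm)

theorem exists_conj (d : Dg) {π : Equiv.Perm (Fin 6)} (hπ : Equiv.Perm.sign π = 1) {x : ↥W.K}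
    (hx : W.θ x = ψ ⟨mel 1 d, diag_mem d⟩) :
    W.θ ((W.lift (mel π done) (pm_mem hπ))⁻¹ * x * W.lift (mel π done) (pm_mem hπ)) =
      ψ ⟨mel 1 (dperm d π), diag_mem _⟩ := by
  rw [map_mul, map_mul, map_inv, theta_lift, hx, ← map_inv, ← map_mul, ← map_mul]
  exact congrArg ψ (Subtype.ext (conj_diag π d))

theorem lift_mul {π π' : Equiv.Perm (Fin 6)} (h : Equiv.Perm.sign π = 1) (h' : Equiv.Perm.sign π' = 1)
    (h'' : Equiv.Perm.sign (π * π') = 1) : ∃ n : ℕ, W.lift (mel (π * π') done) (pm_mem h'') =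
      W.lift (mel π done) (pm_mem h) * W.lift (mel π' done) (pm_mem h') * W.p ^ n := by
  refine W.exists_mul_pow ?_
  rw [map_mul, theta_lift, theta_lift, theta_lift, ← map_mul]
  exact congrArg ψ (Subtype.ext (pm_mul π π').symm)

theorem exists_square_conj (i : Fin 5) :
    ∀ j, i ≠ j → ∃ (n : ↥W.K) (s t e : ℕ), n⁻¹ * W.a i * n = W.a i * W.a i * W.p ^ s ∧
      n⁻¹ * W.a j * n = W.a j * W.a i ^ e * W.p ^ t := by
  intro j hij
  obtain ⟨π, hπ, e, he⟩ := pair_perm i j hij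
  set n := W.lift (mel π done) (pm_mem hπ)
  have h1 := W.exists_conj (gd i) hπ (x := W.a i) (W.theta_lift _ _)
  have h2 := W.exists_conj (gd j) hπ (x := W.a j) (W.theta_lift _ _)
  obtain ⟨s, hs⟩ := W.exists_mul_pow (y := W.a i * W.a i) (h1.trans (by
    rw [map_mul, a, theta_lift, ← map_mul]
    refine congrArg ψ (Subtype.ext ?_)
    show mel 1 (dperm (gd i) π) = mel 1 (gd i) * mel 1 (gd i)
    rw [mel_mul, one_mul]
    exact congrArg _ (Subtype.ext (funext fun x => ((he x).1).trans rfl))))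
  obtain ⟨t, ht⟩ := W.exists_mul_pow (y := W.a j * W.a i ^ (e : ℕ)) (h2.trans (by
    rw [map_mul, map_pow, a, a, theta_lift, theta_lift, ← map_pow, ← map_mul]
    refine congrArg ψ (Subtype.ext ?_)
    show mel 1 (dperm (gd j) π) = mel 1 (gd j) * mel 1 (gd i) ^ (e : ℕ)
    obtain ⟨c, hc, hk⟩ := mel_pow (gd i) e
    rw [hc, mel_mul, one_mul]
    refine congrArg _ (Subtype.ext (funext fun x => ((he x).2).trans ?_))
    show _ = c.1 x * (gd j).1 x
    rw [hk, mul_comm]))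
  exact ⟨n, s, t, e, hs, ht⟩

theorem a_cube (i : Fin 5) : W.a i ^ 3 = 1 := by
  obtain ⟨n, s, t, e, hs, -⟩ := W.exists_square_conj i (i + 1)
    ((by decide : ∀ i : Fin 5, i ≠ i + 1) i)
  obtain ⟨c, hc⟩ := W.exists_pow (x := W.a i ^ 3) (by
    rw [map_pow, a, theta_lift, ← map_pow]
    rw [show (⟨mel 1 (gd i), diag_mem _⟩ : ↥K0) ^ 3 = 1 from Subtype.ext (by
          obtain ⟨e, he, hk⟩ := mel_pow (gd i) 3
          show mel 1 (gd i) ^ 3 = 1
          rw [he, ← mel_one]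
          exact congrArg _ (Subtype.ext (funext fun j => (hk j).trans
            ((by decide +kernel : ∀ i j, (gd i).1 j ^ 3 = 1) i j))))]
    exact map_one _)
  have h1 : (n⁻¹ * W.a i * n) ^ 3 = W.a i ^ 3 := by
    have hg : (n⁻¹ * W.a i * n) ^ 3 = n⁻¹ * (W.a i ^ 3) * n := by
      simp only [pow_succ, pow_zero, one_mul]; group
    rw [hg, hc, mul_assoc, ← W.pow_comm c n, inv_mul_cancel_left]
  rw [hs] at h1
  have hcm : Commute (W.a i * W.a i) (W.p ^ s) := W.pow_comm s _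
  rw [hcm.mul_pow 3, ← pow_mul W.p, mul_comm s 3, pow_mul, W.p_cube, one_pow, mul_one,
    ← pow_two, ← pow_mul, mul_comm 2 3, pow_mul, pow_two] at h1
  exact mul_eq_left.1 h1

theorem a_comm (i j : Fin 5) : W.a i * W.a j = W.a j * W.a i := by
  by_cases hij : i = j
  · rw [hij]
  obtain ⟨n, s, t, e, hs, ht⟩ := W.exists_square_conj i j hij
  obtain ⟨c, hc⟩ := W.exists_mul_pow (x := W.a i * W.a j) (y := W.a j * W.a i) (by
    simp only [map_mul, a, theta_lift]
    rw [← map_mul, ← map_mul]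
    exact congrArg ψ (Subtype.ext (ad_comm (mem_Ad.2 ⟨_, rfl⟩) (mem_Ad.2 ⟨_, rfl⟩))))
  set z := W.p ^ c
  have hz : ∀ k, k * z = z * k := W.pow_comm c
  set x := W.a i with hx
  set y := W.a j
  have e1 : (n⁻¹ * x * n) * (n⁻¹ * y * n) = (n⁻¹ * y * n) * (n⁻¹ * x * n) * z := by
    rw [show (n⁻¹ * x * n) * (n⁻¹ * y * n) = n⁻¹ * (x * y) * n by group, hc,
      show (n⁻¹ * y * n) * (n⁻¹ * x * n) * z = n⁻¹ * (y * x) * (n * z) by group, hz n]
    group
  rw [hs, ht] at e1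
  have hw : ∀ (u : ↥W.K) (r : ℕ), W.p ^ r * u = u * W.p ^ r := fun u r => (W.pow_comm r u).symm
  have lhs : x * x * W.p ^ s * (y * x ^ e * W.p ^ t) = x * x * y * x ^ e * (W.p ^ s * W.p ^ t) := by
    rw [show x * x * W.p ^ s * (y * x ^ e * W.p ^ t) = x * x * (W.p ^ s * (y * x ^ e)) * W.p ^ t by group, hw]
    group
  have rhs : y * x ^ e * W.p ^ t * (x * x * W.p ^ s) * z = y * x ^ e * (x * x) * z * (W.p ^ s * W.p ^ t) := by
    rw [show y * x ^ e * W.p ^ t * (x * x * W.p ^ s) * z = y * x ^ e * (W.p ^ t * (x * x)) * (W.p ^ s * z) by group,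
      hw, hz, show y * x ^ e * (x * x * W.p ^ t) * (z * W.p ^ s) = y * x ^ e * (x * x) * (W.p ^ t * z) * W.p ^ s by
        group, hz]
    rw [show W.p ^ s * W.p ^ t = W.p ^ t * W.p ^ s from W.pow_comm t _]
    group
  have left' : x * x * y * x ^ e = y * x ^ e * (x * x) * (z * z) := by
    rw [show x * x * y = x * (x * y) by group, hc,
      show x * (y * x * z) * x ^ e = (x * y) * x * (z * x ^ e) by group, hc, ← hz (x ^ e),
      show y * x * z * x * (x ^ e * z) = y * x * (z * x) * x ^ e * z by group, ← hz x,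
      show y * x * (x * z) * x ^ e * z = y * (x * x) * (z * x ^ e) * z by group, ← hz (x ^ e),
      show y * (x * x) * (x ^ e * z) * z = y * (x * x * x ^ e) * (z * z) by group,
      show x * x * x ^ e = x ^ e * (x * x) by group]
    group
  have hz1 : z = 1 := by
    rw [lhs, rhs, left'] at e1
    have e2 := mul_right_cancel e1
    exact mul_eq_left.1 (mul_left_cancel e2)
  rw [hc, hz1, mul_one]

end Env

end Cfsg.Agent.LargeFischer
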