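import Cfsg.Agent.Lib.LargeFischer.Orbits
import Cfsg.Agent.Lib.U43InU62.Group
import Cfsg.Agent.Lib.Small.UFourTwo.Iso
import Cfsg.Agent.Lib.FischerPresented.WE6Orth

/-! The stabiliser of a vector of the short orbit is U4(2). -/

set_option autoImplicit false
set_option maxRecDepth 100000

namespace Cfsg.Agent.LargeFischer

open Cfsg.Agent.RigidGraph.He Cfsg.Agent.U43InU62
open Matrix

/-- The vectors supported on the last four coordinates. -/
def emb (u : Fin 4 → K4) : V6 := ![0, 0, u 0, u 1, u 2, u 3]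

/-- The index of a last coordinate. -/
def up (i : Fin 4) : Fin 6 := ⟨i.1 + 2, by omega⟩

/-- The last four coordinates. -/
def low (x : V6) : Fin 4 → K4 := fun i => x (up i)

/-- The block of the last four coordinates. -/
def blk (M : Matrix (Fin 6) (Fin 6) K4) : Matrix (Fin 4) (Fin 4) K4 := Matrix.of fun i j => M (up i) (up j)

theorem low_mulVec_emb (M : Matrix (Fin 6) (Fin 6) K4) (u : Fin 4 → K4) : low (M *ᵥ emb u) = blk M *ᵥ u := by
  funext i
  simp [low, blk, emb, Matrix.mulVec, dotProduct, Fin.sum_univ_six, Fin.sum_univ_four, up]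

theorem emb_low {x : V6} (h : x 0 = x 1) : x = emb (low x) + x 0 • v0 := by
  funext i; fin_cases i <;> simp [emb, low, up, v0, h]

theorem low_emb (u : Fin 4 → K4) : low (emb u) = u := by
  funext i; fin_cases i <;> simp [emb, low, up]

theorem herm_v0 (x : V6) : Cfsg.hermForm 6 K4 2 x v0 = x 0 + x 1 := by
  simp [Cfsg.hermForm, v0, Fin.sum_univ_six]

theorem add_eq_zero {a b : K4} : a + b = 0 ↔ a = b :=
  ⟨fun h => by rw [eq_neg_of_add_eq_zero_left h]; exact neg_eq_of_add_eq_zero_left (K4.add_self b),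
    fun h => by rw [h]; exact K4.add_self b⟩

theorem herm_low {x y : V6} (hx : x 0 = x 1) (hy : y 0 = y 1) :
    Cfsg.hermForm 6 K4 2 x y = Cfsg.hermForm 4 K4 2 (low x) (low y) := by
  simp only [Cfsg.hermForm, Fin.sum_univ_six, Fin.sum_univ_four, low, up]
  rw [← hx, ← hy, K4.add_self, zero_add]
  rfl

/-- The stabiliser of the short vector. -/
abbrev S0 : Type := ↥(stab v0)

theorem fix (g : S0) : act g.1 v0 = v0 := g.2.2

theorem perp {g : S0} {x : V6} (h : x 0 = x 1) : (act g.1 x) 0 = (act g.1 x) 1 := by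
  have := herm_act g.1 x v0
  rw [fix, herm_v0, herm_v0, add_eq_zero.2 h] at this
  exact add_eq_zero.1 this

theorem emb_perp (u : Fin 4 → K4) : emb u 0 = emb u 1 := rfl

theorem low_act (g : S0) {x : V6} (h : x 0 = x 1) : low (act g.1 x) = blk (mat g.1) *ᵥ low x := by
  conv_lhs => rw [emb_low h]
  rw [act, Matrix.mulVec_add, Matrix.mulVec_smul, show mat g.1 *ᵥ v0 = v0 from fix g, ← low_mulVec_emb]
  funext i; fin_cases i <;> simp [low, up, v0]

/-- The action on the four-space. -/
def blkHom : S0 →* Matrix (Fin 4) (Fin 4) K4 where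
  toFun g := blk (mat g.1)
  map_one' := by
    ext i j; fin_cases i <;> fin_cases j <;> rfl
  map_mul' a b := by
    refine Matrix.ext_of_mulVec_single fun j => ?_
    have h := low_act (a * b) (x := emb (Pi.single j 1)) (emb_perp _)
    have h2 := low_act b (x := emb (Pi.single j 1)) (emb_perp _)
    rw [low_emb] at h h2
    rw [← h, ← Matrix.mulVec_mulVec, ← h2, ← low_act a (perp (emb_perp _)), ← act_mul]
    rfl

theorem blk_herm (g : S0) (u v : Fin 4 → K4) :
    Cfsg.hermForm 4 K4 2 (blkHom g *ᵥ u) (blkHom g *ᵥ v) = Cfsg.hermForm 4 K4 2 u v := by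
  have h1 := low_act g (x := emb u) (emb_perp u)
  have h2 := low_act g (x := emb v) (emb_perp v)
  rw [low_emb] at h1 h2
  show Cfsg.hermForm 4 K4 2 (blk (mat g.1) *ᵥ u) (blk (mat g.1) *ᵥ v) = _
  rw [← h1, ← h2, ← herm_low (perp (emb_perp _)) (perp (emb_perp _)), herm_act,
    herm_low (emb_perp u) (emb_perp v), low_emb, low_emb]

/-- Only the standard frame is adapted to the four-space. -/
theorem frame_base : ∀ i : Fin 112,
    (∀ j : Fin 4, ∃ a : Fin 6, fr i a 0 = fr i a 1 ∧ ∀ k : Fin 4, (fr i a (up k) ≠ 0 ↔ k = j)) → i = base := by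
  decide +kernel

theorem blk_injective {g : S0} (h : blkHom g = 1) : g = 1 := by
  obtain ⟨π, -, hm⟩ := mem_K0.1 g.2.1
  have hl : ∀ j : Fin 4, low (act g.1 (bv (up j))) = Pi.single j 1 ∧
      act g.1 (bv (up j)) 0 = act g.1 (bv (up j)) 1 := fun j => by
    have hp : bv (up j) 0 = bv (up j) 1 := by fin_cases j <;> rfl
    refine ⟨?_, perp hp⟩
    rw [low_act g hp, show blk (mat g.1) = 1 from h, Matrix.one_mulVec]
    funext k; fin_cases j <;> fin_cases k <;> rfl
  have hb : π base = base := frame_base _ fun j => by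
    obtain ⟨a, c, hc, e⟩ := hm base _ (bv_mem (up j))
    refine ⟨a, ?_, fun k => ?_⟩
    · have := (hl j).2
      rw [e] at this
      exact mul_left_cancel₀ hc this
    · have := congrFun (hl j).1 k
      rw [e] at this
      simp only [low, Pi.smul_apply, smul_eq_mul, Pi.single_apply] at this
      constructor
      · intro hk; by_contra hkj; rw [if_neg hkj] at this; exact hk ((mul_eq_zero.1 this).resolve_left hc)
      · intro hk h0; rw [if_pos hk, h0, mul_zero] at this; exact zero_ne_one this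
  have hN : g.1 ∈ N0 := K0_inf_Nall ▸ Subgroup.mem_inf.2 ⟨g.2.1, stab_base hm hb⟩
  obtain ⟨π', hs, d, e⟩ := mem_N0.1 hN
  have hj : ∀ j : Fin 4, π' (up j) = up j ∧ d.1 (up j) = 1 := fun j => by
    have h1 := (hl j).1
    rw [e, act_mel_bv] at h1
    have h2 := congrFun h1 j
    simp only [low, Pi.smul_apply, smul_eq_mul, bv, Pi.single_apply, if_pos] at h2
    by_cases hh : up j = π' (up j)
    · rw [if_pos hh, mul_one] at h2; exact ⟨hh.symm, h2⟩
    · rw [if_neg hh, mul_zero] at h2; exact absurd h2 zero_ne_one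
  have hπ : π' = 1 := by
    refine (?_ : ∀ π : Equiv.Perm (Fin 6), Equiv.Perm.sign π = 1 → (∀ j, π (up j) = up j) → π = 1) π' hs fun j => (hj j).1
    decide +kernel
  subst hπ
  have hv := fix g
  rw [e] at hv
  have hd : d = done := by
    refine Subtype.ext (funext fun k => ?_)
    have h0 := congrFun hv 0
    have h1 := congrFun hv 1
    rw [act_mel] at h0 h1
    fin_cases k
    · simpa [v0, done, Equiv.Perm.one_def] using h0
    · simpa [v0, done, Equiv.Perm.one_def] using h1
    · exact (hj 0).2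
    · exact (hj 1).2
    · exact (hj 2).2
    · exact (hj 3).2
  exact Subtype.ext (by rw [e, hd, mel_one]; rfl)

/-- Test diagonals. -/
def dd : Fin 3 → Dg
  | 0 => ⟨![1, 1, .w, .v, 1, 1], by decide +kernel⟩
  | 1 => ⟨![1, 1, 1, .w, .v, 1], by decide +kernel⟩
  | 2 => ⟨![1, 1, 1, 1, .w, .v], by decide +kernel⟩

/-- Test permutations. -/
def pp : Fin 2 → Equiv.Perm (Fin 6)
  | 0 => Equiv.swap 2 3 * Equiv.swap 3 4
  | 1 => Equiv.swap 3 4 * Equiv.swap 4 5

theorem test_ok : (∀ k, act (mel 1 (dd k)) v0 = v0) ∧ (∀ k, act (mel (pp k) done) v0 = v0 ∧ Equiv.Perm.sign (pp k) = 1) := by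
  refine ⟨fun k => funext fun i => ?_, fun k => ⟨funext fun i => ?_, ?_⟩⟩
  · rw [act_mel]; revert k i; decide +kernel
  · rw [act_mel]; revert k i; decide +kernel
  · revert k; decide +kernel

/-- The diagonal elements of the stabiliser. -/
noncomputable def de (k : Fin 3) : S0 :=
  ⟨mel 1 (dd k), N0_le_K0 (mem_N0.2 ⟨1, map_one _, _, rfl⟩), test_ok.1 k⟩

/-- The permutation elements of the stabiliser. -/
noncomputable def pe (k : Fin 2) : S0 :=
  ⟨mel (pp k) done, N0_le_K0 (mem_N0.2 ⟨_, (test_ok.2 k).2, _, rfl⟩), (test_ok.2 k).1⟩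

theorem test_det : (∀ k, (blk (monoMat 1 (dd k).1)).det = 1) ∧ ∀ k, (blk (monoMat (pp k) done.1)).det = 1 := by
  decide +kernel

theorem blk_isUnit (g : S0) : IsUnit (blkHom g).det := by
  refine (Matrix.isUnit_iff_isUnit_det _).1 ?_
  exact ⟨⟨blkHom g, blkHom g⁻¹, by rw [← map_mul, mul_inv_cancel, map_one],
    by rw [← map_mul, inv_mul_cancel, map_one]⟩, rfl⟩

/-- The determinant on the four-space. -/
noncomputable def detHom : S0 →* K4 where
  toFun g := (blkHom g).det
  map_one' := by simp
  map_mul' a b := by simp [Matrix.det_mul]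

/-- The elements of determinant one. -/
noncomputable def toSU : ↥(detHom.ker) →* ↥(Cfsg.SU 4 K4 2) where
  toFun g := ⟨⟨blkHom g.1, g.2⟩, blk_herm g.1⟩
  map_one' := Subtype.ext (Subtype.ext (map_one blkHom))
  map_mul' a b := Subtype.ext (Subtype.ext (map_mul blkHom a.1 b.1))

theorem toSU_injective : Function.Injective toSU := by
  refine (injective_iff_map_eq_one _).2 fun g hg => Subtype.ext (blk_injective ?_)
  exact congrArg (fun x : ↥(Cfsg.SU 4 K4 2) => x.1.1) hg

theorem scalar_of_comm : ∀ a : Fin 4 → Fin 4 → K4, (∀ k, ∀ i j, a i j * (dd k).1 (up j) = (dd k).1 (up i) * a i j) →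
    (∀ i j, i ≠ j → a i j = 0) := by
  intro a h i j hij
  have key : ∀ i j : Fin 4, i ≠ j → ∃ k, (dd k).1 (up j) ≠ (dd k).1 (up i) := by decide +kernel
  obtain ⟨k, hk⟩ := key i j hij
  by_contra hne
  exact hk (mul_left_cancel₀ hne ((h k i j).trans (mul_comm _ _)))

theorem center_eq_bot : Subgroup.center ↥(Cfsg.SU 4 K4 2) = ⊥ := by
  refine (Subgroup.eq_bot_iff_forall _).2 fun x hx => ?_
  set A : Matrix (Fin 4) (Fin 4) K4 := x.1.1 with hA
  have hk : ∀ g : S0, detHom g = 1 → blkHom g * A = A * blkHom g := fun g hg => by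
    have := Subgroup.mem_center_iff.1 hx (toSU ⟨g, hg⟩)
    exact congrArg (fun y : ↥(Cfsg.SU 4 K4 2) => y.1.1) this
  have hd : ∀ k i j, A i j * (dd k).1 (up j) = (dd k).1 (up i) * A i j := fun k i j => by
    have h := congrFun (congrFun (hk (de k) (test_det.1 k)) i) j
    have e : blkHom (de k) = Matrix.diagonal fun i => (dd k).1 (up i) :=
      (by decide +kernel : ∀ k, blk (monoMat 1 (dd k).1) = Matrix.diagonal fun i => (dd k).1 (up i)) k
    rw [e, Matrix.diagonal_mul, Matrix.mul_diagonal] at h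
    exact h.symm
  have hoff := scalar_of_comm A hd
  have hD : A = Matrix.diagonal fun i => A i i := Matrix.ext fun i j => by
    by_cases h : i = j
    · subst h; rw [Matrix.diagonal_apply_eq]
    · rw [Matrix.diagonal_apply_ne _ h, hoff i j h]
  have hdet : A.det = 1 := x.1.2
  have hp : ∀ k, blkHom (pe k) * A = A * blkHom (pe k) := fun k => hk _ (test_det.2 k)
  have key : ∀ a b c e : K4, (∀ k, blk (monoMat (pp k) done.1) * Matrix.diagonal ![a, b, c, e] =
      Matrix.diagonal ![a, b, c, e] * blk (monoMat (pp k) done.1)) → a * b * c * e = 1 →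
      a = 1 ∧ b = 1 ∧ c = 1 ∧ e = 1 := by decide +kernel
  have hv : (fun i => A i i) = ![A 0 0, A 1 1, A 2 2, A 3 3] := by funext i; fin_cases i <;> rfl
  rw [hD, Matrix.det_diagonal, Fin.prod_univ_four] at hdet
  rw [hD, hv] at hp
  obtain ⟨a, b, c, e⟩ := key _ _ _ _ hp hdet
  refine Subtype.ext (Subtype.ext ?_)
  show A = (1 : Matrix (Fin 4) (Fin 4) K4)
  rw [hD, hv, a, b, c, e]
  ext i j; fin_cases i <;> fin_cases j <;> rfl

/-- Every element of the stabiliser has determinant one on the four-space. -/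
theorem detHom_ker : detHom.ker = ⊤ := by
  obtain ⟨hcard, hsimp, -⟩ := UFourTwo.card_psu K4.card_K4
  let Φ : ↥(detHom.ker) →* Cfsg.PSU 4 K4 2 := (QuotientGroup.mk' _).comp toSU
  have hinj : Function.Injective Φ := (injective_iff_map_eq_one _).2 fun g hg => by
    have : toSU g ∈ Subgroup.center ↥(Cfsg.SU 4 K4 2) := (QuotientGroup.eq_one_iff _).1 hg
    rw [center_eq_bot, Subgroup.mem_bot] at this
    exact toSU_injective (this.trans (map_one _).symm)
  have hidx := Subgroup.card_eq_card_quotient_mul_card_subgroup detHom.ker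
  rw [show Nat.card S0 = 25920 from card_stab_v0] at hidx
  have hq : Nat.card (S0 ⧸ detHom.ker) ≤ 4 := by
    have e : detHom.ker = detHom.toHomUnits.ker := Subgroup.ext fun g => by
      rw [MonoidHom.mem_ker, MonoidHom.mem_ker, Units.ext_iff]
      rfl
    rw [e, Nat.card_congr (QuotientGroup.quotientKerEquivRange detHom.toHomUnits).toEquiv, ← K4.card_K4,
      ← Nat.card_eq_fintype_card]
    exact Nat.card_le_card_of_injective _ (Units.val_injective.comp Subtype.val_injective)
  have hrange : Φ.range = ⊤ := by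
    by_contra hne
    have hi : Φ.range.index ≤ 4 := by
      have h1 := Φ.range.card_mul_index
      rw [← Nat.card_congr (MonoidHom.ofInjective hinj).toEquiv, hcard] at h1
      have h2 : 0 < Nat.card ↥(detHom.ker) := Nat.card_pos
      nlinarith
    have := hsimp
    have hf : Finite (Cfsg.PSU 4 K4 2 ⧸ Φ.range) := inferInstance
    rcases (Φ.range.normalCore_normal).eq_bot_or_eq_top with h | h
    · have h1 := (Nat.card_le_card_of_injective _ ((MonoidHom.ker_eq_bot_iff _).1
        ((Subgroup.normalCore_eq_ker Φ.range).symm.trans h)))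
      rw [hcard, Nat.card_perm, ← Subgroup.index] at h1
      have := Nat.factorial_le hi
      norm_num [Nat.factorial] at this
      omega
    · exact hne (eq_top_iff.2 (h ▸ Φ.range.normalCore_le))
  have htop : detHom.ker = ⊤ := by
    refine Subgroup.eq_top_of_card_eq _ ?_
    rw [show Nat.card S0 = 25920 from card_stab_v0, Nat.card_congr (MonoidHom.ofInjective hinj).toEquiv, hrange,
      Subgroup.card_top, hcard]
  exact htop

theorem card_SU4 : Nat.card ↥(Cfsg.SU 4 K4 2) = 25920 := by
  rw [Subgroup.card_eq_card_quotient_mul_card_subgroup (Subgroup.center ↥(Cfsg.SU 4 K4 2)), center_eq_bot,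
    Subgroup.card_bot, mul_one, ← center_eq_bot]
  exact (UFourTwo.card_psu K4.card_K4).1

/-- The block map onto the special unitary group. -/
theorem toSU_bijective : Function.Bijective toSU := by
  refine (Nat.bijective_iff_injective_and_card _).2 ⟨toSU_injective, ?_⟩
  rw [detHom_ker, Subgroup.card_top, card_SU4]
  exact card_stab_v0

/-- The stabiliser is U4(2). -/
theorem stab_equiv : Nonempty (S0 ≃* Cfsg.PSU 4 K4 2) :=
  ⟨(Subgroup.topEquiv.symm.trans (MulEquiv.subgroupCongr detHom_ker.symm)).trans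
    ((MulEquiv.ofBijective toSU toSU_bijective).trans ((QuotientGroup.quotientBot (G := ↥(Cfsg.SU 4 K4 2))).symm.trans
      (QuotientGroup.quotientMulEquivOfEq center_eq_bot.symm)))⟩

/-- The automorphism group of the stabiliser. -/
theorem aut_equiv : Nonempty (MulAut S0 ≃* WE6Orth.O6) := by
  obtain ⟨e⟩ := stab_equiv
  obtain ⟨c, -⟩ := AutPSU.FourTwo.exists_equiv (F := K4) K4.card_K4
  obtain ⟨o⟩ := WE6Orth.nonempty_equiv
  exact ⟨((MulAut.congr e).trans c.symm).trans o⟩

/-- A semilinear map does not centralise the stabiliser. -/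
theorem no_semilinear {u : V6 → V6} (hu : Function.Injective u) (hc : ∀ (c : K4) x, u (c • x) = c ^ 2 • u x)
    (h : ∀ g : S0, ∀ x, u (act g.1 x) = act g.1 (u x)) : False := by
  have h0 : u 0 = 0 := by
    have := hc 0 0
    simpa using this
  have hk : ∀ (k : Fin 6) (d : Dg) (hd : act (mel 1 d) v0 = v0), d.1 2 = K4.w → u (bv 2) k ≠ 0 → d.1 k = K4.v := by
    intro k d hd hd2 hne
    have h1 := h ⟨mel 1 d, N0_le_K0 (mem_N0.2 ⟨1, map_one _, _, rfl⟩), hd⟩ (bv 2)
    simp only at h1
    rw [act_mel_bv, hc, hd2] at h1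
    have h2 := congrFun h1 k
    rw [act_mel, Pi.smul_apply, smul_eq_mul] at h2
    exact (mul_right_cancel₀ hne h2).symm.trans (by decide)
  have hzero : u (bv 2) = 0 := funext fun k => by
    by_contra hne
    let d' : Dg := ⟨![1, 1, .w, 1, .v, 1], by decide +kernel⟩
    have hd' : act (mel 1 d') v0 = v0 := funext fun i => by rw [act_mel]; revert i; decide +kernel
    have a1 := hk k (dd 0) (test_ok.1 0) rfl hne
    have a2 := hk k d' hd' rfl hne
    exact (by decide +kernel : ∀ k : Fin 6, (dd 0).1 k = K4.v → (![1, 1, .w, 1, .v, 1] : V6) k = K4.v → False) k a1 a2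
  exact bv_ne 2 (hu (hzero.trans h0.symm))

/-- A linear involution centralising the stabiliser is trivial or the swap. -/
theorem linear_cases {u : V6 → V6} (hadd : ∀ x y, u (x + y) = u x + u y) (hc : ∀ (c : K4) x, u (c • x) = c • u x)
    (h2 : ∀ x, u (u x) = x) (hv : u v0 = v0) (hwt : ∀ x, wt (u x) % 2 = wt x % 2)
    (h : ∀ g : S0, ∀ x, u (act g.1 x) = act g.1 (u x)) :
    (∀ x, u x = x) ∨ ∀ x, u x = act sigma x := by
  have hsupp : ∀ (j k : Fin 6), u (bv j) k ≠ 0 → ∀ i, (dd i).1 k = (dd i).1 j := fun j k hne i => by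
    have h1 := h (de i) (bv j)
    simp only [de] at h1
    rw [act_mel_bv, hc] at h1
    have e := congrFun h1 k
    rw [act_mel, Pi.smul_apply, smul_eq_mul] at e
    exact (mul_right_cancel₀ hne e).symm
  have hz : ∀ j k : Fin 6, (∃ i, (dd i).1 k ≠ (dd i).1 j) → u (bv j) k = 0 := fun j k ⟨i, hi⟩ => by
    by_contra hne; exact hi (hsupp j k hne i)
  have hup : ∀ j : Fin 4, u (bv (up j)) = bv (up j) := fun j => by
    have e1 : u (bv (up j)) = u (bv (up j)) (up j) • bv (up j) := funext fun k => by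
      by_cases hk : k = up j
      · subst hk; simp [bv]
      · rw [hz (up j) k (by revert hk; revert j k; decide +kernel)]; simp [bv, hk]
    have e2 := h2 (bv (up j))
    rw [e1, hc, e1, smul_smul] at e2
    have e3 := congrFun e2 (up j)
    have hb1 : bv (up j) (up j) = 1 := Pi.single_eq_same _ _
    simp only [Pi.smul_apply, smul_eq_mul, hb1, mul_one] at e3
    rw [e1, (by decide : ∀ c : K4, c * c = 1 → c = 1) _ e3, one_smul]
  have hlow : ∀ j : Fin 6, j = 0 ∨ j = 1 → ∀ k : Fin 6, k ≠ 0 → k ≠ 1 → u (bv j) k = 0 := fun j hj k h0 h1 =>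
    hz j k (by revert h0 h1 hj; revert j k; decide +kernel)
  have hsum : u (bv 1) = v0 + u (bv 0) := by
    have e : bv 1 = v0 + bv 0 := by funext i; fin_cases i <;> simp [bv, v0, K4.add_self]
    rw [e, hadd, hv]
  set a := u (bv 0) 0 with ha
  set b := u (bv 0) 1 with hb
  have e0 : u (bv 0) = ![a, b, 0, 0, 0, 0] := by
    funext i; fin_cases i <;> first | rfl | exact hlow 0 (Or.inl rfl) _ (by decide) (by decide)
  have key : ∀ a b : K4, wt (![a, b, 0, 0, 0, 0] : V6) % 2 = 1 → wt (v0 + ![a, b, 0, 0, 0, 0]) % 2 = 1 →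
      (a = 1 ∧ b = 0) ∨ (a = 0 ∧ b = 1) := by decide +kernel
  have hlin : ∀ x, u x = ∑ j, x j • u (bv j) := fun x => by
    let f : V6 →+ V6 := AddMonoidHom.mk' u hadd
    have : x = ∑ j, x j • bv j := by
      funext i; simp [bv, Finset.sum_apply, Pi.single_apply]
    conv_lhs => rw [this]
    show f _ = _
    rw [map_sum]
    exact Finset.sum_congr rfl fun j _ => hc _ _
  have hs : ∀ x : V6, act sigma x = ∑ j, x j • act sigma (bv j) := fun x => by
    have : x = ∑ j, x j • bv j := by
      funext i; simp [bv, Finset.sum_apply, Pi.single_apply]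
    conv_lhs => rw [this]
    simp only [act, Matrix.mulVec_sum, Matrix.mulVec_smul]
  rcases key a b (by rw [← e0, hwt]; decide +kernel)
      (by rw [← e0, ← hsum, hwt]; decide +kernel) with ⟨ha', hb'⟩ | ⟨ha', hb'⟩
  · left
    intro x
    have hall : ∀ j, u (bv j) = bv j := by
      intro j
      fin_cases j
      · exact e0.trans (by rw [ha', hb']; funext i; fin_cases i <;> rfl)
      · exact hsum.trans (by rw [e0, ha', hb']; decide +kernel)
      · exact hup 0
      · exact hup 1
      · exact hup 2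
      · exact hup 3
    rw [hlin, Finset.sum_congr rfl fun j _ => by rw [hall j]]
    funext i; simp [bv, Finset.sum_apply, Pi.single_apply]
  · right
    intro x
    rw [hlin, hs]
    refine Finset.sum_congr rfl fun j _ => congrArg (x j • ·) ?_
    rw [sigma, act_mel_bv]
    fin_cases j
    · exact e0.trans (by rw [ha', hb']; decide +kernel)
    · exact hsum.trans (by rw [e0, ha', hb']; decide +kernel)
    · exact (hup 0).trans (by decide +kernel)
    · exact (hup 1).trans (by decide +kernel)
    · exact (hup 2).trans (by decide +kernel)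
    · exact (hup 3).trans (by decide +kernel)

end Cfsg.Agent.LargeFischer
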