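import Cfsg.Agent.Lib.LargeFischer.Orbits
import Cfsg.Agent.Lib.U43InU62.Group
import Mathlib.GroupTheory.SpecificGroups.Alternating.Simple

/-! The stabiliser of a vector of the long orbit: six pentads. -/

set_option autoImplicit false
set_option maxRecDepth 100000
set_option maxHeartbeats 1000000

namespace Cfsg.Agent.LargeFischer

open Cfsg.Agent.RigidGraph.He Cfsg.Agent.U43InU62 Cfsg.Agent.PermCert
open Cfsg.Agent.SchurMult (u43Gens u43Derived u43Levels u43_cert u43_order)
open Matrix

/-- Matrices of elements fixing the long vector. -/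
def wMat : Fin 8 → Matrix (Fin 6) (Fin 6) K4
  | 0 => !![.o, .l, .o, .o, .o, .o; .l, .o, .o, .o, .o, .o; .o, .o, .o, .l, .o, .o; .o, .o, .l, .o, .o, .o; .o, .o, .o, .o, .l, .o; .o, .o, .o, .o, .o, .l]
  | 1 => !![.o, .o, .l, .o, .o, .o; .o, .o, .o, .l, .o, .o; .l, .o, .o, .o, .o, .o; .o, .l, .o, .o, .o, .o; .o, .o, .o, .o, .l, .o; .o, .o, .o, .o, .o, .l]
  | 2 => !![.o, .l, .l, .l, .w, .v; .l, .o, .l, .l, .w, .v; .l, .l, .o, .l, .w, .v; .l, .l, .l, .o, .w, .v; .v, .v, .v, .v, .l, .o; .w, .w, .w, .w, .o, .l]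
  | 3 => !![.o, .l, .l, .l, .l, .l; .l, .o, .l, .l, .l, .l; .l, .l, .o, .l, .l, .l; .l, .l, .l, .o, .l, .l; .l, .l, .l, .l, .l, .o; .l, .l, .l, .l, .o, .l]
  | 4 => !![.l, .o, .o, .o, .o, .o; .o, .l, .o, .o, .o, .o; .o, .o, .l, .o, .o, .o; .o, .o, .o, .l, .o, .o; .o, .o, .o, .o, .v, .o; .o, .o, .o, .o, .o, .w]
  | 5 => !![.w, .o, .o, .v, .v, .o; .o, .v, .w, .o, .o, .w; .o, .w, .v, .o, .o, .w; .v, .o, .o, .w, .v, .o; .v, .o, .o, .v, .w, .o; .o, .w, .w, .o, .o, .v]
  | 6 => !![.v, .o, .w, .o, .o, .w; .o, .w, .o, .v, .v, .o; .w, .o, .v, .o, .o, .w; .o, .v, .o, .w, .v, .o; .o, .v, .o, .v, .w, .o; .w, .o, .w, .o, .o, .v]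
  | 7 => !![.w, .v, .o, .o, .v, .o; .v, .w, .o, .o, .v, .o; .o, .o, .v, .w, .o, .w; .o, .o, .w, .v, .o, .w; .v, .v, .o, .o, .w, .o; .o, .o, .w, .w, .o, .v]

/-- Their codes. -/
def wCode : Fin 8 → Elt
  | 0 => (88850036581115096373993192270455076582710532561119599235767418557700716607012158291951365665746716437135182484044166037315622335178882914068816932488884895809526686689353607239971001780638788338614938997536469358495509632066685697192704,
     88850036581115096373993192270455076582710532561119599235767418557700716607012158291951365665746716437135182484044166037315622335178882914068816932488884895809526686689353607239971001780638788338614938997536469358495509632066685697192704)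
  | 1 => (88850036572231713522761237283852595011501896091535835907850461801673568683879662357190901806878032397445136475275847143941103364459217647575170915842162069204476511427893711371119913838486002225254610191360647083475259741524172794426752,
     88850036572231713522761237283852595011501896091535835907850461801673568683879662357190901806878032397445136475275847143941103364459217647575170915842162069204476511427893711371119913838486002225254610191360647083475259741524172794426752)
  | 2 => (555250681670229760871916207010230818614427996501168346912502919300944297535322278902042352112829913609787770048708172894931798716262270252334316506986881777206555781352940468081540824543103892397770852935088550711734129390363526398191,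
     555250681670229760871916207010230818614427996501168346912502919300944297535322278902042352112829913609787770048708172894931798716262270252334316506986881777206555781352940468081540824543103892397770852935088550711734129390363526398191)
  | 3 => (84873993705023506781304969532770543986277867273830156681729727964217468256861212853230920292898781292724778160606828182940132340670804730315808578553901886013648598149475451160772291035141318503774932775609678670015610196939546198360251,
     84873993705023506781304969532770543986277867273830156681729727964217468256861212853230920292898781292724778160606828182940132340670804730315808578553901886013648598149475451160772291035141318503774932775609678670015610196939546198360251)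
  | 4 => (84377892157109338149312594664767567001127142817151701505774249992910060444993336759213016436982106750961247411433518054202117020897182743495593462985274902002878260135750566765828064754220378458735995071170058481013246761631758367621248,
     47038420141534544198208728049615409208493994921411120896668952111691144247024468162720584128867520707205327300057183017279920275145990869877488293562461245478164993312856839694311203318079808679161893080639025351428495862956954803536000)
  | 5 => (15719334571887725535923196893932465596166904975080172091465977018790224688018323565449883125181585018535253482504816663955909026675611098206079656260243050759921587424835364300482447647830154498127959957058338492923247512954530404545133,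
     65733635977123656593919593483734600516204456541117319018763068205279369797066892778136122663616271078548769405480737266721537190374376525256444024108871497885264790605859893025211191719748054626010022722217949451342394478501705965721249)
  | 6 => (33553671736719362465171546699905699117796453196366096344866173292048977415196652330721361232777931325611524304369514873344261227596033744724801046307131947380041165946989538933758203131057513408568603300786121990457780714653349270138156,
     53090978494079306315907594983728685822568703136892595680157702007543504334716148691780053806937827471722676466214300715762826427137170885338938997670202508785118290584765708871886449209870079772392739938100957921309223541614171107452181)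
  | 7 => (37465726217021854718733228996831429534379271590461402837532901889866892321357955376357796187271087765847178841928162208854211135313656309759894867714314833566940215705531170594466526981046733194492634277553777085131026096219763830772646,
     61766450713047922435203755064814763078234149232929296033932341540405639832409866678375744935566966073905644688185070002045269160067170152819075162674929904750860291268115873429360383206820911254968446033305669539046872914224231483854234)

/-- Their images. -/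
def wPerm : Fin 8 → Equiv.Perm (Fin 6)
  | 4 => Equiv.swap 0 1 * Equiv.swap 1 2
  | 5 => Equiv.swap 0 1 * Equiv.swap 1 3
  | 6 => Equiv.swap 0 1 * Equiv.swap 1 4
  | 7 => Equiv.swap 0 1 * Equiv.swap 1 5
  | _ => 1

/-- The six pentads. -/
def pent : Fin 6 → Fin 5 → V6
  | 0 => ![![.o, .o, .o, .o, .l, .l], ![.o, .o, .o, .o, .l, .w], ![.o, .o, .l, .l, .v, .w], ![.o, .l, .o, .l, .v, .w], ![.o, .l, .l, .o, .v, .w]]
  | 1 => ![![.o, .o, .o, .o, .l, .l], ![.o, .o, .o, .o, .l, .v], ![.o, .o, .l, .l, .w, .v], ![.o, .l, .o, .l, .w, .v], ![.o, .l, .l, .o, .w, .v]]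
  | 2 => ![![.o, .o, .o, .o, .l, .w], ![.o, .o, .o, .o, .l, .v], ![.o, .o, .l, .l, .l, .l], ![.o, .l, .o, .l, .l, .l], ![.o, .l, .l, .o, .l, .l]]
  | 3 => ![![.o, .o, .l, .l, .o, .o], ![.o, .l, .o, .l, .o, .o], ![.o, .l, .l, .o, .l, .l], ![.o, .l, .l, .o, .w, .v], ![.o, .l, .l, .o, .v, .w]]
  | 4 => ![![.o, .o, .l, .l, .o, .o], ![.o, .l, .o, .l, .l, .l], ![.o, .l, .o, .l, .w, .v], ![.o, .l, .o, .l, .v, .w], ![.o, .l, .l, .o, .o, .o]]
  | 5 => ![![.o, .o, .l, .l, .l, .l], ![.o, .o, .l, .l, .w, .v], ![.o, .o, .l, .l, .v, .w], ![.o, .l, .o, .l, .o, .o], ![.o, .l, .l, .o, .o, .o]]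

/-- The vectors belonging to a pentad. -/
def Pt (i : Fin 6) (x : V6) : Prop := ∃ (k : Fin 5) (c : K4), c ≠ 0 ∧ ∃ a : K4, x = c • pent i k + a • w0

instance (i : Fin 6) : DecidablePred (Pt i) := fun x => by unfold Pt; infer_instance

theorem pent_mem (i : Fin 6) (k : Fin 5) : Pt i (pent i k) :=
  ⟨k, 1, one_ne_zero, 0, by rw [zero_smul, add_zero]; exact (one_smul K4 _).symm⟩

/-- g permutes the pentads as π. -/
def Per (g : S6) (π : Equiv.Perm (Fin 6)) : Prop := ∀ i x, Pt i x → Pt (π i) (act g x)

theorem per_of_mat {g : S6} {M : Matrix (Fin 6) (Fin 6) K4} {π : Equiv.Perm (Fin 6)} (hM : mat g = M)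
    (hw : M *ᵥ w0 = w0) (h : ∀ i k, Pt (π i) (M *ᵥ pent i k)) : Per g π := by
  rintro i _ ⟨k, c, hc, a, rfl⟩
  obtain ⟨k', c', hc', a', e⟩ := h i k
  refine ⟨k', c * c', mul_ne_zero hc hc', c * a' + a, ?_⟩
  rw [act, hM, Matrix.mulVec_add, Matrix.mulVec_smul, Matrix.mulVec_smul, hw, e, smul_add, smul_smul, smul_smul,
    add_smul, add_assoc]

theorem per_one : Per 1 1 := fun i x hx => by rw [act_one]; exact hx

theorem Per.mul {g h : S6} {π π' : Equiv.Perm (Fin 6)} (hg : Per g π) (hh : Per h π') :
    Per (g * h) (π * π') := fun i x hx => by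
  rw [act_mul]; exact hg _ _ (hh i x hx)

theorem sep : ∀ i j : Fin 6, i ≠ j → ∃ k, ¬ Pt j (pent i k) := by decide +kernel

theorem per_one_eq {π : Equiv.Perm (Fin 6)} (h : Per 1 π) : π = 1 := by
  refine Equiv.ext fun i => ?_
  by_contra hne
  obtain ⟨k, hk⟩ := sep i (π i) fun e => hne e.symm
  have := h i _ (pent_mem i k)
  rw [act_one] at this
  exact hk this

/-- Stabiliser elements permuting the pentads evenly. -/
def Wmon : Submonoid S6 where
  carrier := {g | g ∈ stab w0 ∧ ∃ π : Equiv.Perm (Fin 6), Equiv.Perm.sign π = 1 ∧ Per g π}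
  one_mem' := ⟨one_mem _, 1, map_one _, per_one⟩
  mul_mem' := fun {a b} ⟨ha, π, hs, hp⟩ ⟨hb, π', hs', hp'⟩ =>
    ⟨mul_mem ha hb, π * π', by rw [map_mul, hs, hs', one_mul], hp.mul hp'⟩

theorem w_checks : ∀ k : Fin 8, validElt 7 112 (wCode k) = true ∧ sift 7 112 u43Levels (wCode k).1 = true ∧
    (wMat k).det = 1 ∧ (wMat k)ᵀ * (wMat k).map (fun x => x * x) = 1 ∧ MapsCode (wMat k) (wCode k) ∧
    wMat k *ᵥ w0 = w0 ∧ Equiv.Perm.sign (wPerm k) = 1 ∧ ∀ i j, Pt (wPerm k i) (wMat k *ᵥ pent i j) := by
  decide +kernel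

theorem exists_wel (k : Fin 8) : ∃ g : S6, mat g = wMat k :=
  exists_mem_of_unitary _ (w_checks k).2.2.1 (w_checks k).2.2.2.1

/-- The eight elements. -/
noncomputable def wel (k : Fin 8) : S6 := (exists_wel k).choose

theorem mat_wel (k : Fin 8) : mat (wel k) = wMat k := (exists_wel k).choose_spec

theorem wel_per (k : Fin 8) : Per (wel k) (wPerm k) :=
  per_of_mat (mat_wel k) (w_checks k).2.2.2.2.2.1 (w_checks k).2.2.2.2.2.2.2

theorem wel_mem (k : Fin 8) : wel k ∈ Wmon :=
  ⟨⟨mem_K0_of_code (mat_wel k) (w_checks k).1 (w_checks k).2.1 (w_checks k).2.2.2.2.1, by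
    rw [act, mat_wel]; exact (w_checks k).2.2.2.2.2.1⟩, _, (w_checks k).2.2.2.2.2.2.1, wel_per k⟩

/-- The stabiliser elements permuting the pentads, as a group. -/
def Wgrp : Subgroup S6 := finSub Wmon

theorem wgrp_spec (g : ↥Wgrp) : ∃ π : Equiv.Perm (Fin 6), Equiv.Perm.sign π = 1 ∧ Per g.1 π := g.2.2

theorem per_unique {g : S6} (hg : g ∈ Wgrp) {π π' : Equiv.Perm (Fin 6)} (h : Per g π) (h' : Per g π') : π = π' := by
  obtain ⟨ρ, -, hρ⟩ := wgrp_spec ⟨g⁻¹, inv_mem hg⟩
  have h1 := hρ.mul h
  have h2 := hρ.mul h'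
  rw [inv_mul_cancel] at h1 h2
  exact mul_left_cancel ((per_one_eq h1).trans (per_one_eq h2).symm)

/-- The action on the pentads. -/
noncomputable def β : ↥Wgrp →* ↥(alternatingGroup (Fin 6)) where
  toFun g := ⟨(wgrp_spec g).choose, Equiv.Perm.mem_alternatingGroup.2 (wgrp_spec g).choose_spec.1⟩
  map_one' := Subtype.ext (per_one_eq (wgrp_spec 1).choose_spec.2)
  map_mul' a b := Subtype.ext (per_unique (mul_mem a.2 b.2) (wgrp_spec (a * b)).choose_spec.2
    ((wgrp_spec a).choose_spec.2.mul (wgrp_spec b).choose_spec.2))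

theorem beta_per (g : ↥Wgrp) : Per g.1 (β g).1 := (wgrp_spec g).choose_spec.2

theorem beta_eq {g : S6} (hg : g ∈ Wgrp) {π : Equiv.Perm (Fin 6)} (h : Per g π) : (β ⟨g, hg⟩).1 = π :=
  per_unique hg (beta_per _) h

theorem three_words : ∀ π : Equiv.Perm (Fin 6), π.support.card = 3 →
    ∃ a b c e f : Fin 5, π = [1, wPerm 4, wPerm 5, wPerm 6, wPerm 7].getD a 1 * [1, wPerm 4, wPerm 5, wPerm 6, wPerm 7].getD b 1 *
      [1, wPerm 4, wPerm 5, wPerm 6, wPerm 7].getD c 1 * [1, wPerm 4, wPerm 5, wPerm 6, wPerm 7].getD e 1 * [1, wPerm 4, wPerm 5, wPerm 6, wPerm 7].getD f 1 := by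
  decide +kernel

theorem beta_surjective : Function.Surjective β := by
  let M := β.range.map (alternatingGroup (Fin 6)).subtype
  have hg : ∀ a : Fin 5, [1, wPerm 4, wPerm 5, wPerm 6, wPerm 7].getD a 1 ∈ M := fun a => by
    have hk : ∀ k, wPerm k ∈ M := fun k => ⟨_, ⟨⟨wel k, wel_mem k⟩, rfl⟩, beta_eq _ (wel_per k)⟩
    fin_cases a
    · exact one_mem _
    · exact hk 4
    · exact hk 5
    · exact hk 6
    · exact hk 7
  have hle : alternatingGroup (Fin 6) ≤ M := by
    rw [← Equiv.Perm.closure_three_cycles_eq_alternating, Subgroup.closure_le]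
    intro π hπ
    obtain ⟨a, b, c, e, f, rfl⟩ := three_words π hπ.card_support
    exact mul_mem (mul_mem (mul_mem (mul_mem (hg a) (hg b)) (hg c)) (hg e)) (hg f)
  intro x
  obtain ⟨y, ⟨g, rfl⟩, e⟩ := hle x.2
  exact ⟨g, Subtype.ext e⟩

/-- The sixteen products. -/
def kMat (t : Fin 2 × Fin 2 × Fin 2 × Fin 2) : Matrix (Fin 6) (Fin 6) K4 :=
  (if t.1 = 0 then 1 else wMat 0) * (if t.2.1 = 0 then 1 else wMat 1) *
    ((if t.2.2.1 = 0 then 1 else wMat 2) * (if t.2.2.2 = 0 then 1 else wMat 3))

theorem kMat_inj : Function.Injective kMat := by decide +kernel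

theorem card_ker_ge : 16 ≤ Nat.card ↥β.ker := by
  let f : Fin 8 → Fin 2 → ↥Wgrp := fun k a => if a = 0 then 1 else ⟨wel k, wel_mem k⟩
  have hf : ∀ k : Fin 8, (k : ℕ) < 4 → ∀ a, f k a ∈ β.ker ∧
      mat (f k a).1 = if a = 0 then 1 else wMat k := fun k hk a => by
    by_cases ha : a = 0
    · simp only [f, ha, if_true]; exact ⟨one_mem _, rfl⟩
    · simp only [f, ha, if_false]
      refine ⟨Subtype.ext ((beta_eq _ (wel_per k)).trans ?_), mat_wel k⟩
      revert hk; revert k; decide +kernel
  let g : Fin 2 × Fin 2 × Fin 2 × Fin 2 → ↥β.ker := fun t =>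
    ⟨f 0 t.1 * f 1 t.2.1 * (f 2 t.2.2.1 * f 3 t.2.2.2),
      mul_mem (mul_mem (hf 0 (by decide) _).1 (hf 1 (by decide) _).1)
        (mul_mem (hf 2 (by decide) _).1 (hf 3 (by decide) _).1)⟩
  have hm : ∀ t, mat (g t).1.1 = kMat t := fun t => by
    show mat (f 0 t.1).1 * mat (f 1 t.2.1).1 * (mat (f 2 t.2.2.1).1 * mat (f 3 t.2.2.2).1) = _
    rw [(hf 0 (by decide) _).2, (hf 1 (by decide) _).2, (hf 2 (by decide) _).2, (hf 3 (by decide) _).2]
    rfl
  have := Nat.card_le_card_of_injective g fun s t e => kMat_inj (by rw [← hm, ← hm, e])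
  simpa using this

theorem wgrp_eq : Wgrp = stab w0 := by
  refine Subgroup.eq_of_le_of_card_ge (fun g hg => hg.1) ?_
  rw [card_stab_w0, Subgroup.card_eq_card_quotient_mul_card_subgroup β.ker,
    Nat.card_congr (QuotientGroup.quotientKerEquivOfSurjective β beta_surjective).toEquiv, card_alt]
  have := card_ker_ge
  omega

theorem card_ker : Nat.card ↥β.ker = 16 := by
  have h := Subgroup.card_eq_card_quotient_mul_card_subgroup β.ker
  rw [Nat.card_congr (QuotientGroup.quotientKerEquivOfSurjective β beta_surjective).toEquiv, card_alt,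
    Nat.card_congr (MulEquiv.subgroupCongr wgrp_eq).toEquiv, card_stab_w0] at h
  omega

/-- The transposition of the pentads induced by the swap. -/
def tauP : Equiv.Perm (Fin 6) := Equiv.swap 3 4

theorem sigma_checks' : monoMat (Equiv.swap 0 1) 1 *ᵥ w0 = w0 ∧
    ∀ i k, Pt (tauP i) (monoMat (Equiv.swap 0 1) 1 *ᵥ pent i k) := by decide +kernel

theorem sigma_per : Per sigma tauP := per_of_mat rfl sigma_checks'.1 sigma_checks'.2

theorem sigma_w0 : act sigma w0 = w0 := sigma_checks'.1

theorem sigma_stab {g : S6} (hg : g ∈ stab w0) : sigma * g * sigma⁻¹ ∈ stab w0 :=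
  ⟨sigma_normal hg.1, by
    rw [inv_eq_of_mul_eq_one_right sigma_sq, act_mul, act_mul, sigma_w0, hg.2, sigma_w0]⟩

theorem alt_centraliser : ∀ ρ : Equiv.Perm (Fin 6),
    (∀ k : Fin 8, ρ * wPerm k = wPerm k * ρ) → ρ = 1 := by decide +kernel

/-- No element of the outer coset centralises the quotient. -/
theorem sigma_outer {k : S6} (hk : k ∈ stab w0)
    (h : ∀ x : ↥Wgrp, ∀ hc : sigma * k * x.1 * (sigma * k)⁻¹ * x.1⁻¹ ∈ Wgrp, β ⟨_, hc⟩ = 1) : False := by
  have hk' : k ∈ Wgrp := wgrp_eq ▸ hk
  set ρ : Equiv.Perm (Fin 6) := tauP * (β ⟨k, hk'⟩).1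
  have hsk : Per (sigma * k) ρ := sigma_per.mul (beta_per ⟨k, hk'⟩)
  have hinv : sigma * k⁻¹ * sigma⁻¹ ∈ Wgrp := wgrp_eq ▸ sigma_stab (inv_mem hk)
  have hinvp : Per (sigma * k)⁻¹ ρ⁻¹ := by
    obtain ⟨π, -, hπ⟩ := wgrp_spec ⟨_, hinv⟩
    have h1 : (sigma * k)⁻¹ = sigma⁻¹ * (sigma * k⁻¹ * sigma⁻¹) := by group
    have hs : Per sigma⁻¹ tauP := by rw [inv_eq_of_mul_eq_one_right sigma_sq]; exact sigma_per
    have h2 : Per (sigma * k)⁻¹ (tauP * π) := h1 ▸ hs.mul hπ
    have h3 := h2.mul hsk
    rw [inv_mul_cancel] at h3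
    rw [← eq_inv_of_mul_eq_one_left (per_one_eq h3)]
    exact h2
  have key : ∀ j, ρ * wPerm j = wPerm j * ρ := fun j => by
    have hx : wel j ∈ Wgrp := wel_mem j
    have hc : sigma * k * wel j * (sigma * k)⁻¹ * (wel j)⁻¹ ∈ Wgrp := by
      refine mul_mem ?_ (inv_mem hx)
      rw [show sigma * k * wel j * (sigma * k)⁻¹ = sigma * (k * wel j * k⁻¹) * sigma⁻¹ by group]
      exact wgrp_eq ▸ sigma_stab (wgrp_eq ▸ mul_mem (mul_mem hk' hx) (inv_mem hk') : _)
    have h1 := congrArg Subtype.val (h ⟨wel j, hx⟩ hc)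
    obtain ⟨π, -, hπ⟩ := wgrp_spec ⟨_, inv_mem hx⟩
    have hπ' : π = (wPerm j)⁻¹ := by
      have := hπ.mul (wel_per j)
      rw [inv_mul_cancel] at this
      exact eq_inv_of_mul_eq_one_left (per_one_eq this)
    subst hπ'
    rw [beta_eq hc (((hsk.mul (wel_per j)).mul hinvp).mul hπ)] at h1
    exact mul_inv_eq_iff_eq_mul.1 (mul_inv_eq_one.1 h1)
  have h1 := congrArg Equiv.Perm.sign (alt_centraliser ρ key)
  rw [map_one, show ρ = tauP * (β ⟨k, hk'⟩).1 from rfl, map_mul,
    Equiv.Perm.mem_alternatingGroup.1 (β ⟨k, hk'⟩).2, mul_one, tauP, Equiv.Perm.sign_swap (by decide)] at h1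
  exact absurd h1 (by decide)

/-- A normal two-subgroup acts trivially on the pentads. -/
theorem two_le_ker {N : Subgroup ↥Wgrp} (hN : N.Normal) (h2 : IsPGroup 2 ↥N) : N ≤ β.ker := by
  have : IsSimpleGroup ↥(alternatingGroup (Fin 6)) := alternatingGroup.isSimpleGroup (by simp)
  rw [← Subgroup.map_eq_bot_iff]
  refine (hN.map β beta_surjective).eq_bot_or_eq_top.resolve_right fun htop => ?_
  have hp := h2.map β
  rw [htop] at hp
  haveI : Fact (Nat.Prime 2) := ⟨Nat.prime_two⟩
  obtain ⟨n, hn⟩ := IsPGroup.iff_card.1 hp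
  rw [Subgroup.card_top, card_alt] at hn
  have : 5 ∣ 2 ^ n := hn ▸ (by norm_num)
  exact absurd (Nat.Prime.dvd_of_dvd_pow (by norm_num) this) (by norm_num)

end Cfsg.Agent.LargeFischer
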