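import Cfsg.Agent.Lib.LargeFischer.Coords
import Cfsg.Agent.Lib.LargeFischer.StabA
import Cfsg.Agent.Lib.LargeFischer.StabB

/-! The orbits and stabilisers of the group acting in coordinates. -/

set_option autoImplicit false
set_option maxRecDepth 100000

namespace Cfsg.Agent.LargeFischer

open Cfsg.Agent.RigidGraph.He Cfsg.Agent.U43InU62

variable {V R : Type*} [AddCommGroup V] [Group R] [Finite R] {W : Env V R}

namespace Env.Coords

variable (C : W.Coords)

/-- The coordinates as an equivalence. -/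
noncomputable def equiv : V6 ≃+ V := AddEquiv.ofBijective C.φ C.bij

/-- The action in coordinates. -/
noncomputable def r6 : R →* Equiv.Perm V6 := (C.equiv.toEquiv.symm.permCongrHom.toMonoidHom).comp W.ρ

theorem r6_spec (r : R) (v : V6) : C.φ (C.r6 r v) = W.ρ r (C.φ v) := C.equiv.apply_symm_apply _

theorem r6_injective : Function.Injective C.r6 :=
  (C.equiv.toEquiv.symm.permCongrHom.injective).comp W.inj

theorem r6_add (r : R) (u v : V6) : C.r6 r (u + v) = C.r6 r u + C.r6 r v := C.bij.1 (by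
  rw [r6_spec, map_add, W.radd, map_add, r6_spec, r6_spec])

theorem r6_wt (r : R) (v : V6) : wt (C.r6 r v) % 2 = wt v % 2 := by
  have h := W.qinv r (C.φ v)
  rw [← r6_spec, C.qφ, C.qφ] at h
  exact (ZMod.natCast_eq_natCast_iff' _ _ _).1 h

theorem r6_zero (r : R) : C.r6 r 0 = 0 := by
  have := C.r6_add r 0 0
  simpa using this

theorem r6_mul (a b : R) (v : V6) : C.r6 (a * b) v = C.r6 a (C.r6 b v) := by rw [map_mul]; rfl

theorem r6_one (v : V6) : C.r6 1 v = v := by rw [map_one]; rfl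

theorem r6_inv (a : R) (v : V6) : C.r6 a⁻¹ (C.r6 a v) = v := by rw [← r6_mul, inv_mul_cancel, r6_one]

theorem r6_ext {a b : R} (h : ∀ v, C.r6 a v = C.r6 b v) : a = b := C.r6_injective (Equiv.ext h)

theorem exists_act (k : ↥W.K) : ∃ g ∈ K0, ∀ v, C.r6 k.1 v = act g v := by
  obtain ⟨g, hg, h⟩ := C.to_K0 k
  exact ⟨g, hg, fun v => C.bij.1 (by rw [r6_spec]; exact h v)⟩

theorem exists_elt (g : ↥K0) : ∃ k : ↥W.K, ∀ v, C.r6 k.1 v = act g.1 v := by
  obtain ⟨k, h⟩ := C.of_K0 g.1 g.2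
  exact ⟨k, fun v => C.bij.1 (by rw [r6_spec]; exact h v)⟩

/-- The standard copy inside the group. -/
noncomputable def tau6 : ↥K0 →* R :=
  MonoidHom.mk' (fun g => (C.exists_elt g).choose.1) fun a b => C.r6_ext fun v => by
    rw [(C.exists_elt (a * b)).choose_spec, r6_mul, (C.exists_elt b).choose_spec, (C.exists_elt a).choose_spec]
    exact act_mul _ _ _

theorem tau6_spec (g : ↥K0) (v : V6) : C.r6 (C.tau6 g) v = act g.1 v := (C.exists_elt g).choose_spec v

theorem tau6_mem (g : ↥K0) : C.tau6 g ∈ W.K := (C.exists_elt g).choose.2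

theorem tau6_injective : Function.Injective C.tau6 := fun a b h => Subtype.ext (ext_bv fun j => by
  rw [← C.tau6_spec, h, C.tau6_spec])

theorem exists_tau6 {r : R} (hr : r ∈ W.K) : ∃ g : ↥K0, C.tau6 g = r := by
  obtain ⟨g, hg, h⟩ := C.exists_act ⟨r, hr⟩
  exact ⟨⟨g, hg⟩, C.r6_ext fun v => by rw [tau6_spec, h]⟩

include C in
theorem K_normal : W.K.Normal := Subgroup.normal_of_index_eq_two W.idxK

/-- The image of the short orbit is the short orbit. -/
theorem in1_r6 (r : R) {v : V6} (hv : In1 v) : In1 (C.r6 r v) := by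
  classical
  have h0 : C.r6 r v ≠ 0 := fun e => by
    have := congrArg (C.r6 r⁻¹) e
    rw [r6_inv, r6_zero] at this
    subst this
    rcases hv with h | ⟨h, -⟩ <;> rw [wt_zero] at h <;> omega
  have he : wt (C.r6 r v) % 2 = 0 := by
    rw [r6_wt]
    rcases hv with h | ⟨h, -⟩ <;> rw [h]
  refine (in_cases h0 he).resolve_right fun h2 => ?_
  have hsub : (Finset.univ.filter In2) ⊆ (Finset.univ.filter In1).image (C.r6 r) := fun y hy => by
    obtain ⟨g0, h0', e0⟩ := reach2 h2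
    obtain ⟨g1, h1', e1⟩ := reach2 (Finset.mem_filter.1 hy).2
    set g : ↥K0 := ⟨g1 * g0⁻¹, mul_mem h1' (inv_mem h0')⟩
    obtain ⟨g', hg'⟩ := C.exists_tau6 (C.K_normal.conj_mem' _ (C.tau6_mem g) r)
    refine Finset.mem_image.2 ⟨act g'.1 v, Finset.mem_filter.2 ⟨Finset.mem_univ _, in1_act g'.2 hv⟩, ?_⟩
    have hcancel : r * (r⁻¹ * C.tau6 g * r) = C.tau6 g * r := by group
    rw [← C.tau6_spec, hg', ← C.r6_mul, hcancel, C.r6_mul, C.tau6_spec]
    show act (g1 * g0⁻¹) (C.r6 r v) = y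
    rw [← e0, act_mul, ← act_mul g0⁻¹ g0, inv_mul_cancel, act_one, e1]
  have := (Finset.card_le_card hsub).trans Finset.card_image_le
  rw [card_orbits.1, card_orbits.2] at this
  omega

theorem in2_r6 (r : R) {v : V6} (hv : In2 v) : In2 (C.r6 r v) := by
  have h0 : C.r6 r v ≠ 0 := fun e => by
    have := congrArg (C.r6 r⁻¹) e
    rw [r6_inv, r6_zero] at this
    subst this
    rcases hv with h | ⟨h, -⟩ <;> rw [wt_zero] at h <;> omega
  have he : wt (C.r6 r v) % 2 = 0 := by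
    rw [r6_wt]
    rcases hv with h | ⟨h, -⟩ <;> rw [h]
  refine (in_cases h0 he).resolve_left fun h1 => ?_
  have := C.in1_r6 r⁻¹ h1
  rw [r6_inv] at this
  exact in_disjoint this hv

/-- The stabiliser of a vector. -/
def stab6 (y : V6) : Subgroup R where
  carrier := {r | C.r6 r y = y}
  one_mem' := C.r6_one y
  mul_mem' := fun {a b} ha hb => (C.r6_mul a b y).trans ((congrArg (C.r6 a) hb).trans ha)
  inv_mem' := fun {a} ha => (congrArg (C.r6 a⁻¹) ha).symm.trans (C.r6_inv a y)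

theorem mem_stab6 {y : V6} {r : R} : r ∈ C.stab6 y ↔ C.r6 r y = y := Iff.rfl

theorem stab6_move (c : R) (y : V6) :
    C.stab6 (C.r6 c y) = (C.stab6 y).map (MulAut.conj c).toMonoidHom := by
  ext r
  rw [Subgroup.mem_map_equiv, MulAut.conj_symm_apply, mem_stab6, mem_stab6, r6_mul, r6_mul]
  refine ⟨fun h => by rw [h, r6_inv], fun h => ?_⟩
  have := congrArg (C.r6 c) h
  rwa [← r6_mul, mul_inv_cancel, r6_one] at this

/-- The stabiliser in the standard copy, inside the group. -/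
noncomputable def iota (x : V6) : ↥(stab x) →* R := C.tau6.comp (Subgroup.inclusion fun g hg => hg.1)

theorem iota_spec (x : V6) (g : ↥(stab x)) (v : V6) : C.r6 (C.iota x g) v = act g.1 v := C.tau6_spec _ v

theorem iota_injective (x : V6) : Function.Injective (C.iota x) :=
  C.tau6_injective.comp (Subgroup.inclusion_injective _)

theorem iota_range (x : V6) : (C.iota x).range = W.K ⊓ C.stab6 x := by
  ext r
  rw [MonoidHom.mem_range, Subgroup.mem_inf]
  constructor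
  · rintro ⟨g, rfl⟩
    exact ⟨C.tau6_mem _, (C.iota_spec x g x).trans g.2.2⟩
  · rintro ⟨hr, hx⟩
    obtain ⟨g, rfl⟩ := C.exists_tau6 hr
    exact ⟨⟨g.1, g.2, (C.tau6_spec g x).symm.trans hx⟩, rfl⟩

theorem mul_mem_K {a b : R} (ha : a ∉ W.K) (hb : b ∉ W.K) : a * b ∈ W.K :=
  (Subgroup.mul_mem_iff_of_index_two W.idxK).2 (iff_of_false ha hb)

theorem card_le_two_mul (E : Subgroup R) : Nat.card ↥E ≤ 2 * Nat.card ↥(E ⊓ W.K) := by
  classical
  by_cases hE : E ≤ W.K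
  · rw [inf_eq_left.2 hE]; omega
  obtain ⟨a, ha, haK⟩ := SetLike.not_le_iff_exists.1 hE
  let f : ↥E → Fin 2 × ↥(E ⊓ W.K) := fun x =>
    if h : x.1 ∈ W.K then (0, ⟨x.1, x.2, h⟩)
    else (1, ⟨a⁻¹ * x.1, E.mul_mem (E.inv_mem ha) x.2, mul_mem_K (fun h' => haK (by simpa using W.K.inv_mem h')) h⟩)
  have hf : Function.Injective f := fun x y e => by
    by_cases hx : x.1 ∈ W.K <;> by_cases hy : y.1 ∈ W.K <;>
      simp only [f, hx, hy, dif_pos, dif_neg, not_false_eq_true, Prod.mk.injEq, Subtype.mk.injEq] at e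
    · exact Subtype.ext (congrArg (fun y : ↥(E ⊓ W.K) => y.1) e.2)
    · exact absurd e.1 (by decide)
    · exact absurd e.1 (by decide)
    · exact Subtype.ext (mul_left_cancel (congrArg (fun y : ↥(E ⊓ W.K) => y.1) e.2))
  have := Nat.card_le_card_of_injective f hf
  simpa [Nat.card_prod] using this

theorem card_stab_le (y : V6) : Nat.card ↥(C.stab6 y) ≤ 2 * Nat.card ↥(stab y) := by
  refine (card_le_two_mul (W := W) (C.stab6 y)).trans (Nat.mul_le_mul_left 2 (le_of_eq ?_))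
  rw [inf_comm, ← iota_range]
  exact (Nat.card_congr (MonoidHom.ofInjective (C.iota_injective y)).toEquiv).symm

/-- The part of a two-subgroup inside the copy, in the model. -/
theorem comap_le_ker {E : Subgroup R} (h2 : IsPGroup 2 ↥E)
    (hn : ∀ x ∈ C.stab6 w0, ∀ e ∈ E, x * e * x⁻¹ ∈ E) (g : ↥(stab w0)) (hg : C.iota w0 g ∈ E)
    (hw : g.1 ∈ Wgrp) : β ⟨g.1, hw⟩ = 1 := by
  let f : ↥Wgrp →* R := (C.iota w0).comp (MulEquiv.subgroupCongr wgrp_eq).toMonoidHom
  have hf : Function.Injective f := (C.iota_injective w0).comp (MulEquiv.injective _)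
  have hN : (E.comap f).Normal := ⟨fun n hn' x => by
    rw [Subgroup.mem_comap, map_mul, map_mul, map_inv]
    exact hn _ ((C.iota_range w0).le ⟨_, rfl⟩).2 _ hn'⟩
  exact MonoidHom.mem_ker.1 (two_le_ker hN (h2.comap_of_injective f hf) (show f ⟨g.1, hw⟩ ∈ E from hg))

theorem card_inf_le {E : Subgroup R} (h2 : IsPGroup 2 ↥E) (hE : E ≤ C.stab6 w0)
    (hn : ∀ x ∈ C.stab6 w0, ∀ e ∈ E, x * e * x⁻¹ ∈ E) : Nat.card ↥(E ⊓ W.K) ≤ 16 := by
  have hb : ∀ x : ↥(E ⊓ W.K), ∃ g : ↥β.ker, ∀ hw, C.iota w0 ⟨g.1.1, hw⟩ = x.1 := fun x => by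
    obtain ⟨g, hg⟩ : x.1 ∈ (C.iota w0).range := (C.iota_range w0).ge ⟨x.2.2, hE x.2.1⟩
    have hw : g.1 ∈ Wgrp := wgrp_eq.ge g.2
    exact ⟨⟨⟨g.1, hw⟩, MonoidHom.mem_ker.2 (C.comap_le_ker h2 hn g (by rw [hg]; exact x.2.1) hw)⟩, fun _ => hg⟩
  choose f hf using hb
  rw [← LargeFischer.card_ker]
  exact Nat.card_le_card_of_injective f fun x y e => Subtype.ext (by
    rw [← hf x (wgrp_eq.le (f x).1.2), ← hf y (wgrp_eq.le (f y).1.2)]
    exact congrArg (C.iota w0) (Subtype.ext (congrArg (fun t : ↥β.ker => t.1.1) e)))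

theorem outer_part {E : Subgroup R} (h2 : IsPGroup 2 ↥E) (h32 : 32 ≤ Nat.card ↥E)
    (hE : E ≤ C.stab6 w0) (hn : ∀ x ∈ C.stab6 w0, ∀ e ∈ E, x * e * x⁻¹ ∈ E) :
    Nat.card ↥E = 32 ∧ Nat.card ↥(E ⊓ W.K) = 16 ∧ ∃ e ∈ E, e ∉ W.K := by
  have h1 := C.card_inf_le h2 hE hn
  have h3 := card_le_two_mul (W := W) E
  refine ⟨by omega, by omega, ?_⟩
  by_contra hcon
  push Not at hcon
  rw [inf_eq_left.2 (show E ≤ W.K from hcon)] at h1
  omega

theorem long_at_w0 {E : Subgroup R} (h2 : IsPGroup 2 ↥E) (h32 : 32 ≤ Nat.card ↥E)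
    (hE : E ≤ C.stab6 w0) (hn : ∀ x ∈ C.stab6 w0, ∀ e ∈ E, x * e * x⁻¹ ∈ E) :
    Nat.card ↥E = 32 ∧ ∃ _ : (E.subgroupOf (C.stab6 w0)).Normal,
      Nonempty (↥(C.stab6 w0) ⧸ E.subgroupOf (C.stab6 w0) ≃* ↥(alternatingGroup (Fin 6))) := by
  obtain ⟨hc, hc16, e, he, heK⟩ := C.outer_part h2 h32 hE hn
  have hnor : (E.subgroupOf (C.stab6 w0)).Normal := ⟨fun n hn' x => hn x.1 x.2 n.1 hn'⟩
  refine ⟨hc, hnor, ?_⟩
  let f : ↥Wgrp →* ↥(C.stab6 w0) :=
    ((C.iota w0).comp (MulEquiv.subgroupCongr wgrp_eq).toMonoidHom).codRestrict _ fun g =>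
      ((C.iota_range w0).le ⟨_, rfl⟩).2
  let F := (QuotientGroup.mk' (E.subgroupOf (C.stab6 w0))).comp f
  have hFs : Function.Surjective F := fun y => by
    obtain ⟨x, rfl⟩ := QuotientGroup.mk'_surjective _ y
    have hx : ∃ n ∈ E, x.1 * n ∈ W.K := by
      by_cases hxK : x.1 ∈ W.K
      · exact ⟨1, one_mem _, by rwa [mul_one]⟩
      · exact ⟨e, he, mul_mem_K hxK heK⟩
    obtain ⟨n, hnE, hxn⟩ := hx
    obtain ⟨g, hg⟩ : x.1 * n ∈ (C.iota w0).range := (C.iota_range w0).ge ⟨hxn, mul_mem x.2 (hE hnE)⟩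
    refine ⟨(MulEquiv.subgroupCongr wgrp_eq).symm g, QuotientGroup.eq.2 (Subgroup.mem_subgroupOf.2 ?_)⟩
    show (C.iota w0 g)⁻¹ * x.1 ∈ E
    rw [hg, show (x.1 * n)⁻¹ * x.1 = n⁻¹ by group]
    exact inv_mem hnE
  have hFk : F.ker ≤ β.ker := fun g hg => by
    have hmem : C.iota w0 (MulEquiv.subgroupCongr wgrp_eq g) ∈ E :=
      Subgroup.mem_subgroupOf.1 ((QuotientGroup.eq_one_iff (N := E.subgroupOf (C.stab6 w0)) _).1 hg)
    exact MonoidHom.mem_ker.2 (C.comap_le_ker h2 hn _ hmem g.2)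
  have hcard : Nat.card ↥F.ker = 16 := by
    rw [← hc16]
    refine Nat.card_congr (Equiv.ofBijective
      (fun g => (⟨(f g.1).1, Subgroup.mem_subgroupOf.1 ((QuotientGroup.eq_one_iff _).1 g.2),
        ((C.iota_range w0).le ⟨_, rfl⟩).1⟩ : ↥(E ⊓ W.K))) ⟨fun a b hab => ?_, fun x => ?_⟩)
    · have h' : (f a.1).1 = (f b.1).1 := congrArg (fun y : ↥(E ⊓ W.K) => y.1) hab
      exact Subtype.ext ((MulEquiv.subgroupCongr wgrp_eq).injective (C.iota_injective w0 h'))
    · obtain ⟨g, hg⟩ : x.1 ∈ (C.iota w0).range := (C.iota_range w0).ge ⟨x.2.2, hE x.2.1⟩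
      exact ⟨⟨(MulEquiv.subgroupCongr wgrp_eq).symm g, (QuotientGroup.eq_one_iff _).2
        (Subgroup.mem_subgroupOf.2 (show C.iota w0 g ∈ E from hg.symm ▸ x.2.1))⟩, Subtype.ext hg⟩
  have hker : F.ker = β.ker := Subgroup.eq_of_le_of_card_ge hFk (by rw [hcard, LargeFischer.card_ker])
  exact ⟨((QuotientGroup.quotientKerEquivOfSurjective F hFs).symm.trans
    (QuotientGroup.quotientMulEquivOfEq hker)).trans (QuotientGroup.quotientKerEquivOfSurjective β beta_surjective)⟩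

/-- The stabiliser of a long vector. -/
theorem long_stab {y : V6} (hy : In2 y) {E : Subgroup R} (h2 : IsPGroup 2 ↥E) (h32 : 32 ≤ Nat.card ↥E)
    (hE : E ≤ C.stab6 y) (hn : ∀ x ∈ C.stab6 y, ∀ e ∈ E, x * e * x⁻¹ ∈ E) :
    Nat.card ↥E = 32 ∧ ∃ _ : (E.subgroupOf (C.stab6 y)).Normal,
      Nonempty (↥(C.stab6 y) ⧸ E.subgroupOf (C.stab6 y) ≃* ↥(alternatingGroup (Fin 6))) := by
  obtain ⟨g, hg, e⟩ := reach2 hy
  set c := C.tau6 ⟨g, hg⟩
  have hy' : C.stab6 y = (C.stab6 w0).map (MulAut.conj c).toMonoidHom := by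
    rw [← C.stab6_move, C.tau6_spec, e]
  set E0 := E.map (MulAut.conj c⁻¹).toMonoidHom with hE0
  have hb : ∀ x : R, x ∈ E0 ↔ c * x * c⁻¹ ∈ E := fun x => by
    refine Subgroup.mem_map_equiv.trans ?_
    rw [MulAut.conj_symm_apply, inv_inv]
  have hs : ∀ x : R, x ∈ C.stab6 y ↔ c⁻¹ * x * c ∈ C.stab6 w0 := fun x => by
    rw [hy']; exact Subgroup.mem_map_equiv.trans (by rw [MulAut.conj_symm_apply])
  have hcard : Nat.card ↥E0 = Nat.card ↥E :=
    Subgroup.card_map_of_injective (MulAut.conj c⁻¹).injective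
  obtain ⟨hc, hnor, ⟨q⟩⟩ := C.long_at_w0 (E := E0) (h2.map _) (by omega)
    (fun x hx => by
      have := (hs _).1 (hE ((hb x).1 hx))
      simpa [mul_assoc] using this)
    (fun x hx m hm => by
      rw [hb]
      have hx' : c * x * c⁻¹ ∈ C.stab6 y := (hs _).2 (by simpa [mul_assoc] using hx)
      have := hn _ hx' _ ((hb m).1 hm)
      simpa [mul_assoc] using this)
  have hnor' : (E.subgroupOf (C.stab6 y)).Normal := ⟨fun n hn' x => hn x.1 x.2 n.1 hn'⟩
  refine ⟨by omega, hnor', ⟨?_⟩⟩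
  let ψ0 : ↥(C.stab6 w0) ≃* ↥(C.stab6 y) :=
    (Subgroup.equivMapOfInjective _ _ (MulAut.conj c).injective).trans (MulEquiv.subgroupCongr hy'.symm)
  refine (QuotientGroup.congr (E0.subgroupOf (C.stab6 w0)) (E.subgroupOf (C.stab6 y)) ψ0 ?_).symm.trans q
  ext x
  refine Subgroup.mem_map_equiv.trans ?_
  rw [Subgroup.mem_subgroupOf, Subgroup.mem_subgroupOf, hb]
  have e1 : (x : R) = c * (ψ0.symm x : R) * c⁻¹ := by
    conv_lhs => rw [← ψ0.apply_symm_apply x]
    rfl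
  rw [← e1]

/-- A normal two-subgroup of the stabiliser of a short vector is tiny. -/
theorem short_card_le {y : V6} (hy : In1 y) {E : Subgroup R} (h2 : IsPGroup 2 ↥E) (hE : E ≤ C.stab6 y)
    (hn : ∀ x ∈ C.stab6 y, ∀ e ∈ E, x * e * x⁻¹ ∈ E) : Nat.card ↥E ≤ 2 := by
  obtain ⟨g, hg, e⟩ := reach1 hy
  obtain ⟨eq⟩ := stab_equiv
  obtain ⟨hcard, hsimp, -⟩ := UFourTwo.card_psu K4.card_K4
  -- transport the stabiliser of the standard vector
  let c : S0 ≃* ↥(stab y) :=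
    { toFun := fun x => ⟨g * x.1 * g⁻¹, mul_mem (mul_mem hg x.2.1) (inv_mem hg), by
        rw [← e, act_mul, act_mul, ← act_mul g⁻¹ g, inv_mul_cancel, act_one, x.2.2]⟩
      invFun := fun x => ⟨g⁻¹ * x.1 * g, mul_mem (mul_mem (inv_mem hg) x.2.1) hg, by
        rw [act_mul, act_mul, e, x.2.2, ← e, ← act_mul, inv_mul_cancel, act_one]⟩
      left_inv := fun x => Subtype.ext (by group)
      right_inv := fun x => Subtype.ext (by group)
      map_mul' := fun a b => Subtype.ext (by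
        show g * (a.1 * b.1) * g⁻¹ = g * a.1 * g⁻¹ * (g * b.1 * g⁻¹)
        group) }
  let f : Cfsg.PSU 4 K4 2 →* R := (C.iota y).comp (eq.symm.trans c).toMonoidHom
  have hf : Function.Injective f := (C.iota_injective y).comp (MulEquiv.injective _)
  have hN : (E.comap f).Normal := ⟨fun n hn' x => by
    rw [Subgroup.mem_comap, map_mul, map_mul, map_inv]
    exact hn _ ((C.iota_range y).le ⟨_, rfl⟩).2 _ hn'⟩
  have hbot : E.comap f = ⊥ := by
    have := hsimp
    refine hN.eq_bot_or_eq_top.resolve_right fun htop => ?_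
    haveI : Fact (Nat.Prime 2) := ⟨Nat.prime_two⟩
    obtain ⟨n, hn'⟩ := IsPGroup.iff_card.1 (h2.comap_of_injective f hf)
    rw [htop, Subgroup.card_top, hcard] at hn'
    exact absurd (Nat.Prime.dvd_of_dvd_pow (by norm_num) (show 5 ∣ 2 ^ n from hn' ▸ (by norm_num))) (by norm_num)
  have h1 : E ⊓ W.K = ⊥ := (Subgroup.eq_bot_iff_forall _).2 fun x hx => by
    obtain ⟨s, hs⟩ : x ∈ (C.iota y).range := (C.iota_range y).ge ⟨hx.2, hE hx.1⟩
    obtain ⟨t, rfl⟩ := (eq.symm.trans c).surjective s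
    have ht : t ∈ E.comap f := show f t ∈ E from (show f t = x from hs) ▸ hx.1
    rw [hbot, Subgroup.mem_bot] at ht
    rw [← hs, ht, map_one, map_one]
  have := card_le_two_mul (W := W) E
  rw [h1, Subgroup.card_bot] at this
  omega

theorem r6_semi (r : R) : (∀ (c : K4) v, C.r6 r (c • v) = c • C.r6 r v) ∨
    ∀ (c : K4) v, C.r6 r (c • v) = c ^ 2 • C.r6 r v := by
  have hp1 : (W.p : R) ∈ W.P := by
    have h : W.p ∈ W.θ.ker := MonoidHom.mem_ker.2 W.theta_p
    rw [W.ker] at h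
    exact h
  obtain ⟨n, hn⟩ := W.exists_pow (x := ⟨r * W.p * r⁻¹, W.PK (W.normalP.conj_mem _ hp1 r)⟩) (by
    rw [← MonoidHom.mem_ker, W.ker]; exact W.normalP.conj_mem _ hp1 r)
  have hn' : r * W.p * r⁻¹ = (W.p : R) ^ n := congrArg Subtype.val hn
  have key : ∀ (v : V6) (m : ℕ), C.r6 ((W.p : R) ^ m) v = K4.w ^ m • v := fun v m => by
    induction m with
    | zero => rw [pow_zero, pow_zero, r6_one, one_smul]
    | succ m ih =>
      rw [pow_succ', r6_mul, ih, pow_succ', ← smul_smul]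
      exact C.bij.1 (by rw [r6_spec, C.smul K4.w]; rfl)
  have hv : ∀ v, C.r6 r (K4.w • v) = K4.w ^ n • C.r6 r v := fun v => by
    rw [← key, ← hn', ← pow_one K4.w, ← key, pow_one, ← r6_mul, ← r6_mul]
    congr 2
    group
  have hn3 : K4.w ^ n = K4.w ^ (n % 3) := by
    conv_lhs => rw [← Nat.mod_add_div n 3, pow_add, pow_mul, show K4.w ^ 3 = 1 from rfl, one_pow, mul_one]
  have hne : n % 3 ≠ 0 := fun h => by
    have h1 := hv v0
    rw [hn3, h, pow_zero, one_smul] at h1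
    have h2 := congrArg (C.r6 r⁻¹) h1
    rw [r6_inv, r6_inv] at h2
    exact absurd (congrFun h2 0) (by decide +kernel)
  rcases (show n % 3 = 1 ∨ n % 3 = 2 by omega) with h | h
  · left
    rw [hn3, h] at hv
    intro c v
    cases c
    · show C.r6 r ((0 : K4) • v) = (0 : K4) • _
      rw [zero_smul, zero_smul, r6_zero]
    · show C.r6 r ((1 : K4) • v) = (1 : K4) • _
      rw [one_smul, one_smul]
    · exact hv v
    · rw [show (K4.v • v : V6) = K4.w • (K4.w • v) from (smul_smul K4.w K4.w v).symm, hv, hv, smul_smul]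
      rfl
  · right
    rw [hn3, h] at hv
    intro c v
    cases c
    · show C.r6 r ((0 : K4) • v) = ((0 : K4) ^ 2) • _
      rw [zero_smul, r6_zero, show ((0 : K4) ^ 2) = 0 from rfl, zero_smul]
    · show C.r6 r ((1 : K4) • v) = ((1 : K4) ^ 2) • _
      rw [one_pow, one_smul, one_smul]
    · exact hv v
    · rw [show (K4.v • v : V6) = K4.w • (K4.w • v) from (smul_smul K4.w K4.w v).symm, hv, hv, smul_smul]
      rfl

/-- The swap does not normalise suitably. -/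
theorem sigma_absent {u : R} (hu : ∀ v, C.r6 u v = act sigma v) {E : Subgroup R} (h2 : IsPGroup 2 ↥E)
    (h32 : 32 ≤ Nat.card ↥E) (hE : E ≤ C.stab6 w0) (hn : ∀ x ∈ C.stab6 w0, ∀ e ∈ E, x * e * x⁻¹ ∈ E) :
    False := by
  obtain ⟨-, -, e, he, heK⟩ := C.outer_part h2 h32 hE hn
  have huK : u ∉ W.K := fun h => by
    obtain ⟨g, hg⟩ := C.exists_tau6 h
    refine sigma_not_mem ?_
    have : g.1 = sigma := ext_bv fun j => by rw [← hu, ← hg, tau6_spec]
    exact this ▸ g.2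
  have huinv : ∀ v, C.r6 u⁻¹ v = act sigma v := fun v => by
    conv_lhs => rw [← act_one v, ← sigma_sq, act_mul, ← hu, r6_inv]
  obtain ⟨k, hk⟩ : u⁻¹ * e ∈ (C.iota w0).range := (C.iota_range w0).ge
    ⟨mul_mem_K (fun h => huK (by simpa using W.K.inv_mem h)) heK, show C.r6 (u⁻¹ * e) w0 = w0 by
      rw [r6_mul, (hE he : C.r6 e w0 = w0), huinv, sigma_w0]⟩
  have he' : e = u * C.iota w0 k := by rw [hk, mul_inv_cancel_left]
  refine sigma_outer k.2 fun x hc => ?_
  have hx : x.1 ∈ stab w0 := wgrp_eq.le x.2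
  have hc' : sigma * k.1 * x.1 * (sigma * k.1)⁻¹ * x.1⁻¹ ∈ stab w0 := wgrp_eq.le hc
  refine C.comap_le_ker h2 hn ⟨_, hc'⟩ ?_ hc
  have key : C.iota w0 ⟨_, hc'⟩ = e * C.iota w0 ⟨x.1, hx⟩ * e⁻¹ * (C.iota w0 ⟨x.1, hx⟩)⁻¹ := by
    refine C.r6_ext fun v => ?_
    rw [he', _root_.mul_inv_rev u (C.iota w0 k)]
    simp only [← map_inv (C.iota w0)]
    simp only [r6_mul, iota_spec, hu, huinv]
    simp only [← act_mul, InvMemClass.coe_inv, inv_eq_of_mul_eq_one_right sigma_sq, _root_.mul_inv_rev, mul_assoc]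
  rw [key, show e * C.iota w0 ⟨x.1, hx⟩ * e⁻¹ * (C.iota w0 ⟨x.1, hx⟩)⁻¹ =
    e * (C.iota w0 ⟨x.1, hx⟩ * e⁻¹ * (C.iota w0 ⟨x.1, hx⟩)⁻¹) by group]
  exact mul_mem he (hn _ ((C.iota_range w0).le ⟨_, rfl⟩).2 _ (inv_mem he))

/-- Only the identity centralises the stabiliser of the standard short vector. -/
theorem centralise_eq_one {E : Subgroup R} (h2 : IsPGroup 2 ↥E) (h32 : 32 ≤ Nat.card ↥E)
    (hE : E ≤ C.stab6 w0) (hn : ∀ x ∈ C.stab6 w0, ∀ e ∈ E, x * e * x⁻¹ ∈ E) {u : R} (hu : u ∈ C.stab6 v0)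
    (hc : ∀ g : S0, u * C.iota v0 g = C.iota v0 g * u) : u = 1 := by
  have inK : ∀ w : R, w ∈ W.K → w ∈ C.stab6 v0 → (∀ g : S0, w * C.iota v0 g = C.iota v0 g * w) → w = 1 := by
    intro w hw hw' hwc
    obtain ⟨s, rfl⟩ : w ∈ (C.iota v0).range := (C.iota_range v0).ge ⟨hw, hw'⟩
    obtain ⟨eq⟩ := stab_equiv
    obtain ⟨-, hsimp, -⟩ := UFourTwo.card_psu K4.card_K4
    have hcen : eq s ∈ Subgroup.center (Cfsg.PSU 4 K4 2) := Subgroup.mem_center_iff.2 fun y => by
      obtain ⟨t, rfl⟩ := eq.surjective y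
      rw [← map_mul, ← map_mul]
      exact congrArg eq (C.iota_injective v0 (by rw [map_mul, map_mul, hwc]))
    have : Subgroup.center (Cfsg.PSU 4 K4 2) = ⊥ := by
      have := hsimp
      refine (Subgroup.Normal.eq_bot_or_eq_top inferInstance).resolve_right fun h => ?_
      have hcc : ∀ a b : Cfsg.PSU 4 K4 2, a * b = b * a := fun a b => Subgroup.mem_center_iff.1 (h ▸ Subgroup.mem_top b) a
      let _ : CommGroup (Cfsg.PSU 4 K4 2) := { (inferInstance : Group (Cfsg.PSU 4 K4 2)) with mul_comm := hcc }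
      have h1 := IsSimpleGroup.prime_card (α := Cfsg.PSU 4 K4 2)
      rw [(UFourTwo.card_psu K4.card_K4).1] at h1
      norm_num at h1
    rw [this, Subgroup.mem_bot] at hcen
    rw [eq.map_eq_one_iff.1 hcen, map_one]
  by_cases huK : u ∈ W.K
  · exact inK u huK hu hc
  exfalso
  have hu2 : u * u = 1 := inK _ (mul_mem_K huK huK) (mul_mem hu hu) fun g => by
    rw [mul_assoc, hc, ← mul_assoc, hc, mul_assoc]
  have hcomm : ∀ (g : S0) v, C.r6 u (act g.1 v) = act g.1 (C.r6 u v) := fun g v => by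
    rw [← iota_spec C v0 g, ← r6_mul, hc, r6_mul, iota_spec]
  rcases C.r6_semi u with hl | hs
  · rcases linear_cases (C.r6_add u) hl (fun v => by rw [← r6_mul, hu2, r6_one]) hu (C.r6_wt u) hcomm with h | h
    · have : u = 1 := C.r6_ext fun v => by rw [h, r6_one]
      exact huK (this ▸ one_mem _)
    · exact C.sigma_absent h h2 h32 hE hn
  · exact no_semilinear (C.r6 u).injective hs hcomm

/-- The stabiliser of a short vector is the orthogonal group. -/
theorem short_stab {y : V6} (hy : In1 y) (h51840 : Nat.card ↥(C.stab6 y) = 51840) {E : Subgroup R}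
    (h2 : IsPGroup 2 ↥E) (h32 : 32 ≤ Nat.card ↥E)
    (hE : E ≤ C.stab6 w0) (hn : ∀ x ∈ C.stab6 w0, ∀ e ∈ E, x * e * x⁻¹ ∈ E) :
    Nonempty (↥(C.stab6 y) ≃* WE6Orth.O6) := by
  obtain ⟨g, hg, e⟩ := reach1 hy
  set c := C.tau6 ⟨g, hg⟩
  have hy' : C.stab6 y = (C.stab6 v0).map (MulAut.conj c).toMonoidHom := by
    rw [← C.stab6_move, C.tau6_spec, e]
  have hc0 : Nat.card ↥(C.stab6 v0) = 51840 := by
    rw [← h51840, hy', Subgroup.card_map_of_injective (MulAut.conj c).injective]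
  let S := (C.iota v0).range
  have hS : S ≤ C.stab6 v0 := (C.iota_range v0).le.trans inf_le_right
  let eS : S0 ≃* ↥S := MonoidHom.ofInjective (C.iota_injective v0)
  have hnormS : ∀ x : ↥(C.stab6 v0), ∀ s ∈ S, x.1 * s * x.1⁻¹ ∈ S := fun x s hs => by
    have h := (C.iota_range v0).le hs
    exact (C.iota_range v0).ge ⟨C.K_normal.conj_mem _ h.1 _, (C.stab6 v0).mul_mem ((C.stab6 v0).mul_mem x.2 h.2) ((C.stab6 v0).inv_mem x.2)⟩
  let cj : ↥(C.stab6 v0) →* MulAut ↥S :=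
    { toFun := fun x =>
        { toFun := fun s => ⟨x.1 * s.1 * x.1⁻¹, hnormS x s.1 s.2⟩
          invFun := fun s => ⟨x.1⁻¹ * s.1 * x.1, by simpa using hnormS x⁻¹ s.1 s.2⟩
          left_inv := fun s => Subtype.ext (by group)
          right_inv := fun s => Subtype.ext (by group)
          map_mul' := fun s t => Subtype.ext (by
            show x.1 * (s.1 * t.1) * x.1⁻¹ = x.1 * s.1 * x.1⁻¹ * (x.1 * t.1 * x.1⁻¹)
            group) }
      map_one' := MulEquiv.ext fun s => Subtype.ext (by show 1 * s.1 * 1⁻¹ = s.1; group)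
      map_mul' := fun a b => MulEquiv.ext fun s => Subtype.ext (by
        show (a.1 * b.1) * s.1 * (a.1 * b.1)⁻¹ = a.1 * (b.1 * s.1 * b.1⁻¹) * a.1⁻¹
        group) }
  have hinj : Function.Injective cj := (injective_iff_map_eq_one _).2 fun x hx =>
    Subtype.ext (C.centralise_eq_one h2 h32 hE hn x.2 fun s => mul_inv_eq_iff_eq_mul.1
      (congrArg (fun f : MulAut ↥S => (f (eS s)).1) hx))
  obtain ⟨a⟩ := aut_equiv
  have hbij : Function.Bijective cj := by
    refine (Nat.bijective_iff_injective_and_card _).2 ⟨hinj, ?_⟩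
    rw [hc0, Nat.card_congr ((MulAut.congr eS.symm).trans a).toEquiv, WE6Orth.card_O6]
  exact ⟨(MulEquiv.subgroupCongr hy').trans (((Subgroup.equivMapOfInjective _ _ (MulAut.conj c).injective).symm.trans
    (MulEquiv.ofBijective cj hbij)).trans ((MulAut.congr eS.symm).trans a))⟩

end Env.Coords

end Cfsg.Agent.LargeFischer
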