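import Cfsg.Prelude.Def_Transfer
import Cfsg.Agent.Lib.LargeFischer.Setting
import Cfsg.Agent.Lib.LargeFischer.Stabs
import Cfsg.Agent.Lib.LargeExtra.Basic

/-! Conjugates of the central involution inside Q for groups of large Fischer type. -/

set_option autoImplicit false
set_option maxRecDepth 100000

namespace Cfsg.Agent.LargeFischer

open Cfsg.Agent.RigidGraph.He Cfsg.Agent.U43InU62 Cfsg.Agent.LargeExtra
open Subgroup

variable {G : Type*} [Group G] [Finite G] {z : G} {Q : Subgroup ↥(centralizer ({z} : Set G))} [Q.Normal]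

/-- The coordinates of the centraliser. -/
structure Model (z : G) (Q : Subgroup ↥(centralizer ({z} : Set G))) [Q.Normal] where
  ctx : Ctx z Q
  env : Env (VQ Q) (↥(centralizer ({z} : Set G)) ⧸ Q)
  rho_eq : ∀ c : ↥(centralizer ({z} : Set G)), env.ρ (QuotientGroup.mk c) = ctx.rhoC c
  q_eq : env.q = Ctx.qV
  co : env.Coords

theorem exists_model (hF : Cfsg.IsOfLargeFischerTypeAt z Q) : Nonempty (Model z Q) := by
  obtain ⟨h, W, hρ, hq⟩ := exists_env hF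
  obtain ⟨C⟩ := W.exists_coords
  exact ⟨⟨h, W, hρ, hq, C⟩⟩

namespace Model

variable (D : Model z Q)

/-- The coordinates of an element of Q. -/
noncomputable def vec (x : ↥(QG Q)) : V6 := D.co.equiv.symm (mkV x)

theorem phi_vec (x : ↥(QG Q)) : D.co.φ (D.vec x) = mkV x := D.co.equiv.apply_symm_apply _

theorem vec_conj (c : ↥(centralizer ({z} : Set G))) (x : ↥(QG Q)) :
    D.vec (D.ctx.conjQ c x) = D.co.r6 (QuotientGroup.mk c) (D.vec x) := D.co.bij.1 (by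
  rw [D.co.r6_spec, D.phi_vec, D.phi_vec, D.rho_eq]
  rfl)

theorem vec_eq_iff {x y : ↥(QG Q)} : D.vec x = D.vec y ↔ (y : G) = x ∨ (y : G) = x * z :=
  D.co.equiv.symm.injective.eq_iff.trans D.ctx.mkV_eq_iff

theorem vec_surjective (v : V6) : ∃ x, D.vec x = v := by
  obtain ⟨x, hx⟩ := mkV_surjective (D.co.φ v)
  exact ⟨x, D.co.bij.1 (by rw [D.phi_vec, hx])⟩

theorem wt_vec (x : ↥(QG Q)) : wt (D.vec x) % 2 = 0 ↔ (x : G) * x = 1 := by
  have h := D.co.qφ (D.vec x)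
  rw [D.phi_vec, D.q_eq, D.ctx.qV_mk] at h
  constructor
  · intro he
    by_contra hne
    rw [Ctx.sq2, if_neg hne] at h
    have := (ZMod.natCast_eq_natCast_iff' 1 (wt (D.vec x)) 2).1 (by rw [Nat.cast_one]; exact h)
    omega
  · intro he
    rw [Ctx.sq2, if_pos he] at h
    have := (ZMod.natCast_eq_natCast_iff' 0 (wt (D.vec x)) 2).1 (by rw [Nat.cast_zero]; exact h)
    omega

theorem vec_eq_zero {x : ↥(QG Q)} : D.vec x = 0 ↔ (x : G) = 1 ∨ (x : G) = z := by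
  rw [← D.ctx.mkV_eq_zero]
  exact D.co.equiv.symm.map_eq_zero_iff

theorem vec_cases {x : ↥(QG Q)} (hx2 : (x : G) * x = 1) (h1 : (x : G) ≠ 1) (hz : (x : G) ≠ z) :
    In1 (D.vec x) ∨ In2 (D.vec x) :=
  in_cases (fun e => (D.vec_eq_zero.1 e).elim h1 hz) ((D.wt_vec x).2 hx2)

theorem conj_of_r6 {c : ↥(centralizer ({z} : Set G))} {x y : ↥(QG Q)}
    (h : D.co.r6 (QuotientGroup.mk c) (D.vec x) = D.vec y) (h1 : (y : G) ≠ 1) (hz : (y : G) ≠ z) :
    ∃ d : ↥(centralizer ({z} : Set G)), d.1 * x * d.1⁻¹ = y := by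
  rw [← D.vec_conj, D.vec_eq_iff] at h
  rcases h with e | e
  · exact ⟨c, e.symm⟩
  · obtain ⟨q, hq, hq'⟩ := D.ctx.xs.exists_conj y.2 h1 hz
    refine ⟨⟨q, D.ctx.xs.le_centralizer hq⟩ * c, ?_⟩
    show q * c.1 * x * (q * c.1)⁻¹ = y
    have e' : c.1 * (x : G) * c.1⁻¹ = y * z := by
      rw [e, mul_assoc _ z z, D.ctx.xs.sq, mul_one]
      rfl
    rw [show q * c.1 * (x : G) * (q * c.1)⁻¹ = q * (c.1 * x * c.1⁻¹) * q⁻¹ by group, e',
      show q * ((y : G) * z) * q⁻¹ = q * y * q⁻¹ * (q * z * q⁻¹) by group, hq', D.ctx.xs.comm hq,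
      show z * q * q⁻¹ = z by group, mul_assoc, D.ctx.xs.sq, mul_one]

theorem exists_r6_in1 {u v : V6} (hu : In1 u) (hv : In1 v) :
    ∃ c : ↥(centralizer ({z} : Set G)), D.co.r6 (QuotientGroup.mk c) u = v := by
  obtain ⟨g, hg, e⟩ := reach1 hu
  obtain ⟨g', hg', e'⟩ := reach1 hv
  obtain ⟨c, hc⟩ := QuotientGroup.mk'_surjective Q (D.co.tau6 ⟨g' * g⁻¹, mul_mem hg' (inv_mem hg)⟩)
  refine ⟨c, ?_⟩
  rw [show (QuotientGroup.mk c : ↥(centralizer ({z} : Set G)) ⧸ Q) = _ from hc, D.co.tau6_spec]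
  show act (g' * g⁻¹) u = v
  rw [← e, act_mul, ← act_mul g⁻¹ g, inv_mul_cancel, act_one, e']

theorem exists_r6_in2 {u v : V6} (hu : In2 u) (hv : In2 v) :
    ∃ c : ↥(centralizer ({z} : Set G)), D.co.r6 (QuotientGroup.mk c) u = v := by
  obtain ⟨g, hg, e⟩ := reach2 hu
  obtain ⟨g', hg', e'⟩ := reach2 hv
  obtain ⟨c, hc⟩ := QuotientGroup.mk'_surjective Q (D.co.tau6 ⟨g' * g⁻¹, mul_mem hg' (inv_mem hg)⟩)
  refine ⟨c, ?_⟩
  rw [show (QuotientGroup.mk c : ↥(centralizer ({z} : Set G)) ⧸ Q) = _ from hc, D.co.tau6_spec]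
  show act (g' * g⁻¹) u = v
  rw [← e, act_mul, ← act_mul g⁻¹ g, inv_mul_cancel, act_one, e']

/-- The stabiliser of the class of an involution is the image of its centraliser. -/
theorem exists_fix {x : ↥(QG Q)} (h1 : (x : G) ≠ 1) (hz : (x : G) ≠ z) {r : ↥(centralizer ({z} : Set G)) ⧸ Q}
    (hr : r ∈ D.co.stab6 (D.vec x)) :
    ∃ c : ↥(centralizer ({z} : Set G)), (QuotientGroup.mk c : _ ⧸ Q) = r ∧ c.1 * x = x * c.1 := by
  obtain ⟨c, rfl⟩ := QuotientGroup.mk'_surjective Q r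
  have h := (D.vec_conj c x).trans hr
  rw [D.vec_eq_iff] at h
  rcases h with e | e
  · exact ⟨c, rfl, mul_inv_eq_iff_eq_mul.1 e.symm⟩
  · obtain ⟨q, hq, hq'⟩ := D.ctx.xs.exists_conj x.2 h1 hz
    refine ⟨⟨q, D.ctx.xs.le_centralizer hq⟩ * c, ?_, ?_⟩
    · have hqQ : (⟨q, D.ctx.xs.le_centralizer hq⟩ : ↥(centralizer ({z} : Set G))) ∈ Q := by
        obtain ⟨q', hq'', e'⟩ := hq
        have : q' = (⟨q, D.ctx.xs.le_centralizer ⟨q', hq'', e'⟩⟩ : ↥(centralizer ({z} : Set G))) := Subtype.ext e'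
        exact this ▸ hq''
      rw [QuotientGroup.mk_mul, (QuotientGroup.eq_one_iff _).2 hqQ, one_mul]
      rfl
    · refine mul_inv_eq_iff_eq_mul.1 ?_
      show q * c.1 * x * (q * c.1)⁻¹ = x
      have e' : c.1 * (x : G) * c.1⁻¹ = x * z := by
        have e1 : (x : G) = c.1 * x * c.1⁻¹ * z := e
        calc c.1 * (x : G) * c.1⁻¹ = c.1 * x * c.1⁻¹ * (z * z) := by rw [D.ctx.xs.sq, mul_one]
          _ = (c.1 * x * c.1⁻¹ * z) * z := by group
          _ = x * z := by rw [← e1]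
      rw [show q * c.1 * (x : G) * (q * c.1)⁻¹ = q * (c.1 * x * c.1⁻¹) * q⁻¹ by group, e',
        show q * ((x : G) * z) * q⁻¹ = q * x * q⁻¹ * (q * z * q⁻¹) by group, hq', D.ctx.xs.comm hq,
        show z * q * q⁻¹ = z by group, mul_assoc, D.ctx.xs.sq, mul_one]

/-- The stabiliser of a class as an image. -/
theorem stab6_eq {x : ↥(QG Q)} (h1 : (x : G) ≠ 1) (hz : (x : G) ≠ z) :
    D.co.stab6 (D.vec x) = ((centralizer ({z} : Set G) ⊓ centralizer ({(x : G)} : Set G)).subgroupOf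
      (centralizer ({z} : Set G))).map (QuotientGroup.mk' Q) := by
  ext r
  constructor
  · intro hr
    obtain ⟨c, rfl, hc⟩ := D.exists_fix h1 hz hr
    exact ⟨c, mem_subgroupOf.2 ⟨c.2, mem_centralizer_one.2 hc⟩, rfl⟩
  · rintro ⟨c, hc, rfl⟩
    have h2 : c.1 * (x : G) = x * c.1 := mem_centralizer_one.1 (mem_subgroupOf.1 hc).2
    show D.co.r6 (QuotientGroup.mk c) (D.vec x) = D.vec x
    rw [← D.vec_conj]
    exact congrArg D.vec (Subtype.ext (mul_inv_eq_iff_eq_mul.2 h2))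

/-- The part of a conjugate of Q acting. -/
noncomputable def Eg (z : G) (Q : Subgroup ↥(centralizer ({z} : Set G))) [Q.Normal] (g : G) :
    Subgroup (↥(centralizer ({z} : Set G)) ⧸ Q) :=
  (((QG Q).map (MulAut.conj g).toMonoidHom ⊓ centralizer ({z} : Set G)).subgroupOf
    (centralizer ({z} : Set G))).map (QuotientGroup.mk' Q)

variable {g : G} {s : ↥(QG Q)} (hg : g * z * g⁻¹ = s) (hs : (s : G) ≠ z)

include D hg in
theorem s_ne_one : (s : G) ≠ 1 := fun e => D.ctx.xs.ne_one (conj_eq_one_iff.1 (hg.trans e))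

include D hg in
theorem xs' : XSLocal ((QG Q).map (MulAut.conj g).toMonoidHom) (s : G) := hg ▸ D.ctx.xs.conj g

include D hg hs in
theorem z_mem : z ∈ (QG Q).map (MulAut.conj g).toMonoidHom :=
  D.ctx.xs.mem_conj (by rw [D.ctx.card]; norm_num) (hg ▸ s.2) (hg ▸ hs)

include D hg hs in
theorem inf_elem : Cfsg.IsElementaryAbelian 2 (QG Q ⊓ (QG Q).map (MulAut.conj g).toMonoidHom) := by
  have h' := D.xs' hg
  have hne : (s : G) ≠ z := hs
  have h1 := D.s_ne_one hg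
  refine ⟨⟨⟨fun a b => Subtype.ext ?_⟩⟩, fun a ha => ?_⟩
  · rcases D.ctx.xs.comm_cases a.2.1 b.2.1 with e | e
    · exact commutatorElement_eq_one_iff_mul_comm.1 e
    · rcases h'.comm_cases a.2.2 b.2.2 with e' | e'
      · exact commutatorElement_eq_one_iff_mul_comm.1 e'
      · exact absurd (e'.symm.trans e) hne
  · rw [pow_two]
    rcases D.ctx.xs.sq_cases ha.1 with e | e
    · exact e
    · rcases h'.sq_cases ha.2 with e' | e'
      · exact e'
      · exact absurd (e'.symm.trans e) hne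

include D hg hs in
theorem card_inf_le : Nat.card ↥(QG Q ⊓ (QG Q).map (MulAut.conj g).toMonoidHom) ≤ 128 := by
  haveI : Fact (Nat.Prime 2) := ⟨Nat.prime_two⟩
  set R := QG Q ⊓ (QG Q).map (MulAut.conj g).toMonoidHom
  have hle : R ≤ QG Q := inf_le_left
  have := (D.inf_elem hg hs).1
  have hcomm : IsMulCommutative ↥(R.subgroupOf (QG Q)) := ⟨⟨fun a b => Subtype.ext (Subtype.ext
    (congrArg (fun y : ↥R => y.1) (this.1.1 (⟨a.1.1, a.2⟩ : ↥R) (⟨b.1.1, b.2⟩ : ↥R))))⟩⟩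
  have h1 := FGBasics.XS.card_abelian_sq_le D.ctx.xs.xs _ hcomm
  rw [Nat.card_congr (subgroupOfEquivOfLe hle).toEquiv, D.ctx.card] at h1
  nlinarith

include D hg hs in
theorem card_half : 4096 ≤ Nat.card ↥((QG Q).map (MulAut.conj g).toMonoidHom ⊓ centralizer ({z} : Set G)) := by
  haveI : Fact (Nat.Prime 2) := ⟨Nat.prime_two⟩
  set Q' := (QG Q).map (MulAut.conj g).toMonoidHom
  have h1 := FGBasics.XS.centralizer_index_le (D.xs' hg).xs ⟨z, D.z_mem hg hs⟩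
  have hc : Nat.card ↥Q' = 8192 := by rw [card_map_of_injective (MulAut.conj g).injective, D.ctx.card]
  have h2 := (centralizer ({⟨z, D.z_mem hg hs⟩} : Set ↥Q')).card_mul_index
  rw [hc] at h2
  have h3 : Nat.card ↥(centralizer ({⟨z, D.z_mem hg hs⟩} : Set ↥Q')) ≤ Nat.card ↥(Q' ⊓ centralizer ({z} : Set G)) :=
    Nat.card_le_card_of_injective (fun x => ⟨x.1.1, x.1.2, mem_centralizer_one.2
      (congrArg Subtype.val (mem_centralizer_singleton_iff.1 x.2))⟩) fun a b e =>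
      Subtype.ext (Subtype.ext (congrArg (fun y : ↥(Q' ⊓ centralizer ({z} : Set G)) => y.1) e))
  have h4 := Nat.mul_le_mul_left (Nat.card ↥(centralizer ({⟨z, D.z_mem hg hs⟩} : Set ↥Q'))) h1
  omega

theorem mem_Eg {r : ↥(centralizer ({z} : Set G)) ⧸ Q} :
    r ∈ Eg z Q g ↔ ∃ c : ↥(centralizer ({z} : Set G)), c.1 ∈ (QG Q).map (MulAut.conj g).toMonoidHom ∧
      (QuotientGroup.mk c : _ ⧸ Q) = r :=
  ⟨fun ⟨c, hc, e⟩ => ⟨c, (mem_subgroupOf.1 hc).1, e⟩, fun ⟨c, hc, e⟩ => ⟨c, mem_subgroupOf.2 ⟨hc, c.2⟩, e⟩⟩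

include D hg hs in
theorem card_le_Eg : 4096 ≤ Nat.card ↥(Eg z Q g) * Nat.card ↥(QG Q ⊓ (QG Q).map (MulAut.conj g).toMonoidHom) := by
  refine (D.card_half hg hs).trans ?_
  set T := (QG Q).map (MulAut.conj g).toMonoidHom ⊓ centralizer ({z} : Set G)
  set T0 := T.subgroupOf (centralizer ({z} : Set G))
  let f := (QuotientGroup.mk' Q).subgroupMap T0
  have hf : Function.Surjective f := (QuotientGroup.mk' Q).subgroupMap_surjective T0
  rw [← Nat.card_congr (subgroupOfEquivOfLe (show T ≤ centralizer ({z} : Set G) from inf_le_right)).toEquiv,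
    Subgroup.card_eq_card_quotient_mul_card_subgroup f.ker]
  refine Nat.mul_le_mul (le_of_eq (Nat.card_congr (QuotientGroup.quotientKerEquivOfSurjective f hf).toEquiv))
    (Nat.card_le_card_of_injective (fun x => ⟨x.1.1.1, ?_, (mem_subgroupOf.1 x.1.2).1⟩) ?_)
  · exact ⟨x.1.1, (QuotientGroup.eq_one_iff _).1 (congrArg Subtype.val (MonoidHom.mem_ker.1 x.2)), rfl⟩
  · exact fun a b e => Subtype.ext (Subtype.ext (Subtype.ext
      (congrArg (fun y : ↥(QG Q ⊓ (QG Q).map (MulAut.conj g).toMonoidHom) => y.1) e)))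

include D hg hs in
theorem Eg_ge : 32 ≤ Nat.card ↥(Eg z Q g) := by
  have h1 := D.card_le_Eg hg hs
  have h2 := D.card_inf_le hg hs
  have := Nat.mul_le_mul_left (Nat.card ↥(Eg z Q g)) h2
  omega

include D hg in
theorem Eg_le : Eg z Q g ≤ D.co.stab6 (D.vec s) := fun r hr => by
  obtain ⟨c, hc, rfl⟩ := mem_Eg.1 hr
  show D.co.r6 (QuotientGroup.mk c) (D.vec s) = D.vec s
  rw [← D.vec_conj]
  exact congrArg D.vec (Subtype.ext (mul_inv_eq_iff_eq_mul.2 ((D.xs' hg).comm hc)))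

include D hg hs in
theorem Eg_normal : ∀ x ∈ D.co.stab6 (D.vec s), ∀ e ∈ Eg z Q g, x * e * x⁻¹ ∈ Eg z Q g := by
  intro x hx e he
  obtain ⟨c, rfl, hc⟩ := D.exists_fix (D.s_ne_one hg) hs hx
  obtain ⟨d, hd, rfl⟩ := mem_Eg.1 he
  exact mem_Eg.2 ⟨c * d * c⁻¹, conj_mem ((D.xs' hg).norm (mem_centralizer_one.2 hc)) hd, rfl⟩

include D hg hs in
theorem Eg_sq : ∀ r ∈ Eg z Q g, r * r = 1 := by
  intro r hr
  obtain ⟨c, hc, rfl⟩ := mem_Eg.1 hr
  rw [← QuotientGroup.mk_mul, QuotientGroup.eq_one_iff]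
  have hq : c.1 * c.1 ∈ QG Q := by
    rcases (D.xs' hg).sq_cases hc with e | e <;> rw [e]
    exacts [one_mem _, s.2]
  obtain ⟨q, hq', e⟩ := hq
  have : q = c * c := Subtype.ext e
  exact this ▸ hq'

include D hg hs in
theorem Eg_two : IsPGroup 2 ↥(Eg z Q g) := fun x =>
  ⟨1, Subtype.ext (by rw [pow_one, pow_two]; exact D.Eg_sq hg hs x.1 x.2)⟩

include D hg hs in
theorem Eg_elem : Cfsg.IsElementaryAbelian 2 (Eg z Q g) := by
  refine ⟨⟨⟨fun a b => Subtype.ext ?_⟩⟩, fun a ha => by rw [pow_two]; exact D.Eg_sq hg hs a ha⟩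
  have inv_self : ∀ r ∈ Eg z Q g, r⁻¹ = r := fun r hr => inv_eq_of_mul_eq_one_right (D.Eg_sq hg hs r hr)
  show a.1 * b.1 = b.1 * a.1
  rw [← inv_self _ (mul_mem a.2 b.2), mul_inv_rev, inv_self _ a.2, inv_self _ b.2]

include D hg hs in
/-- Conjugates of the central involution lie over the long orbit. -/
theorem long : In2 (D.vec s) := by
  have h2 : (s : G) * s = 1 := by rw [← hg, show g * z * g⁻¹ * (g * z * g⁻¹) = g * (z * z) * g⁻¹ by group, D.ctx.xs.sq]; group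
  refine (D.vec_cases h2 (D.s_ne_one hg) hs).resolve_left fun h1 => ?_
  have ha := D.co.short_card_le h1 (D.Eg_two hg hs) (D.Eg_le hg) (D.Eg_normal hg hs)
  have hb := D.Eg_ge hg hs
  omega

end Model

/-- A conjugate of the central involution inside Q. -/
theorem exists_conjugate (hF : Cfsg.IsOfLargeFischerTypeAt z Q) :
    ∃ (g : G) (s : ↥(QG Q)), g * z * g⁻¹ = s ∧ (s : G) ≠ z := by
  obtain ⟨⟨-, -, -, -, g, ⟨hq, hmem⟩, hne⟩, -⟩ := hF
  exact ⟨g, ⟨g * z * g⁻¹, ⟨_, hmem, rfl⟩⟩, rfl, hne⟩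

namespace Model

variable (D : Model z Q)

theorem exists_at_w0 (hF : Cfsg.IsOfLargeFischerTypeAt z Q) :
    ∃ (g : G) (s : ↥(QG Q)), g * z * g⁻¹ = s ∧ (s : G) ≠ z ∧ D.vec s = w0 := by
  obtain ⟨g, s, hg, hs⟩ := exists_conjugate hF
  obtain ⟨c, hc⟩ := D.exists_r6_in2 (D.long hg hs) w0_in
  refine ⟨c.1 * g, D.ctx.conjQ c s, ?_, fun e => hs ?_, (D.vec_conj c s).trans hc⟩
  · show c.1 * g * z * (c.1 * g)⁻¹ = c.1 * s * c.1⁻¹
    rw [← hg]; group
  · have e' : c.1 * (s : G) * c.1⁻¹ = z := e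
    have h3 := mem_centralizer_one.1 c.2
    calc (s : G) = c.1⁻¹ * (c.1 * s * c.1⁻¹) * c.1 := by group
      _ = c.1⁻¹ * (z * c.1) := by rw [e']; group
      _ = z := by rw [← h3]; group

include D in
theorem card_R : Nat.card (↥(centralizer ({z} : Set G)) ⧸ Q) = 19595520 := by
  rw [← D.env.K.card_mul_index, D.env.idxK]
  have : Nat.card ↥D.env.K = 9797760 := by
    rw [← card_K0]
    refine (Nat.card_congr (Equiv.ofBijective (fun g : ↥K0 => (⟨D.co.tau6 g, D.co.tau6_mem g⟩ : ↥D.env.K))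
      ⟨fun a b e => D.co.tau6_injective (congrArg Subtype.val e), fun r => ?_⟩)).symm
    obtain ⟨g, hg⟩ := D.co.exists_tau6 r.2
    exact ⟨g, Subtype.ext hg⟩
  omega

theorem card_stab_in1 {y : V6} (hy : In1 y) : Nat.card ↥(D.co.stab6 y) = 51840 := by
  classical
  have hst : Nat.card ↥(stab y) = 25920 := by
    have h := card_stab_mul (x := y) (P := In1) (fun g hg => in1_act hg hy) fun w hw => by
      obtain ⟨a, ha, ea⟩ := reach1 hy
      obtain ⟨b, hb, eb⟩ := reach1 hw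
      exact ⟨b * a⁻¹, mul_mem hb (inv_mem ha), by rw [← ea, act_mul, ← act_mul a⁻¹ a, inv_mul_cancel, act_one, eb]⟩
    rw [card_orbits.1] at h; omega
  have h1 := D.co.card_stab_le y
  rw [hst] at h1
  let f : ↥(centralizer ({z} : Set G)) ⧸ Q → {v : V6 // In1 v} := fun r => ⟨D.co.r6 r y, D.co.in1_r6 r hy⟩
  have hfib : ∀ v, Nat.card {r // f r = v} ≤ Nat.card ↥(D.co.stab6 y) := fun v => by
    by_cases hv : ∃ r, f r = v
    · obtain ⟨r0, hr0⟩ := hv
      refine Nat.card_le_card_of_injective (fun r => ⟨r0⁻¹ * r.1, ?_⟩) fun a b e =>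
        Subtype.ext (mul_left_cancel (congrArg Subtype.val e))
      show D.co.r6 (r0⁻¹ * r.1) y = y
      have e : D.co.r6 r.1 y = D.co.r6 r0 y := congrArg Subtype.val (r.2.trans hr0.symm)
      rw [D.co.r6_mul, e, D.co.r6_inv]
    · have : IsEmpty {r // f r = v} := ⟨fun r => hv ⟨r.1, r.2⟩⟩
      simp
  have h2 : Nat.card (↥(centralizer ({z} : Set G)) ⧸ Q) ≤ 378 * Nat.card ↥(D.co.stab6 y) := by
    rw [← Nat.card_congr (Equiv.sigmaFiberEquiv f), Nat.card_sigma, ← card_orbits.1, ← Fintype.card_subtype]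
    exact (Finset.sum_le_sum fun v _ => hfib v).trans (by simp)
  rw [D.card_R] at h2
  omega

end Model

end Cfsg.Agent.LargeFischer
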