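import Cfsg.Agent.Lib.LargeFischer.Fusion
import Cfsg.Agent.Lib.LargeFischer.Linear
import Cfsg.Agent.Lib.LargeFischer.StabR

/-! Intersections of two conjugates of Q. -/

set_option autoImplicit false
set_option maxRecDepth 100000

namespace Cfsg.Agent.LargeFischer

open Cfsg.Agent.RigidGraph.He Cfsg.Agent.U43InU62 Cfsg.Agent.LargeExtra
open Subgroup
open scoped Matrix

variable {G : Type*} [Group G] [Finite G] {z : G} {Q : Subgroup ↥(centralizer ({z} : Set G))} [Q.Normal]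

/-- A conjugate of Q. -/
abbrev Qc (Q : Subgroup ↥(centralizer ({z} : Set G))) (g : G) : Subgroup G :=
  (QG Q).map (MulAut.conj g).toMonoidHom

omit [Q.Normal] in
theorem mem_Qc {g a : G} : a ∈ Qc Q g ↔ g⁻¹ * a * g ∈ QG Q := mem_conjMap

omit [Q.Normal] in
theorem Qc_mul {g a b : G} : b ∈ Qc Q (a * g) ↔ a⁻¹ * b * a ∈ Qc Q g := by
  rw [mem_Qc, mem_Qc, show (a * g)⁻¹ * b * (a * g) = g⁻¹ * (a⁻¹ * b * a) * g by group]

namespace Model

variable (D : Model z Q)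

include D in
theorem Qc_congr {g g' : G} (h : g * z * g⁻¹ = g' * z * g'⁻¹) : Qc Q g = Qc Q g' := by
  have hc : g⁻¹ * g' ∈ centralizer ({z} : Set G) := mem_centralizer_one.2 (by
    calc g⁻¹ * g' * z = g⁻¹ * (g' * z * g'⁻¹) * g' := by group
      _ = g⁻¹ * (g * z * g⁻¹) * g' := by rw [h]
      _ = z * (g⁻¹ * g') := by group)
  have hn := D.ctx.xs.norm hc
  ext a
  rw [mem_Qc, mem_Qc, Subgroup.mem_normalizer_iff.1 hn (g'⁻¹ * a * g'),
    show g⁻¹ * g' * (g'⁻¹ * a * g') * (g⁻¹ * g')⁻¹ = g⁻¹ * a * g by group]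

include D in
theorem card_meet0 {g : G} {s : ↥(QG Q)} (hg : g * z * g⁻¹ = s) (hs : (s : G) ≠ z) :
    Nat.card ↥(QG Q ⊓ Qc Q g) = 128 := by
  obtain ⟨h32, -⟩ := D.co.long_stab (D.long hg hs) (D.Eg_two hg hs) (D.Eg_ge hg hs) (D.Eg_le hg)
    (D.Eg_normal hg hs)
  have h1 : 4096 ≤ Nat.card ↥(Eg z Q g) * Nat.card ↥(QG Q ⊓ Qc Q g) := D.card_le_Eg hg hs
  have h2 : Nat.card ↥(QG Q ⊓ Qc Q g) ≤ 128 := D.card_inf_le hg hs
  rw [h32] at h1
  omega

omit [Q.Normal] in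
theorem map_meet (g k : G) : (QG Q ⊓ Qc Q k).map (MulAut.conj g).toMonoidHom = Qc Q g ⊓ Qc Q (g * k) := by
  ext a
  rw [Subgroup.mem_map_equiv, MulAut.conj_symm_apply, Subgroup.mem_inf, Subgroup.mem_inf, Qc_mul (g := k) (a := g),
    mem_Qc (g := g)]

variable {g h : G} (hb : h * z * h⁻¹ ∈ Qc Q g) (hne : h * z * h⁻¹ ≠ g * z * g⁻¹)

include D hb hne in
theorem rel_props : ∃ s : ↥(QG Q), (g⁻¹ * h) * z * (g⁻¹ * h)⁻¹ = s ∧ (s : G) ≠ z := by
  refine ⟨⟨g⁻¹ * (h * z * h⁻¹) * g, mem_Qc.1 hb⟩, by show _ = g⁻¹ * (h * z * h⁻¹) * g; group, fun e => hne ?_⟩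
  have e' : g⁻¹ * (h * z * h⁻¹) * g = z := e
  calc h * z * h⁻¹ = g * (g⁻¹ * (h * z * h⁻¹) * g) * g⁻¹ := by group
    _ = g * z * g⁻¹ := by rw [e']

include D hb hne in
theorem card_meet : Nat.card ↥(Qc Q g ⊓ Qc Q h) = 128 := by
  obtain ⟨s, hs, hsz⟩ := D.rel_props hb hne
  have := D.card_meet0 hs hsz
  rw [← card_map_of_injective (f := (MulAut.conj g).toMonoidHom) (MulAut.conj g).injective (K := QG Q ⊓ Qc Q (g⁻¹ * h))] at this
  rwa [show (QG Q ⊓ Qc Q (g⁻¹ * h)).map (MulAut.conj g).toMonoidHom = _ from map_meet g (g⁻¹ * h),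
    mul_inv_cancel_left] at this

include D hb hne in
theorem meet_elem : Cfsg.IsElementaryAbelian 2 (Qc Q g ⊓ Qc Q h) := by
  obtain ⟨s, hs, hsz⟩ := D.rel_props hb hne
  obtain ⟨hc, hp⟩ := D.inf_elem hs hsz
  have he : Qc Q g ⊓ Qc Q h = (QG Q ⊓ Qc Q (g⁻¹ * h)).map (MulAut.conj g).toMonoidHom := by
    rw [map_meet, mul_inv_cancel_left]
  rw [he]
  refine ⟨⟨⟨?_⟩⟩, ?_⟩
  · rintro ⟨_, a, ha, rfl⟩ ⟨_, b, hb', rfl⟩
    refine Subtype.ext ?_
    show (MulAut.conj g) a * (MulAut.conj g) b = (MulAut.conj g) b * (MulAut.conj g) a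
    rw [← map_mul, ← map_mul]
    exact congrArg _ (congrArg (fun y : ↥(QG Q ⊓ Qc Q (g⁻¹ * h)) => y.1) (hc.1.1 ⟨a, ha⟩ ⟨b, hb'⟩))
  · rintro _ ⟨a, ha, rfl⟩
    rw [← map_pow, hp a ha, map_one]

include D hb hne in
theorem mem_symm : g * z * g⁻¹ ∈ Qc Q h := by
  obtain ⟨s, hs, hsz⟩ := D.rel_props hb hne
  have := D.z_mem hs hsz
  rw [mem_conjMap] at this
  rw [mem_Qc, show h⁻¹ * (g * z * g⁻¹) * h = (g⁻¹ * h)⁻¹ * z * (g⁻¹ * h) by group]
  exact this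

include D hb hne in
theorem meet_third {k : G} (hk : k * z * k⁻¹ = g * z * g⁻¹ * (h * z * h⁻¹)) :
    Qc Q g ⊓ Qc Q h = Qc Q g ⊓ Qc Q k := by
  have hxs := D.ctx.xs.conj g
  have hb1 : h * z * h⁻¹ ≠ 1 := fun e => D.ctx.xs.ne_one (conj_eq_one_iff.1 e)
  obtain ⟨q, hq, hq'⟩ := hxs.exists_conj hb hb1 hne
  have hqk : (q * h) * z * (q * h)⁻¹ = k * z * k⁻¹ := by
    rw [hk, show q * h * z * (q * h)⁻¹ = q * (h * z * h⁻¹) * q⁻¹ by group, hq']
    exact hxs.comm hb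
  rw [← D.Qc_congr hqk]
  have hmem : g * z * g⁻¹ ∈ Qc Q g ⊓ Qc Q h := ⟨hxs.mem, D.mem_symm hb hne⟩
  have key : ∀ p ∈ Qc Q g, ∀ a ∈ Qc Q g ⊓ Qc Q h, p * a * p⁻¹ ∈ Qc Q g ⊓ Qc Q h := fun p hp a ha => by
    rcases hxs.conj_cases hp ha.1 with e | e <;> rw [e]
    · exact ha
    · exact mul_mem ha hmem
  ext a
  rw [Subgroup.mem_inf (p := Qc Q g) (p' := Qc Q (q * h)), Qc_mul (g := h) (a := q)]
  constructor
  · intro ha
    refine ⟨ha.1, ?_⟩
    have := key q⁻¹ ((Qc Q g).inv_mem hq) a ha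
    rw [inv_inv] at this
    exact this.2
  · rintro ⟨h1, h2⟩
    have := key q hq (q⁻¹ * a * q) ⟨(Qc Q g).mul_mem ((Qc Q g).mul_mem ((Qc Q g).inv_mem hq) h1) hq, h2⟩
    rwa [show q * (q⁻¹ * a * q) * q⁻¹ = a by group] at this

end Model

namespace Model

variable (D : Model z Q) {g : G} {s : ↥(QG Q)} (hg : g * z * g⁻¹ = s) (hs : (s : G) ≠ z) (hw : D.vec s = w0)

include D hg hs hw in
theorem ker_lift {n : S6} (hn : n ∈ Wgrp) (hb : β ⟨n, hn⟩ = 1) :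
    D.co.iota w0 ⟨n, wgrp_eq.le hn⟩ ∈ Eg z Q g := by
  have hE : Eg z Q g ≤ D.co.stab6 w0 := hw ▸ D.Eg_le hg
  have hnor := hw ▸ D.Eg_normal hg hs
  obtain ⟨-, h16, -⟩ := D.co.outer_part (D.Eg_two hg hs) (D.Eg_ge hg hs) hE hnor
  have hb' : ∀ x : ↥(Eg z Q g ⊓ D.env.K), ∃ m : ↥β.ker, D.co.iota w0 ⟨m.1.1, wgrp_eq.le m.1.2⟩ = x.1 := fun x => by
    obtain ⟨m, hm⟩ : x.1 ∈ (D.co.iota w0).range := (D.co.iota_range w0).ge ⟨x.2.2, hE x.2.1⟩
    exact ⟨⟨⟨m.1, wgrp_eq.ge m.2⟩, MonoidHom.mem_ker.2 (D.co.comap_le_ker (D.Eg_two hg hs) hnor m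
      (by rw [hm]; exact x.2.1) _)⟩, hm⟩
  choose f hf using hb'
  have hfi : Function.Injective f := fun x y e => Subtype.ext (by rw [← hf x, ← hf y, e])
  have hfb := (Nat.bijective_iff_injective_and_card f).2 ⟨hfi, by rw [h16, LargeFischer.card_ker]⟩
  obtain ⟨x, hx⟩ := hfb.2 ⟨⟨n, hn⟩, MonoidHom.mem_ker.2 hb⟩
  have := hf x
  rw [hx] at this
  exact this ▸ x.2.1

include D hg hs hw in
theorem vec_meet_mem (x : ↥(QG Q)) (hx : (x : G) ∈ Qc Q g) : InR (D.vec x) := by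
  intro k
  obtain ⟨c, hc, e⟩ := mem_Eg.1 (D.ker_lift hg hs hw (n := wel (Fin.castLE (by omega) k)) (wel_mem _) (wel_ker k))
  have h1 : D.vec (D.ctx.conjQ c x) = wMat (Fin.castLE (by omega) k) *ᵥ D.vec x := by
    rw [D.vec_conj, e, D.co.iota_spec, ← mat_wel]
    rfl
  rcases (D.xs' hg).conj_cases hc hx with e' | e'
  · left
    rw [← h1]
    exact congrArg D.vec (Subtype.ext e')
  · right
    rw [← h1, show D.ctx.conjQ c x = x * s from Subtype.ext e', ← hw]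
    apply D.co.bij.1
    rw [map_add, D.phi_vec, D.phi_vec, D.phi_vec, mkV_mul]

include D hg hs hw in
theorem vec_meet_surj {v : V6} (hv : InR v) : ∃ x : ↥(QG Q), (x : G) ∈ Qc Q g ∧ D.vec x = v := by
  classical
  let A := {x : ↥(QG Q) // (x : G) ∈ Qc Q g}
  have hA : Nat.card A = 128 := by
    rw [← D.card_meet0 hg hs]
    exact Nat.card_congr
      { toFun := fun x => ⟨x.1.1, x.1.2, x.2⟩
        invFun := fun x => ⟨⟨x.1, x.2.1⟩, x.2.2⟩
        left_inv := fun _ => rfl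
        right_inv := fun _ => rfl }
  let f : A → {v : V6 // InR v} := fun x => ⟨D.vec x.1, D.vec_meet_mem hg hs hw x.1 x.2⟩
  by_contra hcon
  push Not at hcon
  have hfib : ∀ u, Nat.card {x // f x = u} ≤ 2 := fun u => by
    by_cases hu : ∃ x, f x = u
    · obtain ⟨x0, hx0⟩ := hu
      have : ∀ x : {x // f x = u}, (x.1.1 : G) = x0.1 ∨ (x.1.1 : G) = x0.1 * z := fun x =>
        D.vec_eq_iff.1 (congrArg Subtype.val (hx0.trans x.2.symm))
      refine (Nat.card_le_card_of_injective (fun x => if (x.1.1 : G) = x0.1 then (0 : Fin 2) else 1) fun x y e => ?_).trans (by simp)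
      refine Subtype.ext (Subtype.ext (Subtype.ext ?_))
      by_cases h1 : (x.1.1 : G) = x0.1 <;> by_cases h2 : (y.1.1 : G) = x0.1 <;>
        simp only [h1, h2, if_true, if_false] at e
      · exact h1.trans h2.symm
      · exact absurd e (by decide)
      · exact absurd e (by decide)
      · exact ((this x).resolve_left h1).trans ((this y).resolve_left h2).symm
    · have : IsEmpty {x // f x = u} := ⟨fun r => hu ⟨r.1, r.2⟩⟩
      simp
  have h1 : Nat.card A < 2 * 64 := by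
    rw [← Nat.card_congr (Equiv.sigmaFiberEquiv f), Nat.card_sigma, ← card_InR, ← Fintype.card_subtype]
    refine lt_of_lt_of_le (Finset.sum_lt_sum (fun u _ => hfib u) ⟨⟨v, hv⟩, Finset.mem_univ _, ?_⟩) (by simp [mul_comm])
    have : IsEmpty {x // f x = (⟨v, hv⟩ : {v : V6 // InR v})} :=
      ⟨fun r => hcon r.1.1 r.1.2 (congrArg Subtype.val r.2)⟩
    simp
  omega

end Model

end Cfsg.Agent.LargeFischer
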