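import Cfsg.Agent.Lib.U43InU62.Group
import Mathlib.Data.ZMod.Basic

/-! Identities among monomial elements used for weight computations. -/

set_option autoImplicit false
set_option maxRecDepth 100000

namespace Cfsg.Agent.LargeFischer

open Cfsg.Agent.RigidGraph.He Cfsg.Agent.U43InU62

/-- The five diagonal generators as data. -/
def gd (i : Fin 5) : Dg := ⟨genDiag (Fin.castLE (by omega) i), genDiag_adm _⟩

/-- A diagonal precomposed with a permutation. -/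
def dperm (d : Dg) (π : Equiv.Perm (Fin 6)) : Dg :=
  ⟨fun j => d.1 (π j), fun j => d.2.1 _, by rw [Equiv.prod_comp π d.1, d.2.2]⟩

theorem gel_eq (i : Fin 5) : gel (Fin.castLE (by omega) i) = mel 1 (gd i) := by
  fin_cases i <;> rfl

theorem conj_diag (π : Equiv.Perm (Fin 6)) (d : Dg) :
    (mel π done)⁻¹ * mel 1 d * mel π done = mel 1 (dperm d π) := by
  rw [mul_assoc, inv_mul_eq_iff_eq_mul]
  refine ext_bv fun j => ?_
  rw [act_mul, act_mul, act_mel_bv, act_mel_bv, act_smul, act_smul, act_mel_bv, act_mel_bv]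
  simp [dperm, done]

theorem pm_mul (π π' : Equiv.Perm (Fin 6)) : mel π done * mel π' done = mel (π * π') done := by
  rw [mel_mul]
  exact congrArg _ (Subtype.ext (funext fun j => one_mul _))

/-- A diagonal as a word in the generators. -/
theorem mel_word (d : Dg) :
    mel 1 d = mel 1 (gd 0) ^ expo d.1 0 * mel 1 (gd 1) ^ expo d.1 1 * mel 1 (gd 2) ^ expo d.1 2 *
      mel 1 (gd 3) ^ expo d.1 3 * mel 1 (gd 4) ^ expo d.1 4 := by
  obtain ⟨e0, h0, k0⟩ := mel_pow (gd 0) (expo d.1 0)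
  obtain ⟨e1, h1, k1⟩ := mel_pow (gd 1) (expo d.1 1)
  obtain ⟨e2, h2, k2⟩ := mel_pow (gd 2) (expo d.1 2)
  obtain ⟨e3, h3, k3⟩ := mel_pow (gd 3) (expo d.1 3)
  obtain ⟨e4, h4, k4⟩ := mel_pow (gd 4) (expo d.1 4)
  obtain ⟨c1, g1, l1⟩ := mel_diag_mul e0 e1
  obtain ⟨c2, g2, l2⟩ := mel_diag_mul c1 e2
  obtain ⟨c3, g3, l3⟩ := mel_diag_mul c2 e3
  obtain ⟨c4, g4, l4⟩ := mel_diag_mul c3 e4
  have : d = c4 := Subtype.ext (funext fun k => by
    rw [l4, l3, l2, l1, k0, k1, k2, k3, k4]; exact expo_ok d k)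
  rw [h0, h1, h2, h3, h4, g1, g2, g3, g4, ← this]

/-- The exponent of a generator conjugated by a permutation, as a functional. -/
def cPerm (π : Equiv.Perm (Fin 6)) (k : Fin 5 → ZMod 3) (i : Fin 5) : ZMod 3 :=
  ∑ j, (expo (dperm (gd i) π).1 j : ZMod 3) * k j

/-- Twelve even permutations. -/
def twelve : List (Equiv.Perm (Fin 6)) :=
  [1,
  Equiv.swap 1 2 * Equiv.swap 2 3 * Equiv.swap 3 4 * Equiv.swap 4 5,
  Equiv.swap 1 3 * Equiv.swap 2 3 * Equiv.swap 3 5 * Equiv.swap 4 5,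
  Equiv.swap 1 5 * Equiv.swap 2 4 * Equiv.swap 3 5 * Equiv.swap 4 5,
  Equiv.swap 0 1 * Equiv.swap 2 4 * Equiv.swap 3 4 * Equiv.swap 4 5,
  Equiv.swap 0 1 * Equiv.swap 1 3 * Equiv.swap 2 5 * Equiv.swap 3 4,
  Equiv.swap 0 1 * Equiv.swap 1 4 * Equiv.swap 3 5 * Equiv.swap 4 5,
  Equiv.swap 0 2 * Equiv.swap 1 2 * Equiv.swap 2 5 * Equiv.swap 4 5,
  Equiv.swap 0 2 * Equiv.swap 1 4 * Equiv.swap 2 3 * Equiv.swap 3 4,
  Equiv.swap 0 2 * Equiv.swap 1 5 * Equiv.swap 2 5 * Equiv.swap 3 5,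
  Equiv.swap 0 3 * Equiv.swap 1 2 * Equiv.swap 2 5 * Equiv.swap 3 5,
  Equiv.swap 0 4 * Equiv.swap 1 2 * Equiv.swap 2 4 * Equiv.swap 3 5]

theorem twelve_sign : twelve.length = 12 ∧ ∀ π ∈ twelve, Equiv.Perm.sign π = 1 := by decide +kernel

/-- The code of a functional. -/
def kcode (k : Fin 5 → ZMod 3) : ℕ :=
  (k 0).val + 3 * (k 1).val + 9 * (k 2).val + 27 * (k 3).val + 81 * (k 4).val

theorem twelve_distinct' : ∀ a b c e f : ZMod 3, a + 2 * b + e + 2 * f = 0 →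
    ¬ (a = 0 ∧ b = 0 ∧ c = 0 ∧ e = 0 ∧ f = 0) →
    (twelve.map fun π => kcode (cPerm π ![a, b, c, e, f])).Nodup := by
  decide +kernel

theorem twelve_distinct {k : Fin 5 → ZMod 3} (h : k 0 + 2 * k 1 + k 3 + 2 * k 4 = 0) (hk : k ≠ 0) :
    (twelve.map fun π => cPerm π k).Nodup := by
  have he : k = ![k 0, k 1, k 2, k 3, k 4] := by funext i; fin_cases i <;> rfl
  have := twelve_distinct' (k 0) (k 1) (k 2) (k 3) (k 4) h (fun ⟨a, b, c, e, f⟩ => hk (by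
    funext i; fin_cases i <;> assumption))
  rw [← he] at this
  exact (List.Nodup.of_map kcode (by rw [List.map_map]; exact this))

/-- Permutations inverting one generator and moving another by it. -/
theorem pair_perm : ∀ i j : Fin 5, i ≠ j → ∃ π : Equiv.Perm (Fin 6), Equiv.Perm.sign π = 1 ∧
    ∃ e : Fin 3, ∀ x, (dperm (gd i) π).1 x = (gd i).1 x * (gd i).1 x ∧
      (dperm (gd j) π).1 x = (gd j).1 x * (gd i).1 x ^ (e : ℕ) := by
  decide +kernel

/-- The scalar diagonal. -/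
def scal : Dg := ⟨fun _ => K4.w, fun _ => (by decide : K4.w ≠ (0 : K4)), by decide +kernel⟩

theorem scal_expo : expo scal.1 0 = 1 ∧ expo scal.1 1 = 2 ∧ expo scal.1 2 = 0 ∧ expo scal.1 3 = 1 ∧
    expo scal.1 4 = 2 := by decide +kernel

theorem pm_mem {π : Equiv.Perm (Fin 6)} (h : Equiv.Perm.sign π = 1) : mel π done ∈ K0 :=
  N0_le_K0 (mem_N0.2 ⟨π, h, _, rfl⟩)

theorem diag_mem (d : Dg) : mel 1 d ∈ K0 := N0_le_K0 (mem_N0.2 ⟨1, map_one _, _, rfl⟩)

/-- The image of a diagonal generator is non-trivial. -/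
theorem psi_gd_ne : ψ ⟨mel 1 (gd 0), diag_mem _⟩ ≠ 1 := by
  intro h
  have : (⟨mel 1 (gd 0), diag_mem _⟩ : ↥K0) ∈ Z.subgroupOf K0 := psi_ker ▸ MonoidHom.mem_ker.2 h
  obtain ⟨d, hd, e⟩ := mem_Z_iff.1 (Subgroup.mem_subgroupOf.1 this)
  have e' := (mel_inj e).2
  rw [← e'] at hd
  exact absurd (hd 1) (by decide +kernel)

theorem psi_scal : ψ ⟨mel 1 scal, diag_mem _⟩ = 1 := by
  rw [← MonoidHom.mem_ker, psi_ker, Subgroup.mem_subgroupOf]
  exact scalar_central _ fun _ => rfl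

end Cfsg.Agent.LargeFischer
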