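import Cfsg.Agent.Lib.Components.FStar
import Cfsg.Agent.Lib.FischerPresented.OutSigma
import Cfsg.Agent.Lib.FischerPresented.Fi22
import Cfsg.Prelude.Def_Spor_Fi22

/-! A quasisimple subgroup of index two over Fi22 with central centraliser: the automorphism group on top. -/

set_option autoImplicit false
set_option maxHeartbeats 200000
set_option linter.style.haveILetI false

namespace Cfsg.Agent.LargeFischer.PairAut

open Subgroup
open Cfsg.Agent.CosetCert Cfsg.Agent.FischerPresented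

universe u

variable {X : Type u} [Group X]

theorem commute_of_central {K : Subgroup X} (hK : Group.IsPerfect ↥K) {s : X}
    (hs : ∀ k ∈ K, s * k * s⁻¹ * k⁻¹ ∈ (center ↥K).map K.subtype) : ∀ k ∈ K, Commute s k := by
  have hmem : ∀ k : ↥K, s * k * s⁻¹ * (k : X)⁻¹ ∈ K := fun k => by
    obtain ⟨c, -, e⟩ := hs k k.2
    exact e ▸ c.2
  let f : ↥K →* ↥(center ↥K) := MonoidHom.mk' (fun k => ⟨⟨s * k * s⁻¹ * (k : X)⁻¹, hmem k⟩, by
      obtain ⟨c, hc, e⟩ := hs k k.2
      exact (show c = ⟨_, hmem k⟩ from Subtype.ext e) ▸ hc⟩) fun a b => by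
    refine Subtype.ext (Subtype.ext ?_)
    obtain ⟨c, hc, e⟩ := hs b b.2
    have h : (c : X) * (a : X)⁻¹ = (a : X)⁻¹ * c := (congrArg Subtype.val (mem_center_iff.1 hc a⁻¹)).symm
    show s * ((a : X) * b) * s⁻¹ * ((a : X) * b)⁻¹ = (s * a * s⁻¹ * (a : X)⁻¹) * (s * b * s⁻¹ * (b : X)⁻¹)
    calc s * ((a : X) * b) * s⁻¹ * ((a : X) * b)⁻¹ = s * a * s⁻¹ * ((s * b * s⁻¹ * (b : X)⁻¹) * (a : X)⁻¹) := by group
      _ = s * a * s⁻¹ * ((a : X)⁻¹ * (s * b * s⁻¹ * (b : X)⁻¹)) := by
        rw [← show (c : X) = s * b * s⁻¹ * (b : X)⁻¹ from e, h]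
      _ = _ := by group
  intro k hk
  have h1 : commutator ↥K ≤ f.ker := by
    rw [commutator_def, commutator_le]
    intro a _ b _
    rw [MonoidHom.mem_ker, map_commutatorElement, commutatorElement_eq_one_iff_mul_comm]
    exact Subtype.ext (mem_center_iff.1 (f b).2 (f a : ↥K))
  rw [hK.commutator_eq_top] at h1
  have h3 : f ⟨k, hk⟩ = 1 := MonoidHom.mem_ker.1 (h1 (mem_top _))
  have h2 : s * k * s⁻¹ * k⁻¹ = 1 := congrArg (fun c : ↥(center ↥K) => ((c : ↥K) : X)) h3
  exact mul_inv_eq_iff_eq_mul.1 (mul_inv_eq_one.1 h2)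

/-- Automorphisms of a perfect group agreeing modulo the centre agree. -/
theorem aut_eq_of_central {K : Type u} [Group K] (hK : Group.IsPerfect K) {φ ψ : MulAut K}
    (h : ∀ k, (φ k)⁻¹ * ψ k ∈ center K) : φ = ψ := by
  have hc : ∀ a b, φ b * ((φ a)⁻¹ * ψ a) = ((φ a)⁻¹ * ψ a) * φ b := fun a b => mem_center_iff.1 (h a) (φ b)
  let f : K →* ↥(center K) := MonoidHom.mk' (fun k => ⟨(φ k)⁻¹ * ψ k, h k⟩) fun a b => by
    refine Subtype.ext ?_
    show (φ (a * b))⁻¹ * ψ (a * b) = (φ a)⁻¹ * ψ a * ((φ b)⁻¹ * ψ b)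
    calc (φ (a * b))⁻¹ * ψ (a * b) = (φ b)⁻¹ * (((φ a)⁻¹ * ψ a) * φ b) * ((φ b)⁻¹ * ψ b) := by
          rw [map_mul, map_mul]; group
      _ = _ := by rw [← hc a b]; group
  have h1 : commutator K ≤ f.ker := by
    rw [commutator_def, commutator_le]
    intro a _ b _
    rw [MonoidHom.mem_ker, map_commutatorElement, commutatorElement_eq_one_iff_mul_comm]
    exact Subtype.ext (mem_center_iff.1 (f b).2 (f a : K))
  rw [hK.commutator_eq_top] at h1
  refine MulEquiv.ext fun k => inv_mul_eq_one.1 ?_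
  exact congrArg Subtype.val (MonoidHom.mem_ker.1 (h1 (mem_top k)))

variable [Finite X]

theorem fstar_eq (K : Subgroup X) [K.Normal] (hidx : K.index = 2) (hqs : Cfsg.IsQuasisimple ↥K)
    (hcentr : ∀ x : X, (∀ k ∈ K, Commute x k) → x ∈ K) : Cfsg.generalizedFittingSubgroup X = K := by
  have hcomp : Cfsg.IsComponent K := ⟨Subgroup.Normal.isSubnormal inferInstance, hqs⟩
  have hlay : Cfsg.layer X = K := by
    refine le_antisymm (Components.layer_le_iff.2 fun L hL => ?_) (Components.component_le_layer hcomp)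
    rw [← Components.component_commutator_eq hL, Subgroup.commutator_le]
    intro a _ b _
    rw [commutatorElement_def]
    simp only [Subgroup.mul_mem_iff_of_index_two hidx, Subgroup.inv_mem_iff]
    tauto
  have hfit : Cfsg.fittingSubgroup X ≤ K := fun x hx => hcentr x fun k hk =>
    (mem_centralizer_iff.1 (Components.fitting_le_centralizer_layer hx) k (hlay.symm ▸ hk)).symm
  rw [Cfsg.generalizedFittingSubgroup, hlay, sup_eq_left.2 hfit]

theorem aut_top_full (Z K : Subgroup X) [hZn : Z.Normal] [K.Normal] (hidx : K.index = 2)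
    (hqs : Cfsg.IsQuasisimple ↥K) (hZK : Z ≤ K) (hZc : Z.subgroupOf K = center ↥K)
    (hcentr : ∀ x : X, (∀ k ∈ K, Commute x k) → x ∈ K) (θ : ↥K ⧸ Z.subgroupOf K ≃* Cfsg.Spor.Fi22) :
    Nonempty (X ⧸ Z ≃* MulAut Cfsg.Spor.Fi22) ∧
      ∀ φ : MulAut ↥K, ∃ c : X, ∀ k : ↥K, (φ k : X) = c * k * c⁻¹ := by
  haveI : Finite Cfsg.Spor.Fi22 := Fi22.order_facts.1
  set ZM := Z.subgroupOf K with hZM
  have hcen : (center ↥K).map K.subtype = Z := by rw [← hZc, map_subgroupOf_eq_of_le hZK]
  let act : X →* MulAut (↥K ⧸ ZM) :=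
    { toFun := fun c => QuotientGroup.congr ZM ZM (MulAut.conjNormal c) (by
        ext x
        rw [Subgroup.mem_map]
        constructor
        · rintro ⟨y, hy, rfl⟩
          rw [hZM, mem_subgroupOf] at hy ⊢
          exact hZn.conj_mem _ hy c
        · intro h
          refine ⟨MulAut.conjNormal c⁻¹ x, ?_, ?_⟩
          · rw [hZM, mem_subgroupOf] at h ⊢
            rw [MulAut.conjNormal_apply]
            exact hZn.conj_mem _ h c⁻¹
          · show MulAut.conjNormal c (MulAut.conjNormal c⁻¹ x) = x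
            rw [← MulAut.mul_apply, ← map_mul, mul_inv_cancel, map_one, MulAut.one_apply])
      map_one' := by
        ext x
        obtain ⟨x, rfl⟩ := QuotientGroup.mk'_surjective ZM x
        simp [QuotientGroup.congr_mk]
      map_mul' := fun a b => by
        ext x
        obtain ⟨x, rfl⟩ := QuotientGroup.mk'_surjective ZM x
        simp [QuotientGroup.congr_mk] }
  have hker : act.ker = Z := by
    ext c
    rw [MonoidHom.mem_ker]
    constructor
    · intro h
      have hcK : ∀ k ∈ K, Commute c k := commute_of_central hqs.1 fun k hk => by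
        have hx := congrArg (fun φ : MulAut (↥K ⧸ ZM) => φ (QuotientGroup.mk ⟨k⁻¹, inv_mem hk⟩)) h
        change QuotientGroup.mk (MulAut.conjNormal c _) = QuotientGroup.mk _ at hx
        rw [QuotientGroup.eq] at hx
        rw [hcen]
        simpa [mul_assoc] using mem_subgroupOf.1 hx
      rw [← hcen]
      exact ⟨⟨c, hcentr c hcK⟩, mem_center_iff.2 fun k => Subtype.ext (hcK k k.2).symm.eq, rfl⟩
    · intro hc'
      rw [← hcen] at hc'
      obtain ⟨z, hz, rfl⟩ := hc'
      ext x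
      obtain ⟨x, rfl⟩ := QuotientGroup.mk'_surjective ZM x
      show QuotientGroup.mk (MulAut.conjNormal (z : X) x) = QuotientGroup.mk x
      congr 1
      refine Subtype.ext ?_
      rw [MulAut.conjNormal_apply, mul_inv_eq_iff_eq_mul]
      exact (congrArg Subtype.val (mem_center_iff.1 hz x)).symm
  let act2 : X →* MulAut Cfsg.Spor.Fi22 := (MulAut.congr θ).toMonoidHom.comp act
  have hker2 : act2.ker = Z := by
    rw [← hker]
    ext x
    rw [MonoidHom.mem_ker, MonoidHom.mem_ker]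
    exact map_eq_one_iff _ (MulAut.congr θ).injective
  have hcard : Nat.card (X ⧸ Z) = 2 * 64561751654400 := by
    have h1 := Subgroup.card_eq_card_quotient_mul_card_subgroup Z
    have h2 := K.card_mul_index
    have h3 := Subgroup.card_eq_card_quotient_mul_card_subgroup ZM
    have hFi : Nat.card Cfsg.Spor.Fi22 = 64561751654400 := Fi22.order_facts.2.1
    rw [Nat.card_congr θ.toEquiv, hFi, hZM, Nat.card_congr (subgroupOfEquivOfLe hZK).toEquiv] at h3
    rw [hidx, h3] at h2
    have hpos : 0 < Nat.card ↥Z := Nat.card_pos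
    refine Nat.eq_of_mul_eq_mul_right hpos ?_
    omega
  have hinj2 : Function.Injective (QuotientGroup.lift Z act2 hker2.ge) := by
    rw [← MonoidHom.ker_eq_bot_iff, eq_bot_iff]
    intro q hq
    obtain ⟨q, rfl⟩ := QuotientGroup.mk'_surjective Z q
    rw [MonoidHom.mem_ker] at hq
    change act2 q = 1 at hq
    rw [← MonoidHom.mem_ker, hker2] at hq
    exact Subgroup.mem_bot.2 ((QuotientGroup.eq_one_iff q).2 hq)
  have hbij := hinj2.bijective_of_nat_card_le (hcard.symm ▸ Out22.card_aut_le)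
  refine ⟨⟨MulEquiv.ofBijective _ hbij⟩, fun φ => ?_⟩
  have hφc : ZM.map φ.toMonoidHom = ZM := by
    rw [hZc]
    exact characteristic_iff_map_eq.1 inferInstance φ
  obtain ⟨q, hq⟩ := hbij.2 ((MulAut.congr θ) (QuotientGroup.congr ZM ZM φ hφc))
  obtain ⟨c, rfl⟩ := QuotientGroup.mk'_surjective Z q
  change act2 c = _ at hq
  have hc : act c = QuotientGroup.congr ZM ZM φ hφc := (MulAut.congr θ).injective hq
  refine ⟨c, fun k => ?_⟩
  have he : φ = MulAut.conjNormal c := by
    refine aut_eq_of_central hqs.1 fun x => ?_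
    have hx : (QuotientGroup.mk (φ x) : ↥K ⧸ ZM) = QuotientGroup.mk (MulAut.conjNormal c x) :=
      (congrArg (fun a : MulAut (↥K ⧸ ZM) => a (QuotientGroup.mk x)) hc).symm
    rw [QuotientGroup.eq] at hx
    exact hZc.le hx
  rw [he, MulAut.conjNormal_apply]

theorem aut_top (Z K : Subgroup X) [Z.Normal] [K.Normal] (hidx : K.index = 2)
    (hqs : Cfsg.IsQuasisimple ↥K) (hZK : Z ≤ K) (hZc : Z.subgroupOf K = center ↥K)
    (hcentr : ∀ x : X, (∀ k ∈ K, Commute x k) → x ∈ K) (θ : ↥K ⧸ Z.subgroupOf K ≃* Cfsg.Spor.Fi22) :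
    Nonempty (X ⧸ Z ≃* MulAut Cfsg.Spor.Fi22) := (aut_top_full Z K hidx hqs hZK hZc hcentr θ).1

end Cfsg.Agent.LargeFischer.PairAut
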