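import Cfsg.Agent.Lib.LargeFischer.PairPerm

/-! The subgroup of index two of the centraliser of an involution of the four-group. -/

set_option autoImplicit false
set_option maxRecDepth 100000
set_option maxHeartbeats 200000
set_option synthInstance.maxSize 2000

namespace Cfsg.Agent.LargeFischer.Six

open Cfsg.Agent.RigidGraph.He Cfsg.Agent.U43InU62 Cfsg.Agent.LargeExtra Cfsg.Agent.LargeFischer.Big
open Subgroup

attribute [local irreducible] tm elN TT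

theorem piA_iso {u v : V6} (hu : piA u) (hv : piA v) : hf u v = 0 := by
  obtain ⟨a, b, c, rfl⟩ := hu
  obtain ⟨a', b', c', rfl⟩ := hv
  obtain ⟨x, hx, ex⟩ := vd_surj a b c
  obtain ⟨y, hy, ey⟩ := vd_surj a' b' c'
  rw [← ex, ← ey]
  exact vd_iso x hx y hy

variable {G : Type*} [Group G] [Finite G] {z : G} {Q : Subgroup ↥(centralizer ({z} : Set G))} [Q.Normal]

namespace Data

variable (S : Data z Q)

theorem exists_pr_index {r : S.Cb} (h2 : r * r = 1) : ∃ w : S.Cb, ∃ j < 2048, w * r * w⁻¹ = S.pr (S.eg j) := by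
  have hr : r ∈ S.R := S.R_top ▸ Subgroup.mem_top r
  obtain ⟨d, hd, he⟩ := S.exists_fixed hr h2
  obtain ⟨k, hk, rfl⟩ := InDR.exists_k S hd
  have hz : k⁻¹ * r * k * S.zb = S.zb * (k⁻¹ * r * k) := by
    calc k⁻¹ * r * k * S.zb = k⁻¹ * (r * (k * S.zb * k⁻¹) * r⁻¹) * r * k := by group
      _ = _ := by rw [he]; group
  obtain ⟨p, -, j, hj, e⟩ := S.exists_index hz (by
    rw [show k⁻¹ * r * k * (k⁻¹ * r * k) = k⁻¹ * (r * r) * k by group, h2]; group)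
  exact ⟨p * k⁻¹, j, hj, by rw [← e]; group⟩

/-- Involutions of the centraliser of the four-group are conjugate there into the large subgroup. -/
theorem inv_to_AG {y : G} (hy : y ∈ S.C) (h2 : y * y = 1) : ∃ a ∈ S.C, a * y * a⁻¹ ∈ AG S.cv := by
  obtain ⟨w, j, -, e⟩ := S.exists_pr_index (r := S.pr y) (by rw [← S.pr_mul hy hy, h2, S.pr_one])
  obtain ⟨a, ha, rfl⟩ := S.pr_surj w
  rw [← S.pr_conj ha hy] at e
  obtain ⟨f, hf, e'⟩ := (S.pr_eq_iff (S.eg_mem_C j) (mul_mem (mul_mem ha hy) (inv_mem ha))).1 e.symm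
  exact ⟨a, ha, e' ▸ mul_mem (S.B.eg_mem S.hc j) (S.E_le_AG hf)⟩

/-- Elements of Q in the large subgroup lie over the isotropic space. -/
theorem piA_of_AG {q : ↥(QG Q)} (hq : (q : G) ∈ AG S.cv) : piA (S.D.vec q) := by
  obtain ⟨i, hi, e⟩ := S.B.eg_surj S.hc hq
  have hk : i / 128 < 16 := by omega
  have hEl : S.B.El i = toC S.D q := Subtype.ext e
  have hk0 : i / 128 = 0 := by
    refine aK_eq_one hk (S.D.co.tau6_injective ?_)
    rw [map_one, ← S.B.mk_bp _ hk]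
    have hu : (QuotientGroup.mk (zel z ^ (i % 2) * uC S.cv (vd (i / 2 % 64))) : _ ⧸ Q) = 1 :=
      (QuotientGroup.eq_one_iff _).2 (mul_mem (pow_mem S.D.zel_mem _) (toC_mem S.D _))
    have h' : (QuotientGroup.mk (S.B.El i) : _ ⧸ Q) = 1 :=
      (QuotientGroup.eq_one_iff _).2 (hEl ▸ toC_mem S.D q)
    rwa [Basis.El, QuotientGroup.mk_mul, hu, one_mul] at h'
  have e2 : (q : G) = ((zq S.D ^ (i % 2) * uq S.cv (vd (i / 2)) : ↥(QG Q)) : G) := by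
    rw [← e, ← S.eg_small (Nat.mod_lt _ (by norm_num)) (by omega)]
    exact congrArg S.eg (Nat.mod_add_div i 2).symm
  rw [Subtype.ext e2, S.D.vec_mul, S.zk_pow, S.vec_zk, zero_add, vec_uq S.cv S.hc]
  exact vd_piA _

theorem sq_u {u : G} (h : u * u = 1) (g : G) : g * u * g⁻¹ * (g * u * g⁻¹) = 1 := by
  rw [show g * u * g⁻¹ * (g * u * g⁻¹) = g * (u * u) * g⁻¹ by group, h]; group

/-- The inner part of the local subgroup. -/
noncomputable def U : Subgroup G :=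
  ((MulAction.stabilizer (Equiv.Perm (Fin 24)) (0 : Fin 24) ⊓
    MulAction.stabilizer (Equiv.Perm (Fin 24)) (1 : Fin 24)).comap S.pi).map (MG S.cv).subtype

theorem mem_U {x : G} : x ∈ S.U ↔ ∃ h : x ∈ MG S.cv, S.pi ⟨x, h⟩ 0 = 0 ∧ S.pi ⟨x, h⟩ 1 = 1 := by
  constructor
  · rintro ⟨m, ⟨h0, h1⟩, rfl⟩
    exact ⟨m.2, h0, h1⟩
  · rintro ⟨h, h0, h1⟩
    exact ⟨⟨x, h⟩, ⟨h0, h1⟩, rfl⟩

theorem U_le_MT : S.U ≤ S.MT := fun x hx => by
  obtain ⟨h, h0, h1⟩ := S.mem_U.1 hx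
  exact ⟨h, S.mt_of_pi (m := ⟨x, h⟩) h0 h1⟩

/-- Sharing a member with the standard pair. -/
theorem to_four {b : G} (hb : b ∈ AG S.cv) (h1 : b ≠ 1) (hn1 : ¬ IsConj z b) (ht : b * S.eg 2 ≠ 1)
    (hn2 : ¬ IsConj z (b * S.eg 2)) : ∃ m ∈ S.MT, m * b * m⁻¹ = S.eg 4 := by
  obtain ⟨i, hi, rfl⟩ := S.B.eg_surj S.hc hb
  have hN : isN i = true := (S.hN i hi).2 ⟨fun e => h1 (by rw [e]; exact S.eg_nil), hn1⟩
  have h2 : nb (2 ^^^ i) = true := by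
    have hlt := eg_lt_xor (i := 2) (j := i) (by norm_num) hi
    rw [nb_spec _ hlt, S.hN _ hlt, Nat.xor_comm]
    change _ ∧ ¬ IsConj z (S.eg (i ^^^ 2))
    rw [S.eg_xor]
    refine ⟨fun e => ht ?_, hn2⟩
    change S.eg i * S.eg 2 = 1
    rw [← S.eg_xor, e, S.eg_nil]
  obtain ⟨p, hp, q, hq, hpq, rfl⟩ := pp_surj i hi hN
  obtain ⟨hp2, hq2⟩ := ppair_cases q hq p hpq h2
  show ∃ m ∈ S.MT, m * S.pe ⟨p, hp⟩ ⟨q, hq⟩ * m⁻¹ = _
  obtain ⟨o, ho, hop⟩ : ∃ o : Fin 24, (o.val < 2 ∧ o.val ≠ p) ∧ o.val = 1 - p :=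
    ⟨⟨1 - p, by omega⟩, ⟨by show 1 - p < 2; omega, by show 1 - p ≠ p; omega⟩, rfl⟩
  obtain ⟨m, ma, mb, mc⟩ := S.exists_three (a := ⟨p, hp⟩) (b := o) (c := ⟨q, hq⟩) (a' := 0) (b' := 1) (c' := 2)
    ⟨fun e => ho.2 (congrArg Fin.val e).symm, fun e => hpq.ne (congrArg Fin.val e), fun e => by
      have := congrArg Fin.val e
      simp only at this
      omega⟩ (by decide)
  have hfix : m.1 * S.pe 0 1 * m.1⁻¹ = S.pe 0 1 := by
    rw [S.pi_spec m (by decide)]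
    rcases (show p = 0 ∨ p = 1 by omega) with h | h <;> subst h
    · rw [show (⟨0, hp⟩ : Fin 24) = 0 from rfl] at ma
      rw [show o = 1 from Fin.ext hop] at mb
      rw [ma, mb]
    · rw [show (⟨1, hp⟩ : Fin 24) = 1 from rfl] at ma
      rw [show o = 0 from Fin.ext hop] at mb
      rw [ma, mb, S.pe_comm]
  refine ⟨m.1, ⟨m.2, S.mem_CT.2 ?_⟩, ?_⟩
  · rw [← S.pe_rep.1]
    exact mul_inv_eq_iff_eq_mul.1 hfix
  · rw [S.pi_spec m (fun e => hpq.ne (congrArg Fin.val e)), ma, mc, S.pe_rep.2.1]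

/-- Nothing conjugate to the element of Q lies in the inner part. -/
theorem swap_free {u : ↥(QG Q)} (hu : (u : G) ∈ S.MT) (hu2 : (u : G) * u = 1)
    (hu4 : ¬ (u : G) * S.eg 4 = S.eg 4 * u) (hn1 : ¬ IsConj z (u : G)) (hn2 : ¬ IsConj z ((u : G) * S.eg 2))
    {g : G} (hg : g ∈ S.CT) : g * u * g⁻¹ ∉ S.U := by
  intro hy
  obtain ⟨hyM, y0, y1⟩ := S.mem_U.1 hy
  set π := S.pi ⟨g * u * g⁻¹, hyM⟩ with hπ
  obtain ⟨x, hx0, hx1, hx⟩ := exists_third (π := π)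
    (by
      rw [hπ, ← map_mul, ← map_one S.pi]
      exact congrArg S.pi (Subtype.ext (sq_u hu2 g))) (S.pi_sign _) y0 y1
  obtain ⟨m, m0, m1, mx⟩ := S.exists_three (a := 0) (b := 1) (c := x) (a' := 0) (b' := 1) (c' := 2)
    ⟨by decide, hx0.symm, hx1.symm⟩ (by decide)
  set h := m.1 * g with hh
  have hhT : h ∈ S.CT := mul_mem (S.mt_of_pi m0 m1) hg
  have hyC : h * u * h⁻¹ ∈ S.C := by
    have e : m * ⟨g * u * g⁻¹, hyM⟩ * m⁻¹ = (⟨h * u * h⁻¹, by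
        rw [show h * (u : G) * h⁻¹ = m.1 * (g * u * g⁻¹) * m.1⁻¹ by rw [hh]; group]
        exact mul_mem (mul_mem m.2 hyM) (inv_mem m.2)⟩ : ↥(MG S.cv)) := Subtype.ext (by
      show m.1 * (g * u * g⁻¹) * m.1⁻¹ = h * u * h⁻¹
      rw [hh]; group)
    have hp : ∀ a b, S.pi m a = b → π a = a → S.pi (m * ⟨g * u * g⁻¹, hyM⟩ * m⁻¹) b = b := fun a b ha hb => by
      rw [map_mul, map_mul, map_inv, ← ha, Equiv.Perm.mul_apply, Equiv.Perm.inv_def, Equiv.symm_apply_apply,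
        Equiv.Perm.mul_apply]
      exact congrArg (S.pi m) hb
    have := S.c_of_pi (hp 0 0 m0 y0) (hp 1 1 m1 y1) (hp x 2 mx hx)
    rwa [e] at this
  obtain ⟨a, ha, hb⟩ := S.inv_to_AG hyC (sq_u hu2 h)
  set k₀ := a * h with hk₀
  have hk₀T : k₀ ∈ S.CT := mul_mem (S.C_le_CT ha) hhT
  have hct : k₀ * S.eg 2 * k₀⁻¹ = S.eg 2 := mul_inv_eq_iff_eq_mul.2 (S.mem_CT.1 hk₀T)
  have hb' : k₀ * (u : G) * k₀⁻¹ ∈ AG S.cv := by
    rwa [show k₀ * (u : G) * k₀⁻¹ = a * (h * u * h⁻¹) * a⁻¹ by rw [hk₀]; group]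
  have hu1 : (u : G) ≠ 1 := fun e => hu4 (by rw [e, one_mul, mul_one])
  have hbt : k₀ * (u : G) * k₀⁻¹ * S.eg 2 = k₀ * ((u : G) * S.eg 2) * k₀⁻¹ := by
    conv_lhs => rw [← hct]
    group
  obtain ⟨m', hm', em⟩ := S.to_four hb' (fun e => hu1 (conj_eq_one_iff.1 e)) (fun e => hn1 ((conj_iff k₀).1 e))
    (fun e => by
      rw [hbt, conj_eq_one_iff] at e
      refine hu4 ?_
      rw [eq_inv_of_mul_eq_one_left e]
      exact ((show Commute (S.eg 2) (S.eg 4) from S.eg_comm 2 4).inv_left).eq)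
    (fun e => hn2 (by rw [hbt] at e; exact (conj_iff k₀).1 e))
  set k₁ := m' * k₀ with hk₁
  have hk₁T : k₁ ∈ S.CT := mul_mem hm'.2 hk₀T
  have hk₁t : k₁ * S.eg 2 * k₁⁻¹ = S.eg 2 := mul_inv_eq_iff_eq_mul.2 (S.mem_CT.1 hk₁T)
  have hk₁u : k₁ * (u : G) * k₁⁻¹ = S.eg 4 := by rw [← em, hk₁]; group
  have hzu : z * (u : G) = u * z := (mem_centralizer_one.1 (S.D.ctx.xs.le_centralizer u.2)).symm
  have hzt : z * S.eg 2 = S.eg 2 * z :=
    comm_of_sq (AG_sq S.cv) (z_mem_AG S.cv) (S.B.eg_mem S.hc 2)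
  have hy0C : k₁ * z * k₁⁻¹ ∈ S.C := by
    refine S.mem_C.2 ⟨?_, ?_⟩
    · conv_lhs => rw [← hk₁t]
      conv_rhs => rw [← hk₁t]
      calc k₁ * z * k₁⁻¹ * (k₁ * S.eg 2 * k₁⁻¹) = k₁ * (z * S.eg 2) * k₁⁻¹ := by group
        _ = _ := by rw [hzt]; group
    · rw [← hk₁u]
      calc k₁ * z * k₁⁻¹ * (k₁ * (u : G) * k₁⁻¹) = k₁ * (z * u) * k₁⁻¹ := by group
        _ = _ := by rw [hzu]; group
  obtain ⟨a', ha', hA⟩ := S.inv_to_AG hy0C (sq_u S.D.ctx.xs.sq k₁)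
  set k := a' * k₁ with hk
  have hkz : k * z * k⁻¹ ∈ AG S.cv := by
    rwa [show k * z * k⁻¹ = a' * (k₁ * z * k₁⁻¹) * a'⁻¹ by rw [hk]; group]
  obtain ⟨n, hn, en⟩ := fusion S.cv S.hc S.hF (z_mem_AG S.cv) hkz
  set d := n⁻¹ * k with hd
  have hdz : d * z = z * d := by
    calc d * z = n⁻¹ * (k * z * k⁻¹) * k := by rw [hd]; group
      _ = z * d := by rw [← en, hd]; group
  set dH : ↥(centralizer ({z} : Set G)) := ⟨d, mem_centralizer_one.2 hdz⟩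
  have himg : ∀ x : G, k * x * k⁻¹ ∈ AG S.cv → d * x * d⁻¹ ∈ AG S.cv := fun x hx => by
    have := conj_mem_AG S.cv (inv_mem hn) hx
    rwa [show n⁻¹ * (k * x * k⁻¹) * n⁻¹⁻¹ = d * x * d⁻¹ by rw [hd]; group] at this
  have ht1 : d * S.eg 2 * d⁻¹ ∈ AG S.cv := himg _ (by
    rw [show k * S.eg 2 * k⁻¹ = a' * (k₁ * S.eg 2 * k₁⁻¹) * a'⁻¹ by rw [hk]; group, hk₁t,
      (S.mem_C.1 ha').1, mul_inv_cancel_right]
    exact S.B.eg_mem S.hc 2)
  have hs1 : d * (u : G) * d⁻¹ ∈ AG S.cv := himg _ (by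
    rw [show k * (u : G) * k⁻¹ = a' * (k₁ * u * k₁⁻¹) * a'⁻¹ by rw [hk]; group, hk₁u,
      (S.mem_C.1 ha').2, mul_inv_cancel_right]
    exact S.B.eg_mem S.hc 4)
  have e2 : S.eg 2 = (uq S.cv (bA 0) : G) := by rw [← vd_eight.2.1]; exact S.eg_even (x := 1) (by norm_num)
  have e4 : S.eg 4 = (uq S.cv (K4.w • bA 0) : G) := by
    rw [← vd_eight.2.2.1]; exact S.eg_even (x := 2) (by norm_num)
  have pt : piA (S.D.co.r6 (QuotientGroup.mk dH) (bA 0)) := by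
    have h := S.piA_of_AG (q := S.D.ctx.conjQ dH (uq S.cv (bA 0))) (by
      show d * (uq S.cv (bA 0) : G) * d⁻¹ ∈ AG S.cv
      rw [← e2]; exact ht1)
    rwa [S.D.vec_conj, vec_uq S.cv S.hc] at h
  have pu : piA (S.D.vec (S.D.ctx.conjQ dH u)) := S.piA_of_AG hs1
  have p4 : piA (S.D.vec (S.D.ctx.conjQ dH (uq S.cv (K4.w • bA 0)))) := by
    rw [S.D.vec_conj, vec_uq S.cv S.hc]
    rcases S.D.co.r6_semi (QuotientGroup.mk dH) with hh | hh <;> rw [hh] <;> exact piA_smul pt _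
  refine hu4 ?_
  have hcom := (S.comm_q (S.D.ctx.conjQ dH u) (S.D.ctx.conjQ dH (uq S.cv (K4.w • bA 0)))).2
    (by rw [piA_iso pu p4, piA_iso p4 pu, add_zero])
  change d * (u : G) * d⁻¹ * (d * (uq S.cv (K4.w • bA 0) : G) * d⁻¹) =
    d * (uq S.cv (K4.w • bA 0) : G) * d⁻¹ * (d * (u : G) * d⁻¹) at hcom
  rw [← e4] at hcom
  calc (u : G) * S.eg 4 = d⁻¹ * (d * (u : G) * d⁻¹ * (d * S.eg 4 * d⁻¹)) * d := by group
    _ = _ := by rw [hcom]; group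

/-- The large abelian subgroup puts a Sylow subgroup of the centraliser in the local subgroup. -/
theorem index_MT : ¬ 2 ∣ (S.MT.subgroupOf S.CT).index := by
  haveI : Fact (Nat.Prime 2) := ⟨Nat.prime_two⟩
  set M' := S.MT.subgroupOf S.CT with hM'
  obtain ⟨P⟩ : Nonempty (Sylow 2 ↥M') := inferInstance
  set P' := (P : Subgroup ↥M').map M'.subtype with hP'
  have hP'2 : IsPGroup 2 ↥P' := P.isPGroup'.map _
  obtain ⟨T, hT⟩ := hP'2.exists_le_sylow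
  suffices h : (T : Subgroup ↥S.CT) = P' by
    intro hd
    exact T.not_dvd_index (h ▸ hd.trans (Subgroup.index_dvd_of_le (Subgroup.map_subtype_le _)))
  set A' := ((AG S.cv).subgroupOf S.CT).subgroupOf M' with hA'
  haveI : A'.Normal := ⟨fun a ha m => by
    rw [hA', mem_subgroupOf, mem_subgroupOf] at ha ⊢
    exact conj_mem_AG S.cv (mem_subgroupOf.1 m.2).1 ha⟩
  have hp1 : IsPGroup 2 ↥(AG S.cv) := IsPGroup.of_card (n := 11) (by rw [card_AG S.cv S.hc]; norm_num)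
  have hA2 : IsPGroup 2 ↥A' := by
    refine hp1.of_injective (MonoidHom.mk' (fun a => (⟨a.1.1.1, a.2⟩ : ↥(AG S.cv))) fun _ _ => rfl) fun a b e => ?_
    exact Subtype.ext (Subtype.ext (Subtype.ext (congrArg Subtype.val e :)))
  have hAP : A' ≤ (P : Subgroup ↥M') := by
    have h := P.is_maximal' (hA2.to_sup_of_normal_left P.isPGroup') le_sup_right
    exact h ▸ le_sup_left
  refine le_antisymm ?_ hT
  by_contra hlt
  have hlt' : P'.subgroupOf (T : Subgroup ↥S.CT) < ⊤ := lt_top_iff_ne_top.2 fun e => hlt (subgroupOf_eq_top.1 e)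
  haveI : Group.IsNilpotent ↥(T : Subgroup ↥S.CT) := T.isPGroup'.isNilpotent
  obtain ⟨x, hxn, hxP⟩ := SetLike.exists_of_lt (normalizerCondition_of_isNilpotent _ hlt')
  have hnorm : ∀ p ∈ P', x.1 * p * x.1⁻¹ ∈ P' := fun p hp => by
    have := (Subgroup.mem_normalizer_iff.1 hxn ⟨p, hT hp⟩).1 (mem_subgroupOf.2 hp)
    exact mem_subgroupOf.1 this
  have hPG : IsPGroup 2 ↥(P'.map S.CT.subtype) := hP'2.map _
  have hAG : AG S.cv ≤ P'.map S.CT.subtype := fun a ha =>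
    ⟨⟨a, S.AG_le_CT ha⟩, ⟨⟨⟨a, S.AG_le_CT ha⟩, mem_subgroupOf.2 ⟨Subgroup.le_normalizer ha, S.AG_le_CT ha⟩⟩,
      hAP (by rw [hA', mem_subgroupOf, mem_subgroupOf]; exact ha), rfl⟩, rfl⟩
  have hxA : ∀ a ∈ AG S.cv, x.1.1 * a * x.1.1⁻¹ ∈ AG S.cv := fun a ha => by
    have h := unique_big S.cv S.hc S.hF hPG hAG (E := (AG S.cv).map (MulAut.conj x.1.1).toMonoidHom) (by
        rintro _ ⟨b, hb, rfl⟩
        obtain ⟨p, hp, e⟩ := hAG hb
        exact ⟨_, hnorm p hp, by rw [← e]; rfl⟩) (by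
        rintro _ ⟨b, hb, rfl⟩
        rw [← map_mul, AG_sq S.cv b hb, map_one])
      (by rw [card_map_of_injective (MulAut.conj x.1.1).injective, card_AG S.cv S.hc])
    exact h.le ⟨a, ha, rfl⟩
  have hxM : x.1 ∈ M' := mem_subgroupOf.2 ⟨Subgroup.mem_normalizer_iff.2 fun y => ⟨hxA y, fun hy => by
    obtain ⟨b, hb, e⟩ := (show AG S.cv ≤ (AG S.cv).map (MulAut.conj x.1.1).toMonoidHom from
      (Subgroup.eq_of_le_of_card_ge (by rintro _ ⟨b, hb, rfl⟩; exact hxA b hb)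
        (by rw [card_map_of_injective (K := AG S.cv) (f := (MulAut.conj x.1.1).toMonoidHom) (MulAut.conj x.1.1).injective])).ge) hy
    exact (MulAut.conj x.1.1).injective (show MulAut.conj x.1.1 b = MulAut.conj x.1.1 y from e) ▸ hb⟩, x.1.2⟩
  have hmax := P.is_maximal' (Q := (T : Subgroup ↥S.CT).subgroupOf M')
    (T.isPGroup'.of_injective (MonoidHom.mk' (fun a => (⟨a.1.1, a.2⟩ : ↥(T : Subgroup ↥S.CT))) fun _ _ => rfl)
      fun a b e => Subtype.ext (Subtype.ext (congrArg Subtype.val e :)))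
    (fun p hp => mem_subgroupOf.2 (hT ⟨p, hp, rfl⟩))
  exact hxP (mem_subgroupOf.2 ⟨⟨x.1, hxM⟩, hmax.le (mem_subgroupOf.2 x.2), rfl⟩)

theorem index_U {u : ↥(QG Q)} (hu : (u : G) ∈ S.MT) (hout : (u : G) ∉ S.U) :
    ∃ k, (S.U.subgroupOf S.CT).index = 2 * (2 * k + 1) := by
  set M' := S.MT.subgroupOf S.CT with hM'
  set U' := S.U.subgroupOf S.CT with hU'
  have hle : U' ≤ M' := fun x hx => mem_subgroupOf.2 (S.U_le_MT (mem_subgroupOf.1 hx))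
  have hswap : ∀ {x : G} (hx : x ∈ S.MT), x ∉ S.U → S.pi ⟨x, hx.1⟩ 0 = 1 ∧ S.pi ⟨x, hx.1⟩ 1 = 0 := fun hx hn =>
    (S.mt_cases (m := ⟨_, hx.1⟩) hx.2).resolve_left fun h => hn (S.mem_U.2 ⟨_, h⟩)
  have h2 : (U'.subgroupOf M').index = 2 := by
    refine Subgroup.index_eq_two_iff.2 ⟨⟨⟨(u : G), hu.2⟩, mem_subgroupOf.2 hu⟩, fun b => ?_⟩
    simp only [mem_subgroupOf, Subgroup.coe_mul, hU']
    have hb : b.1.1 ∈ S.MT := mem_subgroupOf.1 b.2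
    by_cases h : b.1.1 ∈ S.U
    · exact Or.inr ⟨h, fun e => hout ((Subgroup.mul_mem_cancel_left S.U h).1 e)⟩
    · refine Or.inl ⟨S.mem_U.2 ⟨(MG S.cv).mul_mem hb.1 hu.1, ?_⟩, h⟩
      obtain ⟨b0, b1⟩ := hswap hb h
      obtain ⟨u0, u1⟩ := hswap hu hout
      constructor
      · show S.pi (⟨b.1.1, hb.1⟩ * ⟨(u : G), hu.1⟩) 0 = 0
        rw [map_mul, Equiv.Perm.mul_apply, u0, b1]
      · show S.pi (⟨b.1.1, hb.1⟩ * ⟨(u : G), hu.1⟩) 1 = 1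
        rw [map_mul, Equiv.Perm.mul_apply, u1, b0]
  obtain ⟨k, hk⟩ : ∃ k, M'.index = 2 * k + 1 := ⟨M'.index / 2, by have := S.index_MT; rw [← hM'] at this; omega⟩
  exact ⟨k, by rw [← Subgroup.relIndex_mul_index hle, Subgroup.relIndex, h2, hk]⟩

/-- The sign of the action on the cosets of the inner part. -/
theorem exists_half : ∃ K : Subgroup ↥S.CT, K.index = 2 ∧ K.Normal ∧ S.C.subgroupOf S.CT ≤ K ∧
    S.U.subgroupOf S.CT ≤ K ∧ ∀ x : ↥S.CT, x ∈ K → x.1 * S.eg 4 * x.1⁻¹ ≠ S.eg 6 := by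
  classical
  obtain ⟨u, hu, hu2, hu4, hn1, hn2⟩ := S.exists_swap
  have hfree := fun {g : G} (hg : g ∈ S.CT) => S.swap_free hu hu2 hu4 hn1 hn2 hg
  have hout : (u : G) ∉ S.U := fun h => hfree (one_mem _) (by rwa [one_mul, inv_one, mul_one])
  obtain ⟨k, hk⟩ := S.index_U hu hout
  set U' := S.U.subgroupOf S.CT with hU'
  haveI : Fintype (↥S.CT ⧸ U') := Fintype.ofFinite _
  set χ : ↥S.CT →* ℤˣ := Equiv.Perm.sign.comp (MulAction.toPermHom ↥S.CT (↥S.CT ⧸ U')) with hχ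
  set uT : ↥S.CT := ⟨(u : G), hu.2⟩ with huT
  have hsgn : χ uT = -1 := by
    refine sign_free (k := k) (Ω := ↥S.CT ⧸ U') ?_ (fun q => ?_) (by
      rw [← Nat.card_eq_fintype_card]; exact hk)
    · rw [← map_mul, show uT * uT = 1 from Subtype.ext hu2, map_one]
    · obtain ⟨g, rfl⟩ := QuotientGroup.mk_surjective q
      show (QuotientGroup.mk (uT * g) : ↥S.CT ⧸ U') ≠ QuotientGroup.mk g
      intro e
      rw [QuotientGroup.eq] at e
      have h := mem_subgroupOf.1 (inv_mem e)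
      refine hfree (inv_mem g.2) ?_
      simp only [Subgroup.coe_mul, Subgroup.coe_inv, huT, mul_inv_rev, inv_inv] at h
      rw [inv_inv]
      rwa [← mul_assoc] at h
  have hidx : χ.ker.index = 2 := by
    refine Subgroup.index_eq_two_iff.2 ⟨uT, fun b => ?_⟩
    simp only [MonoidHom.mem_ker, map_mul, hsgn]
    rcases Int.units_eq_one_or (χ b) with e | e <;> rw [e] <;> decide
  haveI := Subgroup.normal_of_index_eq_two hidx
  have hCK : S.C.subgroupOf S.CT ≤ χ.ker := fun x hx => by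
    haveI := S.quasisimple.1
    have h : (⟨x.1, mem_subgroupOf.1 hx⟩ : ↥S.C) ∈ (χ.comp (Subgroup.inclusion S.C_le_CT)).ker :=
      Abelianization.commutator_subset_ker _ (by rw [Group.IsPerfect.commutator_eq_top]; trivial)
    exact h
  have hconjK : ∀ {x : G} (hx : x ∈ S.CT) (n : ↥S.CT), n.1 * x * n.1⁻¹ ∈ S.C → (⟨x, hx⟩ : ↥S.CT) ∈ χ.ker := by
    intro x hx n h
    have h1 : n * ⟨x, hx⟩ * n⁻¹ ∈ χ.ker := hCK (mem_subgroupOf.2 h)
    have := Subgroup.Normal.conj_mem inferInstance _ h1 n⁻¹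
    rwa [inv_inv, show n⁻¹ * (n * ⟨x, hx⟩ * n⁻¹) * n = (⟨x, hx⟩ : ↥S.CT) by group] at this
  have hUK : U' ≤ χ.ker := by
    intro x hx
    obtain ⟨hxM, x0, x1⟩ := S.mem_U.1 (mem_subgroupOf.1 hx)
    set v := S.pi ⟨x.1, hxM⟩ 2 with hv
    by_cases h2 : v = 2
    · exact hCK (mem_subgroupOf.2 (S.c_of_pi (m := ⟨x.1, hxM⟩) x0 x1 h2))
    have hv0 : v ≠ 0 := fun e => absurd ((S.pi ⟨x.1, hxM⟩).injective (e.trans x0.symm)) (by decide)
    have hv1 : v ≠ 1 := fun e => absurd ((S.pi ⟨x.1, hxM⟩).injective (e.trans x1.symm)) (by decide)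
    obtain ⟨y, -, hy, -, -⟩ := exists_pts {0, 1, 2, v} (lt_of_le_of_lt Finset.card_le_four (by norm_num))
    simp only [Finset.mem_insert, Finset.mem_singleton, not_or] at hy
    obtain ⟨hy0, hy1, hy2, hyv⟩ := hy
    obtain ⟨g, g0, g1, gy, g2⟩ := S.exists_four (a := 0) (b := 1) (c := y) (d := 2) (a' := 0) (b' := 1) (c' := y) (d' := v)
      ⟨by decide, Ne.symm hy0, by decide, Ne.symm hy1, by decide, hy2⟩
      ⟨by decide, Ne.symm hy0, Ne.symm hv0, Ne.symm hy1, Ne.symm hv1, hyv⟩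
    obtain ⟨n, n0, n1, ny⟩ := S.exists_three (a := 0) (b := 1) (c := y) (a' := 0) (b' := 1) (c' := 2)
      ⟨by decide, Ne.symm hy0, Ne.symm hy1⟩ (by decide)
    have gK : (⟨g.1, S.mt_of_pi g0 g1⟩ : ↥S.CT) ∈ χ.ker := by
      refine hconjK _ ⟨n.1, S.mt_of_pi n0 n1⟩ ?_
      have hp : ∀ a b, S.pi n a = b → S.pi g a = a → S.pi (n * g * n⁻¹) b = b := fun a b ha hb => by
        rw [map_mul, map_mul, map_inv, ← ha, Equiv.Perm.mul_apply, Equiv.Perm.inv_def, Equiv.symm_apply_apply,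
          Equiv.Perm.mul_apply, hb]
      exact S.c_of_pi (m := n * g * n⁻¹) (hp 0 0 n0 g0) (hp 1 1 n1 g1) (hp y 2 ny gy)
    have hinv : ∀ a b, S.pi g a = b → S.pi ⟨x.1, hxM⟩ a = b → S.pi (g⁻¹ * ⟨x.1, hxM⟩) a = a := fun a b ha hb => by
      rw [map_mul, map_inv, Equiv.Perm.mul_apply, hb, ← ha, Equiv.Perm.inv_def, Equiv.symm_apply_apply]
    have hc' : (⟨g.1, S.mt_of_pi g0 g1⟩ : ↥S.CT)⁻¹ * x ∈ χ.ker :=
      hCK (mem_subgroupOf.2 (S.c_of_pi (m := g⁻¹ * ⟨x.1, hxM⟩) (hinv 0 0 g0 x0) (hinv 1 1 g1 x1) (hinv 2 v g2 rfl)))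
    have := mul_mem gK hc'
    rwa [mul_inv_cancel_left] at this
  refine ⟨χ.ker, hidx, inferInstance, hCK, hUK, fun x hx e => ?_⟩
  obtain ⟨σ, s0, s1, s2⟩ := S.exists_three (a := 0) (b := 1) (c := 2) (a' := 1) (b' := 0) (c' := 2) (by decide) (by decide)
  have hσT : σ.1 ∈ S.CT := S.mem_CT.2 (mul_inv_eq_iff_eq_mul.1 (by
    rw [← S.pe_rep.1, S.pi_spec σ (by decide), s0, s1, S.pe_comm]))
  set σT : ↥S.CT := ⟨σ.1, hσT⟩ with hσ
  have hσe : σ.1 * S.eg 4 * σ.1⁻¹ = S.eg 6 := by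
    rw [← S.pe_rep.2.1, S.pi_spec σ (by decide), s0, s2, S.pe_rep.2.2]
  have hσK : σT ∈ χ.ker := by
    have hC : σT⁻¹ * x ∈ χ.ker := by
      refine hCK (mem_subgroupOf.2 (S.mem_C.2 ⟨S.mem_CT.1 (σT⁻¹ * x).2, mul_inv_eq_iff_eq_mul.1 ?_⟩))
      show σ.1⁻¹ * x.1 * S.eg 4 * (σ.1⁻¹ * x.1)⁻¹ = S.eg 4
      rw [show σ.1⁻¹ * x.1 * S.eg 4 * (σ.1⁻¹ * x.1)⁻¹ = σ.1⁻¹ * (x.1 * S.eg 4 * x.1⁻¹) * σ.1 by group, e, ← hσe]
      group
    have := mul_mem hx (inv_mem hC)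
    rwa [show x * (σT⁻¹ * x)⁻¹ = σT by group] at this
  obtain ⟨u0, u1⟩ := (S.mt_cases (m := ⟨(u : G), hu.1⟩) hu.2).resolve_left fun h => hout (S.mem_U.2 ⟨_, h⟩)
  have hσu : σT * uT ∈ U' := mem_subgroupOf.2 (S.mem_U.2 ⟨(MG S.cv).mul_mem σ.2 hu.1, by
    show S.pi (σ * ⟨(u : G), hu.1⟩) 0 = 0
    rw [map_mul, Equiv.Perm.mul_apply, u0, s1], by
    show S.pi (σ * ⟨(u : G), hu.1⟩) 1 = 1
    rw [map_mul, Equiv.Perm.mul_apply, u1, s0]⟩)
  have := hUK hσu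
  rw [MonoidHom.mem_ker, map_mul, MonoidHom.mem_ker.1 hσK, one_mul, hsgn] at this
  exact absurd this (by decide)

end Data

end Cfsg.Agent.LargeFischer.Six
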