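import Cfsg.Agent.Lib.LargeFischer.SixEnd
import Cfsg.Agent.Lib.Golay.Mathieu
import Cfsg.Agent.Lib.Golay.M24

/-! The local subgroup at an involution of the four-group and an element of Q outside its inner part. -/

set_option autoImplicit false
set_option maxRecDepth 100000
set_option maxHeartbeats 200000
set_option synthInstance.maxSize 2000

namespace Cfsg.Agent.LargeFischer.Six

open Cfsg.Agent.RigidGraph.He Cfsg.Agent.U43InU62 Cfsg.Agent.LargeExtra Cfsg.Agent.LargeFischer.Big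
open Subgroup

attribute [local irreducible] tm elN TT

theorem ppair_inj : ∀ p < 24, ∀ q < 24, ∀ p' < 24, ∀ q' < 24, p < q → p' < q' →
    Big.pp p ^^^ Big.pp q = Big.pp p' ^^^ Big.pp q' → p = p' ∧ q = q' := by
  decide +kernel

theorem ppair_cases : ∀ q < 24, ∀ p < q, nb (2 ^^^ (Big.pp p ^^^ Big.pp q)) = true → p < 2 ∧ 2 ≤ q := by
  decide +kernel

theorem vd_iso : ∀ x < 64, ∀ y < 64, hf (vd x) (vd y) = 0 := by decide +kernel

/-- The vector of the element swapping. -/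
def swapV : V6 := ![.o, .l, .l, .o, .o, .o]

theorem swapV_spec : In1 swapV ∧ In1 (swapV + bA 0) ∧ hf swapV (bA 0) + hf (bA 0) swapV = 0 ∧
    hf swapV (K4.w • bA 0) + hf (K4.w • bA 0) swapV = 1 := by decide +kernel

/-- No element of the Mathieu group is odd. -/
theorem sign_M24 {g : Equiv.Perm Cfsg.GolayPt} (hg : g ∈ Cfsg.M24) : Equiv.Perm.sign g = 1 := by
  haveI := Cfsg.Agent.Golay.isSimpleGroup_M24
  set f : ↥Cfsg.M24 →* ℤˣ := Equiv.Perm.sign.comp Cfsg.M24.subtype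
  rcases (MonoidHom.normal_ker f).eq_bot_or_eq_top with h | h
  · exfalso
    have := Nat.card_le_card_of_injective f (f.ker_eq_bot_iff.1 h)
    rw [Cfsg.Agent.Golay.card_M24, Nat.card_eq_fintype_card, Fintype.card_units_int] at this
    norm_num at this
  · exact DFunLike.congr_fun (MonoidHom.ker_eq_top_iff.1 h) ⟨g, hg⟩

/-- An even permutation of square one fixing two points fixes a third. -/
theorem exists_third {π : Equiv.Perm (Fin 24)} (h2 : π * π = 1) (hs : Equiv.Perm.sign π = 1) (h0 : π 0 = 0)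
    (h1 : π 1 = 1) : ∃ x : Fin 24, x ≠ 0 ∧ x ≠ 1 ∧ π x = x := by
  by_contra hno
  push Not at hno
  have hsupp : π.support = Finset.univ \ {0, 1} := by
    ext x
    simp only [Equiv.Perm.mem_support, Finset.mem_sdiff, Finset.mem_univ, true_and, Finset.mem_insert,
      Finset.mem_singleton, not_or]
    refine ⟨fun h => ⟨fun e => h (e ▸ h0), fun e => h (e ▸ h1)⟩, fun h => hno x h.1 h.2⟩
  have hne : π ≠ 1 := fun e => by
    have := hno 2 (by decide) (by decide)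
    simp [e] at this
  obtain ⟨n, hn⟩ := Equiv.Perm.cycleType_prime_order (σ := π)
    (by rw [orderOf_eq_prime (by rw [pow_two, h2]) hne]; exact Nat.prime_two)
  rw [orderOf_eq_prime (by rw [pow_two, h2]) hne] at hn
  have hsum := π.sum_cycleType
  rw [hsupp, hn, Multiset.sum_replicate, smul_eq_mul] at hsum
  have h22 : (Finset.univ \ ({0, 1} : Finset (Fin 24))).card = 22 := by decide
  rw [Equiv.Perm.sign_of_cycleType, hn, Multiset.sum_replicate, Multiset.card_replicate, smul_eq_mul,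
    show (n + 1) * 2 + (n + 1) = 33 by omega] at hs
  exact absurd hs (by decide)

/-- An involution fixing nothing, on twice an odd number of points, is odd. -/
theorem sign_free {Ω : Type*} [Fintype Ω] [DecidableEq Ω] {σ : Equiv.Perm Ω} (h2 : σ * σ = 1)
    (hfree : ∀ x, σ x ≠ x) {k : ℕ} (hk : Fintype.card Ω = 2 * (2 * k + 1)) : Equiv.Perm.sign σ = -1 := by
  haveI : Nonempty Ω := Fintype.card_pos_iff.1 (by omega)
  have hne : σ ≠ 1 := fun e => hfree (Classical.arbitrary Ω) (by rw [e]; rfl)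
  have ho := orderOf_eq_prime (by rw [pow_two, h2] : σ ^ 2 = 1) hne
  obtain ⟨n, hn⟩ := Equiv.Perm.cycleType_prime_order (σ := σ) (by rw [ho]; exact Nat.prime_two)
  rw [ho] at hn
  have hsum := σ.sum_cycleType
  rw [hn, Multiset.sum_replicate, smul_eq_mul, show σ.support = Finset.univ from
    Finset.eq_univ_of_forall fun x => Equiv.Perm.mem_support.2 (hfree x), Finset.card_univ] at hsum
  rw [Equiv.Perm.sign_of_cycleType, hn, Multiset.sum_replicate, Multiset.card_replicate, smul_eq_mul,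
    show (n + 1) * 2 + (n + 1) = 2 * (3 * k + 1) + 1 by omega, pow_succ, pow_mul]
  simp

variable {G : Type*} [Group G] [Finite G] {z : G} {Q : Subgroup ↥(centralizer ({z} : Set G))} [Q.Normal]

namespace Data

variable (S : Data z Q)

/-- The element of a pair of points. -/
noncomputable def pe (p q : Fin 24) : G := S.eg (Big.pp p ^^^ Big.pp q)

theorem pe_comm (p q : Fin 24) : S.pe p q = S.pe q p := by rw [pe, pe, Nat.xor_comm]

theorem pe_inj {p q p' q' : Fin 24} (h : p ≠ q) (h' : p' ≠ q') (e : S.pe p q = S.pe p' q') :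
    (p = p' ∧ q = q') ∨ (p = q' ∧ q = p') := by
  have hlt : ∀ i : Fin 24, Big.pp i < 2048 := (by decide +kernel : ∀ i : Fin 24, Big.pp i < 2048)
  have e' : Big.pp p ^^^ Big.pp q = Big.pp p' ^^^ Big.pp q' :=
    S.B.eg_inj S.hc (eg_lt_xor (hlt p) (hlt q)) (eg_lt_xor (hlt p') (hlt q')) e
  rcases lt_or_gt_of_ne (Fin.val_ne_of_ne h) with a | a <;> rcases lt_or_gt_of_ne (Fin.val_ne_of_ne h') with b | b
  · obtain ⟨c, d⟩ := ppair_inj p p.2 q q.2 p' p'.2 q' q'.2 a b e'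
    exact Or.inl ⟨Fin.ext c, Fin.ext d⟩
  · obtain ⟨c, d⟩ := ppair_inj p p.2 q q.2 q' q'.2 p' p'.2 a b (by rw [e', Nat.xor_comm])
    exact Or.inr ⟨Fin.ext c, Fin.ext d⟩
  · obtain ⟨c, d⟩ := ppair_inj q q.2 p p.2 p' p'.2 q' q'.2 a b (by rw [Nat.xor_comm, e'])
    exact Or.inr ⟨Fin.ext d, Fin.ext c⟩
  · obtain ⟨c, d⟩ := ppair_inj q q.2 p p.2 q' q'.2 p' p'.2 a b (by rw [Nat.xor_comm, e', Nat.xor_comm])
    exact Or.inl ⟨Fin.ext d, Fin.ext c⟩

/-- The action on the points. -/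
theorem exists_act : ∃ π : ↥(MG S.cv) →* Equiv.Perm (Fin 24),
    (∀ m p q, p ≠ q → m.1 * S.pe p q * m.1⁻¹ = S.pe (π m p) (π m q)) ∧ (∀ m, Equiv.Perm.sign (π m) = 1) := by
  obtain ⟨Φ, hΦ, -, -⟩ := exists_hom S.hc S.B S.hN S.hF
  set e := Cfsg.Agent.Golay.ptEquiv
  refine ⟨(Equiv.permCongrHom e).toMonoidHom.comp (Cfsg.M24.subtype.comp Φ), fun m p q hpq => ?_, fun m => ?_⟩
  · have hne : e.symm p ≠ e.symm q := e.symm.injective.ne hpq
    have h := hΦ m _ _ hne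
    rw [eS, eS, ev_pair hne, ev_pair ((Φ m).1.injective.ne hne)] at h
    have hi : ∀ r : Fin 24, Cfsg.Agent.Golay.idx (e.symm r) = r := fun r => Cfsg.Agent.Golay.idx_pt r
    rw [hi, hi] at h
    exact h
  · show Equiv.Perm.sign (e.permCongr (Φ m).1) = 1
    rw [Equiv.Perm.sign_permCongr]
    exact sign_M24 (Φ m).2

/-- The permutation of the points. -/
noncomputable def pi : ↥(MG S.cv) →* Equiv.Perm (Fin 24) := S.exists_act.choose

theorem pi_spec (m : ↥(MG S.cv)) {p q : Fin 24} (h : p ≠ q) :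
    m.1 * S.pe p q * m.1⁻¹ = S.pe (S.pi m p) (S.pi m q) := S.exists_act.choose_spec.1 m p q h

theorem pi_sign (m : ↥(MG S.cv)) : Equiv.Perm.sign (S.pi m) = 1 := S.exists_act.choose_spec.2 m

theorem pe_rep : S.pe 0 1 = S.eg 2 ∧ S.pe 0 2 = S.eg 4 ∧ S.pe 1 2 = S.eg 6 := by
  obtain ⟨-, -, r3, r4, r5, -⟩ := two_rep
  exact ⟨congrArg S.eg r3, congrArg S.eg r4, congrArg S.eg r5⟩

/-- The centraliser of the first involution. -/
abbrev CT : Subgroup G := centralizer ({S.eg 2} : Set G)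

theorem mem_CT {c : G} : c ∈ S.CT ↔ c * S.eg 2 = S.eg 2 * c := mem_centralizer_one

theorem C_le_CT : S.C ≤ S.CT := fun _ hc => S.mem_CT.2 (S.mem_C.1 hc).1

theorem AG_le_CT : AG S.cv ≤ S.CT := fun _ ha =>
  S.mem_CT.2 (comm_of_sq (AG_sq S.cv) ha (S.B.eg_mem S.hc 2))

theorem AG_le_C : AG S.cv ≤ S.C := fun a ha => by
  obtain ⟨i, -, rfl⟩ := S.B.eg_surj S.hc ha
  exact S.eg_mem_C i

/-- The local subgroup. -/
noncomputable abbrev MT : Subgroup G := MG S.cv ⊓ S.CT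

theorem mt_cases {m : ↥(MG S.cv)} (h : m.1 ∈ S.CT) :
    (S.pi m 0 = 0 ∧ S.pi m 1 = 1) ∨ (S.pi m 0 = 1 ∧ S.pi m 1 = 0) := by
  have e := S.pi_spec m (p := 0) (q := 1) (by decide)
  rw [S.pe_rep.1, mul_inv_eq_iff_eq_mul.2 (S.mem_CT.1 h), ← S.pe_rep.1] at e
  rcases S.pe_inj (by decide) ((S.pi m).injective.ne (by decide)) e with ⟨a, b⟩ | ⟨a, b⟩
  · exact Or.inl ⟨a.symm, b.symm⟩
  · exact Or.inr ⟨b.symm, a.symm⟩

theorem mt_of_pi {m : ↥(MG S.cv)} (h0 : S.pi m 0 = 0) (h1 : S.pi m 1 = 1) : m.1 ∈ S.CT := by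
  refine S.mem_CT.2 (mul_inv_eq_iff_eq_mul.1 ?_)
  rw [← S.pe_rep.1, S.pi_spec m (by decide), h0, h1]

theorem c_of_pi {m : ↥(MG S.cv)} (h0 : S.pi m 0 = 0) (h1 : S.pi m 1 = 1) (h2 : S.pi m 2 = 2) : m.1 ∈ S.C := by
  refine S.mem_C.2 ⟨S.mem_CT.1 (S.mt_of_pi h0 h1), mul_inv_eq_iff_eq_mul.1 ?_⟩
  rw [← S.pe_rep.2.1, S.pi_spec m (by decide), h0, h2]

/-- Movers of three or four points. -/
theorem exists_mover_pi (x y : Fin 5 → Fin 24) (hx : Function.Injective x) (hy : Function.Injective y) :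
    ∃ m : ↥(MG S.cv), ∀ i j, i ≠ j → m.1 * S.pe (x i) (x j) * m.1⁻¹ = S.pe (y i) (y j) := by
  obtain ⟨m, hm, h⟩ := S.exists_mover x y hx hy
  exact ⟨⟨m, hm⟩, h⟩

theorem mover_pi {x y : Fin 5 → Fin 24} (hx : Function.Injective x) (hy : Function.Injective y) {m : ↥(MG S.cv)}
    (h : ∀ i j, i ≠ j → m.1 * S.pe (x i) (x j) * m.1⁻¹ = S.pe (y i) (y j)) (i : Fin 5) : S.pi m (x i) = y i := by
  obtain ⟨j, k, hij, hik, hjk⟩ : ∃ j k : Fin 5, i ≠ j ∧ i ≠ k ∧ j ≠ k :=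
    (by decide : ∀ i : Fin 5, ∃ j k : Fin 5, i ≠ j ∧ i ≠ k ∧ j ≠ k) i
  have key : ∀ j, i ≠ j → S.pi m (x i) = y i ∨ S.pi m (x i) = y j := fun j hj => by
    rcases S.pe_inj ((S.pi m).injective.ne (hx.ne hj)) (hy.ne hj)
      ((S.pi_spec m (hx.ne hj)).symm.trans (h i j hj)) with ⟨a, -⟩ | ⟨a, -⟩
    · exact Or.inl a
    · exact Or.inr a
  rcases key j hij with a | a
  · exact a
  rcases key k hik with b | b
  · exact b
  exact absurd (a.symm.trans b) (hy.ne hjk)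

theorem exists_pts (s : Finset (Fin 24)) (h : s.card < 20) : ∃ a b, a ∉ s ∧ b ∉ s ∧ a ≠ b := by
  have h' : 1 < (Finset.univ \ s).card := by
    rw [Finset.card_univ_diff, Fintype.card_fin]; omega
  obtain ⟨a, ha, b, hb, hab⟩ := Finset.one_lt_card.1 h'
  exact ⟨a, b, (Finset.mem_sdiff.1 ha).2, (Finset.mem_sdiff.1 hb).2, hab⟩

/-- Three points to three points. -/
theorem exists_three {a b c a' b' c' : Fin 24} (h : a ≠ b ∧ a ≠ c ∧ b ≠ c) (h' : a' ≠ b' ∧ a' ≠ c' ∧ b' ≠ c') :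
    ∃ m : ↥(MG S.cv), S.pi m a = a' ∧ S.pi m b = b' ∧ S.pi m c = c' := by
  obtain ⟨d, e, hd, he, hde⟩ := exists_pts {a, b, c} (lt_of_le_of_lt Finset.card_le_three (by norm_num))
  obtain ⟨d', e', hd', he', hde'⟩ := exists_pts {a', b', c'} (lt_of_le_of_lt Finset.card_le_three (by norm_num))
  simp only [Finset.mem_insert, Finset.mem_singleton, not_or] at hd he hd' he'
  have hinj : ∀ {a b c d e : Fin 24}, a ≠ b → a ≠ c → b ≠ c → d ≠ a → d ≠ b → d ≠ c → e ≠ a → e ≠ b → e ≠ c →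
      d ≠ e → Function.Injective ![a, b, c, d, e] := by
    intro a b c d e ab ac bc da db dc ea eb ec de i j hij
    fin_cases i <;> fin_cases j <;> simp at hij <;> first | rfl | exact absurd hij ‹_› | exact absurd hij.symm ‹_›
  have hx := hinj h.1 h.2.1 h.2.2 hd.1 hd.2.1 hd.2.2 he.1 he.2.1 he.2.2 hde
  have hy := hinj h'.1 h'.2.1 h'.2.2 hd'.1 hd'.2.1 hd'.2.2 he'.1 he'.2.1 he'.2.2 hde'
  obtain ⟨m, hm⟩ := S.exists_mover_pi _ _ hx hy
  exact ⟨m, S.mover_pi hx hy hm 0, S.mover_pi hx hy hm 1, S.mover_pi hx hy hm 2⟩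

/-- Four points to four points. -/
theorem exists_four {a b c d a' b' c' d' : Fin 24} (h : a ≠ b ∧ a ≠ c ∧ a ≠ d ∧ b ≠ c ∧ b ≠ d ∧ c ≠ d)
    (h' : a' ≠ b' ∧ a' ≠ c' ∧ a' ≠ d' ∧ b' ≠ c' ∧ b' ≠ d' ∧ c' ≠ d') :
    ∃ m : ↥(MG S.cv), S.pi m a = a' ∧ S.pi m b = b' ∧ S.pi m c = c' ∧ S.pi m d = d' := by
  have hlt : ∀ a b c d : Fin 24, ({a, b, c, d} : Finset (Fin 24)).card < 20 :=
    fun _ _ _ _ => lt_of_le_of_lt Finset.card_le_four (by norm_num)
  obtain ⟨e, -, he, -, -⟩ := exists_pts {a, b, c, d} (hlt a b c d)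
  obtain ⟨e', -, he', -, -⟩ := exists_pts {a', b', c', d'} (hlt a' b' c' d')
  simp only [Finset.mem_insert, Finset.mem_singleton, not_or] at he he'
  have hinj : ∀ {a b c d e : Fin 24}, a ≠ b → a ≠ c → a ≠ d → b ≠ c → b ≠ d → c ≠ d → e ≠ a → e ≠ b → e ≠ c →
      e ≠ d → Function.Injective ![a, b, c, d, e] := by
    intro a b c d e ab ac ad bc bd cd ea eb ec ed i j hij
    fin_cases i <;> fin_cases j <;> simp at hij <;> first | rfl | exact absurd hij ‹_› | exact absurd hij.symm ‹_›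
  obtain ⟨n1, n2, n3, n4, n5, n6⟩ := h
  obtain ⟨m1, m2, m3, m4, m5, m6⟩ := h'
  have hx := hinj n1 n2 n3 n4 n5 n6 he.1 he.2.1 he.2.2.1 he.2.2.2
  have hy := hinj m1 m2 m3 m4 m5 m6 he'.1 he'.2.1 he'.2.2.1 he'.2.2.2
  obtain ⟨m, hm⟩ := S.exists_mover_pi _ _ hx hy
  exact ⟨m, S.mover_pi hx hy hm 0, S.mover_pi hx hy hm 1, S.mover_pi hx hy hm 2, S.mover_pi hx hy hm 3⟩

/-- The element of Q outside the inner part. -/
theorem exists_swap : ∃ u : ↥(QG Q), (u : G) ∈ S.MT ∧ (u : G) * u = 1 ∧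
    ¬ (u : G) * S.eg 4 = S.eg 4 * u ∧ ¬ IsConj z (u : G) ∧ ¬ IsConj z ((u : G) * S.eg 2) := by
  obtain ⟨h1, h2, h3, h4⟩ := swapV_spec
  set u := uq S.cv swapV with hu
  have hvu : S.D.vec u = swapV := vec_uq S.cv S.hc swapV
  have e2 : S.eg 2 = (uq S.cv (bA 0) : G) := by rw [← vd_eight.2.1]; exact S.eg_even (x := 1) (by norm_num)
  have e4 : S.eg 4 = (uq S.cv (K4.w • bA 0) : G) := by
    rw [← vd_eight.2.2.1]; exact S.eg_even (x := 2) (by norm_num)
  have hwt : ∀ v : V6, In1 v → wt v % 2 = 0 ∧ v ≠ 0 := fun v hv => by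
    refine ⟨by rcases hv with a | ⟨a, -⟩ <;> omega, ?_⟩
    rintro rfl
    rcases hv with a | ⟨a, -⟩ <;> simp [wt_zero] at a
  have hnz : ∀ x : ↥(QG Q), In1 (S.D.vec x) → ¬ IsConj z (x : G) := fun x hx hc => by
    obtain ⟨g, hg⟩ := isConj_iff.1 hc
    refine in_disjoint hx (S.D.long hg fun e => (hwt _ hx).2 (S.D.vec_eq_zero.2 (Or.inr e)))
  have hsq : (u : G) * u = 1 := (S.D.wt_vec u).1 (hvu ▸ (hwt _ h1).1)
  have hct : (u : G) * S.eg 2 = S.eg 2 * u := by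
    rw [e2, S.comm_q, hvu, vec_uq S.cv S.hc, h3]
  refine ⟨u, ⟨?_, S.mem_CT.2 hct⟩, hsq, ?_, hnz u (hvu ▸ h1), ?_⟩
  · have hone : (QuotientGroup.mk (toC S.D u) : ↥(centralizer ({z} : Set G)) ⧸ Q) = 1 :=
      (QuotientGroup.eq_one_iff _).2 (toC_mem S.D u)
    have hAA := conj_AA S.cv S.hc S.hF (c := toC S.D u) fun r hr => by
      rw [show QuotientGroup.mk' Q (toC S.D u) = 1 from hone, one_mul, inv_one, mul_one]
      exact hr
    exact mem_MG_of_spec (D := S.D) S.hc S.B (c := toC S.D u) fun i _ => by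
      obtain ⟨j, -, e⟩ := S.B.El_surj S.hc (hAA _ (S.B.El_mem S.hc i))
      exact ⟨j, e.symm⟩
  · rw [e4, S.comm_q, hvu, vec_uq S.cv S.hc, h4]
    exact one_ne_zero
  · rw [e2, ← Subgroup.coe_mul]
    exact hnz _ (by rw [S.D.vec_mul, hvu, vec_uq S.cv S.hc]; exact h2)

end Data

end Cfsg.Agent.LargeFischer.Six
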