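import Cfsg.Agent.Lib.LargeFischer.PairHalf
import Cfsg.Agent.Lib.LargeFischer.PairAut
import Cfsg.Agent.Lib.FischerM22Recog.Main

/-! The subgroup of index two is the double cover of Fi22. -/

set_option autoImplicit false
set_option maxRecDepth 100000
set_option maxHeartbeats 200000
set_option synthInstance.maxSize 2000

namespace Cfsg.Agent.LargeFischer.Six

open Cfsg.Agent.RigidGraph.He Cfsg.Agent.U43InU62 Cfsg.Agent.LargeExtra Cfsg.Agent.LargeFischer.Big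
open Subgroup

attribute [local irreducible] tm elN TT

local notation "FI" => Fi22Local.GG

variable {G : Type*} [Group G] [Finite G] {z : G} {Q : Subgroup ↥(centralizer ({z} : Set G))} [Q.Normal]

namespace Data

variable (S : Data z Q)

/-- The group of order two on the involution. -/
noncomputable abbrev Zt : Subgroup ↥S.CT := (zpowers (S.eg 2)).subgroupOf S.CT

theorem eg_sq (i : ℕ) : S.eg i * S.eg i = 1 := AG_sq S.cv _ (S.B.eg_mem S.hc i)

theorem eg_ne (i j : ℕ) (hi : i < 2048) (hj : j < 2048) (h : i ≠ j) : S.eg i ≠ S.eg j :=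
  fun e => h (S.B.eg_inj S.hc hi hj e)

theorem mem_Zt {x : ↥S.CT} : x ∈ S.Zt ↔ x.1 = 1 ∨ x.1 = S.eg 2 := by
  rw [mem_subgroupOf]
  constructor
  · intro hx
    obtain ⟨k, hk⟩ := mem_zpowers_iff.1 hx
    rw [← hk]
    rcases Int.even_or_odd' k with ⟨m, rfl | rfl⟩
    · left; rw [zpow_mul, zpow_two, S.eg_sq, one_zpow]
    · right; rw [zpow_add_one, zpow_mul, zpow_two, S.eg_sq, one_zpow, one_mul]
  · rintro (h | h) <;> rw [h]
    · exact one_mem _
    · exact mem_zpowers _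

instance normal_Zt : S.Zt.Normal :=
  ⟨fun n hn g => by
    have hc : g.1 * n.1 = n.1 * g.1 := by
      rcases S.mem_Zt.1 hn with e | e <;> rw [e]
      · rw [one_mul, mul_one]
      · exact S.mem_CT.1 g.2
    have : g * n * g⁻¹ = n := Subtype.ext (mul_inv_eq_iff_eq_mul.2 hc)
    rwa [this]⟩

theorem C_perfect : _root_.commutator ↥S.C = ⊤ := by
  haveI := S.quasisimple.1
  exact Group.IsPerfect.commutator_eq_top

theorem center_C_cases {x : G} (hx : x ∈ S.E) : x = 1 ∨ x = S.eg 2 ∨ x = S.eg 4 ∨ x = S.eg 6 := by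
  obtain ⟨i, hi, rfl⟩ := hx
  rcases (eB_iff i).1 hi with rfl | rfl | rfl | rfl
  · exact Or.inl S.eg_nil
  all_goals simp

theorem eg_six : S.eg 6 = S.eg 4 * S.eg 2 := S.eg_xor 4 2

/-- Everything known about the subgroup of index two. -/
structure Half (K : Subgroup ↥S.CT) : Prop where
  qs : Cfsg.IsQuasisimple ↥K
  index : K.index = 2
  Z_le : S.Zt ≤ K
  fstar : Cfsg.generalizedFittingSubgroup ↥S.CT = K
  top : Nonempty (↥S.CT ⧸ S.Zt ≃* MulAut Cfsg.Spor.Fi22)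
  conj : ∀ φ : MulAut ↥K, ∃ c : ↥S.CT, ∀ k : ↥K, (φ k : ↥S.CT) = c * k * c⁻¹
  C_le : S.C.subgroupOf S.CT ≤ K
  U_le : S.U.subgroupOf S.CT ≤ K
  no_swap : ∀ x : ↥S.CT, x ∈ K → x.1 * S.eg 4 * x.1⁻¹ ≠ S.eg 6
  center_eq : S.Zt.subgroupOf K = center ↥K
  cent_le : ∀ x : ↥S.CT, (∀ k ∈ K, Commute x k) → x ∈ K
  iso : Nonempty (↥K ⧸ S.Zt.subgroupOf K ≃* FI)

/-- The subgroup of index two. -/
theorem exists_cover_full : ∃ K : Subgroup ↥S.CT, S.Half K := by
  obtain ⟨K, hidx, hKn, hCK, hUK, hno⟩ := S.exists_half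
  haveI := hKn
  have hmemC : ∀ {x : G} (hx : x ∈ S.C), (⟨x, S.C_le_CT hx⟩ : ↥S.CT) ∈ K := fun hx => hCK (mem_subgroupOf.2 hx)
  have hZK : S.Zt ≤ K := fun x hx => hCK (mem_subgroupOf.2 (by
    rcases S.mem_Zt.1 hx with e | e <;> rw [e]
    · exact one_mem _
    · exact S.eg_mem_C 2))
  let ι : ↥S.C →* ↥K := MonoidHom.mk' (fun c => ⟨⟨c.1, S.C_le_CT c.2⟩, hmemC c.2⟩) fun _ _ => rfl
  let π := QuotientGroup.mk' (S.Zt.subgroupOf K)
  set d := π (ι ⟨S.eg 4, S.eg_mem_C 4⟩) with hd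
  have hπ : ∀ x y : ↥K, π x = π y ↔ y.1.1 = x.1.1 ∨ y.1.1 = x.1.1 * S.eg 2 := fun x y => by
    show (QuotientGroup.mk x : _ ⧸ _) = QuotientGroup.mk y ↔ _
    rw [QuotientGroup.eq, mem_subgroupOf, S.mem_Zt, Subgroup.coe_mul, Subgroup.coe_inv, Subgroup.coe_mul,
      Subgroup.coe_inv, inv_mul_eq_one, inv_mul_eq_iff_eq_mul]
    exact or_congr eq_comm Iff.rfl
  have hpiC : ∀ c : ↥S.C, π (ι c) ∈ centralizer ({d} : Set _) := fun c => by
    refine mem_centralizer_one.2 ?_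
    rw [hd, ← map_mul, ← map_mul, ← map_mul, ← map_mul]
    exact congrArg (fun x => π (ι x)) (Subtype.ext (S.C_comm c.2 ⟨4, rfl, rfl⟩))
  let f : ↥S.C →* ↥(centralizer ({d} : Set _)) := (π.comp ι).codRestrict _ hpiC
  have hfs : Function.Surjective f := by
    rintro ⟨q, hq⟩
    obtain ⟨x, rfl⟩ := QuotientGroup.mk'_surjective (S.Zt.subgroupOf K) q
    have h := mem_centralizer_one.1 hq
    rw [hd, ← map_mul, ← map_mul, hπ] at h
    have e4 : x.1.1 * S.eg 4 * x.1.1⁻¹ = S.eg 4 := by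
      rcases h with e | e
      · exact mul_inv_eq_iff_eq_mul.2 e.symm
      · refine absurd ?_ (hno x.1 x.2)
        change S.eg 4 * x.1.1 = x.1.1 * S.eg 4 * S.eg 2 at e
        have h6 : x.1.1 * S.eg 4 * x.1.1⁻¹ * S.eg 2 = S.eg 4 := by
          have hx2 : x.1.1⁻¹ * S.eg 2 = S.eg 2 * x.1.1⁻¹ :=
            (Commute.inv_left (show Commute x.1.1 (S.eg 2) from S.mem_CT.1 x.1.2)).eq
          rw [mul_assoc (x.1.1 * S.eg 4), hx2, ← mul_assoc, ← e, mul_inv_cancel_right]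
        rw [S.eg_six]
        calc x.1.1 * S.eg 4 * x.1.1⁻¹ = x.1.1 * S.eg 4 * x.1.1⁻¹ * (S.eg 2 * S.eg 2) := by rw [S.eg_sq, mul_one]
          _ = _ := by rw [← mul_assoc, h6]
    exact ⟨⟨x.1.1, S.mem_C.2 ⟨S.mem_CT.1 x.1.2, mul_inv_eq_iff_eq_mul.1 e4⟩⟩, rfl⟩
  have hfE : ∀ c : ↥S.C, f c = 1 ↔ c.1 = 1 ∨ c.1 = S.eg 2 := fun c => by
    rw [← map_one f, eq_comm, Subtype.ext_iff]
    show π (ι 1) = π (ι c) ↔ _
    rw [hπ]
    simp [ι]
  obtain ⟨e0⟩ := S.Cb_equiv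
  obtain ⟨e1⟩ := FischerPresented.U62.nonempty_psu_six_model (F := K4) K4.card_K4
  let ρ := (e0.trans e1).toMonoidHom.comp (QuotientGroup.mk' (S.E.subgroupOf S.C))
  have hρ : ∀ c : ↥S.C, ρ c = 1 ↔ c.1 ∈ S.E := fun c => by
    rw [show ρ c = (e0.trans e1) (QuotientGroup.mk c) from rfl, map_eq_one_iff _ (e0.trans e1).injective,
      QuotientGroup.eq_one_iff, mem_subgroupOf]
  have hle : f.ker ≤ ρ.ker := fun c hc => by
    rw [MonoidHom.mem_ker, hρ]
    rcases (hfE c).1 hc with e | e <;> rw [e]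
    · exact one_mem _
    · exact ⟨2, rfl, rfl⟩
  let σ := f.liftOfSurjective hfs ⟨ρ, hle⟩
  have hσ : ∀ c, σ (f c) = ρ c := MonoidHom.liftOfRightInverse_comp_apply _ _ (Function.rightInverse_surjInv hfs) ⟨ρ, hle⟩
  have hd2 : d * d = 1 := by
    rw [hd, ← map_mul, ← map_mul, show (⟨S.eg 4, S.eg_mem_C 4⟩ : ↥S.C) * ⟨S.eg 4, S.eg_mem_C 4⟩ = 1 from
      Subtype.ext (S.eg_sq 4), map_one, map_one]
  have hd1 : d ≠ 1 := fun h => by
    rw [hd, ← map_one π, eq_comm, hπ] at h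
    rcases h with e | e
    · exact S.eg_ne 4 0 (by norm_num) (by norm_num) (by norm_num) (e.trans S.eg_nil.symm)
    · exact S.eg_ne 4 2 (by norm_num) (by norm_num) (by norm_num) (e.trans (one_mul _))
  have hfd : ∀ c : ↥S.C, c.1 = S.eg 4 → ((f c : ↥(centralizer ({d} : Set _))) : _) = d := fun c hc =>
    congrArg π (congrArg ι (Subtype.ext hc : c = ⟨S.eg 4, S.eg_mem_C 4⟩))
  obtain ⟨φ, hφ⟩ := FischerM22Recog.exists_centred σ
    (fun q => by
      obtain ⟨q', rfl⟩ := (e0.trans e1).surjective q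
      obtain ⟨c, rfl⟩ := QuotientGroup.mk_surjective q'
      exact ⟨f c, hσ c⟩)
    (orderOf_eq_prime (by rw [pow_two, hd2]) hd1)
    (fun q hq => by
      obtain ⟨c, rfl⟩ := hfs q
      rw [hσ, hρ]
      change π (ι c) = π (ι ⟨S.eg 4, S.eg_mem_C 4⟩) at hq
      rcases (hπ _ _).1 hq.symm with e | e
      · exact ⟨4, rfl, (show c.1 = S.eg 4 from e).symm⟩
      · exact ⟨6, rfl, (show c.1 = S.eg 6 from (show c.1 = S.eg 4 * S.eg 2 from e).trans S.eg_six.symm).symm⟩)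
    (fun q hq => by
      obtain ⟨c, rfl⟩ := hfs q
      rw [hσ, hρ] at hq
      rcases S.center_C_cases hq with e | e | e | e
      · exact Or.inl (congrArg Subtype.val ((hfE c).2 (Or.inl e)))
      · exact Or.inl (congrArg Subtype.val ((hfE c).2 (Or.inr e)))
      · exact Or.inr (hfd c e)
      · refine Or.inr ?_
        show π (ι c) = π (ι ⟨S.eg 4, S.eg_mem_C 4⟩)
        rw [eq_comm, hπ]
        exact Or.inr (show c.1 = S.eg 4 * S.eg 2 from e.trans S.eg_six))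
    (by
      rw [← top_le_iff, ← map_top_of_surjective f hfs, ← S.C_perfect, commutator_def, commutator_def, map_commutator,
        map_top_of_surjective f hfs])
  obtain ⟨n, n0, n1, n2⟩ := S.exists_three (a := 0) (b := 1) (c := 2) (a' := 0) (b' := 1) (c' := 3) (by decide) (by decide)
  set nK : ↥K := ⟨⟨n.1, S.mt_of_pi n0 n1⟩, hUK (mem_subgroupOf.2 (S.mem_U.2 ⟨n.2, n0, n1⟩))⟩ with hnK
  have hn4 : n.1 * S.eg 4 * n.1⁻¹ = S.pe 0 3 := by rw [← S.pe_rep.2.1, S.pi_spec n (by decide), n0, n2]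
  have hn6 : n.1 * S.eg 6 * n.1⁻¹ = S.pe 1 3 := by rw [← S.pe_rep.2.2, S.pi_spec n (by decide), n1, n2]
  have hne4 : ∀ a b : Fin 24, S.pe a b = S.pe 0 2 → a ≠ b → (a = 0 ∧ b = 2) ∨ (a = 2 ∧ b = 0) := fun a b e h =>
    (S.pe_inj h (by decide) e).imp id id
  have hnwc : ∃ g, g * d * g⁻¹ ∈ centralizer ({d} : Set _) ∧ g * d * g⁻¹ ≠ d := by
    refine ⟨π nK, ?_, ?_⟩
    · have hC : n.1 * S.eg 4 * n.1⁻¹ ∈ S.C := hn4 ▸ S.eg_mem_C _
      have e : π nK * d * (π nK)⁻¹ = π (ι ⟨_, hC⟩) := by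
        rw [hd, ← map_mul, ← map_inv, ← map_mul]; rfl
      exact e ▸ hpiC _
    · intro h
      rw [hd, ← map_mul, ← map_inv, ← map_mul, eq_comm, hπ] at h
      change n.1 * S.eg 4 * n.1⁻¹ = S.eg 4 ∨ n.1 * S.eg 4 * n.1⁻¹ = S.eg 4 * S.eg 2 at h
      rw [hn4, ← S.eg_six, ← S.pe_rep.2.1, ← S.pe_rep.2.2] at h
      rcases h with e | e
      · rcases hne4 0 3 e (by decide) with ⟨-, b⟩ | ⟨a, -⟩ <;> exact absurd ‹_› (by decide)
      · rcases S.pe_inj (by decide : (0 : Fin 24) ≠ 3) (by decide : (1 : Fin 24) ≠ 2) e with ⟨a, -⟩ | ⟨a, -⟩ <;>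
          exact absurd a (by decide)
  obtain ⟨e, -⟩ := FischerM22Recog.exists_mulEquiv φ hφ hd2 hd1 hnwc
  haveI hsimp : IsSimpleGroup (↥K ⧸ S.Zt.subgroupOf K) :=
    e.isSimpleGroup_congr.1 FischerPresented.Fi22.isSimpleGroup
  have hCcom : ∀ c : ↥S.C, ι c ∈ _root_.commutator ↥K := fun c => by
    have h : (⊤ : Subgroup ↥S.C).map ι ≤ _root_.commutator ↥K := by
      rw [← S.C_perfect, commutator_def, commutator_def, map_commutator]
      exact Subgroup.commutator_mono le_top le_top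
    exact h ⟨c, mem_top _, rfl⟩
  have hperf : Group.IsPerfect ↥K := ⟨by
    have hmap : (_root_.commutator ↥K).map π = ⊤ := by
      refine ((Subgroup.Normal.map inferInstance π (QuotientGroup.mk'_surjective _)).eq_bot_or_eq_top).resolve_left fun h => hd1 ?_
      rw [← Subgroup.mem_bot, ← h]
      exact ⟨_, hCcom _, rfl⟩
    refine eq_top_iff.2 fun x _ => ?_
    obtain ⟨y, hy, ey⟩ := hmap.ge (mem_top (π x))
    have hxy : y⁻¹ * x ∈ S.Zt.subgroupOf K := QuotientGroup.eq.1 ey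
    have hz : y⁻¹ * x ∈ _root_.commutator ↥K := by
      have hc : (y⁻¹ * x).1.1 ∈ S.C := by
        rcases S.mem_Zt.1 (mem_subgroupOf.1 hxy) with e' | e' <;> rw [e']
        · exact one_mem _
        · exact S.eg_mem_C 2
      exact hCcom ⟨_, hc⟩
    have := mul_mem hy hz
    rwa [mul_inv_cancel_left] at this⟩
  have hZc : S.Zt.subgroupOf K = center ↥K := by
    refine le_antisymm (fun x hx => mem_center_iff.2 fun y => Subtype.ext (Subtype.ext ?_)) fun x hx => ?_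
    · rcases S.mem_Zt.1 (mem_subgroupOf.1 hx) with e' | e'
      · show y.1.1 * x.1.1 = x.1.1 * y.1.1
        rw [e', one_mul, mul_one]
      · show y.1.1 * x.1.1 = x.1.1 * y.1.1
        rw [e']; exact S.mem_CT.1 y.1.2
    · refine (QuotientGroup.eq_one_iff x).1 ?_
      have hb : center (↥K ⧸ S.Zt.subgroupOf K) = ⊥ := by
        refine (Subgroup.Normal.eq_bot_or_eq_top inferInstance).resolve_right fun h => ?_
        obtain ⟨g, -, hg⟩ := hnwc
        refine hg (mul_inv_eq_iff_eq_mul.2 ?_)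
        exact (mem_center_iff.1 (h ▸ mem_top d) g)
      rw [← Subgroup.mem_bot, ← hb, mem_center_iff]
      intro q
      obtain ⟨q, rfl⟩ := QuotientGroup.mk_surjective q
      rw [← QuotientGroup.mk_mul, ← QuotientGroup.mk_mul, mem_center_iff.1 hx q]
  have hcentr : ∀ x : ↥S.CT, (∀ k ∈ K, Commute x k) → x ∈ K := by
    intro x hx
    have hxC : x.1 ∈ S.C := S.mem_C.2 ⟨S.mem_CT.1 x.2,
      congrArg Subtype.val (hx _ (hmemC (S.eg_mem_C 4))).eq⟩
    exact hCK (mem_subgroupOf.2 hxC)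
  have hqs : Cfsg.IsQuasisimple ↥K :=
    ⟨hperf, (QuotientGroup.quotientMulEquivOfEq hZc).isSimpleGroup_congr.1 hsimp⟩
  obtain ⟨htop, hcj⟩ := PairAut.aut_top_full S.Zt K hidx hqs hZK hZc hcentr e.symm
  exact ⟨K, hqs, hidx, hZK, PairAut.fstar_eq K hidx hqs hcentr, htop, hcj, hCK, hUK, hno, hZc, hcentr, ⟨e.symm⟩⟩

/-- The structure of the centraliser. -/
theorem exists_cover : ∃ K : Subgroup ↥S.CT, Cfsg.IsQuasisimple ↥K ∧ K.index = 2 ∧ S.Zt ≤ K ∧
    Cfsg.generalizedFittingSubgroup ↥S.CT = K ∧ Nonempty (↥S.CT ⧸ S.Zt ≃* MulAut Cfsg.Spor.Fi22) := by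
  obtain ⟨K, h⟩ := S.exists_cover_full
  exact ⟨K, h.qs, h.index, h.Z_le, h.fstar, h.top⟩

end Data

end Cfsg.Agent.LargeFischer.Six
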