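import Cfsg.Agent.Lib.LargeFischer.SylowData
import Cfsg.Agent.Lib.LargeFischer.Monomial

/-! A Sylow two-subgroup of the standard copy and its large elementary abelian subgroups. -/

set_option autoImplicit false
set_option maxRecDepth 100000
set_option maxHeartbeats 200000

namespace Cfsg.Agent.LargeFischer

open Cfsg.Agent.RigidGraph.He Cfsg.Agent.U43InU62
open Matrix

/-- The representatives. -/
noncomputable def rel (j : Fin 8) : ↥Wgrp := ((rword j).map fun k => (⟨wel k, wel_mem k⟩ : ↥Wgrp)).prod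

theorem beta_rel (j : Fin 8) : (β (rel j)).1 = rperm j := by
  unfold rel rperm
  induction rword j with
  | nil => rw [List.map_nil, List.prod_nil, map_one, List.map_nil, List.prod_nil]; rfl
  | cons a l ih =>
    rw [List.map_cons, List.prod_cons, map_mul, List.map_cons, List.prod_cons, Subgroup.coe_mul, ih]
    exact congrArg (· * _) (beta_eq _ (wel_per a))

theorem mat_word (w : List (Fin 8)) :
    mat ((w.map fun k => (⟨wel k, wel_mem k⟩ : ↥Wgrp)).prod : ↥Wgrp).1 = (w.map wMat).prod := by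
  induction w with
  | nil => rfl
  | cons a l ih => rw [List.map_cons, List.prod_cons, Subgroup.coe_mul, mat_mul', mat_wel, ih, List.map_cons,
      List.prod_cons]

/-- The elements by index. -/
noncomputable def elN (n : Fin 128) : S6 := (rel (hiIdx n)).1 * wprod (loIdx n)

theorem act_elN (n : Fin 128) (v : V6) : act (elN n) v = tm n v := by
  rw [elN, act_mul]
  show mat (rel (hiIdx n)).1 *ᵥ (mat (wprod (loIdx n)) *ᵥ v) = _
  rw [mat_wprod, kact_eq, show mat (rel (hiIdx n)).1 = rm (hiIdx n) from (mat_word _).trans (rm_ok _).symm]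
  rfl

/-- The Sylow subgroup of the pentads' group. -/
def Pimg : Subgroup ↥(alternatingGroup (Fin 6)) := finSub
  { carrier := {a | ∃ j, a.1 = rperm j}
    one_mem' := ⟨0, rfl⟩
    mul_mem' := by
      rintro a b ⟨i, hi⟩ ⟨j, hj⟩
      obtain ⟨k, hk⟩ := rperm_closed i j
      exact ⟨k, by rw [Subgroup.coe_mul, hi, hj, hk]⟩ }

/-- The Sylow subgroup of the copy. -/
noncomputable def TT : Subgroup S6 := (Pimg.comap β).map Wgrp.subtype

theorem elN_mem (n : Fin 128) : elN n ∈ TT := by
  obtain ⟨ht, hb⟩ := wprod_mem (loIdx n)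
  refine ⟨rel (hiIdx n) * ⟨_, ht⟩, ⟨hiIdx n, ?_⟩, rfl⟩
  show (β (rel (hiIdx n) * ⟨_, ht⟩)).1 = _
  rw [map_mul, hb, mul_one, beta_rel]

theorem mem_TT {x : S6} (hx : x ∈ TT) : ∃ n, x = elN n := by
  obtain ⟨g, ⟨j, hj⟩, rfl⟩ := hx
  obtain ⟨t, ht⟩ := ker_wprod (g := (rel j)⁻¹ * g) (by
    rw [map_mul, map_inv, inv_mul_eq_one]
    exact Subtype.ext ((beta_rel j).trans hj.symm))
  obtain ⟨n, rfl, rfl⟩ := exists_idx j t
  exact ⟨n, by rw [elN, ← ht, Subgroup.coe_mul, Subgroup.coe_inv, mul_inv_cancel_left]; rfl⟩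

theorem elN_injective : Function.Injective elN := fun m n e => by
  obtain ⟨hm, hm'⟩ := wprod_mem (loIdx m)
  obtain ⟨hn, hn'⟩ := wprod_mem (loIdx n)
  have e' : rel (hiIdx m) * ⟨_, hm⟩ = rel (hiIdx n) * ⟨_, hn⟩ := Subtype.ext e
  have h1 := congrArg β e'
  rw [map_mul, map_mul, hm', hn', mul_one, mul_one] at h1
  have h2 := rperm_inj _ _ ((beta_rel _).symm.trans ((congrArg Subtype.val h1).trans (beta_rel _)))
  refine idx_ext m n h2 (kMat_inj ?_)
  rw [← mat_wprod, ← mat_wprod]
  rw [h2] at e'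
  exact congrArg (fun x : ↥Wgrp => mat x.1) (mul_left_cancel e')

theorem card_TT : Nat.card ↥TT = 128 := by
  rw [← Nat.card_congr (Equiv.ofBijective (fun n => (⟨elN n, elN_mem n⟩ : ↥TT))
    ⟨fun m n e => elN_injective (congrArg Subtype.val e), fun x => by
      obtain ⟨n, hn⟩ := mem_TT x.2
      exact ⟨n, Subtype.ext hn.symm⟩⟩), Nat.card_fin]

theorem TT_le : TT ≤ K0 := fun x ⟨g, _, e⟩ => e ▸ (wgrp_eq.le g.2).1

theorem elN_zero : elN 0 = 1 := ext_bv fun j => by
  rw [act_elN, act_one]; revert j; decide +kernel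

attribute [local irreducible] elN tm

theorem inv_idx {n : Fin 128} (h : elN n * elN n = 1) (h1 : elN n ≠ 1) : ∃ i, iv i = n := by
  rcases check_noninv n with e | e | ⟨j, hj⟩
  · exact absurd (e ▸ elN_zero) h1
  · exact iv_cover n e
  · exact absurd (by rw [← act_elN, ← act_elN, ← act_mul, h, act_one]) hj

theorem adj_of_comm {i j : Fin 35} (h : elN (iv i) * elN (iv j) = elN (iv j) * elN (iv i)) : adj i j = true := by
  refine (check_edge i j).resolve_right fun ⟨k, hk⟩ => hk ?_
  rw [← act_elN, ← act_elN, ← act_mul, h, act_mul, act_elN, act_elN]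

theorem srch_sound (S : Finset (Fin 35)) (hS : ∀ x ∈ S, ∀ y ∈ S, adj x y = true) (h15 : 15 ≤ S.card) :
    ∀ (f : ℕ) (l ch : List (Fin 35)), srch f l ch = true → (∀ x ∈ S, x ∈ l ∨ x ∈ ch) →
      (∀ x ∈ S, inA x = true) ∨ ∀ x ∈ S, inB x = true := by
  have hlen : ∀ (l ch : List (Fin 35)), (∀ x ∈ S, x ∈ l ∨ x ∈ ch) → ¬ ch.length + l.length < 15 := fun l ch h hlt => by
    have h1 := Finset.card_le_card (t := (l ++ ch).toFinset) fun x hx => List.mem_toFinset.2 (List.mem_append.2 (h x hx))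
    have h2 := List.toFinset_card_le (l ++ ch)
    rw [List.length_append] at h2
    omega
  intro f
  induction f with
  | zero => exact fun _ _ h => absurd h (by simp [srch])
  | succ f ih =>
    intro l ch h hc
    cases l with
    | nil =>
      simp only [srch, Bool.or_eq_true, decide_eq_true_eq, List.all_eq_true] at h
      rcases h with (h | h) | h
      · exact absurd (by simpa using h) (hlen [] ch hc)
      · exact Or.inl fun x hx => h x ((hc x hx).resolve_left List.not_mem_nil)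
      · exact Or.inr fun x hx => h x ((hc x hx).resolve_left List.not_mem_nil)
    | cons a l =>
      simp only [srch, Bool.or_eq_true, decide_eq_true_eq, Bool.and_eq_true] at h
      rcases h with h | ⟨h1, h2⟩
      · exact absurd (by simpa using h) (hlen (a :: l) ch hc)
      · by_cases ha : a ∈ S
        · refine ih _ _ h2 fun x hx => ?_
          rcases hc x hx with e | e
          · rcases List.mem_cons.1 e with e | e
            · exact Or.inr (by simp [e])
            · exact Or.inl (List.mem_filter.2 ⟨e, hS a ha x hx⟩)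
          · exact Or.inr (List.mem_cons_of_mem _ e)
        · exact ih _ _ h1 fun x hx => (hc x hx).imp_left fun e =>
            (List.mem_cons.1 e).resolve_left fun e' => ha (by rw [← e']; exact hx)

theorem clique_cases {S : Finset (Fin 35)} (hS : ∀ x ∈ S, ∀ y ∈ S, adj x y = true) (h15 : 15 ≤ S.card) :
    (∀ x ∈ S, inA x = true) ∨ ∀ x ∈ S, inB x = true :=
  srch_sound S hS h15 _ _ _ srch_ok fun _ _ => Or.inl (List.mem_finRange _)

/-- The large subgroup. -/
noncomputable def A0 : Subgroup S6 where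
  carrier := {x | x ∈ TT ∧ ∀ i, act x (bA i) = bA i}
  one_mem' := ⟨one_mem _, fun i => act_one _⟩
  mul_mem' := fun {a b} ha hb => ⟨mul_mem ha.1 hb.1, fun i => by rw [act_mul, hb.2, ha.2]⟩
  inv_mem' := fun {a} ha => ⟨inv_mem ha.1, fun i => by
    conv_lhs => rw [← ha.2 i]
    rw [← act_mul, inv_mul_cancel, act_one]⟩

theorem mem_A0 {x : S6} : x ∈ A0 ↔ ∃ n, (n = 0 ∨ n ∈ lA) ∧ x = elN n := by
  constructor
  · rintro ⟨hx, hf⟩
    obtain ⟨n, rfl⟩ := mem_TT hx
    exact ⟨n, (check_A n).1 fun i => by rw [← act_elN]; exact hf i, rfl⟩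
  · rintro ⟨n, hn, rfl⟩
    exact ⟨elN_mem n, fun i => by rw [act_elN]; exact (check_A n).2 hn i⟩

theorem A0_le : A0 ≤ TT := fun _ hx => hx.1

theorem card_A0 : Nat.card ↥A0 = 16 := by
  rw [← card_lA, ← Nat.card_eq_fintype_card]
  exact (Nat.card_congr (Equiv.ofBijective (fun n => (⟨elN n.1, mem_A0.2 ⟨_, n.2, rfl⟩⟩ : ↥A0))
    ⟨fun m n e => Subtype.ext (elN_injective (congrArg Subtype.val e)), fun x => by
      obtain ⟨n, hn, e⟩ := mem_A0.1 x.2
      exact ⟨⟨n, hn⟩, Subtype.ext e.symm⟩⟩)).symm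

theorem A0_sq {x : S6} (hx : x ∈ A0) : x * x = 1 := by
  obtain ⟨n, hn, rfl⟩ := mem_A0.1 hx
  exact ext_bv fun j => by rw [act_mul, act_one, act_elN, act_elN]; exact check_sq n hn j

theorem A0_fix {x : S6} (hx : x ∈ A0) {v : V6} (hv : piA v) : act x v = v := by
  obtain ⟨a, b, c, rfl⟩ := hv
  rw [act, Matrix.mulVec_add, Matrix.mulVec_add, Matrix.mulVec_smul, Matrix.mulVec_smul, Matrix.mulVec_smul]
  have h := hx.2
  simp only [act] at h
  rw [h, h, h]

theorem fix_A0 {v : V6} (h : ∀ x ∈ A0, act x v = v) : piA v := by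
  have h' : ∀ n ∈ gA, tm n v = v := fun n hn => by
    rw [← act_elN]; exact h _ (mem_A0.2 ⟨n, Or.inr (gA_ok n hn), rfl⟩)
  rw [vec_eta v] at h' ⊢
  exact fix_coord _ _ _ _ _ _ h'

theorem piA_even {v : V6} (h : piA v) : wt v % 2 = 0 := by
  obtain ⟨a, b, c, rfl⟩ := h
  exact (piA_checks a b c).1

theorem card_piA : Nat.card {v // piA v} = 64 := by
  let f : K4 × K4 × K4 → {v // piA v} := fun x => ⟨x.1 • bA 0 + x.2.1 • bA 1 + x.2.2 • bA 2, _, _, _, rfl⟩
  have hf : Function.Bijective f := by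
    refine ⟨fun x y e => ?_, fun ⟨v, a, b, c, e⟩ => ⟨(a, b, c), Subtype.ext e.symm⟩⟩
    have e' := congrArg Subtype.val e
    simp only [f] at e'
    have h := (piA_checks (x.1 + y.1) (x.2.1 + y.2.1) (x.2.2 + y.2.2)).2 (by
      rw [add_smul, add_smul, add_smul, add_add_add_comm (x.1 • bA 0), add_add_add_comm, e']
      funext i; exact K4.add_self _)
    refine Prod.ext ?_ (Prod.ext ?_ ?_)
    · exact (by decide : ∀ a b : K4, a + b = 0 → a = b) _ _ h.1
    · exact (by decide : ∀ a b : K4, a + b = 0 → a = b) _ _ h.2.1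
    · exact (by decide : ∀ a b : K4, a + b = 0 → a = b) _ _ h.2.2
  rw [← Nat.card_congr (Equiv.ofBijective f hf), Nat.card_prod, Nat.card_prod,
    Nat.card_eq_fintype_card (α := K4), show Fintype.card K4 = 4 from rfl]

theorem fix_small {x : S6} (hx : x ∈ TT) (h2 : x * x = 1) (h1 : x ≠ 1) : Nat.card {v // act x v = v} ≤ 256 := by
  obtain ⟨n, rfl⟩ := mem_TT hx
  obtain ⟨m, rfl⟩ := inv_idx h2 h1
  have hmem : iv m ∈ invl := iv_mem m
  obtain ⟨i, j, hij⟩ := check_small _ hmem
  let f : {v // act (elN (iv m)) v = v} × K4 × K4 → V6 := fun p => p.1.1 + (p.2.1 • bv i + p.2.2 • bv j)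
  have hf : Function.Injective f := by
    rintro ⟨⟨u, hu⟩, a, b⟩ ⟨⟨u', hu'⟩, a', b'⟩ e
    simp only [f] at e
    have key : ∀ (u : V6) (a b : K4), act (elN (iv m)) u = u →
        act (elN (iv m)) (u + (a • bv i + b • bv j)) + (u + (a • bv i + b • bv j)) =
          a • (tm (iv m) (bv i) + bv i) + b • (tm (iv m) (bv j) + bv j) := fun u a b hu => by
      rw [act, Matrix.mulVec_add, Matrix.mulVec_add, Matrix.mulVec_smul, Matrix.mulVec_smul]
      rw [show mat (elN (iv m)) *ᵥ u = u from hu, show mat (elN (iv m)) *ᵥ bv i = tm (iv m) (bv i) from act_elN _ _,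
        show mat (elN (iv m)) *ᵥ bv j = tm (iv m) (bv j) from act_elN _ _]
      funext k
      simp only [Pi.add_apply, Pi.smul_apply, smul_eq_mul]
      linear_combination K4.add_self (u k)
    have h := key u a b hu
    rw [e, key u' a' b' hu'] at h
    obtain ⟨ha, hb⟩ := hij (a + a') (b + b') (by
      rw [add_smul, add_smul, add_add_add_comm, ← h]
      funext k; exact K4.add_self _)
    obtain rfl : a = a' := (by decide : ∀ a b : K4, a + b = 0 → a = b) _ _ ha
    obtain rfl : b = b' := (by decide : ∀ a b : K4, a + b = 0 → a = b) _ _ hb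
    obtain rfl := add_right_cancel e
    rfl
  have := Nat.card_le_card_of_injective f hf
  rw [Nat.card_prod, Nat.card_prod, Nat.card_eq_fintype_card (α := K4), show Fintype.card K4 = 4 from rfl,
    Nat.card_eq_fintype_card (α := V6), Fintype.card_fun, Fintype.card_fin, show Fintype.card K4 = 4 from rfl] at this
  omega

/-- The elementary abelian subgroups of the Sylow subgroup. -/
theorem elementary {E : Subgroup S6} (hE : E ≤ TT) (h2 : ∀ x ∈ E, x * x = 1) :
    Nat.card ↥E ≤ 16 ∧ (Nat.card ↥E = 16 → 64 ≤ Nat.card {v // ∀ x ∈ E, act x v = v} → E = A0) := by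
  classical
  set S := Finset.univ.filter fun i => elN (iv i) ∈ E with hS
  have hcl : ∀ x ∈ S, ∀ y ∈ S, adj x y = true := fun x hx y hy => by
    have ha := (Finset.mem_filter.1 hx).2
    have hb := (Finset.mem_filter.1 hy).2
    refine adj_of_comm ?_
    have inv : ∀ a ∈ E, a⁻¹ = a := fun a ha => inv_eq_of_mul_eq_one_right (h2 a ha)
    calc elN (iv x) * elN (iv y) = (elN (iv x) * elN (iv y))⁻¹ := (inv _ (mul_mem ha hb)).symm
      _ = _ := by rw [_root_.mul_inv_rev, inv _ ha, inv _ hb]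
  have hex : ∀ x : ↥E, x.1 ≠ 1 → ∃ i ∈ S, x.1 = elN (iv i) := fun x hx => by
    obtain ⟨n, hn⟩ := mem_TT (hE x.2)
    obtain ⟨i, hi⟩ := inv_idx (n := n) (hn ▸ h2 x.1 x.2) (hn ▸ hx)
    exact ⟨i, Finset.mem_filter.2 ⟨Finset.mem_univ _, by rw [hi, ← hn]; exact x.2⟩, by rw [hi, hn]⟩
  have hle : Nat.card ↥E ≤ S.card + 1 := by
    have hsub : (Set.range fun x : ↥E => x.1) ⊆ ↑(insert (1 : S6) (S.image fun i => elN (iv i))) := by
      rintro _ ⟨x, rfl⟩
      by_cases hx : x.1 = 1
      · simp [hx]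
      · obtain ⟨i, hi, e⟩ := hex x hx
        exact Finset.mem_coe.2 (Finset.mem_insert_of_mem (Finset.mem_image.2 ⟨i, hi, e.symm⟩))
    have h := Set.ncard_le_ncard hsub (Finset.finite_toSet _)
    rw [Set.ncard_range_of_injective Subtype.val_injective, Set.ncard_coe_finset] at h
    exact h.trans ((Finset.card_insert_le _ _).trans (Nat.add_le_add_right Finset.card_image_le 1))
  have hS15 : S.card ≤ 15 := by
    by_contra hlt
    rcases clique_cases hcl (by omega) with h | h
    · have := Finset.card_le_card (t := Finset.univ.filter fun i => inA i = true)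
        fun x hx => Finset.mem_filter.2 ⟨Finset.mem_univ _, h x hx⟩
      rw [clique_count.1] at this; omega
    · have := Finset.card_le_card (t := Finset.univ.filter fun i => inB i = true)
        fun x hx => Finset.mem_filter.2 ⟨Finset.mem_univ _, h x hx⟩
      rw [clique_count.2] at this; omega
  refine ⟨by omega, fun h16 h64 => ?_⟩
  rcases clique_cases hcl (by omega) with h | h
  · refine Subgroup.eq_of_le_of_card_ge (fun x hx => ?_) (by rw [card_A0, h16])
    by_cases hx1 : x = 1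
    · rw [hx1]; exact one_mem _
    · obtain ⟨i, hi, e⟩ := hex ⟨x, hx⟩ hx1
      exact mem_A0.2 ⟨iv i, Or.inr (of_decide_eq_true (h i hi)), e⟩
  · exfalso
    have hsub : S = Finset.univ.filter fun i => inB i = true :=
      Finset.eq_of_subset_of_card_le (fun x hx => Finset.mem_filter.2 ⟨Finset.mem_univ _, h x hx⟩)
        (by rw [clique_count.2]; omega)
    have hmem : ∀ n ∈ ([8, 4, 2, 1] : List (Fin 128)), elN n ∈ E := fun n hn => by
      obtain ⟨i, hiB, rfl⟩ : ∃ i, inB i = true ∧ iv i = n := by revert n; decide +kernel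
      have hh : i ∈ S := hsub.ge (Finset.mem_filter.2 ⟨Finset.mem_univ i, hiB⟩)
      exact (Finset.mem_filter.1 hh).2
    have h1 : Nat.card {v // ∀ x ∈ E, act x v = v} ≤
        (Finset.univ.filter fun v : V6 => ∀ n ∈ ([8, 4, 2, 1] : List (Fin 128)), tm n v = v).card := by
      rw [← Fintype.card_subtype, ← Nat.card_eq_fintype_card]
      exact Nat.card_le_card_of_injective (fun v => ⟨v.1, fun n hn => by rw [← act_elN]; exact v.2 _ (hmem n hn)⟩)
        fun a b e => Subtype.ext (congrArg Subtype.val e :)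
    have := kerB_coord
    omega

attribute [local irreducible] cMat in
theorem A0_conj {x : S6} (hx : x ∈ A0) (h1 : x ≠ 1) : ∃ g ∈ K0, x * g = g * wel 0 := by
  obtain ⟨n, hn, rfl⟩ := mem_A0.1 hx
  obtain ⟨⟨m, w, b⟩, hp, rfl⟩ := cwords_cover n (hn.resolve_left fun e => h1 (e ▸ elN_zero))
  set g0 : ↥Wgrp := (w.map fun k => (⟨wel k, wel_mem k⟩ : ↥Wgrp)).prod with hg0
  set e : S6 := if b then mel cperm done else 1 with he
  have hm : mat (g0.1 * e) = cMat (w, b) := by
    rw [mat_mul', hg0, mat_word, he]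
    unfold cMat
    cases b <;> rfl
  refine ⟨g0.1 * e, mul_mem (wgrp_eq.le g0.2).1 ?_, ext_bv fun j => ?_⟩
  · rw [he]
    split_ifs
    · exact pm_mem cperm_sign
    · exact one_mem _
  · have h : tm m (cMat (w, b) *ᵥ bv j) = cMat (w, b) *ᵥ (wMat 0 *ᵥ bv j) := check_conj (m, w, b) hp j
    rw [← hm, ← mat_wel] at h
    rw [act_mul (elN _), act_mul _ (wel 0), act_elN]
    unfold act
    exact h

theorem wel0_sq : wel 0 * wel 0 = 1 := by
  refine ext_bv fun j => ?_
  rw [act_mul, act_one]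
  unfold act
  rw [mat_wel]
  revert j
  decide +kernel

end Cfsg.Agent.LargeFischer
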