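import Cfsg.Agent.Lib.LargeFischer.Cover
import Cfsg.Agent.Lib.LargeFischer.Sylow
import Mathlib.GroupTheory.Sylow

/-! The elementary abelian two-subgroups of largest order in the centraliser. -/

set_option autoImplicit false
set_option maxRecDepth 100000

namespace Cfsg.Agent.LargeFischer

open Cfsg.Agent.RigidGraph.He Cfsg.Agent.U43InU62 Cfsg.Agent.LargeExtra
open Subgroup

attribute [local irreducible] TT

section Aux

variable {X : Type*} [Group X]

theorem comm_of_sq {S : Subgroup X} (h : ∀ a ∈ S, a * a = 1) {a b : X} (ha : a ∈ S) (hb : b ∈ S) :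
    a * b = b * a := by
  have hi : ∀ c ∈ S, c⁻¹ = c := fun c hc => inv_eq_of_mul_eq_one_right (h c hc)
  calc a * b = (a * b)⁻¹ := (hi _ (mul_mem ha hb)).symm
    _ = b * a := by rw [_root_.mul_inv_rev, hi a ha, hi b hb]

theorem le_centralizer_sup {S T : Subgroup X} (hS : S ≤ centralizer (S : Set X))
    (hT : T ≤ centralizer (T : Set X)) (hST : T ≤ centralizer (S : Set X)) :
    S ⊔ T ≤ centralizer ((S ⊔ T : Subgroup X) : Set X) := by
  have h1 : S ⊔ T ≤ centralizer (S : Set X) := sup_le hS hST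
  have h2 : S ⊔ T ≤ centralizer (T : Set X) := sup_le (le_centralizer_iff.1 hST) hT
  exact sup_le (le_centralizer_iff.1 h1) (le_centralizer_iff.1 h2)

theorem card_eq_map_mul {Y : Type*} [Group Y] [Finite X] (f : X →* Y) (S : Subgroup X) :
    Nat.card ↥S = Nat.card ↥(S.map f) * Nat.card ↥(S ⊓ f.ker) := by
  rw [Subgroup.card_eq_card_quotient_mul_card_subgroup (f.subgroupMap S).ker,
    Nat.card_congr (QuotientGroup.quotientKerEquivOfSurjective _ (f.subgroupMap_surjective S)).toEquiv]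
  congr 1
  refine Nat.card_congr
    { toFun := fun a => ⟨a.1.1, a.1.2, MonoidHom.mem_ker.2 (congrArg Subtype.val (MonoidHom.mem_ker.1 a.2))⟩
      invFun := fun a => ⟨⟨a.1, a.2.1⟩, MonoidHom.mem_ker.2 (Subtype.ext (MonoidHom.mem_ker.1 a.2.2))⟩
      left_inv := fun _ => rfl
      right_inv := fun _ => rfl }

end Aux

variable {G : Type*} [Group G] [Finite G] {z : G} {Q : Subgroup ↥(centralizer ({z} : Set G))} [Q.Normal]

namespace Model

variable (D : Model z Q)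

/-- The copy moved by an element. -/
noncomputable def tauc (g : ↥K0) : ↥K0 →* ↥(centralizer ({z} : Set G)) ⧸ Q :=
  D.co.tau6.comp (MulAut.conj g).toMonoidHom

theorem tauc_injective (g : ↥K0) : Function.Injective (D.tauc g) :=
  D.co.tau6_injective.comp (MulAut.conj g).injective

theorem r6_tauc (g a : ↥K0) (v : V6) : D.co.r6 (D.tauc g a) v = act g.1 (act a.1 (act g.1⁻¹ v)) := by
  rw [← act_mul, ← act_mul]
  exact D.co.tau6_spec _ v

theorem tauc_mem (g a : ↥K0) : D.tauc g a ∈ D.env.K := D.co.tau6_mem _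

/-- The image of the large subgroup moved. -/
noncomputable def AR (g : ↥K0) : Subgroup (↥(centralizer ({z} : Set G)) ⧸ Q) :=
  (A0.subgroupOf K0).map (D.tauc g)

theorem mem_AR {g : ↥K0} {r : ↥(centralizer ({z} : Set G)) ⧸ Q} :
    r ∈ D.AR g ↔ ∃ a : ↥K0, a.1 ∈ A0 ∧ D.tauc g a = r :=
  ⟨fun ⟨a, ha, e⟩ => ⟨a, mem_subgroupOf.1 ha, e⟩, fun ⟨a, ha, e⟩ => ⟨a, mem_subgroupOf.2 ha, e⟩⟩

theorem card_AR (g : ↥K0) : Nat.card ↥(D.AR g) = 16 := by
  rw [AR, card_map_of_injective (D.tauc_injective g),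
    Nat.card_congr (subgroupOfEquivOfLe (A0_le.trans TT_le)).toEquiv, card_A0]

theorem AR_le (g : ↥K0) : D.AR g ≤ D.env.K := fun r hr => by
  obtain ⟨a, -, rfl⟩ := D.mem_AR.1 hr
  exact D.tauc_mem g a

/-- The fixed space of the moved subgroup. -/
def piR (g : ↥K0) (v : V6) : Prop := piA (act g.1⁻¹ v)

theorem piR_iff (g : ↥K0) (v : V6) : piR g v ↔ ∀ r ∈ D.AR g, D.co.r6 r v = v := by
  constructor
  · intro hv r hr
    obtain ⟨a, ha, rfl⟩ := D.mem_AR.1 hr
    rw [D.r6_tauc, A0_fix ha hv, ← act_mul, mul_inv_cancel, act_one]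
  · intro h
    refine fix_A0 fun a ha => ?_
    have h1 := h _ (D.mem_AR.2 ⟨⟨a, TT_le (A0_le ha)⟩, ha, rfl⟩)
    rw [D.r6_tauc] at h1
    have h2 := congrArg (act g.1⁻¹) h1
    rwa [← act_mul, inv_mul_cancel, act_one] at h2

include D in
theorem piR_even {g : ↥K0} {v : V6} (h : piR g v) : wt v % 2 = 0 := by
  have h1 := D.co.r6_wt (D.co.tau6 g) (act g.1⁻¹ v)
  rw [D.co.tau6_spec, ← act_mul, mul_inv_cancel, act_one, piA_even h] at h1
  exact h1

theorem card_piR (g : ↥K0) : Nat.card {v // piR g v} = 64 := by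
  rw [← card_piA]
  exact Nat.card_congr
    { toFun := fun v => ⟨act g.1⁻¹ v.1, v.2⟩
      invFun := fun v => ⟨act g.1 v.1, by
        show piA (act g.1⁻¹ (act g.1 v.1))
        rw [← act_mul, inv_mul_cancel, act_one]; exact v.2⟩
      left_inv := fun v => Subtype.ext (by
        show act g.1 (act g.1⁻¹ v.1) = v.1
        rw [← act_mul, mul_inv_cancel, act_one])
      right_inv := fun v => Subtype.ext (by
        show act g.1⁻¹ (act g.1 v.1) = v.1
        rw [← act_mul, inv_mul_cancel, act_one]) }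

theorem piR_zero (g : ↥K0) : piR g 0 := by
  show piA (act g.1⁻¹ 0)
  rw [act, Matrix.mulVec_zero]
  exact ⟨0, 0, 0, by simp⟩

theorem piR_add {g : ↥K0} {u v : V6} (hu : piR g u) (hv : piR g v) : piR g (u + v) := by
  obtain ⟨a, b, c, e⟩ := hu
  obtain ⟨a', b', c', e'⟩ := hv
  refine ⟨a + a', b + b', c + c', ?_⟩
  show act g.1⁻¹ (u + v) = _
  rw [act, Matrix.mulVec_add]
  simp only [act] at e e'
  rw [e, e', add_smul, add_smul, add_smul]
  abel

theorem piR_smul {g : ↥K0} {v : V6} (d : K4) (hv : piR g v) : piR g (d • v) := by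
  obtain ⟨a, b, c, e⟩ := hv
  refine ⟨d * a, d * b, d * c, ?_⟩
  show act g.1⁻¹ (d • v) = _
  rw [act_smul, e, smul_add, smul_add, smul_smul, smul_smul, smul_smul]

/-- The inverse image of the fixed space in Q. -/
noncomputable def WQ (g : ↥K0) : Subgroup ↥(centralizer ({z} : Set G)) where
  carrier := {a | ∃ q : ↥(QG Q), (q : G) = a ∧ piR g (D.vec q)}
  one_mem' := ⟨1, rfl, by rw [D.vec_one]; exact piR_zero g⟩
  mul_mem' := by
    rintro a b ⟨q, e, h⟩ ⟨q', e', h'⟩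
    exact ⟨q * q', by rw [Subgroup.coe_mul, Subgroup.coe_mul, e, e'], by rw [D.vec_mul]; exact piR_add h h'⟩
  inv_mem' := by
    rintro a ⟨q, e, h⟩
    exact ⟨q⁻¹, by rw [Subgroup.coe_inv, Subgroup.coe_inv, e], by rw [D.vec_inv]; exact h⟩

theorem mem_WQ {g : ↥K0} {a : ↥(centralizer ({z} : Set G))} :
    a ∈ D.WQ g ↔ ∃ q : ↥(QG Q), (q : G) = a ∧ piR g (D.vec q) := Iff.rfl

theorem WQ_le (g : ↥K0) : D.WQ g ≤ Q := fun a ⟨q, e, _⟩ => by
  obtain ⟨a', ha', e'⟩ := q.2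
  exact (show a' = a from Subtype.ext (e'.trans e)) ▸ ha'

theorem zel_WQ (g : ↥K0) : zel z ∈ D.WQ g :=
  ⟨⟨z, D.ctx.xs.mem⟩, rfl, by rw [D.vec_eq_zero.2 (Or.inr rfl)]; exact piR_zero g⟩

theorem WQ_sq (g : ↥K0) : ∀ a ∈ D.WQ g, a * a = 1 := fun a ⟨q, e, h⟩ => Subtype.ext (by
  show a.1 * a.1 = 1
  rw [← e]
  exact (D.wt_vec q).1 (D.piR_even h))

theorem WQ_comm (g : ↥K0) : D.WQ g ≤ centralizer (D.WQ g : Set ↥(centralizer ({z} : Set G))) :=
  fun _ ha => mem_centralizer_iff.2 fun _ hb => comm_of_sq (D.WQ_sq g) hb ha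

theorem card_WQ (g : ↥K0) : Nat.card ↥(D.WQ g) = 128 := by
  classical
  choose sel hsel using fun v : {v // piR g v} => D.vec_surjective v.1
  choose selC hselC hselG using fun v : {v // piR g v} => D.exists_coe (sel v)
  have hmem : ∀ v, selC v ∈ D.WQ g := fun v => ⟨sel v, (hselG v).symm, by rw [hsel]; exact v.2⟩
  let f : {v // piR g v} × Fin 2 → ↥(D.WQ g) := fun p =>
    if p.2 = 0 then ⟨selC p.1, hmem p.1⟩ else ⟨selC p.1 * zel z, mul_mem (hmem p.1) (D.zel_WQ g)⟩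
  have hf : Function.Bijective f := by
    constructor
    · rintro ⟨v, i⟩ ⟨v', i'⟩ e
      have hv : v = v' := by
        have e1 : ((f (v, i) : ↥(centralizer ({z} : Set G))) : G) = ((f (v', i') : ↥(centralizer ({z} : Set G))) : G) := by
          rw [e]
        have key : ∀ (v : {v // piR g v}) (i : Fin 2), ((f (v, i) : ↥(centralizer ({z} : Set G))) : G) = sel v ∨
            ((f (v, i) : ↥(centralizer ({z} : Set G))) : G) = sel v * z := fun v i => by
          by_cases hi : i = 0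
          · left; simp only [f, hi, if_true]; exact hselG v
          · right
            simp only [f, hi, if_false]
            show (selC v).1 * z = _
            rw [hselG v]
        have h2 : D.vec (sel v) = D.vec (sel v') := by
          rw [D.vec_eq_iff]
          rcases key v i with a | a <;> rcases key v' i' with b | b <;> rw [a, b] at e1
          · exact Or.inl e1.symm
          · exact Or.inr (by rw [e1, mul_assoc, D.ctx.xs.sq, mul_one])
          · exact Or.inr e1.symm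
          · exact Or.inl (mul_right_cancel e1).symm
        rw [hsel, hsel] at h2
        exact Subtype.ext h2
      subst hv
      refine Prod.ext rfl ?_
      by_contra hne
      fin_cases i <;> fin_cases i' <;>
        first
          | exact hne rfl
          | (simp only [f] at e
             have e' := congrArg Subtype.val e
             simp at e'
             exact D.zel_ne e')
    · rintro ⟨a, q, hq, hpi⟩
      have h : D.vec (sel ⟨D.vec q, hpi⟩) = D.vec q := hsel _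
      rcases D.vec_eq_iff.1 h with e | e
      · refine ⟨(⟨D.vec q, hpi⟩, 0), Subtype.ext (Subtype.ext ?_)⟩
        show (selC _).1 = a.1
        rw [hselG, ← hq, e]
      · refine ⟨(⟨D.vec q, hpi⟩, 1), Subtype.ext (Subtype.ext ?_)⟩
        show (selC _).1 * z = a.1
        rw [hselG, ← hq, e]
  rw [← Nat.card_congr (Equiv.ofBijective f hf), Nat.card_prod, card_piR, Nat.card_fin]

include D in
/-- Abelian subgroups of Q. -/
theorem card_comm_le {S : Subgroup ↥(centralizer ({z} : Set G))} (hS : S ≤ Q)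
    (hc : S ≤ centralizer (S : Set ↥(centralizer ({z} : Set G)))) : Nat.card ↥S ≤ 128 := by
  haveI : Fact (Nat.Prime 2) := ⟨Nat.prime_two⟩
  set R := S.map (centralizer ({z} : Set G)).subtype with hR
  have hle : R ≤ QG Q := map_mono hS
  have hcomm : IsMulCommutative ↥(R.subgroupOf (QG Q)) := ⟨⟨fun a b => Subtype.ext (Subtype.ext (by
    obtain ⟨a', ha, ea⟩ := mem_subgroupOf.1 a.2
    obtain ⟨b', hb, eb⟩ := mem_subgroupOf.1 b.2
    show (a.1 : G) * b.1 = b.1 * a.1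
    rw [← ea, ← eb]
    exact congrArg Subtype.val (mem_centralizer_iff.1 (hc hb) a' ha)))⟩⟩
  have h1 := FGBasics.XS.card_abelian_sq_le D.ctx.xs.xs _ hcomm
  rw [Nat.card_congr (subgroupOfEquivOfLe hle).toEquiv, D.ctx.card, hR,
    card_map_of_injective (centralizer ({z} : Set G)).subtype_injective] at h1
  nlinarith

theorem centraliser_WQ {g : ↥K0} {q : ↥(centralizer ({z} : Set G))} (hq : q ∈ Q)
    (hc : ∀ w ∈ D.WQ g, w * q = q * w) : q ∈ D.WQ g := by
  have hz : zpowers q ≤ centralizer (zpowers q : Set ↥(centralizer ({z} : Set G))) := fun a ha => by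
    obtain ⟨i, rfl⟩ := mem_zpowers_iff.1 ha
    exact mem_centralizer_iff.2 fun b hb => by
      obtain ⟨j, rfl⟩ := mem_zpowers_iff.1 hb
      exact (Commute.zpow_zpow (Commute.refl q) j i).eq
  have h1 := D.card_comm_le (sup_le (D.WQ_le g) (zpowers_le.2 hq))
    (le_centralizer_sup (D.WQ_comm g) hz (zpowers_le.2 (mem_centralizer_iff.2 hc)))
  rw [← D.card_WQ g] at h1
  exact (Subgroup.eq_of_le_of_card_ge le_sup_left h1).ge (mem_sup_right (mem_zpowers q))

/-- A two-subgroup of K lies in a conjugate of the Sylow subgroup. -/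
theorem exists_TT {H : Subgroup (↥(centralizer ({z} : Set G)) ⧸ Q)} (hK : H ≤ D.env.K) (h2 : IsPGroup 2 ↥H) :
    ∃ g : ↥K0, H ≤ (TT.subgroupOf K0).map (D.tauc g) := by
  haveI : Fact (Nat.Prime 2) := ⟨Nat.prime_two⟩
  have hc : Nat.card ↥(TT.subgroupOf K0) = 128 := by
    rw [Nat.card_congr (subgroupOfEquivOfLe TT_le).toEquiv, card_TT]
  obtain ⟨S, hS⟩ := (IsPGroup.of_card (p := 2) (n := 7) hc).exists_le_sylow
  have h7 : Nat.card ↥(S : Subgroup ↥K0) ∣ 128 := by
    obtain ⟨n, hn⟩ := IsPGroup.iff_card.1 S.isPGroup'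
    have hd := (S : Subgroup ↥K0).card_subgroup_dvd_card
    rw [card_K0, hn] at hd
    rw [hn]
    by_contra hlt
    have : 8 ≤ n := by
      by_contra h
      exact hlt (pow_dvd_pow 2 (show n ≤ 7 by omega))
    exact absurd ((pow_dvd_pow 2 this).trans hd) (by norm_num)
  have hST : TT.subgroupOf K0 = (S : Subgroup ↥K0) :=
    Subgroup.eq_of_le_of_card_ge hS (by rw [hc]; exact Nat.le_of_dvd (by norm_num) h7)
  obtain ⟨S', hS'⟩ := (h2.comap_of_injective D.co.tau6 D.co.tau6_injective).exists_le_sylow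
  obtain ⟨g, hg⟩ := MulAction.exists_smul_eq ↥K0 S S'
  refine ⟨g, fun r hr => ?_⟩
  obtain ⟨a, rfl⟩ := D.co.exists_tau6 (hK hr)
  have ha : a ∈ ((g • S : Sylow 2 ↥K0) : Subgroup ↥K0) := hg ▸ hS' hr
  rw [Sylow.coe_subgroup_smul, Subgroup.mem_pointwise_smul_iff_inv_smul_mem] at ha
  refine ⟨g⁻¹ * a * g, hST.ge (by simpa using ha), ?_⟩
  show D.co.tau6 (g * (g⁻¹ * a * g) * g⁻¹) = _
  congr 1
  group

/-- Elementary two-subgroups of K in coordinates. -/
theorem pull {H : Subgroup (↥(centralizer ({z} : Set G)) ⧸ Q)} {g : ↥K0}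
    (hg : H ≤ (TT.subgroupOf K0).map (D.tauc g)) (hsq : ∀ r ∈ H, r * r = 1) :
    Nat.card ↥H ≤ 16 ∧ (Nat.card ↥H = 16 → 64 ≤ Nat.card {v // ∀ r ∈ H, D.co.r6 r v = v} → H = D.AR g) := by
  set E := (H.comap (D.tauc g)).map K0.subtype with hE
  have hle : E ≤ TT := by
    rintro _ ⟨a, ha, rfl⟩
    obtain ⟨b, hb, e⟩ := hg ha
    exact D.tauc_injective g e ▸ mem_subgroupOf.1 hb
  have hmem : ∀ a : ↥K0, a.1 ∈ E ↔ D.tauc g a ∈ H := fun a =>
    ⟨fun ⟨b, hb, e⟩ => (show b = a from Subtype.ext e) ▸ hb, fun h => ⟨a, h, rfl⟩⟩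
  have hsq' : ∀ x ∈ E, x * x = 1 := by
    rintro _ ⟨a, ha, rfl⟩
    have := D.tauc_injective g (show D.tauc g (a * a) = D.tauc g 1 by rw [map_mul, map_one]; exact hsq _ ha)
    exact congrArg Subtype.val this
  have hHr : H ≤ (D.tauc g).range := fun r hr => by
    obtain ⟨b, -, e⟩ := hg hr
    exact ⟨b, e⟩
  have hcard : Nat.card ↥E = Nat.card ↥H := by
    rw [hE, card_map_of_injective K0.subtype_injective,
      ← card_map_of_injective (f := D.tauc g) (D.tauc_injective g) (K := H.comap (D.tauc g)),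
      map_comap_eq_self hHr]
  obtain ⟨h1, h2⟩ := elementary hle hsq'
  refine ⟨hcard ▸ h1, fun h16 h64 => ?_⟩
  have hEA : E = A0 := h2 (hcard.trans h16) (h64.trans (Nat.card_le_card_of_injective
    (fun v => ⟨act g.1⁻¹ v.1, fun x hx => by
      have hxK : x ∈ K0 := TT_le (hle hx)
      have h := v.2 _ ((hmem ⟨x, hxK⟩).1 hx)
      rw [D.r6_tauc] at h
      have h' := congrArg (act g.1⁻¹) h
      rwa [← act_mul, inv_mul_cancel, act_one] at h'⟩)
    fun u v e => Subtype.ext (by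
      have e' := congrArg (act g.1) (Subtype.ext_iff.1 e)
      simp only at e'
      rwa [← act_mul, ← act_mul, mul_inv_cancel, act_one, act_one] at e')))
  refine Subgroup.eq_of_le_of_card_ge (fun r hr => ?_) (by rw [D.card_AR, h16])
  obtain ⟨a, rfl⟩ := hHr hr
  exact D.mem_AR.2 ⟨a, hEA.le ((hmem a).2 hr), rfl⟩

theorem fix_le_small {r : ↥(centralizer ({z} : Set G)) ⧸ Q} {g : ↥K0}
    (hg : r ∈ (TT.subgroupOf K0).map (D.tauc g)) (hsq : r * r = 1) (h1 : r ≠ 1) :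
    Nat.card {v // D.co.r6 r v = v} ≤ 256 := by
  obtain ⟨a, ha, rfl⟩ := hg
  have ha2 : a * a = 1 := D.tauc_injective g (by rw [map_mul, map_one]; exact hsq)
  refine le_trans (Nat.card_le_card_of_injective (fun v => (⟨act g.1⁻¹ v.1, ?_⟩ : {w // act a.1 w = w})) ?_)
    (fix_small (mem_subgroupOf.1 ha) (congrArg Subtype.val ha2) fun e => h1 ?_)
  · have h := congrArg (act g.1⁻¹) ((D.r6_tauc g a v.1).symm.trans v.2)
    rwa [← act_mul, inv_mul_cancel, act_one] at h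
  · intro u v e
    refine Subtype.ext ?_
    have e' := congrArg (act g.1) (Subtype.ext_iff.1 e)
    simp only at e'
    rwa [← act_mul, ← act_mul, mul_inv_cancel, act_one, act_one] at e'
  · rw [show a = 1 from Subtype.ext e, map_one]

theorem semi_of_not_mem (hF : Cfsg.IsOfLargeFischerTypeAt z Q) {r : ↥(centralizer ({z} : Set G)) ⧸ Q}
    (hr : r ∉ D.env.K) : ∀ (c : K4) v, D.co.r6 r (c • v) = c ^ 2 • D.co.r6 r v := by
  obtain ⟨g, s, hg, hs, hw⟩ := D.exists_at_w0 hF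
  exact (D.co.r6_semi r).resolve_left fun hlin => hr
    (D.co.linear_mem (D.Eg_two hg hs) (D.Eg_ge hg hs) (hw ▸ D.Eg_le hg) (hw ▸ D.Eg_normal hg hs) hlin)

/-- The classification of the largest elementary abelian subgroups. -/
theorem big_elem (hF : Cfsg.IsOfLargeFischerTypeAt z Q) {E : Subgroup ↥(centralizer ({z} : Set G))}
    (hE : ∀ a ∈ E, a * a = 1) (hc : 2048 ≤ Nat.card ↥E) :
    Nat.card ↥E = 2048 ∧ ∃ g : ↥K0, E.map (QuotientGroup.mk' Q) = D.AR g ∧ E ⊓ Q = D.WQ g := by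
  classical
  set Eb := E.map (QuotientGroup.mk' Q) with hEb
  have hsq : ∀ r ∈ Eb, r * r = 1 := by
    rintro _ ⟨a, ha, rfl⟩
    rw [← map_mul, hE a ha, map_one]
  have hp2 : IsPGroup 2 ↥Eb := fun r => ⟨1, Subtype.ext (by rw [pow_one, pow_two]; exact hsq _ r.2)⟩
  have hmul : Nat.card ↥E = Nat.card ↥Eb * Nat.card ↥(E ⊓ Q) := by
    rw [card_eq_map_mul (QuotientGroup.mk' Q) E, QuotientGroup.ker_mk']
  have hQ : Nat.card ↥(E ⊓ Q) ≤ 128 := D.card_comm_le inf_le_right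
    fun a ha => mem_centralizer_iff.2 fun b hb => comm_of_sq (S := E ⊓ Q) (fun c hc => hE c (Subgroup.mem_inf.1 hc).1) hb ha
  obtain ⟨g, hg⟩ := D.exists_TT (H := Eb ⊓ D.env.K) inf_le_right (hp2.to_le inf_le_left)
  obtain ⟨h16, hAR⟩ := D.pull hg fun r hr => hsq r hr.1
  have h32 : Nat.card ↥Eb ≤ 32 :=
    (Env.Coords.card_le_two_mul (W := D.env) Eb).trans (Nat.mul_le_mul_left 2 h16)
  -- the coordinates of the part in Q
  set W := {v : V6 // ∃ q : ↥(QG Q), (∃ a ∈ E ⊓ Q, (q : G) = a.1) ∧ D.vec q = v}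
  have hW2 : Nat.card ↥(E ⊓ Q) ≤ 2 * Nat.card W := by
    let f : ↥(E ⊓ Q) → W := fun a => ⟨D.vec ⟨a.1.1, a.1, a.2.2, rfl⟩, _, ⟨a.1, a.2, rfl⟩, rfl⟩
    have hfib : ∀ v, Nat.card {a // f a = v} ≤ 2 := fun v => by
      by_cases hv : ∃ a, f a = v
      · obtain ⟨a0, ha0⟩ := hv
        have : ∀ a : {a // f a = v}, a.1.1.1 = a0.1.1 ∨ a.1.1.1 = a0.1.1 * z := fun a =>
          (D.vec_eq_iff (x := ⟨a0.1.1, a0.1, a0.2.2, rfl⟩) (y := ⟨a.1.1.1, a.1.1, a.1.2.2, rfl⟩)).1
            (congrArg Subtype.val (ha0.trans a.2.symm) :)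
        refine (Nat.card_le_card_of_injective
          (fun a => if a.1.1.1 = a0.1.1 then (0 : Fin 2) else 1) fun a b e => ?_).trans (by simp)
        refine Subtype.ext (Subtype.ext (Subtype.ext ?_))
        by_cases h1 : a.1.1.1 = a0.1.1 <;> by_cases h2 : b.1.1.1 = a0.1.1 <;>
          simp only [h1, h2, if_true, if_false] at e
        · exact h1.trans h2.symm
        · exact absurd e (by decide)
        · exact absurd e (by decide)
        · exact ((this a).resolve_left h1).trans ((this b).resolve_left h2).symm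
      · have : IsEmpty {a // f a = v} := ⟨fun r => hv ⟨r.1, r.2⟩⟩
        simp
    rw [← Nat.card_congr (Equiv.sigmaFiberEquiv f), Nat.card_sigma, Nat.card_eq_fintype_card (α := W)]
    exact (Finset.sum_le_sum fun v _ => hfib v).trans (by simp [mul_comm])
  have hfixW : ∀ v : W, ∀ r ∈ Eb, D.co.r6 r v.1 = v.1 := by
    rintro ⟨_, q, ⟨a, ha, hqa⟩, rfl⟩ _ ⟨b, hb, rfl⟩
    show D.co.r6 (QuotientGroup.mk b) (D.vec q) = D.vec q
    rw [← D.vec_conj]
    refine congrArg D.vec (Subtype.ext ?_)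
    show b.1 * (q : G) * b.1⁻¹ = q
    rw [hqa]
    exact mul_inv_eq_iff_eq_mul.2 (congrArg Subtype.val (comm_of_sq hE hb ha.1))
  have hEK : Eb ≤ D.env.K := by
    intro t ht
    by_contra htK
    have h2 := Env.Coords.card_le_two_mul (W := D.env) Eb
    have h8 : 2 ≤ Nat.card ↥(Eb ⊓ D.env.K) := by
      have := Nat.mul_le_mul_left (Nat.card ↥Eb) hQ
      omega
    obtain ⟨r, hr, hr1⟩ : ∃ r ∈ Eb ⊓ D.env.K, r ≠ 1 := by
      by_contra hh
      push Not at hh
      rw [(Subgroup.eq_bot_iff_forall _).2 hh, card_bot] at h8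
      omega
    have hW32 : 32 ≤ Nat.card W := by
      have h3 := Nat.mul_le_mul_right (Nat.card ↥(E ⊓ Q)) h32
      omega
    have hadd : ∀ u v : W, ∃ w : W, w.1 = u.1 + v.1 := by
      rintro ⟨_, q, ⟨a, ha, ea⟩, rfl⟩ ⟨_, q', ⟨b, hb, eb⟩, rfl⟩
      exact ⟨⟨_, q * q', ⟨a * b, mul_mem ha hb, by rw [Subgroup.coe_mul, Subgroup.coe_mul, ea, eb]⟩, rfl⟩,
        D.vec_mul q q'⟩
    have hr6 := hfixW
    have hlin : ∀ (c : K4) v, D.co.r6 r (c • v) = c • D.co.r6 r v := fun c v => by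
      obtain ⟨k, rfl⟩ := D.co.exists_tau6 hr.2
      rw [D.co.tau6_spec, D.co.tau6_spec, act_smul]
    let f : W × W → {v // D.co.r6 r v = v} := fun p => ⟨p.1.1 + K4.w • p.2.1, by
      rw [D.co.r6_add, hlin, hfixW p.1 r hr.1, hfixW p.2 r hr.1]⟩
    have hf : Function.Injective f := by
      rintro ⟨u, v⟩ ⟨u', v'⟩ e
      have e' : u.1 + K4.w • v.1 = u'.1 + K4.w • v'.1 := congrArg Subtype.val e
      obtain ⟨y, hy⟩ := hadd u u'
      obtain ⟨d, hd⟩ := hadd v v'
      have hyd : y.1 = K4.w • d.1 := by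
        rw [hy, hd, smul_add]
        calc u.1 + u'.1 = (u.1 + K4.w • v.1) + u'.1 + K4.w • v.1 := by
              rw [add_right_comm u.1, add_assoc _ (K4.w • v.1), v6_add_self, add_zero]
          _ = (u'.1 + u'.1) + (K4.w • v'.1 + K4.w • v.1) := by rw [e']; abel
          _ = K4.w • v.1 + K4.w • v'.1 := by rw [v6_add_self, zero_add, add_comm]
      have hd0 : d.1 = 0 := by
        have h1 := hfixW y t ht
        rw [hyd, D.semi_of_not_mem hF htK, hfixW d t ht] at h1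
        funext i
        exact (by decide : ∀ a : K4, K4.w ^ 2 * a = K4.w * a → a = 0) (d.1 i) (congrFun h1 i)
      have hv : v = v' := Subtype.ext (v6_eq_of_add (by rw [← hd, hd0])).symm
      subst hv
      exact Prod.ext (Subtype.ext (add_right_cancel e')) rfl
    have h256 := (Nat.card_le_card_of_injective f hf).trans (D.fix_le_small (hg hr) (hsq r hr.1) hr1)
    rw [Nat.card_prod] at h256
    nlinarith
  have hEbK : Eb ⊓ D.env.K = Eb := inf_eq_left.2 hEK
  rw [hEbK] at h16 hAR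
  have hmul' := Nat.mul_le_mul h16 hQ
  have hQ128 : Nat.card ↥(E ⊓ Q) = 128 := by
    have := Nat.mul_le_mul_right (Nat.card ↥(E ⊓ Q)) h16
    omega
  have hb16 : Nat.card ↥Eb = 16 := by
    have := Nat.mul_le_mul_left (Nat.card ↥Eb) hQ
    omega
  refine ⟨by omega, g, ?_⟩
  have hEA : Eb = D.AR g := by
    refine hAR hb16 ?_
    refine le_trans (show 64 ≤ Nat.card W by omega) ?_
    exact Nat.card_le_card_of_injective (fun v => ⟨v.1, hfixW v⟩) fun u v e =>
      Subtype.ext (congrArg Subtype.val e :)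
  refine ⟨hEA, Subgroup.eq_of_le_of_card_ge (fun a ha => ⟨⟨a.1, a, ha.2, rfl⟩, rfl, ?_⟩)
    (by rw [D.card_WQ, hQ128])⟩
  rw [D.piR_iff, ← hEA]
  exact fun r hr => hfixW ⟨_, _, ⟨a, ha, rfl⟩, rfl⟩ r hr

theorem AR_unique {H : Subgroup (↥(centralizer ({z} : Set G)) ⧸ Q)} (hH : IsPGroup 2 ↥H) {g g' : ↥K0}
    (hg : D.AR g ≤ H) (hg' : D.AR g' ≤ H) : D.AR g = D.AR g' := by
  obtain ⟨k, hk⟩ := D.exists_TT (H := H ⊓ D.env.K) inf_le_right (hH.to_le inf_le_left)
  have key : ∀ g : ↥K0, D.AR g ≤ H → D.AR g = D.AR k := fun g hg => by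
    have hsq : ∀ r ∈ D.AR g, r * r = 1 := fun r hr => by
      obtain ⟨a, ha, rfl⟩ := D.mem_AR.1 hr
      rw [← map_mul, show a * a = 1 from Subtype.ext (A0_sq ha), map_one]
    refine (D.pull ((le_inf hg (D.AR_le g)).trans hk) hsq).2 (D.card_AR g) ?_
    rw [← card_piR g]
    exact Nat.card_le_card_of_injective (fun v => ⟨v.1, (D.piR_iff g v.1).1 v.2⟩) fun u v e =>
      Subtype.ext (congrArg Subtype.val e :)
  rw [key g hg, key g' hg']

include D in
theorem big_unique (hF : Cfsg.IsOfLargeFischerTypeAt z Q) {E E' : Subgroup ↥(centralizer ({z} : Set G))}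
    (T : Subgroup ↥(centralizer ({z} : Set G))) (hT : IsPGroup 2 ↥T) (hET : E ≤ T) (hET' : E' ≤ T)
    (hE : ∀ a ∈ E, a * a = 1) (hE' : ∀ a ∈ E', a * a = 1) (hc : 2048 ≤ Nat.card ↥E) (hc' : 2048 ≤ Nat.card ↥E') :
    E ≤ E' := by
  obtain ⟨-, g, hg, hq⟩ := D.big_elem hF hE hc
  obtain ⟨-, g', hg', hq'⟩ := D.big_elem hF hE' hc'
  have hA : D.AR g = D.AR g' := D.AR_unique (hT.map (QuotientGroup.mk' Q)) (hg ▸ map_mono hET) (hg' ▸ map_mono hET')
  have hW : D.WQ g = D.WQ g' := by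
    ext a
    simp only [mem_WQ, D.piR_iff, hA]
  intro a ha
  obtain ⟨b, hb, e⟩ : QuotientGroup.mk' Q a ∈ E'.map (QuotientGroup.mk' Q) :=
    hg' ▸ hA ▸ hg ▸ mem_map_of_mem _ ha
  have hq1 : b⁻¹ * a ∈ Q := QuotientGroup.eq.1 e
  have h1 : b⁻¹ * a ∈ D.WQ g' := D.centraliser_WQ hq1 fun w hw => by
    have hwE' : w ∈ E' := (hq'.ge hw).1
    have hwE : w ∈ E := (hq.ge (hW ▸ hw)).1
    rw [← mul_assoc, comm_of_sq hE' hwE' (inv_mem hb), mul_assoc, comm_of_sq hE hwE ha, mul_assoc]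
  have := mul_mem hb (hq'.ge h1).1
  rwa [mul_inv_cancel_left] at this

end Model

namespace Cover

variable {D : Model z Q} (cv : Cover D)

/-- The lifts of the moved subgroup centralising the element. -/
noncomputable abbrev BA (g : ↥K0) : Subgroup ↥(centralizer ({z} : Set G)) :=
  cv.L ⊓ (D.AR g).comap (QuotientGroup.mk' Q)

theorem BA_sq (g : ↥K0) : ∀ b ∈ cv.BA g, b * b = 1 := by
  set r0 : ↥(centralizer ({z} : Set G)) ⧸ Q :=
    D.co.tau6 ⟨wel 0, (wgrp_eq.le (wel_mem 0 : wel 0 ∈ Wgrp)).1⟩ with hr0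
  obtain ⟨l0, hl0, el0⟩ := cv.exists_lift (show r0 ∈ D.env.K from D.co.tau6_mem _)
  set s0 := l0 * l0 with hs0
  have hconst : ∀ b ∈ cv.BA g, (QuotientGroup.mk b : _ ⧸ Q) ≠ 1 → b * b = s0 := by
    rintro b ⟨hbL, hbA⟩ hb1
    obtain ⟨a, ha, ea⟩ := D.mem_AR.1 hbA
    obtain ⟨u, hu, eu⟩ := A0_conj ha fun e => hb1 (by
      rw [show a = 1 from Subtype.ext e, map_one] at ea
      exact ea.symm)
    obtain ⟨l, hl, el⟩ := cv.exists_lift (D.co.tau6_mem (g * ⟨u, hu⟩))
    have hd : (l * l0 * l⁻¹)⁻¹ * b ∈ Q := by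
      refine QuotientGroup.eq.1 ?_
      rw [QuotientGroup.mk_mul, QuotientGroup.mk_mul, QuotientGroup.mk_inv, el, el0,
        show (QuotientGroup.mk b : _ ⧸ Q) = D.tauc g a from ea.symm, hr0, ← map_inv, ← map_mul, ← map_mul]
      show _ = D.co.tau6 (g * a * g⁻¹)
      congr 1
      refine Subtype.ext ?_
      show g.1 * u * wel 0 * (g.1 * u)⁻¹ = g.1 * a.1 * g.1⁻¹
      rw [mul_assoc g.1 u, ← eu]
      group
    rcases cv.inf_Q (mul_mem (inv_mem (mul_mem (mul_mem hl hl0) (inv_mem hl))) hbL) hd with e | e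
    · rw [← inv_mul_eq_one.1 e, hs0]
      have hl00 : l * l0 * l⁻¹ * (l * l0 * l⁻¹) = l * (l0 * l0) * l⁻¹ := by group
      rw [hl00]
      rcases cv.inf_Q (mul_mem hl0 hl0) ((QuotientGroup.eq_one_iff _).1 (by
        rw [QuotientGroup.mk_mul, el0, hr0, ← map_mul]
        rw [show (⟨wel 0, _⟩ * ⟨wel 0, _⟩ : ↥K0) = 1 from Subtype.ext wel0_sq, map_one])) with e' | e' <;> rw [e']
      · group
      · rw [zel_comm l]; group
    · rw [inv_mul_eq_iff_eq_mul.1 e, hs0]
      have hl00 : l * l0 * l⁻¹ * zel z * (l * l0 * l⁻¹ * zel z) = l * (l0 * l0) * l⁻¹ := by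
        rw [mul_assoc (l * l0 * l⁻¹) (zel z), ← mul_assoc (zel z), ← zel_comm (l * l0 * l⁻¹),
          mul_assoc (l * l0 * l⁻¹) (zel z), D.zel_sq]
        group
      rw [hl00]
      rcases cv.inf_Q (mul_mem hl0 hl0) ((QuotientGroup.eq_one_iff _).1 (by
        rw [QuotientGroup.mk_mul, el0, hr0, ← map_mul]
        rw [show (⟨wel 0, _⟩ * ⟨wel 0, _⟩ : ↥K0) = 1 from Subtype.ext wel0_sq, map_one])) with e' | e' <;> rw [e']
      · group
      · rw [zel_comm l]; group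
  have hlift : ∀ r ∈ D.AR g, ∃ b ∈ cv.BA g, (QuotientGroup.mk b : _ ⧸ Q) = r := fun r hr => by
    obtain ⟨b, hb, e⟩ := cv.exists_lift (D.AR_le g hr)
    exact ⟨b, ⟨hb, show QuotientGroup.mk' Q b ∈ D.AR g by rw [show QuotientGroup.mk' Q b = r from e]; exact hr⟩, e⟩
  have hs01 : s0 = 1 := by
    rcases cv.inf_Q (mul_mem hl0 hl0) ((QuotientGroup.eq_one_iff _).1 (by
      rw [QuotientGroup.mk_mul, el0, hr0, ← map_mul]
      rw [show (⟨wel 0, _⟩ * ⟨wel 0, _⟩ : ↥K0) = 1 from Subtype.ext wel0_sq, map_one])) with e' | e'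
    · exact e'
    exfalso
    classical
    have hpick : ∀ F : Finset (↥(centralizer ({z} : Set G)) ⧸ Q), F.card < 16 →
        ∃ r ∈ D.AR g, r ∉ F := fun F hF => by
      by_contra h
      push Not at h
      have := Nat.card_le_card_of_injective (fun r : ↥(D.AR g) => (⟨r.1, h r.1 r.2⟩ : ↥F)) fun a b e =>
        Subtype.ext (congrArg Subtype.val e :)
      rw [D.card_AR, Nat.card_eq_fintype_card, Fintype.card_coe] at this
      omega
    obtain ⟨a1, ha1, h1⟩ := hpick {1} (by simp)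
    obtain ⟨a2, ha2, h2⟩ := hpick {1, a1} (lt_of_le_of_lt Finset.card_le_two (by norm_num))
    obtain ⟨a3, ha3, h3⟩ := hpick {1, a1, a2, a2⁻¹ * a1} (lt_of_le_of_lt Finset.card_le_four (by norm_num))
    simp only [Finset.mem_singleton, Finset.mem_insert, not_or] at h1 h2 h3
    obtain ⟨b1, hb1, e1⟩ := hlift a1 ha1
    obtain ⟨b2, hb2, e2⟩ := hlift a2 ha2
    obtain ⟨b3, hb3, e3⟩ := hlift a3 ha3
    have hsqA : ∀ r ∈ D.AR g, r⁻¹ = r := fun r hr => by
      obtain ⟨a, ha, rfl⟩ := D.mem_AR.1 hr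
      rw [← map_inv, show a⁻¹ = a from inv_eq_of_mul_eq_one_right (Subtype.ext (A0_sq ha))]
    have anti : ∀ p q, p ∈ cv.BA g → q ∈ cv.BA g → (QuotientGroup.mk p : _ ⧸ Q) ≠ 1 →
        (QuotientGroup.mk q : _ ⧸ Q) ≠ 1 → (QuotientGroup.mk (p * q) : _ ⧸ Q) ≠ 1 → p * q = q * p * zel z := by
      intro p q hp hq hp1 hq1 hpq
      have hi : ∀ b, b * b = zel z → b⁻¹ = b * zel z := fun b hb =>
        inv_eq_of_mul_eq_one_right (by rw [← mul_assoc, hb, D.zel_sq])
      have hP : p * p = zel z := (hconst p hp hp1).trans e'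
      have hQ' : q * q = zel z := (hconst q hq hq1).trans e'
      have hPQ : p * q * (p * q) = zel z := (hconst _ (mul_mem hp hq) hpq).trans e'
      calc p * q = (p * q)⁻¹ * zel z := by
            rw [hi _ hPQ, mul_assoc _ (zel z), D.zel_sq, mul_one]
        _ = q * zel z * (p * zel z) * zel z := by rw [_root_.mul_inv_rev, hi q hQ', hi p hP]
        _ = q * p * zel z := by
            rw [mul_assoc q (zel z), ← mul_assoc (zel z) p, ← zel_comm p, mul_assoc p, D.zel_sq, mul_one]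
    have n1 : (QuotientGroup.mk b1 : _ ⧸ Q) ≠ 1 := e1 ▸ h1
    have n2 : (QuotientGroup.mk b2 : _ ⧸ Q) ≠ 1 := e2 ▸ h2.1
    have n3 : (QuotientGroup.mk b3 : _ ⧸ Q) ≠ 1 := e3 ▸ h3.1
    have c12 := anti b1 b2 hb1 hb2 n1 n2 (by
      rw [QuotientGroup.mk_mul, e1, e2]
      exact fun h => h2.2 ((inv_eq_of_mul_eq_one_right h).symm.trans (hsqA a1 ha1)))
    have c13 := anti b1 b3 hb1 hb3 n1 n3 (by
      rw [QuotientGroup.mk_mul, e1, e3]
      exact fun h => h3.2.1 ((inv_eq_of_mul_eq_one_right h).symm.trans (hsqA a1 ha1)))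
    have c1 := anti b1 (b2 * b3) hb1 (mul_mem hb2 hb3) n1 (by
      rw [QuotientGroup.mk_mul, e2, e3]
      exact fun h => h3.2.2.1 ((inv_eq_of_mul_eq_one_right h).symm.trans (hsqA a2 ha2))) (by
      rw [QuotientGroup.mk_mul, QuotientGroup.mk_mul, e1, e2, e3]
      intro h
      refine h3.2.2.2 ?_
      rw [eq_inv_mul_iff_mul_eq, ← hsqA a1 ha1]
      exact (inv_eq_of_mul_eq_one_right h).symm)
    have c1' : b1 * (b2 * b3) = b2 * b3 * b1 := by
      calc b1 * (b2 * b3) = b1 * b2 * b3 := by group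
        _ = b2 * b1 * (zel z * b3) := by rw [c12]; group
        _ = b2 * (b1 * b3) * zel z := by rw [← zel_comm b3]; group
        _ = b2 * b3 * b1 * (zel z * zel z) := by rw [c13]; group
        _ = b2 * b3 * b1 := by rw [D.zel_sq, mul_one]
    exact D.zel_ne (mul_eq_left.1 (c1.symm.trans c1'))
  intro b hb
  by_cases h : (QuotientGroup.mk b : _ ⧸ Q) = 1
  · rcases cv.inf_Q hb.1 ((QuotientGroup.eq_one_iff _).1 h) with e | e <;> rw [e]
    exacts [one_mul _, D.zel_sq]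
  · rw [hconst b hb h, hs01]

theorem BA_comm (g : ↥K0) : cv.BA g ≤ centralizer (D.WQ g : Set ↥(centralizer ({z} : Set G))) := by
  rintro b ⟨hbL, hbA⟩
  refine mem_centralizer_iff.2 ?_
  rintro w ⟨q, hqw, hpi⟩
  have hc := k4_facts _ cv.hc0 cv.hc1
  obtain ⟨q', hq'⟩ := D.vec_surjective ((1 + cv.c)⁻¹ • D.vec q)
  have hfix : D.vec (D.ctx.conjQ b q') = D.vec q' := by
    rw [D.vec_conj, hq']
    exact (D.piR_iff g _).1 (Model.piR_smul _ hpi) _ hbA
  have hv : D.vec (q' * D.ctx.conjQ cv.x q') = D.vec q := by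
    rw [D.vec_mul, cv.vec_conj_x, hq',
      show (1 + cv.c)⁻¹ • D.vec q + cv.c • ((1 + cv.c)⁻¹ • D.vec q) = (1 + cv.c) • ((1 + cv.c)⁻¹ • D.vec q) by
        rw [add_smul, one_smul],
      smul_inv_smul₀ hc.2.2.1]
  have hx : b.1 * cv.x.1 = cv.x.1 * b.1 := congrArg Subtype.val (cv.mem_L.1 hbL)
  have hz : b.1 * z = z * b.1 := mem_centralizer_one.1 b.2
  have key : b.1 * ((q' : G) * (cv.x.1 * q' * cv.x.1⁻¹)) * b.1⁻¹ = (q' : G) * (cv.x.1 * q' * cv.x.1⁻¹) := by
    rw [show b.1 * ((q' : G) * (cv.x.1 * q' * cv.x.1⁻¹)) * b.1⁻¹ =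
      (b.1 * q' * b.1⁻¹) * ((b.1 * cv.x.1) * q' * (b.1 * cv.x.1)⁻¹) by group, hx,
      show cv.x.1 * b.1 * (q' : G) * (cv.x.1 * b.1)⁻¹ = cv.x.1 * (b.1 * q' * b.1⁻¹) * cv.x.1⁻¹ by group]
    rcases D.vec_eq_iff.1 hfix with e | e
    · have e' : b.1 * (q' : G) * b.1⁻¹ = q' := e.symm
      rw [e']
    · have e0 : (q' : G) = b.1 * q' * b.1⁻¹ * z := e
      have e' : b.1 * (q' : G) * b.1⁻¹ = q' * z := by
        calc b.1 * (q' : G) * b.1⁻¹ = b.1 * q' * b.1⁻¹ * (z * z) := by rw [D.ctx.xs.sq, mul_one]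
          _ = b.1 * q' * b.1⁻¹ * z * z := by group
          _ = q' * z := by rw [← e0]
      rw [e', mul_assoc (cv.x.1) ((q' : G) * z), mul_assoc (q' : G) z (cv.x.1⁻¹),
        ← mem_centralizer_one.1 (inv_mem cv.x.2)]
      calc (q' : G) * z * (cv.x.1 * ((q' : G) * (cv.x.1⁻¹ * z)))
          = q' * (z * (cv.x.1 * q' * cv.x.1⁻¹)) * z := by group
        _ = q' * (cv.x.1 * q' * cv.x.1⁻¹) * (z * z) := by
            rw [show z * (cv.x.1 * (q' : G) * cv.x.1⁻¹) = cv.x.1 * (q' : G) * cv.x.1⁻¹ * z from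
              (D.ctx.xs.comm (D.ctx.conjQ cv.x q').2).symm]
            group
        _ = _ := by rw [D.ctx.xs.sq, mul_one]
  refine Subtype.ext ?_
  show (w : G) * b.1 = b.1 * w
  rw [← hqw]
  rcases D.vec_eq_iff.1 hv with e | e
  · rw [e]
    exact (mul_inv_eq_iff_eq_mul.1 key).symm
  · rw [e]
    show (q' : G) * (cv.x.1 * q' * cv.x.1⁻¹) * z * b.1 = b.1 * ((q' : G) * (cv.x.1 * q' * cv.x.1⁻¹) * z)
    rw [mul_assoc _ z, ← hz, ← mul_assoc, ← mul_inv_eq_iff_eq_mul.1 key]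
    group

include cv in
/-- The elementary abelian subgroup of order 2048. -/
theorem exists_big (g : ↥K0) :
    ∃ A : Subgroup ↥(centralizer ({z} : Set G)), (∀ a ∈ A, a * a = 1) ∧ Nat.card ↥A = 2048 ∧
      Nat.card ↥(A ⊓ Q) = 128 ∧ A.map (QuotientGroup.mk' Q) = D.AR g := by
  set A := D.WQ g ⊔ cv.BA g with hA
  have hBc : cv.BA g ≤ centralizer (cv.BA g : Set ↥(centralizer ({z} : Set G))) := fun a ha =>
    mem_centralizer_iff.2 fun b hb => comm_of_sq (cv.BA_sq g) hb ha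
  have hc : A ≤ centralizer (A : Set ↥(centralizer ({z} : Set G))) :=
    le_centralizer_sup (D.WQ_comm g) hBc (cv.BA_comm g)
  have hsq : ∀ a ∈ A, a * a = 1 := by
    let S : Subgroup ↥(centralizer ({z} : Set G)) :=
      { carrier := {a | a ∈ A ∧ a * a = 1}
        one_mem' := ⟨one_mem _, one_mul _⟩
        mul_mem' := fun {a b} ha hb => ⟨mul_mem ha.1 hb.1, by
          rw [mul_assoc, ← mul_assoc b, mem_centralizer_iff.1 (hc ha.1) b hb.1, mul_assoc a b, hb.2, mul_one, ha.2]⟩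
        inv_mem' := fun {a} ha => by
          rw [Set.mem_ofPred_eq, inv_eq_of_mul_eq_one_right ha.2]; exact ha }
    have : A ≤ S := sup_le (fun a ha => ⟨mem_sup_left ha, D.WQ_sq g a ha⟩)
      fun a ha => ⟨mem_sup_right ha, cv.BA_sq g a ha⟩
    exact fun a ha => (this ha).2
  have hmap : A.map (QuotientGroup.mk' Q) = D.AR g := by
    refine le_antisymm ?_ fun r hr => ?_
    · rw [hA, Subgroup.map_sup]
      refine sup_le ?_ ?_
      · rintro _ ⟨a, ha, rfl⟩
        rw [(QuotientGroup.eq_one_iff _).2 (D.WQ_le g ha) |> (fun h => show QuotientGroup.mk' Q a = 1 from h)]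
        exact one_mem _
      · rintro _ ⟨a, ha, rfl⟩
        exact ha.2
    · obtain ⟨b, hb, e⟩ := cv.exists_lift (D.AR_le g hr)
      have hbB : b ∈ cv.BA g := ⟨hb, show QuotientGroup.mk' Q b ∈ D.AR g by rw [show QuotientGroup.mk' Q b = r from e]; exact hr⟩
      exact ⟨b, mem_sup_right hbB, e⟩
  have hQ : A ⊓ Q = D.WQ g := by
    refine le_antisymm (fun a ha => D.centraliser_WQ ha.2 fun w hw => ?_)
      (le_inf le_sup_left (D.WQ_le g))
    exact mem_centralizer_iff.1 (hc ha.1) w (mem_sup_left hw)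
  refine ⟨A, hsq, ?_, by rw [hQ, D.card_WQ], hmap⟩
  rw [card_eq_map_mul (QuotientGroup.mk' Q) A, QuotientGroup.ker_mk', hQ, hmap, D.card_AR, D.card_WQ]

end Cover

end Cfsg.Agent.LargeFischer
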