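import Cfsg.Agent.Lib.LargeFischer.Rank
import Cfsg.Prelude.Def_Transfer
import Mathlib.GroupTheory.Perm.Cycle.Type

/-! The Thompson subgroup of a Sylow subgroup of the centraliser. -/

set_option autoImplicit false
set_option maxRecDepth 100000

namespace Cfsg.Agent.LargeFischer

open Cfsg.Agent.RigidGraph.He Cfsg.Agent.U43InU62 Cfsg.Agent.LargeExtra
open Subgroup

variable {G : Type*} [Group G] [Finite G] {z : G} {Q : Subgroup ↥(centralizer ({z} : Set G))} [Q.Normal]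

theorem exists_cover0 (D : Model z Q) : Nonempty (Cover D) := by
  haveI : Fact (Nat.Prime 3) := ⟨Nat.prime_three⟩
  have hc := D.ctx.card
  rw [card_map_of_injective (centralizer ({z} : Set G)).subtype_injective] at hc
  set Pc := D.env.P.comap (QuotientGroup.mk' Q) with hPc
  have hmap : Pc.map (QuotientGroup.mk' Q) = D.env.P :=
    map_comap_eq_self_of_surjective (QuotientGroup.mk'_surjective Q) _
  have h3 : 3 ∣ Nat.card ↥Pc := by
    rw [card_eq_map_mul (QuotientGroup.mk' Q) Pc, hmap, D.env.cardP]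
    exact dvd_mul_right _ _
  obtain ⟨⟨x, hxP⟩, hx⟩ := exists_prime_orderOf_dvd_card' 3 h3
  have hx3 : orderOf x = 3 := (Subgroup.orderOf_mk x hxP).symm.trans hx
  have hmk1 : (QuotientGroup.mk x : _ ⧸ Q) ≠ 1 := fun e => by
    have h := orderOf_dvd_natCard Q ((QuotientGroup.eq_one_iff _).1 e)
    rw [hx3, hc] at h
    norm_num at h
  obtain ⟨c, hc0, hsc, hc1⟩ := D.co.r6_scalar hxP
  refine ⟨⟨x, c, hx3 ▸ pow_orderOf_eq_one x, hc0, fun e => hmk1 (hc1 e), hsc, hxP, fun r hr => ?_⟩⟩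
  have hz : zpowers (QuotientGroup.mk x : _ ⧸ Q) = D.env.P := by
    refine Subgroup.eq_of_le_of_card_ge (zpowers_le.2 hxP) ?_
    rw [D.env.cardP, Nat.card_zpowers, orderOf_eq_prime (p := 3) ?_ hmk1]
    rw [← QuotientGroup.mk_pow, ← hx3, pow_orderOf_eq_one, QuotientGroup.mk_one]
  rw [← hz] at hr
  exact (isOfFinOrder_of_finite (QuotientGroup.mk x : _ ⧸ Q)).mem_powers_iff_mem_zpowers.2 hr

theorem sylow_max (hF : Cfsg.IsOfLargeFischerTypeAt z Q) (T : Sylow 2 ↥(centralizer ({z} : Set G))) :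
    ∃ A : Subgroup ↥(centralizer ({z} : Set G)), A ≤ (T : Subgroup ↥(centralizer ({z} : Set G))) ∧
      (∀ a ∈ A, a * a = 1) ∧ Nat.card ↥A = 2048 ∧ Nat.card ↥(A ⊓ Q) = 128 ∧
      Nat.card ↥(A.map (QuotientGroup.mk' Q)) = 16 ∧
      ∀ B : Subgroup ↥(centralizer ({z} : Set G)), B ≤ (T : Subgroup ↥(centralizer ({z} : Set G))) →
        (∀ b ∈ B, b * b = 1) → 2048 ≤ Nat.card ↥B → B = A := by
  haveI : Fact (Nat.Prime 2) := ⟨Nat.prime_two⟩
  obtain ⟨D⟩ := exists_model hF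
  obtain ⟨cv⟩ := exists_cover0 D
  set S : Subgroup ↥(centralizer ({z} : Set G)) := ↑T with hS
  have hc := D.ctx.card
  rw [card_map_of_injective (centralizer ({z} : Set G)).subtype_injective] at hc
  have hQ2 : IsPGroup 2 ↥Q := IsPGroup.of_card (n := 13) (by rw [hc]; norm_num)
  have hQS : Q ≤ S := hQ2.le_sylow_of_normal T
  have hR := D.card_R
  set Tb := S.map (QuotientGroup.mk' Q) with hTb
  have hTp : IsPGroup 2 ↥Tb := T.isPGroup'.map _
  have h256 : 256 ≤ Nat.card ↥Tb := by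
    have h2 : 2 ^ 21 ∣ Nat.card ↥S := T.pow_dvd_card_of_pow_dvd_card (by
      rw [Subgroup.card_eq_card_quotient_mul_card_subgroup Q, hR, hc]; norm_num)
    have h1 := Nat.le_of_dvd Nat.card_pos h2
    rw [card_eq_map_mul (QuotientGroup.mk' Q) S, QuotientGroup.ker_mk', inf_eq_right.2 hQS, hc, ← hTb] at h1
    norm_num at h1
    omega
  obtain ⟨g, hg⟩ := D.exists_TT (H := Tb ⊓ D.env.K) inf_le_right (hTp.to_le inf_le_left)
  have hcT : Nat.card ↥((TT.subgroupOf K0).map (D.tauc g)) = 128 := by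
    rw [card_map_of_injective (D.tauc_injective g), Nat.card_congr (subgroupOfEquivOfLe TT_le).toEquiv, card_TT]
  have heq : Tb ⊓ D.env.K = (TT.subgroupOf K0).map (D.tauc g) := by
    refine Subgroup.eq_of_le_of_card_ge hg ?_
    have := Env.Coords.card_le_two_mul (W := D.env) Tb
    omega
  have hAT : D.AR g ≤ Tb := fun r hr => by
    obtain ⟨a, ha, rfl⟩ := D.mem_AR.1 hr
    exact (heq.ge ⟨a, mem_subgroupOf.2 (A0_le ha), rfl⟩).1
  obtain ⟨A, hA, hA2, hAQ, hAm⟩ := cv.exists_big g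
  have hle : A ≤ S := by
    have h1 : A ≤ Tb.comap (QuotientGroup.mk' Q) := map_le_iff_le_comap.1 (hAm.trans_le hAT)
    rwa [hTb, comap_map_eq, QuotientGroup.ker_mk', sup_eq_left.2 hQS] at h1
  refine ⟨A, hle, hA, hA2, hAQ, by rw [hAm, D.card_AR], fun B hB hB2 hBc => le_antisymm ?_ ?_⟩
  · exact D.big_unique hF S T.isPGroup' hB hle hB2 hA hBc hA2.ge
  · exact D.big_unique hF S T.isPGroup' hle hB hA hB2 hA2.ge hBc

end Cfsg.Agent.LargeFischer
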