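import Cfsg.Agent.Lib.LargeFischer.SixSpot

/-! The points of the six-space as members of the class, and the map of the unitary group. -/

set_option autoImplicit false
set_option maxRecDepth 100000
set_option maxHeartbeats 200000
set_option synthInstance.maxSize 2000

namespace Cfsg.Agent.LargeFischer.Six

open Cfsg.Agent.RigidGraph.He Cfsg.Agent.U43InU62 Cfsg.Agent.LargeExtra Cfsg.Agent.LargeFischer.Big
open Subgroup

attribute [local irreducible] tm elN TT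

theorem pt_zero : pt 0 0 0 = 0 := by decide +kernel

theorem iso_one {α : K4} {y : V4} : hf (pt α y 1) (pt α y 1) = 0 ↔ Ok α y := by
  rw [hf_pt]
  unfold Ok
  generalize hf y y = h
  revert α h
  decide

theorem iso_low {a : K4} {c : V4} : hf (pt a c 0) (pt a c 0) = 0 ↔ hf c c = 0 := by
  rw [hf_pt]; simp

theorem iso_cases {x : V6} (hx : x ≠ 0) (hi : hf x x = 0) :
    (∃ a, a ≠ 0 ∧ x = pt a 0 0) ∨ (∃ a c, c ≠ 0 ∧ hf c c = 0 ∧ x = pt a c 0) ∨
      ∃ (α : K4) (y : V4) (b : K4), b ≠ 0 ∧ Ok α y ∧ x = b • pt α y 1 := by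
  obtain ⟨a, c, b, rfl⟩ : ∃ a c b, x = pt a c b := ⟨_, _, _, (pt_eta x).symm⟩
  by_cases hb : b = 0
  · subst hb
    by_cases hc : c = 0
    · subst hc
      exact Or.inl ⟨a, fun e => hx (by rw [e, pt_zero]), rfl⟩
    · exact Or.inr (Or.inl ⟨a, c, hc, iso_low.1 hi, rfl⟩)
  · have e : pt a c b = b • pt (b⁻¹ * a) (b⁻¹ • c) 1 := by
      rw [pt_smul, mul_inv_cancel_left₀ hb, smul_inv_smul₀ hb, mul_one]
    refine Or.inr (Or.inr ⟨_, _, b, hb, iso_one.1 ?_, e⟩)
    rw [e, hf_smull, hf_smulr, ← mul_assoc] at hi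
    exact (mul_eq_zero.1 hi).resolve_left (mul_ne_zero hb (mul_ne_zero hb hb))

theorem tr_low_pt (a : K4) (c : V4) (a' : K4) (y' : V4) (b' : K4) :
    tr (pt a c 0) (pt a' y' b') =
      pt (a' + (b' * (a * a) + hf y' c) * a) (y' + (b' * (a * a) + hf y' c) • c) b' := by
  rw [tr, hf_pt, pt_smul, pt_add]
  simp

theorem tr_p6_pt (a : K4) (y : V4) (b : K4) : tr p6 (pt a y b) = pt a y (b + a) := by
  rw [← pt_p, tr, hf_pt, pt_smul, pt_add, hf_zeror]
  simp

theorem be_tr_low {u v : V6} (hu : be u = 0) (hv : be v = 0) : be (tr u v) = 0 := by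
  rw [← pt_eta u, ← pt_eta v, hu, hv, tr_low_pt, be_pt]

theorem tr_ne {n : ℕ} {a x : Fin n → K4} (ha : hf a a = 0) (hx : x ≠ 0) : tr a x ≠ 0 := fun e => hx (by
  rw [← tr_invol ha x, e]; simp [tr, hf_zerol])

theorem p6_iso : hf p6 p6 = 0 ∧ p6 ≠ 0 := by decide +kernel

theorem hf_low_p6 (a : K4) (c : V4) : hf (pt a c 0) p6 = a := by
  rw [← pt_p, hf_pt, hf_zeror]; simp

theorem exists_split {y : V4} (hy : hf y y ≠ 0) {α : K4} (hα : Ok α y) :
    ∃ c d : V4, c ≠ 0 ∧ d ≠ 0 ∧ hf c c = 0 ∧ hf d d = 0 ∧ c + d = y ∧ hf c d = α * α := by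
  have hy0 : y ≠ 0 := fun e => hy (by rw [e, hf_zerol])
  obtain ⟨u, hu, hne⟩ := exists_non' hy0
  have hone : hf y y = 1 := (by decide : ∀ h : K4, h * h = h → h ≠ 0 → h = 1) _ (hf_self_real y) hy
  set t := α * α * (hf u y)⁻¹
  refine ⟨t • u, t • u + y, ?_, ?_, ?_, ?_, ?_, ?_⟩
  · refine smul_ne_zero ?_ ((by decide +kernel : ∀ u ∈ pts, u ≠ 0) u hu)
    refine mul_ne_zero ?_ (inv_ne_zero hne)
    intro e
    unfold Ok at hα
    rw [hone] at hα
    revert e hα; revert α; decide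
  · intro e
    have hiu : hf (t • u) (t • u) = 0 := by rw [hf_smull, hf_smulr, pts_iso u hu, mul_zero, mul_zero]
    refine hy ?_
    rw [show y = t • u from (by
      calc y = t • u + (t • u + y) := by rw [← add_assoc, v4_add_self, zero_add]
        _ = t • u := by rw [e, add_zero]), hiu]
  · rw [hf_smull, hf_smulr, pts_iso u hu, mul_zero, mul_zero]
  · simp only [hf_addl, hf_addr, hf_smull, hf_smulr, pts_iso u hu, hone, hf_swap u y, mul_zero, zero_add]
    unfold Ok at hα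
    rw [hone] at hα
    have hh : hf u y ≠ 0 := hne
    simp only [t]
    generalize hf u y = h at hh
    exact (by decide : ∀ a h : K4, a * a + a = 1 → h ≠ 0 →
      a * a * h⁻¹ * (a * a * h⁻¹) * (h * h) + (a * a * h⁻¹ * h + 1) = 0) α h hα hh
  · rw [← add_assoc, v4_add_self, zero_add]
  · rw [hf_addr, hf_smulr, hf_smull, hf_smull, pts_iso u hu, mul_zero, mul_zero, zero_add]
    simp only [t]
    rw [inv_mul_cancel_right₀ hne]

/-- The forms of a point outside the hyperplane. -/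
theorem decomp {α : K4} {y : V4} (h : Ok α y) :
    pt α y 1 = p6 ∨ (∃ e, e ≠ 0 ∧ hf e e = 0 ∧ be e = 0 ∧ pt α y 1 = tr e p6) ∨
      ∃ f e, f ≠ 0 ∧ hf f f = 0 ∧ be f = 0 ∧ e ≠ 0 ∧ hf e e = 0 ∧ be e = 0 ∧ pt α y 1 = tr f (tr e p6) := by
  have low1 : ∀ c : V4, tr (pt 1 c 0) p6 = pt 1 c 1 := fun c => by
    rw [← pt_p, tr_low_pt, hf_zerol]
    simp
  have hz : ∀ c : V4, hf c c = 0 → pt 1 c 0 ≠ 0 ∧ hf (pt 1 c 0) (pt 1 c 0) = 0 ∧ be (pt 1 c 0) = 0 := fun c hc =>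
    ⟨fun e => one_ne_zero (α := K4) (by rw [← al_pt 1 c 0, e]; decide +kernel), iso_low.2 hc, be_pt _ _ _⟩
  by_cases hyy : hf y y = 0
  · have hα : α = 0 ∨ α = 1 := by
      unfold Ok at h; rw [hyy] at h; revert h; revert α; decide
    rcases hα with rfl | rfl
    · by_cases hy : y = 0
      · left; rw [hy, pt_p]
      · right; right
        refine ⟨pt 1 0 0, pt 1 y 0, (hz 0 (hf_zerol 0)).1, (hz 0 (hf_zerol 0)).2.1, be_pt _ _ _, (hz y hyy).1,
          (hz y hyy).2.1, be_pt _ _ _, ?_⟩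
        rw [low1, tr_low_pt, hf_zeror]
        simp [k4_two]
    · right; left
      exact ⟨pt 1 y 0, (hz y hyy).1, (hz y hyy).2.1, be_pt _ _ _, (low1 y).symm⟩
  · right; right
    obtain ⟨c, d, hc, hd, hic, hid, hsum, hcd⟩ := exists_split hyy h
    have hone : hf y y = 1 := (by decide : ∀ h : K4, h * h = h → h ≠ 0 → h = 1) _ (hf_self_real y) hyy
    have hid' : hf ((1 + α * α) • d) ((1 + α * α) • d) = 0 := by rw [hf_smull, hf_smulr, hid, mul_zero, mul_zero]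
    refine ⟨pt 1 ((1 + α * α) • d) 0, pt 1 c 0, (hz _ hid').1, (hz _ hid').2.1, be_pt _ _ _, (hz c hic).1,
      (hz c hic).2.1, be_pt _ _ _, ?_⟩
    unfold Ok at h
    rw [hone] at h
    rw [low1, tr_low_pt, hf_smulr, hcd, smul_smul, ← hsum,
      (by decide : ∀ a : K4, a * a + a = 1 → (1 * (1 * 1) + (1 + a * a) * (1 + a * a) * (a * a)) * (1 + a * a) = 1) α h,
      one_smul,
      (by decide : ∀ a : K4, a * a + a = 1 → 1 + (1 * (1 * 1) + (1 + a * a) * (1 + a * a) * (a * a)) * 1 = a) α h]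

variable {G : Type*} [Group G] [Finite G] {z : G} {Q : Subgroup ↥(centralizer ({z} : Set G))} [Q.Normal]

namespace Data

variable (S : Data z Q)

/-- The member over a point outside the hyperplane. -/
noncomputable def Tb (α : K4) (y : V4) : S.Cb := S.qel α y * S.y0 * (S.qel α y)⁻¹

/-- The member over a point. -/
noncomputable def T (x : V6) : S.Cb :=
  if be x = 0 then (if low x = 0 then S.zb else S.Tl (al x) (low x))
  else S.Tb ((be x)⁻¹ * al x) ((be x)⁻¹ • low x)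

theorem T_z (a : K4) : S.T (pt a 0 0) = S.zb := by rw [T, if_pos (be_pt _ _ _), if_pos (low_pt _ _ _)]

theorem T_low (a : K4) {c : V4} (hc : c ≠ 0) : S.T (pt a c 0) = S.Tl a c := by
  rw [T, if_pos (be_pt _ _ _), low_pt, if_neg hc, al_pt]

theorem T_pt {b : K4} (hb : b ≠ 0) (α : K4) (y : V4) : S.T (b • pt α y 1) = S.Tb α y := by
  rw [pt_smul, mul_one, T, be_pt, if_neg hb, al_pt, low_pt, inv_mul_cancel_left₀ hb, inv_smul_smul₀ hb]

theorem T_one (α : K4) (y : V4) : S.T (pt α y 1) = S.Tb α y := by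
  have := S.T_pt one_ne_zero α y
  rwa [one_smul] at this

theorem T_p6 : S.T p6 = S.y0 := by rw [← pt_p, S.T_one, Tb, S.qel_zero]; group

theorem T_z6 : S.T z6 = S.zb := by rw [← pt_z]; exact S.T_z 1

theorem T_smul {s : K4} (hs : s ≠ 0) {x : V6} (hx : x ≠ 0) (hi : hf x x = 0) : S.T (s • x) = S.T x := by
  rcases iso_cases hx hi with ⟨a, -, rfl⟩ | ⟨a, c, hc, hic, rfl⟩ | ⟨α, y, b, hb, -, rfl⟩
  · rw [pt_smul, smul_zero, mul_zero, S.T_z, S.T_z]
  · rw [pt_smul, mul_zero, S.T_low _ (smul_ne_zero hs hc), S.T_low _ hc, S.Tl_smul hc hic hs]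
  · rw [smul_smul, S.T_pt (mul_ne_zero hs hb), S.T_pt hb]

theorem Tb_Cls (α : K4) (y : V4) : S.Tb α y ∈ S.Cls := S.Cls_conj S.y0_Cls _

theorem T_Cls {x : V6} (hx : x ≠ 0) (hi : hf x x = 0) : S.T x ∈ S.Cls := by
  rcases iso_cases hx hi with ⟨a, -, rfl⟩ | ⟨a, c, hc, hic, rfl⟩ | ⟨α, y, b, hb, -, rfl⟩
  · rw [S.T_z]; exact S.zb_mem_Cls
  · rw [S.T_low _ hc]; exact S.Tl_Cls hc hic a
  · rw [S.T_pt hb]; exact S.Tb_Cls α y

theorem T_sq {x : V6} (hx : x ≠ 0) (hi : hf x x = 0) : S.T x * S.T x = 1 := S.Cls_sq (S.T_Cls hx hi)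

theorem qel_Tb {α β : K4} {u y : V4} (hu : Ok α u) (hy : Ok β y) :
    S.qel α u * S.Tb β y * (S.qel α u)⁻¹ = S.Tb (α + β + hf y u) (u + y) := by
  rw [Tb, Tb, ← S.qel_mul hu hy]
  group

theorem lift_Tb {A : S4} {l : S.Cb} (hl : S.Lift A l) (hy0 : l * S.y0 = S.y0 * l) (α : K4) (y : V4) :
    l * S.Tb α y * l⁻¹ = S.Tb α (act4 A y) := by
  rw [Tb, Tb, ← Lift.conj_qel S hl α y,
    show l * (S.qel α y * S.y0 * (S.qel α y)⁻¹) * l⁻¹ = (l * S.qel α y * l⁻¹) * (l * S.y0 * l⁻¹) * (l * S.qel α y * l⁻¹)⁻¹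
      by group, hy0, mul_inv_cancel_right]

theorem xv_Tb {c : V4} (hc : c ≠ 0) (hic : hf c c = 0) (α : K4) (y : V4) :
    S.xv c * S.Tb α y * (S.xv c)⁻¹ = S.Tb α (tr c y) := by
  obtain ⟨X, hX, hr, -⟩ := S.isX_xv hc hic
  rw [S.lift_Tb hr (S.y0_xv hc hic).symm, hX]

/-- Implementing a map of the points. -/
def Impl (r : S.Cb) (f : V6 → V6) : Prop := ∀ x : V6, x ≠ 0 → hf x x = 0 → r * S.T x * r⁻¹ = S.T (f x)

theorem impl_low {u : V6} (hu : u ≠ 0) (hiu : hf u u = 0) (hbe : be u = 0) : S.Impl (S.T u) (tr u) := by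
  intro x hx hix
  rcases iso_cases hu hiu with ⟨a, ha, rfl⟩ | ⟨a, c, hc, hic, rfl⟩ | ⟨α, y, b, hb, -, rfl⟩
  · have ha3 : a * a * a = 1 := (by decide : ∀ a : K4, a ≠ 0 → a * a * a = 1) a ha
    rw [S.T_z]
    rcases iso_cases hx hix with ⟨a', -, rfl⟩ | ⟨a', c', hc', hic', rfl⟩ | ⟨α', y', b', hb', hok, rfl⟩
    · rw [S.T_z, mul_inv_cancel_right, tr_low_pt, smul_zero, add_zero, S.T_z]
    · rw [S.T_low _ hc', ← S.Tl_comm hc' hic', mul_inv_cancel_right, tr_low_pt, zero_mul, zero_add, hf_zeror,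
        zero_mul, add_zero, smul_zero, add_zero, S.T_low _ hc']
    · rw [S.T_pt hb', tr_smul, tr_low_pt, S.T_pt hb', hf_zeror, add_zero, one_mul, smul_zero, add_zero, ha3,
        ← S.qel_one, S.qel_Tb (ok_zero (Or.inr rfl)) hok, hf_zeror, add_zero, zero_add, add_comm α' 1]
  · rw [S.T_low _ hc]
    rcases iso_cases hx hix with ⟨a', -, rfl⟩ | ⟨a', c', hc', hic', rfl⟩ | ⟨α', y', b', hb', hok, rfl⟩
    · rw [S.T_z, S.Tl_comm hc hic, mul_inv_cancel_right, tr_low_pt, hf_zerol]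
      simp [S.T_z]
    · rw [S.T_low _ hc', S.Tl_conj hc hic hc' hic', tr_low_pt, zero_mul, zero_add, mul_comm a, S.T_low]
      · rfl
      · exact tr_ne hic hc'
    · rw [S.T_pt hb', tr_smul, tr_low_pt, S.T_pt hb', Tl,
        show ∀ q x w : S.Cb, q * x * w * (q * x)⁻¹ = q * (x * w * x⁻¹) * q⁻¹ from fun q x w => by group,
        S.xv_Tb hc hic, S.qel_Tb (ok_smul_line hic) (by unfold Ok at *; rw [tr_herm hic]; exact hok), one_mul]
      simp only [tr, hf_addl, hf_smull, hf_smulr, hic, mul_zero, add_zero]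
      congr 1
      · generalize hf y' c = h
        exact (by decide : ∀ a h α : K4, a * (a * a) + α + a * a * (a * a) * h = α + (a * a + h) * a) a h α'
      · rw [add_smul]; abel
  · rw [pt_smul, mul_one, be_pt] at hbe
    exact absurd hbe hb

theorem p_comm {e : V6} (he : e ≠ 0) (hie : hf e e = 0) (hbe : be e = 0) (h : hf e p6 = 0) :
    S.y0 * S.T e = S.T e * S.y0 := by
  rcases iso_cases he hie with ⟨a, ha, rfl⟩ | ⟨a, c, hc, hic, rfl⟩ | ⟨α, y, b, hb, -, rfl⟩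
  · rw [hf_low_p6] at h; exact absurd h ha
  · rw [hf_low_p6] at h; rw [S.T_low _ hc, h, S.Tl_zero]; exact S.y0_xv hc hic
  · rw [pt_smul, mul_one, be_pt] at hbe; exact absurd hbe hb

theorem p_braid {e : V6} (he : e ≠ 0) (hie : hf e e = 0) (hbe : be e = 0) (h : hf e p6 ≠ 0) :
    S.y0 * S.T e * S.y0 = S.T e * S.y0 * S.T e := by
  obtain ⟨b0, -, -, b3, -, -⟩ := line_base
  rcases iso_cases he hie with ⟨a, ha, rfl⟩ | ⟨a, c, hc, hic, rfl⟩ | ⟨α, y, b, hb, -, rfl⟩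
  · rw [S.T_z]
    exact S.braid S.y0_Cls S.zb_mem_Cls (S.xv_Cls b3 b0) (S.y0_xv b3 b0) (S.xv_comm b3 b0).symm S.y0_zb
  · rw [hf_low_p6] at h
    rw [S.T_low _ hc]
    refine S.braid S.y0_Cls (S.Tl_Cls hc hic a) (S.xv_Cls hc hic) (S.y0_xv hc hic) ?_ (S.y0_Tl h hc hic)
    rw [← S.Tl_zero]
    exact (S.Tl_commute hc hic hc hic).2 hic
  · rw [pt_smul, mul_one, be_pt] at hbe; exact absurd hbe hb

theorem p_low {x : V6} (hx : x ≠ 0) (hix : hf x x = 0) (hbe : be x = 0) :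
    S.y0 * S.T x * S.y0 = S.T (tr p6 x) := by
  have hsq : S.y0 * S.y0 = 1 := S.Cls_sq S.y0_Cls
  rcases iso_cases hx hix with ⟨a, ha, rfl⟩ | ⟨a, c, hc, hic, rfl⟩ | ⟨α, y, b, hb, -, rfl⟩
  · rw [S.p_braid hx hix hbe (by rw [hf_low_p6]; exact ha), S.T_z, tr_p6_pt, zero_add,
      show pt a 0 a = a • pt 1 0 1 by rw [pt_smul, mul_one, smul_zero], S.T_pt ha, Tb, S.qel_one,
      S.Cls_inv S.zb_mem_Cls]
  · by_cases ha : a = 0
    · subst ha
      rw [tr_p6_pt, zero_add, S.p_comm hx hix hbe (hf_low_p6 _ _), mul_assoc, hsq, mul_one]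
    · have ha3 := (by decide : ∀ a : K4, a ≠ 0 → a * (a * a) = 1) a ha
      rw [S.p_braid hx hix hbe (by rw [hf_low_p6]; exact ha), S.T_low _ hc, tr_p6_pt, zero_add,
        show pt a c a = a • pt 1 ((a * a) • c) 1 by rw [pt_smul, mul_one, smul_smul, ha3, one_smul],
        S.T_pt ha, Tb]
      conv_lhs => arg 2; rw [← S.Cls_inv (S.Tl_Cls hc hic a)]
      rw [Tl, ha3, mul_assoc _ (S.xv c), ← S.y0_xv hc hic]
      group
  · rw [pt_smul, mul_one, be_pt] at hbe; exact absurd hbe hb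

theorem impl_p6 : S.Impl S.y0 (tr p6) := by
  have hyi : S.y0⁻¹ = S.y0 := S.Cls_inv S.y0_Cls
  have hsq : S.y0 * S.y0 = 1 := S.Cls_sq S.y0_Cls
  obtain ⟨hpi, hp0⟩ := p6_iso
  intro x hx hix
  rw [hyi]
  rcases iso_cases hx hix with ⟨a, -, rfl⟩ | ⟨a, c, -, -, rfl⟩ | ⟨α, y, b, hb, hok, rfl⟩
  · exact S.p_low hx hix (be_pt _ _ _)
  · exact S.p_low hx hix (be_pt _ _ _)
  rw [tr_smul, S.T_smul hb (tr_ne hpi (fun e => hx (by rw [e, smul_zero]))) (by rw [tr_herm hpi, iso_one.2 hok]),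
    S.T_pt hb, ← S.T_one]
  have hA : ∀ e, e ≠ 0 → hf e e = 0 → be e = 0 →
      S.y0 * S.T (tr e p6) * S.y0 = S.T (tr p6 (tr e p6)) := by
    intro e he hie hbe
    have hTe : S.T e * S.y0 * (S.T e)⁻¹ = S.T (tr e p6) := by rw [← S.T_p6]; exact S.impl_low he hie hbe p6 hp0 hpi
    by_cases h0 : hf p6 e = 0
    · rw [tr_fix h0, tr_self hpi, S.T_p6, hsq, one_mul]
    · rw [show tr p6 (tr e p6) = hf p6 e • e by rw [tr_swap h0, tr_smul, tr_invol hpi], S.T_smul h0 he hie, ← hTe,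
        S.Cls_inv (S.T_Cls he hie), ← S.p_braid he hie hbe (hf_ne h0),
        show S.y0 * (S.y0 * S.T e * S.y0) * S.y0 = (S.y0 * S.y0) * S.T e * (S.y0 * S.y0) by group, hsq, one_mul, mul_one]
  rcases decomp hok with e | ⟨e, he, hie, hbe, hx'⟩ | ⟨f, e, hf0, hif, hbf, he, hie, hbe, hx'⟩
  · rw [e, tr_self hpi, S.T_p6, hsq, one_mul]
  · rw [hx']; exact hA e he hie hbe
  rw [hx']
  have hTe : S.T (tr e p6) = S.T e * S.y0 * S.T e := by
    have := S.impl_low he hie hbe p6 hp0 hpi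
    rw [S.T_p6, S.Cls_inv (S.T_Cls he hie)] at this
    exact this.symm
  have hTf : ∀ w, w ≠ 0 → hf w w = 0 → S.T (tr f w) = S.T f * S.T w * S.T f := fun w hw hiw => by
    have := S.impl_low hf0 hif hbf w hw hiw
    rw [S.Cls_inv (S.T_Cls hf0 hif)] at this
    exact this.symm
  have hep : tr e p6 ≠ 0 := tr_ne hie hp0
  have hepi : hf (tr e p6) (tr e p6) = 0 := by rw [tr_herm hie, hpi]
  by_cases he0 : hf p6 e = 0
  · rw [tr_fix he0]; exact hA f hf0 hif hbf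
  by_cases hf0' : hf f p6 = 0
  · have hc2 := S.p_comm hf0 hif hbf hf0'
    have hswap : ∀ w : V6, tr p6 (tr f w) = tr f (tr p6 w) := fun w => by
      rw [tr_conj (g := tr p6) (tr_add p6) (tr_smul p6) (tr_herm hpi) f w, tr_fix hf0']
    rw [hswap, hTf _ (tr_ne hpi hep) (by rw [tr_herm hpi, hepi]), ← hA e he hie hbe, hTf _ hep hepi]
    calc S.y0 * (S.T f * S.T (tr e p6) * S.T f) * S.y0
        = (S.y0 * S.T f) * S.T (tr e p6) * (S.T f * S.y0) := by group
      _ = (S.T f * S.y0) * S.T (tr e p6) * (S.y0 * S.T f) := by rw [hc2]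
      _ = _ := by group
  have hu0 : tr f e ≠ 0 := tr_ne hif he
  have hui : hf (tr f e) (tr f e) = 0 := by rw [tr_herm hif, hie]
  have hbu : be (tr f e) = 0 := be_tr_low hbf hbe
  have hpu : S.T (tr p6 (tr f e)) = S.y0 * S.T (tr f e) * S.y0 := (S.p_low hu0 hui hbu).symm
  have hfp : hf p6 f ≠ 0 := hf_ne hf0'
  have hpath : tr p6 (tr f (tr e p6)) = hf p6 e • tr f (tr p6 (tr f e)) := by
    rw [tr_swap he0, tr_smul, tr_smul, tr_three hpi e, tr_three hif e, tr_swap hfp, tr_point hfp]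
  rw [hpath, S.T_smul he0 (tr_ne hif (tr_ne hpi hu0)) (by rw [tr_herm hif, tr_herm hpi, hui]),
    hTf _ (tr_ne hpi hu0) (by rw [tr_herm hpi, hui]), hpu, hTf e he hie, hTf _ hep hepi, hTe]
  have be' := S.p_braid he hie hbe (hf_ne he0)
  have bf' := S.p_braid hf0 hif hbf hf0'
  calc S.y0 * (S.T f * (S.T e * S.y0 * S.T e) * S.T f) * S.y0
      = (S.y0 * S.T f * S.y0) * S.T e * (S.y0 * S.T f * S.y0) := by rw [← be']; group
    _ = _ := by rw [bf']; group

/-- The elements implemented. -/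
def Imp : Subgroup S6 := finSub
  { carrier := {g | ∃ r, S.Impl r (act g)}
    one_mem' := ⟨1, fun x _ _ => by rw [act_one]; group⟩
    mul_mem' := by
      rintro g h ⟨r, hr⟩ ⟨s, hs⟩
      refine ⟨r * s, fun x hx hi => ?_⟩
      have hi' : hf (act h x) (act h x) = 0 := by rw [hf, herm_act h x x]; exact hi
      rw [show r * s * S.T x * (r * s)⁻¹ = r * (s * S.T x * s⁻¹) * r⁻¹ by group, hs x hx hi,
        hr _ (fun e => hx ((act_eq_zero_iff h).1 e)) hi', act_mul] }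

theorem imp_transv {u : V6} (hu : u ≠ 0) (hiu : hf u u = 0) : ∃ g ∈ S.Imp, ∀ x, act g x = tr u x := by
  have hP : ∃ g ∈ S.Imp, ∀ x, act g x = tr p6 x := by
    obtain ⟨g, hg⟩ := exists_tS p6_iso.1
    exact ⟨g, ⟨_, fun x hx hi => by rw [hg]; exact S.impl_p6 x hx hi⟩, hg⟩
  have hL : ∀ v, v ≠ 0 → hf v v = 0 → be v = 0 → ∃ g ∈ S.Imp, ∀ x, act g x = tr v x := fun v hv hiv hbv => by
    obtain ⟨g, hg⟩ := exists_tS hiv
    exact ⟨g, ⟨_, fun x hx hi => by rw [hg]; exact S.impl_low hv hiv hbv x hx hi⟩, hg⟩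
  have conj : ∀ v w, hf v v = 0 → (∃ g ∈ S.Imp, ∀ x, act g x = tr v x) → (∃ g ∈ S.Imp, ∀ x, act g x = tr w x) →
      ∃ g ∈ S.Imp, ∀ x, act g x = tr (tr v w) x := fun v w hiv ⟨g, hg, hg'⟩ ⟨k, hk, hk'⟩ =>
    ⟨g * k * g, mul_mem (mul_mem hg hk) hg, fun x => by rw [act_mul, act_mul, hg', hk', hg', tr_three hiv]⟩
  rcases iso_cases hu hiu with ⟨a, -, e⟩ | ⟨a, c, -, -, e⟩ | ⟨α, y, b, hb, hok, rfl⟩
  · exact hL u hu hiu (by rw [e, be_pt])
  · exact hL u hu hiu (by rw [e, be_pt])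
  rw [tr_point hb]
  rcases decomp hok with e | ⟨e, he, hie, hbe, hx'⟩ | ⟨f, e, hf0, hif, hbf, he, hie, hbe, hx'⟩
  · rw [e]; exact hP
  · rw [hx']; exact conj e p6 hie (hL e he hie hbe) hP
  · rw [hx']; exact conj f _ hif (hL f hf0 hif hbf) (conj e p6 hie (hL e he hie hbe) hP)

theorem exists_impl (g : S6) : ∃ r, S.Impl r (act g) :=
  (gen_transv S.Imp fun a ha hia => S.imp_transv ha hia).ge (Subgroup.mem_top g)

theorem fix_one {r : S.Cb} (h : ∀ x, x ≠ 0 → hf x x = 0 → r * S.T x * r⁻¹ = S.T x) : r = 1 := by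
  have hz6 : z6 ≠ 0 ∧ hf z6 z6 = 0 := by decide +kernel
  have hz := h z6 hz6.1 hz6.2
  rw [S.T_z6, mul_inv_eq_iff_eq_mul] at hz
  obtain ⟨α, y, A, s, hy, hs, rfl⟩ := S.exists_form hz
  have key : ∀ c : V4, c ≠ 0 → hf c c = 0 → (∀ x, tr (act4 A c) x = tr c x) ∧ hf (act4 A c) y = 0 := by
    intro c hc hic
    have e := h (pt 0 c 0) (fun e0 => hc (by rw [← low_pt 0 c 0, e0]; rfl)) (iso_low.2 hic)
    have hc' := act4_ne A hc
    have hic' : hf (act4 A c) (act4 A c) = 0 := by rw [act4_hf, hic]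
    rw [S.T_low _ hc, show S.qel α y * s * S.Tl 0 c * (S.qel α y * s)⁻¹ =
      S.qel α y * (s * S.Tl 0 c * s⁻¹) * (S.qel α y)⁻¹ by group, S.lift_Tl hc hic hs, S.qel_Tl hc' hic' hy,
      zero_add] at e
    obtain ⟨t, ht, h1, h2⟩ := S.Tl_inj hc' hic' hc hic e
    refine ⟨fun x => ?_, ?_⟩
    · conv_rhs => rw [h1, tr_point ht]
    · exact (mul_eq_zero.1 h2.symm).resolve_left ht
  have hA : A = 1 := eq_one_of_points fun c hc hic => (key c hc hic).1
  subst hA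
  have hy0 : y = 0 := eq_zero_of_perp fun c hic => by
    by_cases hc : c = 0
    · rw [hc, hf_zerol]
    · have := (key c hc hic).2
      rwa [act4_one] at this
  subst hy0
  have hr : S.qel α 0 * s = 1 ∨ S.qel α 0 * s = S.zb := by
    unfold Ok at hy
    rw [hf_zerol] at hy
    rcases (by decide : ∀ a : K4, a * a + a = 0 → a = 0 ∨ a = 1) α hy with rfl | rfl <;>
      rcases Lift.cases S S.lift_one hs with e | e <;> rw [e]
    · left; rw [S.qel_zero, one_mul]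
    · right; rw [S.qel_zero, one_mul, one_mul]
    · right; rw [S.qel_one, mul_one]
    · left; rw [S.qel_one, one_mul, S.zb_sq]
  refine hr.resolve_right fun e => ?_
  have hp := h p6 p6_iso.2 p6_iso.1
  rw [e, S.T_p6, mul_inv_eq_iff_eq_mul] at hp
  exact S.y0_zb hp.symm

theorem impl_unique {r s : S.Cb} {g : S6} (hr : S.Impl r (act g)) (hs : S.Impl s (act g)) : r = s := by
  refine (inv_mul_eq_one.1 (S.fix_one fun x hx hi => ?_)).symm
  rw [show s⁻¹ * r * S.T x * (s⁻¹ * r)⁻¹ = s⁻¹ * (r * S.T x * r⁻¹) * s by group, hr x hx hi, ← hs x hx hi]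
  group

/-- The map of the unitary group. -/
noncomputable def psi : S6 →* S.Cb :=
  MonoidHom.mk' (fun g => (S.exists_impl g).choose) fun g h => S.impl_unique (S.exists_impl (g * h)).choose_spec
    (fun x hx hi => by
      have hi' : hf (act h x) (act h x) = 0 := by rw [hf, herm_act h x x]; exact hi
      have e : ∀ r s : S.Cb, r * s * S.T x * (r * s)⁻¹ = r * (s * S.T x * s⁻¹) * r⁻¹ := fun r s => by group
      rw [e, (S.exists_impl h).choose_spec x hx hi,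
        (S.exists_impl g).choose_spec _ (fun e => hx ((act_eq_zero_iff h).1 e)) hi', act_mul])

theorem psi_spec (g : S6) : S.Impl (S.psi g) (act g) := (S.exists_impl g).choose_spec

theorem psi_low {u : V6} (hu : u ≠ 0) (hiu : hf u u = 0) (hbe : be u = 0) {g : S6} (hg : ∀ x, act g x = tr u x) :
    S.psi g = S.T u :=
  S.impl_unique (S.psi_spec g) fun x hx hi => by rw [hg]; exact S.impl_low hu hiu hbe x hx hi

theorem psi_p6 {g : S6} (hg : ∀ x, act g x = tr p6 x) : S.psi g = S.y0 :=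
  S.impl_unique (S.psi_spec g) fun x hx hi => by rw [hg]; exact S.impl_p6 x hx hi

/-- The image. -/
noncomputable def R : Subgroup S.Cb := S.psi.range

theorem low_mem_R {u : V6} (hu : u ≠ 0) (hiu : hf u u = 0) (hbe : be u = 0) : S.T u ∈ S.R := by
  obtain ⟨g, hg⟩ := exists_tS hiu
  exact ⟨g, S.psi_low hu hiu hbe hg⟩

theorem y0_mem_R : S.y0 ∈ S.R := by
  obtain ⟨g, hg⟩ := exists_tS p6_iso.1
  exact ⟨g, S.psi_p6 hg⟩

theorem Tl_mem_R (a : K4) {c : V4} (hc : c ≠ 0) (hic : hf c c = 0) : S.Tl a c ∈ S.R := by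
  rw [← S.T_low a hc]
  exact S.low_mem_R (fun e => hc (by rw [← low_pt a c 0, e]; rfl)) (iso_low.2 hic) (be_pt _ _ _)

theorem zb_mem_R : S.zb ∈ S.R := by
  rw [← S.T_z6]
  exact S.low_mem_R (by decide +kernel) (by decide +kernel) (by decide +kernel)

theorem Rx_le : S.Rx ≤ S.R := (Subgroup.closure_le _).2 fun r hr => by
  obtain ⟨c, hc, hic, rfl⟩ := hr
  rw [← S.Tl_zero]
  exact S.Tl_mem_R 0 hc hic

theorem qel_mem_R {α : K4} {y : V4} (hy : Ok α y) : S.qel α y ∈ S.R := by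
  have h1 : ∀ c : V4, hf c c = 0 → S.qel 1 c ∈ S.R := fun c hic => by
    by_cases hc : c = 0
    · rw [hc, S.qel_one]; exact S.zb_mem_R
    have e := mul_mem (S.Tl_mem_R 1 hc hic) (S.Tl_mem_R 0 hc hic)
    rwa [S.Tl_zero, Tl, mul_assoc, S.Cls_sq (S.xv_Cls hc hic), mul_one, one_mul, one_mul, one_smul] at e
  by_cases hyy : hf y y = 0
  · unfold Ok at hy
    rw [hyy] at hy
    rcases (by decide : ∀ a : K4, a * a + a = 0 → a = 0 ∨ a = 1) α hy with rfl | rfl
    · have e := mul_mem S.zb_mem_R (h1 y hyy)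
      rw [← S.qel_one, S.qel_mul (ok_zero (Or.inr rfl)) (by unfold Ok; rw [hyy]; decide), hf_zeror, add_zero,
        zero_add, k4_two] at e
      exact e
    · exact h1 y hyy
  · obtain ⟨c, d, -, -, hic, hid, hsum, hcd⟩ := exists_split hyy hy
    have e := mul_mem (h1 c hic) (h1 d hid)
    rw [S.qel_mul (by unfold Ok; rw [hic]; decide) (by unfold Ok; rw [hid]; decide), hsum, k4_two, zero_add,
      hf_swap c d, hcd, (by decide : ∀ a : K4, a * a * (a * a) = a) α] at e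
    exact e

/-- The centraliser of the central involution lies in the image. -/
theorem comm_zb_mem_R {r : S.Cb} (h : r * S.zb = S.zb * r) : r ∈ S.R := by
  obtain ⟨α, y, A, s, hy, hs, rfl⟩ := S.exists_form h
  refine mul_mem (S.qel_mem_R hy) ?_
  have hl := S.Rx_le (S.lk_mem A)
  rcases Lift.cases S (S.lift_lk A) hs with e | e <;> rw [e]
  exacts [hl, mul_mem hl S.zb_mem_R]

/-- Every member over a point is conjugate to the central involution in the image. -/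
theorem T_conj_zb {x : V6} (hx : x ≠ 0) (hi : hf x x = 0) : ∃ k ∈ S.R, k * S.zb * k⁻¹ = S.T x := by
  have move : ∀ {v w : S.Cb}, v ∈ S.R → w ∈ S.R → v * w * v = w * v * w → w * w = 1 →
      (∃ k ∈ S.R, k * S.zb * k⁻¹ = v) → ∃ k ∈ S.R, k * S.zb * k⁻¹ = w := fun {v w} hv hw hb hw2 ⟨k, hk, e⟩ =>
    ⟨v * w * k, mul_mem (mul_mem hv hw) hk, by
      rw [show v * w * k * S.zb * (v * w * k)⁻¹ = v * w * (k * S.zb * k⁻¹) * (v * w)⁻¹ by group, e, hb]
      group⟩
  have hp : ∃ k ∈ S.R, k * S.zb * k⁻¹ = S.y0 := by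
    refine move S.zb_mem_R S.y0_mem_R ?_ (S.Cls_sq S.y0_Cls) ⟨1, one_mem _, by group⟩
    have := S.p_braid (e := z6) (by decide +kernel) (by decide +kernel) (by decide +kernel) (by decide +kernel)
    rw [S.T_z6] at this
    exact this.symm
  rcases iso_cases hx hi with ⟨a, -, rfl⟩ | ⟨a, c, hc, hic, rfl⟩ | ⟨α, y, b, hb, hok, rfl⟩
  · exact ⟨1, one_mem _, by rw [S.T_z]; group⟩
  · rw [S.T_low _ hc]
    have h1 : ∀ a : K4, a ≠ 0 → ∃ k ∈ S.R, k * S.zb * k⁻¹ = S.Tl a c := fun a ha => by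
      refine move S.y0_mem_R (S.Tl_mem_R a hc hic) ?_ (S.Cls_sq (S.Tl_Cls hc hic a)) hp
      have := S.p_braid (e := pt a c 0) (fun e => hc (by rw [← low_pt a c 0, e]; rfl)) (iso_low.2 hic) (be_pt _ _ _)
        (by rw [hf_low_p6]; exact ha)
      rwa [S.T_low _ hc] at this
    by_cases ha : a = 0
    · subst ha
      obtain ⟨k, hk, e⟩ := h1 1 one_ne_zero
      obtain ⟨y, hy⟩ := exists_hit hc 1
      refine ⟨S.qel (K4.w * hf y y) y * k, mul_mem (S.qel_mem_R (ok_w y)) hk, ?_⟩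
      rw [show S.qel (K4.w * hf y y) y * k * S.zb * (S.qel (K4.w * hf y y) y * k)⁻¹ =
        S.qel (K4.w * hf y y) y * (k * S.zb * k⁻¹) * (S.qel (K4.w * hf y y) y)⁻¹ by group, e,
        S.qel_Tl hc hic (ok_w y), hy, k4_two]
    · exact h1 a ha
  · obtain ⟨k, hk, e⟩ := hp
    refine ⟨S.qel α y * k, mul_mem (S.qel_mem_R hok) hk, ?_⟩
    rw [S.T_pt hb, Tb, ← e]
    group

theorem T_mem_R {x : V6} (hx : x ≠ 0) (hi : hf x x = 0) : S.T x ∈ S.R := by
  obtain ⟨k, hk, e⟩ := S.T_conj_zb hx hi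
  exact e ▸ mul_mem (mul_mem hk S.zb_mem_R) (inv_mem hk)

theorem Tb_comm_zb {α : K4} {y : V4} (hy : Ok α y) : S.Tb α y * S.zb ≠ S.zb * S.Tb α y := by
  intro h
  refine S.y0_zb ?_
  have hq := S.qel_comm_zb hy
  rw [Tb] at h
  calc S.y0 * S.zb = (S.qel α y)⁻¹ * (S.qel α y * S.y0 * (S.qel α y)⁻¹ * (S.qel α y * S.zb)) := by group
    _ = (S.qel α y)⁻¹ * (S.qel α y * S.y0 * (S.qel α y)⁻¹ * S.zb) * S.qel α y := by rw [hq]; group
    _ = (S.qel α y)⁻¹ * (S.zb * (S.qel α y * S.y0 * (S.qel α y)⁻¹)) * S.qel α y := by rw [h]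
    _ = (S.qel α y)⁻¹ * (S.zb * S.qel α y) * S.y0 := by group
    _ = S.zb * S.y0 := by rw [← hq]; group

theorem Tb_inj {α β : K4} {y v : V4} (hy : Ok α y) (hv : Ok β v) (h : S.Tb α y = S.Tb β v) : α = β ∧ y = v := by
  have hy' : Ok (α + hf y y) y := by
    unfold Ok at *
    rw [← hy]; exact (by decide : ∀ a : K4, (a + (a * a + a)) * (a + (a * a + a)) + (a + (a * a + a)) = a * a + a) α
  set q := (S.qel α y)⁻¹ * S.qel β v with hq
  have hqy : q * S.y0 = S.y0 * q := by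
    rw [Tb, Tb] at h
    rw [hq]
    calc (S.qel α y)⁻¹ * S.qel β v * S.y0
        = (S.qel α y)⁻¹ * (S.qel β v * S.y0 * (S.qel β v)⁻¹) * S.qel β v := by group
      _ = _ := by rw [← h]; group
  have hform : q = S.qel (α + hf y y + β + hf v y) (y + v) := by
    rw [hq, S.qel_inv hy, S.qel_mul hy' hv]
  set γ := α + hf y y + β + hf v y
  have hγ : Ok γ (y + v) := ok_add hy' hv
  have hw : y + v = 0 := eq_zero_of_perp fun c hic => by
    by_cases hc : c = 0
    · rw [hc, hf_zerol]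
    by_contra hne
    refine S.y0_Tl hne hc hic ?_
    have e := S.qel_Tl hc hic hγ 0
    rw [S.Tl_zero, zero_add, ← hform] at e
    rw [← e]
    exact ((show Commute S.y0 q from hqy.symm).mul_right (S.y0_xv hc hic)).mul_right
      (show Commute S.y0 q from hqy.symm).inv_right
  have hyv : y = v := by
    calc y = y + (v + v) := by rw [v4_add_self, add_zero]
      _ = v := by rw [← add_assoc, hw, zero_add]
  subst hyv
  refine ⟨?_, rfl⟩
  rw [hw] at hγ hform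
  unfold Ok at hγ
  rw [hf_zerol] at hγ
  rcases (by decide : ∀ a : K4, a * a + a = 0 → a = 0 ∨ a = 1) γ hγ with e | e
  · simp only [γ] at e
    revert e
    generalize hf y y = p
    exact (by decide : ∀ a b p : K4, a + p + b + p = 0 → a = b) α β p
  · rw [e, S.qel_one] at hform
    rw [hform] at hqy
    exact absurd hqy.symm S.y0_zb

theorem T_inj {x x' : V6} (hx : x ≠ 0) (hi : hf x x = 0) (hx' : x' ≠ 0) (hi' : hf x' x' = 0)
    (h : S.T x = S.T x') : ∃ s : K4, s ≠ 0 ∧ x' = s • x := by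
  have hlow : ∀ {x : V6}, x ≠ 0 → hf x x = 0 → be x = 0 → S.T x * S.zb = S.zb * S.T x := by
    intro x hx hi hb
    rcases iso_cases hx hi with ⟨a, -, rfl⟩ | ⟨a, c, hc, hic, rfl⟩ | ⟨α, y, b, hb', -, rfl⟩
    · rw [S.T_z]
    · rw [S.T_low _ hc]; exact S.Tl_comm hc hic a
    · rw [pt_smul, mul_one, be_pt] at hb; exact absurd hb hb'
  rcases iso_cases hx hi with ⟨a, ha, rfl⟩ | ⟨a, c, hc, hic, rfl⟩ | ⟨α, y, b, hb, hok, rfl⟩ <;>
    rcases iso_cases hx' hi' with ⟨a', ha', rfl⟩ | ⟨a', c', hc', hic', rfl⟩ | ⟨α', y', b', hb', hok', rfl⟩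
  · exact ⟨a' * a⁻¹, mul_ne_zero ha' (inv_ne_zero ha), by
      rw [pt_smul, inv_mul_cancel_right₀ ha, smul_zero, mul_zero]⟩
  · rw [S.T_z, S.T_low _ hc'] at h
    exact absurd h.symm (S.Tl_ne_zb hc' hic' a')
  · refine absurd (h ▸ hlow hx hi (be_pt _ _ _)) ?_
    rw [S.T_pt hb']; exact S.Tb_comm_zb hok'
  · rw [S.T_z, S.T_low _ hc] at h
    exact absurd h (S.Tl_ne_zb hc hic a)
  · rw [S.T_low _ hc, S.T_low _ hc'] at h
    obtain ⟨s, hs, h1, h2⟩ := S.Tl_inj hc hic hc' hic' h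
    exact ⟨s, hs, by rw [pt_smul, mul_zero, h1, h2]⟩
  · refine absurd (h ▸ hlow hx hi (be_pt _ _ _)) ?_
    rw [S.T_pt hb']; exact S.Tb_comm_zb hok'
  · refine absurd (h.symm ▸ hlow hx' hi' (be_pt _ _ _)) ?_
    rw [S.T_pt hb]; exact S.Tb_comm_zb hok
  · refine absurd (h.symm ▸ hlow hx' hi' (be_pt _ _ _)) ?_
    rw [S.T_pt hb]; exact S.Tb_comm_zb hok
  · rw [S.T_pt hb, S.T_pt hb'] at h
    obtain ⟨rfl, rfl⟩ := S.Tb_inj hok hok' h
    exact ⟨b' * b⁻¹, mul_ne_zero hb' (inv_ne_zero hb), by rw [smul_smul, inv_mul_cancel_right₀ hb]⟩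

theorem psi_ker : S.psi.ker = Subgroup.center S6 := by
  ext g
  rw [MonoidHom.mem_ker]
  constructor
  · intro hg
    have key : ∀ a : V6, a ≠ 0 → hf a a = 0 → ∀ x, tr (act g a) x = tr a x := fun a ha hia x => by
      have h := S.psi_spec g a ha hia
      rw [hg, one_mul, inv_one, mul_one] at h
      obtain ⟨s, hs, e⟩ := S.T_inj ha hia (fun e => ha ((act_eq_zero_iff g).1 e))
        (by rw [hf, herm_act g a a]; exact hia) h
      rw [e, tr_point hs]
    rw [Subgroup.mem_center_iff]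
    have htop := gen_transv (centralizer ({g} : Set S6)) fun a ha hia => by
      obtain ⟨k, hk⟩ := exists_tS hia
      refine ⟨k, Subgroup.mem_centralizer_singleton_iff.2 (act_ext fun x => ?_), hk⟩
      rw [act_mul, act_mul, hk, hk, tr_conj (g := act g) (fun u v => Matrix.mulVec_add _ _ _) (act_smul g)
        (fun u v => herm_act g u v) a x, key a ha hia]
    exact fun k => Subgroup.mem_centralizer_singleton_iff.1 (htop.ge (Subgroup.mem_top k))
  · intro hg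
    refine (S.impl_unique (S.psi_spec g) fun a ha hia => ?_)
    rw [one_mul, inv_one, mul_one]
    obtain ⟨k, hk⟩ := exists_tS hia
    have hga : act g a ≠ 0 := fun e => ha ((act_eq_zero_iff g).1 e)
    obtain ⟨s, hs⟩ := tr_eq_point ha (a := act g a) fun x => by
      have e : g * k * g⁻¹ = k := by rw [← Subgroup.mem_center_iff.1 hg k, mul_inv_cancel_right]
      calc tr (act g a) x = act g (tr a (act g⁻¹ x)) := by
            rw [tr_conj (g := act g) (fun u v => Matrix.mulVec_add _ _ _) (act_smul g)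
              (fun u v => herm_act g u v), ← act_mul, mul_inv_cancel, act_one]
        _ = act (g * k * g⁻¹) x := by rw [act_mul, act_mul, hk]
        _ = tr a x := by rw [e, hk]
    have hs0 : s ≠ 0 := fun e => ha (by rw [hs, e, zero_smul])
    conv_lhs => rw [hs]
    rw [S.T_smul hs0 hga (by rw [hf, herm_act g a a]; exact hia)]

/-- The image is the projective unitary group. -/
theorem R_equiv : Nonempty (↥S.R ≃* Cfsg.PSU 6 K4 2) :=
  ⟨(QuotientGroup.quotientKerEquivRange S.psi).symm.trans (QuotientGroup.quotientMulEquivOfEq S.psi_ker)⟩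

end Data

end Cfsg.Agent.LargeFischer.Six
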