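import Cfsg.Agent.Lib.LargeFischer.SixVec
import Cfsg.Agent.Lib.LargeFischer.BigCount

/-! Finite checks for the section with quotient U6(2). -/

set_option autoImplicit false
set_option maxRecDepth 100000
set_option maxHeartbeats 200000
set_option synthInstance.maxSize 2000
set_option synthInstance.maxHeartbeats 200000

namespace Cfsg.Agent.LargeFischer.Six

open Cfsg.Agent.RigidGraph.He Cfsg.Agent.U43InU62 Cfsg.Agent.LargeFischer.Big
open Matrix

/-- The change of coordinates. -/
def sw (x : V6) : V6 := ![x 0, x 2, x 1, x 3, x 5, x 4]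

/-- A vector of the four-space as a vector orthogonal to the standard one. -/
def up (y : V4) : V6 := sw (emb y)

/-- The class of a vector. -/
def lo (x : V6) : V4 := low (sw x)

/-- The action of a table element on the four-space. -/
def lamK (k : ℕ) (y : V4) : V4 := lo (tm (nk k) (up y))

/-- The five indices of the standard line. -/
def five : List ℕ := [2, 6, 7, 9, 10]

/-- The points of the standard line. -/
def ck (k : ℕ) : V4 :=
  if k = 2 then ![1, 1, 0, 0] else if k = 6 then ![0, 0, 1, K4.w] else if k = 7 then ![1, 1, K4.w, K4.v]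
  else if k = 9 then ![1, 1, 1, K4.w] else ![1, 1, K4.v, 1]

/-- The parity of the chosen lift. -/
def eps (k : ℕ) : ℕ := if k = 9 then 0 else 1

/-- The indices of the four group. -/
def eB (i : ℕ) : Bool := i == 0 || i == 2 || i == 4 || i == 6

/-- The indices not conjugate to the central involution as one number. -/
def nAll : ℕ :=
  568134019911499389354580040849996670533615719670390700962070902836231827436044292205818909476416441032986592514735301846322312829249232795187404008668683704182805429426272812832575787830891590245163783626459272030086811908779277902792031311885737403931983509958148466819821626022813518339460419931298514482216873439431485535992228742461758607849921370822114042921175114325225498227245514538931745031622902705951726625896675952224739267403228669681882854239472938494427487711064805274048158344491617549856266658471130516579674207686492084056427466558854289137532935099296151357399061094349014830014006947588402775036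

/-- Not being conjugate to the central involution, as an index. -/
def nb (i : ℕ) : Bool := nAll.testBit i

/-- Being conjugate to the central involution, as an index. -/
def ztB (i : ℕ) : Bool := !(i == 0) && !(nb i)

/-- Lying over a transvection. -/
def dB (i : ℕ) : Bool := ztB i && nb (i ^^^ 2) && nb (i ^^^ 4) && nb (i ^^^ 6)

/-- Having exactly one lift not conjugate to the central involution. -/
def twoB (i : ℕ) : Bool := nb i && ztB (i ^^^ 2) && ztB (i ^^^ 4) && ztB (i ^^^ 6)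

/-- Having no lift not conjugate to the central involution. -/
def threeB (i : ℕ) : Bool := ztB i && ztB (i ^^^ 2) && ztB (i ^^^ 4) && ztB (i ^^^ 6)

theorem nb_spec : ∀ i < 2048, nb i = isN i := by decide +kernel

theorem sw_sw (x : V6) : sw (sw x) = x := by funext i; fin_cases i <;> rfl

theorem sw_bA : sw (bA 0) = v0 := by decide +kernel

theorem lo_up (y : V4) : lo (up y) = y := by rw [lo, up, sw_sw, low_emb]

theorem eB_iff (i : ℕ) : eB i = true ↔ i = 0 ∨ i = 2 ∨ i = 4 ∨ i = 6 := by simp [eB, or_assoc]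

theorem eB_cls : ∀ i < 2048, eB i = false →
    (∃ e ∈ [0, 2, 4, 6], dB (i ^^^ e) = true) ∨ (∃ e ∈ [0, 2, 4, 6], twoB (i ^^^ e) = true) ∨ threeB i = true := by
  decide +kernel

theorem tm_fix : ∀ k < 16, tm (nk k) (bA 0) = bA 0 := by decide +kernel

theorem ck_props : ∀ k ∈ five, ck k ≠ 0 ∧ hf (ck k) (ck k) = 0 ∧ inLine (ck k) ∧ k < 16 ∧ k ≠ 0 := by decide +kernel

theorem lam_tr_basis : ∀ k ∈ five, ∀ j : Fin 4, lamK k (Pi.single j 1) = tr (ck k) (Pi.single j 1) := by decide +kernel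

theorem line_points : ∀ s t : K4, (s ≠ 0 ∨ t ≠ 0) → ∃ k ∈ five, ∃ r : K4, r ≠ 0 ∧ s • c0 + t • d1 = r • ck k := by
  decide +kernel

/-- The first complement vector. -/
def e1 : V4 := ![1, 0, 0, 0]

/-- The second complement vector. -/
def e2 : V4 := ![0, 0, 1, 0]

theorem frame_span (a b c e : K4) : (![a, b, c, e] : V4) =
    (K4.v * e) • c0 + (b + K4.v * e) • d1 + (a + b) • e1 + (c + K4.v * e) • e2 := by
  funext i
  revert a b c e
  fin_cases i <;> decide +kernel

theorem line_fixed : ∀ k < 16, ∀ a b : K4, lamK k (a • c0 + b • d1) = a • c0 + b • d1 := by decide +kernel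

theorem lam_fixed : ∀ k < 16, k ≠ 0 → k ∉ five → ∀ p q : K4,
    p • (lamK k e1 + e1) + q • (lamK k e2 + e2) = 0 → p = 0 ∧ q = 0 := by decide +kernel

theorem lam_all : ∀ a b a' b' : K4,
    hf (e1 + (a • c0 + b • d1)) (e1 + (a • c0 + b • d1)) = hf e1 e1 →
    hf (e2 + (a' • c0 + b' • d1)) (e2 + (a' • c0 + b' • d1)) = hf e2 e2 →
    hf (e1 + (a • c0 + b • d1)) (e2 + (a' • c0 + b' • d1)) = hf e1 e2 →
    ∃ k < 16, lamK k c0 = c0 ∧ lamK k d1 = d1 ∧ lamK k e1 = e1 + (a • c0 + b • d1) ∧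
      lamK k e2 = e2 + (a' • c0 + b' • d1) := by decide +kernel

theorem line_lift : ∀ s t : K4, ∃ x < 64, lo (vd x) = s • c0 + t • d1 := by decide +kernel

theorem vd_props : ∀ x < 64, hf (vd x) (bA 0) = 0 ∧ hf (lo (vd x)) (lo (vd x)) = 0 := by decide +kernel

theorem vd_eight : lo (vd 4) = d1 ∧ vd 1 = bA 0 ∧ vd 2 = K4.w • bA 0 ∧ vd 3 = K4.v • bA 0 := by decide +kernel

theorem xi_E : xi 2 = 4 ∧ xi 4 = 6 ∧ xi 6 = 2 ∧ xi 1152 = 1152 ∧ xi 257 = 257 := by decide +kernel

theorem d_list : ∀ i < 2048, dB i = true → i = 1 ∨ (i / 128 ∈ five ∧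
    ((lo (vd (i / 2 % 64)) = 0 ∧ i % 2 = eps (i / 128)) ∨
      ((i % 2 + eps (i / 128)) % 2 = 1 ∧ ∃ a : K4, a ≠ 0 ∧ lo (vd (i / 2 % 64)) = (a * a) • ck (i / 128)))) := by
  decide +kernel

theorem d_lifts : ∀ k ∈ five, dB (128 * k + eps k) = true ∧ dB ((128 * k + eps k) ^^^ 1) = false := by decide +kernel

theorem d_small : ∀ i < 128, dB i = true → i = 1 := by decide +kernel

theorem n_small : ∀ i < 2048, nb i = true → (nb (i ^^^ 1) = true ↔ i < 128) := by decide +kernel

theorem moved_five : dB 264 = true ∧ nb (264 ^^^ xi 264) = true ∧ nb (264 ^^^ xi 264 ^^^ 1152) = false ∧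
    nb 256 = true ∧ nb (256 ^^^ 1152) = false ∧ xi 264 < 2048 := by decide +kernel

theorem two_rep : twoB 1153 = true ∧ Big.pp 5 ^^^ Big.pp 3 = 1153 ∧ Big.pp 0 ^^^ Big.pp 1 = 2 ∧ Big.pp 0 ^^^ Big.pp 2 = 4 ∧
    Big.pp 1 ^^^ Big.pp 2 = 6 ∧ Big.pp 1 ^^^ Big.pp 3 = 1156 ∧ Big.pp 0 ^^^ Big.pp 1 ^^^ (Big.pp 2 ^^^ Big.pp 5) = 1 ∧
    Big.pp 0 ^^^ Big.pp 1 ^^^ (Big.pp 2 ^^^ Big.pp 3) = 1152 ∧ Big.pp 0 ^^^ Big.pp 1 ^^^ (Big.pp 3 ^^^ Big.pp 5) = 1155 := by decide +kernel

theorem two_cand : ∀ j < 8, ztB (1156 ^^^ j) = true → nb (1156 ^^^ j ^^^ 2) = true →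
    nb (1156 ^^^ j ^^^ 1156) = true → nb (1156 ^^^ j ^^^ 1158) = true →
    1156 ^^^ j = 1152 ∨ 1156 ^^^ j = 1155 := by decide +kernel

/-- A pair of columns spanning the image of a table element minus one. -/
def jp (k : ℕ) : Fin 6 × Fin 6 :=
  if k = 4 then (1, 4) else if k ∈ [1, 6, 12, 15] then (0, 4) else (0, 1)

/-- The first spanning vector. -/
def w1 (k : ℕ) : V6 := tm (nk k) (bv (jp k).1) + bv (jp k).1

/-- The second spanning vector. -/
def w2 (k : ℕ) : V6 := tm (nk k) (bv (jp k).2) + bv (jp k).2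

/-- The image of a table element minus one. -/
def Img (k : ℕ) (x : V6) : Prop := ∃ a b : K4, x = a • w1 k + b • w2 k

instance (k : ℕ) (x : V6) : Decidable (Img k x) := by unfold Img; infer_instance

theorem img_piA : ∀ k < 16, (w1 k 0 = w1 k 2 ∧ w1 k 1 = w1 k 3 ∧ w1 k 4 = K4.w * w1 k 5) ∧
    (w2 k 0 = w2 k 2 ∧ w2 k 1 = w2 k 3 ∧ w2 k 4 = K4.w * w2 k 5) := by decide +kernel

theorem img_all : ∀ k < 16, ∀ j : Fin 6, Img k (tm (nk k) (bv j) + bv j) := by decide +kernel

/-- The indices outside the small range not conjugate to the central involution. -/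
def nBig : List ℕ := [
  128, 138, 148, 158, 161, 170, 180, 191, 193, 203, 212, 222, 225, 234, 245, 254, 256, 259, 261,
  263, 265, 266, 268, 270, 273, 274, 276, 278, 281, 282, 284, 286, 385, 395, 405, 415, 423, 428,
  434, 441, 451, 457, 470, 476, 485, 494, 497, 506, 512, 521, 529, 537, 545, 552, 560, 568, 577,
  584, 592, 600, 609, 616, 624, 632, 640, 649, 657, 665, 678, 686, 694, 703, 706, 715, 722, 730,
  740, 748, 757, 764, 768, 771, 773, 775, 801, 802, 804, 806, 833, 834, 836, 838, 865, 866, 868,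
  870, 896, 899, 901, 903, 952, 954, 956, 959, 968, 971, 972, 974, 1008, 1010, 1013, 1014, 1024,
  1033, 1041, 1049, 1058, 1066, 1075, 1082, 1092, 1100, 1108, 1117, 1126, 1135, 1142, 1150, 1153,
  1154, 1156, 1158, 1193, 1195, 1196, 1199, 1233, 1235, 1237, 1238, 1273, 1274, 1277, 1279, 1280,
  1283, 1285, 1287, 1328, 1331, 1332, 1334, 1368, 1370, 1373, 1374, 1384, 1386, 1388, 1391, 1409,
  1416, 1424, 1432, 1445, 1452, 1461, 1469, 1479, 1487, 1494, 1503, 1507, 1515, 1523, 1530, 1536,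
  1550, 1554, 1564, 1569, 1582, 1587, 1596, 1601, 1614, 1618, 1629, 1633, 1647, 1650, 1660, 1664,
  1676, 1686, 1690, 1700, 1704, 1715, 1727, 1734, 1739, 1744, 1757, 1762, 1775, 1781, 1784, 1793,
  1807, 1811, 1821, 1827, 1836, 1841, 1854, 1861, 1866, 1878, 1881, 1895, 1897, 1908, 1914, 1921,
  1933, 1943, 1947, 1952, 1964, 1975, 1979, 1984, 1997, 2006, 2011, 2016, 2029, 2039, 2042]

/-- The same indices as one number. -/
def nMask : ℕ :=
  568134019911499389354580040849996670533615719670390700962070902836231827436044292205818909476416441032986592514735301846322312829249232795187404008668683704182805429426272812832575787830891590245163783626459272030086811908779277902792031311885737403931983509958148466819821626022813518339460419931298514482216873439431485535992228742461758607849921370822114042921175114325225498227245514538931745031622902705951726625896675952224739267403228669681882854239472938494427487711064805274048158344491617549856266658471130516579674207686492084056427466558854289137532935099296151357382857233674970328183110301086656757760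

/-- The pairs of rows which occur. -/
def gpL : List ℕ := [
  20, 21, 22, 23, 28, 29, 30, 31, 36, 37, 38, 39, 40, 41, 42, 43, 56, 57, 58, 59, 60, 61, 62, 63,
  65, 66, 69, 70, 72, 75, 76, 79, 81, 82, 84, 87, 88, 91, 93, 94, 97, 98, 100, 103, 105, 106, 108,
  111, 113, 114, 117, 118, 121, 122, 125, 126, 130, 131, 132, 133, 138, 139, 140, 141, 146, 147,
  150, 151, 154, 155, 158, 159, 162, 163, 166, 167, 168, 169, 172, 173, 178, 179, 180, 181, 184,
  185, 190, 191, 193, 195, 196, 198, 200, 202, 205, 207, 209, 211, 213, 215, 216, 218, 220, 222,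
  225, 227, 229, 231, 233, 235, 237, 239, 241, 243, 244, 246, 249, 251, 252, 254]

theorem nBig_spec : ∀ i < 2048, nMask.testBit i = (Nat.ble 128 i && nb i) := by decide +kernel

theorem nBig_mem : ∀ i < 2048, nMask.testBit i = true → i ∈ nBig := by decide +kernel

theorem three_pairs : (nBig.all fun i => nBig.all fun j =>
    !(nMask.testBit (i ^^^ j)) || gpL.contains (16 * (i / 128) + j / 128)) = true := by decide +kernel

/-- Coefficient codes for the spanning statement. -/
def witL3 : List ℕ := [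
  28, 16, 11, 77, 65, 11, 16, 28, 11, 17, 29, 11, 37, 41, 11, 39, 43, 11, 58, 54, 11, 57, 53, 11, 1,
  4, 128, 1, 4, 63, 1, 4, 128, 1, 4, 60, 1, 4, 25, 1, 4, 36, 1, 4, 24, 1, 4, 38, 72, 77, 200, 23,
  18, 50, 22, 19, 49, 76, 73, 196, 207, 202, 134, 23, 18, 50, 22, 19, 49, 202, 207, 137, 29, 1, 8,
  16, 1, 8, 29, 1, 8, 16, 1, 8, 26, 1, 8, 23, 1, 8, 26, 1, 8, 23, 1, 8, 197, 5, 131, 16, 5, 60, 196,
  5, 128, 17, 5, 63, 61, 5, 39, 41, 5, 27, 62, 5, 37, 43, 5, 26, 1, 29, 8, 1, 64, 8, 1, 16, 8, 1,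
  28, 8, 1, 40, 8, 1, 52, 8, 1, 55, 8, 1, 42, 8, 5, 197, 140, 5, 64, 195, 5, 68, 207, 5, 193, 128,
  5, 18, 50, 5, 19, 49, 5, 18, 50, 5, 19, 49, 16, 7, 24, 54, 7, 62, 136, 7, 128, 45, 7, 37, 17, 7,
  25, 53, 7, 61, 137, 7, 129, 47, 7, 39, 13, 64, 66, 13, 33, 35, 13, 130, 128, 13, 33, 35, 13, 35,
  33, 13, 68, 70, 13, 35, 33, 13, 134, 132, 9, 64, 129, 9, 49, 19, 9, 67, 128, 9, 49, 19, 9, 68,
  137, 9, 50, 18, 9, 71, 136, 9, 50, 18, 16, 6, 36, 39, 6, 61, 76, 6, 128, 57, 6, 26, 37, 6, 62, 17,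
  6, 38, 58, 6, 27, 77, 6, 130, 53, 43, 9, 47, 30, 9, 40, 16, 9, 16, 52, 9, 137, 67, 9, 17, 55, 9,
  54, 41, 9, 45, 31, 9, 75, 139, 137, 30, 33, 35, 196, 78, 76, 30, 33, 35, 200, 74, 72, 31, 35, 33,
  70, 141, 143, 31, 35, 33, 142, 78, 134, 27, 49, 19, 132, 75, 140, 27, 49, 19, 26, 50, 18, 140, 79,
  132, 26, 50, 18, 135, 73, 143, 41, 54, 10, 62, 31, 10, 52, 16, 10, 16, 40, 10, 17, 42, 10, 197,
  66, 10, 61, 30, 10, 43, 53, 10]

/-- A coefficient from a code. -/
def cf (q j : ℕ) : K4 := K4.ofDigit (q / 4 ^ j % 4)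

theorem three_span_at : ∀ p < 120, ∀ l : Fin 3, bA l =
    (cf (witL3.getD (3 * p + l) 0) 0 • w1 (gpL.getD p 0 / 16) + cf (witL3.getD (3 * p + l) 0) 1 • w2 (gpL.getD p 0 / 16)) +
    (cf (witL3.getD (3 * p + l) 0) 2 • w1 (gpL.getD p 0 % 16) + cf (witL3.getD (3 * p + l) 0) 3 • w2 (gpL.getD p 0 % 16)) := by
  decide +kernel

theorem three_span {n : ℕ} (hn : n ∈ gpL) (l : Fin 3) : ∃ a b c e : K4,
    bA l = (a • w1 (n / 16) + b • w2 (n / 16)) + (c • w1 (n % 16) + e • w2 (n % 16)) := by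
  obtain ⟨p, hp, rfl⟩ := List.mem_iff_getElem.1 hn
  have h := three_span_at p (lt_of_lt_of_eq hp (by rfl)) l
  rw [List.getD_eq_getElem _ _ hp] at h
  exact ⟨_, _, _, _, h⟩

theorem commutators : sh 4 1024 ^^^ 1024 ^^^ (sh 8 384 ^^^ 384) = 2 ∧
    (∀ e ∈ [2, 4, 6], sh 4 e = e ∧ sh 8 e = e) := by decide +kernel

end Cfsg.Agent.LargeFischer.Six
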