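import Cfsg.Agent.Lib.LargeFischer.SixChart
import Cfsg.Agent.Lib.FischerPresented.U62Group
import Cfsg.Prelude.Def_CaseTheorems

/-! The image of the unitary group is the whole centraliser of the four-group modulo it. -/

set_option autoImplicit false
set_option maxRecDepth 100000
set_option maxHeartbeats 200000
set_option synthInstance.maxSize 2000

namespace Cfsg.Agent.LargeFischer.Six

open Cfsg.Agent.RigidGraph.He Cfsg.Agent.U43InU62 Cfsg.Agent.LargeExtra Cfsg.Agent.LargeFischer.Big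
open Subgroup
open scoped commutatorElement

attribute [local irreducible] tm elN TT

theorem two_disjoint : ∀ q < 24, ∀ p < q, twoB (Big.pp p ^^^ Big.pp q) = true → 3 ≤ p := by decide +kernel

theorem not_dB_1153 : ∀ e ∈ [0, 2, 4, 6], dB (1153 ^^^ e) = false := by decide +kernel

theorem small_xor : ∀ j < 8, (1156 ^^^ j) ^^^ 1156 = j ∧ (1156 ^^^ j) ^^^ 1158 = j ^^^ 2 := by decide +kernel

theorem two_misc : ztB 1152 = true ∧ nb 1154 = true ∧ nb 4 = true ∧ nb 6 = true ∧ nb 2 = true ∧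
    nb 1153 = true ∧ 1156 ^^^ 4 = 1152 ∧ 2 ^^^ 1153 = 1155 := by decide +kernel

theorem hf_iff_even (x : V6) : hf x x = 0 ↔ wt x % 2 = 0 := by
  rw [show hf x x = ((wt x % 2 : ℕ) : K4) from herm_self x]
  exact (by decide +kernel : ∀ n < 2, ((n : ℕ) : K4) = 0 ↔ n = 0) _ (Nat.mod_lt _ (by norm_num))

theorem sum_bv (x : V6) : x = x 0 • bv 0 + x 1 • bv 1 + x 2 • bv 2 + x 3 • bv 3 + x 4 • bv 4 + x 5 • bv 5 := by
  funext i; fin_cases i <;> simp [bv]

theorem act_add' (g : S6) (u v : V6) : act g (u + v) = act g u + act g v := Matrix.mulVec_add _ _ _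

theorem img_add {k : ℕ} {u v : V6} (hu : Img k u) (hv : Img k v) : Img k (u + v) := by
  obtain ⟨a, b, rfl⟩ := hu
  obtain ⟨a', b', rfl⟩ := hv
  exact ⟨a + a', b + b', by rw [add_smul, add_smul]; abel⟩

theorem img_smul {k : ℕ} {u : V6} (hu : Img k u) (c : K4) : Img k (c • u) := by
  obtain ⟨a, b, rfl⟩ := hu
  exact ⟨c * a, c * b, by rw [smul_add, smul_smul, smul_smul]⟩

theorem piA_add {u v : V6} (hu : piA u) (hv : piA v) : piA (u + v) := by
  obtain ⟨a, b, c, rfl⟩ := hu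
  obtain ⟨a', b', c', rfl⟩ := hv
  exact ⟨a + a', b + b', c + c', by rw [add_smul, add_smul, add_smul]; abel⟩

theorem piA_smul {u : V6} (hu : piA u) (s : K4) : piA (s • u) := by
  obtain ⟨a, b, c, rfl⟩ := hu
  exact ⟨s * a, s * b, s * c, by rw [smul_add, smul_add, smul_smul, smul_smul, smul_smul]⟩

theorem img_iff {k : ℕ} (hk : k < 16) (v : V6) : Img k v ↔ ∃ u, act (aK k).1 u + u = v := by
  have hact : ∀ u, act (aK k).1 u = tm (nk k) u := fun u => act_elN _ _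
  have hlin : ∀ (c : K4) u, act (aK k).1 (c • u) + c • u = c • (act (aK k).1 u + u) := fun c u => by
    rw [act_smul, smul_add]
  constructor
  · rintro ⟨a, b, rfl⟩
    refine ⟨a • bv (jp k).1 + b • bv (jp k).2, ?_⟩
    rw [act_add', w1, w2, ← hact, ← hact, ← hlin, ← hlin]
    abel
  · rintro ⟨u, rfl⟩
    have hb : ∀ j, Img k (act (aK k).1 (bv j) + bv j) := fun j => by rw [hact]; exact img_all k hk j
    have hadd : ∀ u v, act (aK k).1 (u + v) + (u + v) = (act (aK k).1 u + u) + (act (aK k).1 v + v) := fun u v => by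
      rw [act_add']; abel
    rw [sum_bv u, hadd, hadd, hadd, hadd, hadd, hlin, hlin, hlin, hlin, hlin, hlin]
    exact img_add (img_add (img_add (img_add (img_add (img_smul (hb 0) _) (img_smul (hb 1) _)) (img_smul (hb 2) _))
      (img_smul (hb 3) _)) (img_smul (hb 4) _)) (img_smul (hb 5) _)

theorem img_sub {k : ℕ} (hk : k < 16) {x : V6} (h : Img k x) : piA x := by
  obtain ⟨a, b, rfl⟩ := h
  obtain ⟨⟨p0, p1, p2⟩, q0, q1, q2⟩ := img_piA k hk
  have key : ∀ w : V6, w 0 = w 2 → w 1 = w 3 → w 4 = K4.w * w 5 → piA w := fun w h0 h1 h2 =>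
    ⟨w 0, w 1, w 5, by
      funext i; fin_cases i <;> simp [bA, show K4.o = 0 from rfl, show K4.l = 1 from rfl] <;>
        first
        | rfl
        | exact h0.symm
        | exact h1.symm
        | (rw [h2]; exact mul_comm _ _)⟩
  exact piA_add (piA_smul (key _ p0 p1 p2) a) (piA_smul (key _ q0 q1 q2) b)

variable {G : Type*} [Group G] [Finite G] {z : G} {Q : Subgroup ↥(centralizer ({z} : Set G))} [Q.Normal]

namespace Data

variable (S : Data z Q)

theorem eg_xor (i j : ℕ) : S.eg (i ^^^ j) = S.eg i * S.eg j := S.B.eg_xor S.hc i j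

theorem eg_nil : S.eg 0 = 1 := S.B.eg_zero S.hc

theorem eg_z : S.eg 1 = z := S.B.eg_one S.hc

/-- Being the member over some point. -/
def InDR (r : S.Cb) : Prop := ∃ u : V6, u ≠ 0 ∧ hf u u = 0 ∧ r = S.T u

theorem InDR.conj {r k : S.Cb} (hk : k ∈ S.R) (h : S.InDR r) : S.InDR (k * r * k⁻¹) := by
  obtain ⟨g, rfl⟩ := hk
  obtain ⟨u, hu, hiu, rfl⟩ := h
  exact ⟨act g u, fun e => hu ((act_eq_zero_iff g).1 e), by rw [hf, herm_act g u u]; exact hiu, S.psi_spec g u hu hiu⟩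

theorem InDR.exists_k {r : S.Cb} (h : S.InDR r) : ∃ k ∈ S.R, k * S.zb * k⁻¹ = r := by
  obtain ⟨u, hu, hiu, rfl⟩ := h
  exact S.T_conj_zb hu hiu

theorem InDR.mem_R {r : S.Cb} (h : S.InDR r) : r ∈ S.R := by
  obtain ⟨u, hu, hiu, rfl⟩ := h
  exact S.T_mem_R hu hiu

theorem comm_zb_InDR {r : S.Cb} (h : r ∈ S.Cls) (hc : r * S.zb = S.zb * r) : S.InDR r := by
  rcases S.Cls_comm h hc with rfl | ⟨a, c, hcne, hic, rfl⟩
  · exact ⟨z6, by decide +kernel, by decide +kernel, S.T_z6.symm⟩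
  · exact ⟨pt a c 0, fun e => hcne (by rw [← low_pt a c 0, e]; rfl), iso_low.2 hic, (S.T_low a hcne).symm⟩

theorem mem_R_of_zb {c : S.Cb} (h : S.InDR (c * S.zb * c⁻¹)) : c ∈ S.R := by
  obtain ⟨k, hk, e⟩ := InDR.exists_k S h
  have h1 : k⁻¹ * c ∈ S.R := S.comm_zb_mem_R (by
    calc k⁻¹ * c * S.zb = k⁻¹ * (c * S.zb * c⁻¹) * c := by group
      _ = _ := by rw [← e]; group)
  have := mul_mem hk h1
  rwa [mul_inv_cancel_left] at this

theorem exists_fixed {r : S.Cb} (hr : r ∈ S.R) (h2 : r * r = 1) :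
    ∃ d, S.InDR d ∧ r * d * r⁻¹ = d := by
  classical
  let P : Finset V6 := Finset.univ.filter fun x => x ≠ 0 ∧ hf x x = 0
  have hP : P.card = 2079 := by
    have e : P = Finset.univ.filter In1 ∪ Finset.univ.filter In2 := by
      ext x
      simp only [P, Finset.mem_filter, Finset.mem_univ, true_and, Finset.mem_union]
      have hw := hf_iff_even x
      constructor
      · rintro ⟨h0, hh⟩
        exact in_cases h0 (hw.1 hh)
      · intro h
        have hne : x ≠ 0 := by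
          rintro rfl
          rcases h with (a | ⟨a, -⟩) | (a | ⟨a, -⟩) <;> simp [wt_zero] at a
        refine ⟨hne, hw.2 ?_⟩
        rcases h with (a | ⟨a, -⟩) | (a | ⟨a, -⟩) <;> omega
    rw [e, Finset.card_union_of_disjoint (Finset.disjoint_filter.2 fun x _ a b => in_disjoint a b), card_orbits.1,
      card_orbits.2]
  let D : Finset S.Cb := P.image S.T
  have hfib : ∀ d ∈ D, (P.filter fun x => S.T x = d).card = 3 := by
    intro d hd
    obtain ⟨x, hx, rfl⟩ := Finset.mem_image.1 hd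
    obtain ⟨hx0, hxi⟩ := (Finset.mem_filter.1 hx).2
    have e : (P.filter fun y => S.T y = S.T x) = ({1, K4.w, K4.v} : Finset K4).image (fun s => s • x) := by
      ext y
      simp only [Finset.mem_filter, Finset.mem_image, Finset.mem_insert, Finset.mem_singleton]
      constructor
      · rintro ⟨hy, he⟩
        obtain ⟨hy0, hyi⟩ := (Finset.mem_filter.1 hy).2
        obtain ⟨s, hs, e⟩ := S.T_inj hx0 hxi hy0 hyi he.symm
        exact ⟨s, (by decide : ∀ s : K4, s ≠ 0 → s = 1 ∨ s = K4.w ∨ s = K4.v) s hs, e.symm⟩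
      · rintro ⟨s, hs, rfl⟩
        have hs0 : s ≠ 0 := by rcases hs with rfl | rfl | rfl <;> decide
        exact ⟨Finset.mem_filter.2 ⟨Finset.mem_univ _, smul_ne_zero hs0 hx0,
          by rw [hf_smull, hf_smulr, hxi, mul_zero, mul_zero]⟩, S.T_smul hs0 hx0 hxi⟩
    rw [e, Finset.card_image_of_injective _ fun s t e => smul_left_injective K4 hx0 e]
    rfl
  have hD : 2079 = 3 * D.card := by
    rw [← hP, Finset.card_eq_sum_card_fiberwise (f := S.T) (t := D) fun x hx => Finset.mem_image_of_mem _ hx,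
      Finset.sum_congr rfl hfib, Finset.sum_const, smul_eq_mul, mul_comm]
  have hin : ∀ d, d ∈ D ↔ S.InDR d := fun d => by
    simp only [D, P, Finset.mem_image, Finset.mem_filter, Finset.mem_univ, true_and]
    exact ⟨fun ⟨x, ⟨a, b⟩, e⟩ => ⟨x, a, b, e.symm⟩, fun ⟨x, a, b, e⟩ => ⟨x, ⟨a, b⟩, e.symm⟩⟩
  by_contra hno
  push Not at hno
  have hsum : ∑ _x ∈ D, (1 : ZMod 2) = 0 :=
    Finset.sum_involution (fun d _ => r * d * r⁻¹) (fun _ _ => by decide) (fun d hd _ => hno d ((hin d).1 hd))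
      (fun d hd => (hin _).2 (InDR.conj S hr ((hin d).1 hd))) (fun d _ => by
        have hinv : r⁻¹ = r := inv_eq_of_mul_eq_one_right h2
        rw [hinv, show r * (r * d * r) * r = (r * r) * d * (r * r) by group, h2, one_mul, mul_one])
  rw [Finset.sum_const, nsmul_eq_mul, mul_one, ZMod.natCast_eq_zero_iff_even] at hsum
  obtain ⟨k, hk⟩ := hsum
  omega

/-- The members in the image. -/
theorem Cls_R {x : S.Cb} (hx : x ∈ S.Cls) (hxR : x ∈ S.R) : S.InDR x := by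
  obtain ⟨d, hd, he⟩ := S.exists_fixed hxR (S.Cls_sq hx)
  obtain ⟨k, hk, rfl⟩ := InDR.exists_k S hd
  have h1 : k⁻¹ * x * k * S.zb = S.zb * (k⁻¹ * x * k) := by
    calc k⁻¹ * x * k * S.zb = k⁻¹ * (x * (k * S.zb * k⁻¹) * x⁻¹) * x * k := by group
      _ = _ := by rw [he]; group
  have h2 := S.comm_zb_InDR (by have := S.Cls_conj hx k⁻¹; rwa [inv_inv] at this) h1
  have h3 := InDR.conj S hk h2
  rwa [show k * (k⁻¹ * x * k) * k⁻¹ = x by group] at h3

theorem nb_conj {i j : ℕ} (hi : i < 2048) (hj : j < 2048) {g : G} (e : g * S.eg i * g⁻¹ = S.eg j) :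
    nb j = nb i ∧ ztB j = ztB i := by
  have h0 : j = 0 ↔ i = 0 := by
    constructor <;> intro h <;> subst h
    · rw [S.eg_nil, conj_eq_one_iff, ← S.eg_nil] at e
      exact S.B.eg_inj S.hc hi (by norm_num) e
    · rw [S.eg_nil, mul_one, mul_inv_cancel, ← S.eg_nil] at e
      exact (S.B.eg_inj S.hc (by norm_num) hj e).symm
  have hc : IsConj z (S.eg j) ↔ IsConj z (S.eg i) := by rw [← e]; exact conj_iff g
  constructor
  · rw [Bool.eq_iff_iff, nb_spec _ hj, nb_spec _ hi, S.hN _ hj, S.hN _ hi]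
    exact and_congr (not_congr h0) (not_congr hc)
  · rw [Bool.eq_iff_iff, ← S.isConj_eg hj, ← S.isConj_eg hi]
    exact hc

theorem pr_mem_R_of_AG {n : G} (hn : n ∈ MG S.cv) (hnC : n ∈ S.C) : S.pr n ∈ S.R := by
  refine S.mem_R_of_zb (S.comm_zb_InDR (S.Cls_conj S.zb_mem_Cls _) ?_)
  obtain ⟨j, hj, e⟩ := S.B.eg_surj S.hc (conj_mem_AG S.cv hn (z_mem_AG S.cv))
  rw [zb, ← S.pr_conj hnC S.z_mem_C, ← e, ← zb, ← S.pr_eg_one, ← S.pr_eg_mul, ← S.pr_eg_mul, Nat.xor_comm]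

theorem pts_inj {p q : ℕ} (hp : p < 24) (hq : q < 24) (h3 : 3 ≤ p) (hpq : p < q) :
    Function.Injective (![0, 1, 2, ⟨p, hp⟩, ⟨q, hq⟩] : Fin 5 → Fin 24) := by
  intro i j h
  fin_cases i <;> fin_cases j <;> simp [Fin.ext_iff] at h <;> first | rfl | omega

/-- The centraliser of the representative of the first kind. -/
theorem two_1153 {c : S.Cb} (hc : c * S.pr (S.eg 1153) = S.pr (S.eg 1153) * c) : c ∈ S.R := by
  obtain ⟨a, ha, rfl⟩ := S.pr_surj c
  obtain ⟨t1, t2, t3, t4, t5, t6, t7, t8⟩ := two_misc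
  obtain ⟨r1, r2, r3, r4, r5, r6, r7, r8, r9⟩ := two_rep
  have hconj : S.pr (a * S.eg 1153 * a⁻¹) = S.pr (S.eg 1153) := by
    rw [S.pr_conj ha (S.eg_mem_C _)]; exact mul_inv_eq_iff_eq_mul.2 hc
  obtain ⟨_, ⟨e, he, rfl⟩, he'⟩ :=
    (S.pr_eq_iff (S.eg_mem_C 1153) (mul_mem (mul_mem ha (S.eg_mem_C _)) (inv_mem ha))).1 hconj.symm
  rw [← S.B.eg_xor S.hc] at he'
  have he8 := eB_lt he
  have hnb := (S.nb_conj (i := 1153) (by norm_num) (eg_lt_xor (i := 1153) (j := e) (by norm_num) (by omega)) he').1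
  have he0 : e = 0 := by
    rw [t6] at hnb
    rcases (eB_iff e).1 he with rfl | rfl | rfl | rfl <;>
      first | rfl | exact absurd hnb (by decide +kernel)
  subst he0
  rw [Nat.xor_zero] at he'
  have hA : a * S.eg 1153 = S.eg 1153 * a := mul_inv_eq_iff_eq_mul.1 he'
  obtain ⟨hA2, hA4⟩ := S.mem_C.1 ha
  obtain ⟨g, hg, hmv⟩ := S.exists_mover ![0, 1, 2, 5, 3] ![0, 1, 5, 3, 2] (by decide) (by decide)
  have g01 : g * S.eg (Big.pp 0 ^^^ Big.pp 1) * g⁻¹ = S.eg (Big.pp 0 ^^^ Big.pp 1) := by simpa using hmv 0 1 (by decide)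
  have g13 : g * S.eg (Big.pp 1 ^^^ Big.pp 3) * g⁻¹ = S.eg (Big.pp 1 ^^^ Big.pp 2) := by simpa using hmv 1 4 (by decide)
  have g25 : g * S.eg (Big.pp 2 ^^^ Big.pp 5) * g⁻¹ = S.eg (Big.pp 5 ^^^ Big.pp 3) := by simpa using hmv 2 3 (by decide)
  have g23 : g * S.eg (Big.pp 2 ^^^ Big.pp 3) * g⁻¹ = S.eg (Big.pp 5 ^^^ Big.pp 2) := by simpa using hmv 2 4 (by decide)
  have g35 : g * S.eg (Big.pp 3 ^^^ Big.pp 5) * g⁻¹ = S.eg (Big.pp 2 ^^^ Big.pp 3) := by simpa using hmv 4 3 (by decide)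
  rw [r3] at g01
  rw [r6, r5] at g13
  rw [r2] at g25
  have gx : ∀ i j, g * S.eg (i ^^^ j) * g⁻¹ = (g * S.eg i * g⁻¹) * (g * S.eg j * g⁻¹) := fun i j => by
    rw [S.eg_xor]; group
  have gz : g * z * g⁻¹ = S.eg 2 * S.eg 1153 := by
    conv_lhs => rw [← S.eg_z, ← r7, r3]
    rw [gx, g01, g25]
  have g1152 : g * S.eg 1152 * g⁻¹ = z := by
    refine Eq.trans ?_ S.eg_z
    rw [← r8, r3, gx, g01, g23, ← S.eg_xor, ← r7, r3, Nat.xor_comm (Big.pp 5)]
  have g1155 : g * S.eg 1155 * g⁻¹ = S.eg 1152 := by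
    rw [← r9, r3, gx, g01, g35, ← S.eg_xor, ← r8, r3]
  set c' := g⁻¹ * a * g with hc'
  have pull : ∀ x y, g * x * g⁻¹ = y → a * y = y * a → c' * x = x * c' := fun x y e h => by
    calc c' * x = g⁻¹ * (a * (g * x * g⁻¹)) * g := by rw [hc']; group
      _ = g⁻¹ * ((g * x * g⁻¹) * a) * g := by rw [e, h]
      _ = _ := by rw [hc']; group
  have cz : c' * z = z * c' := pull _ _ gz (by rw [← mul_assoc, hA2, mul_assoc, hA, mul_assoc])
  have c2 : c' * S.eg 2 = S.eg 2 * c' := pull _ _ g01 hA2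
  have c1156 : c' * S.eg 1156 = S.eg 1156 * c' :=
    pull _ _ g13 (S.C_comm ha (S.mem_E.2 ⟨6, rfl, rfl⟩))
  set cH : ↥(centralizer ({z} : Set G)) := ⟨c', mem_centralizer_one.2 cz⟩
  have f1 : S.D.co.r6 (QuotientGroup.mk cH) (bA 0) = bA 0 := by
    rw [show (2 : ℕ) = 2 * 1 from rfl, S.eg_even (by norm_num)] at c2
    have he : S.D.ctx.conjQ cH (uq S.cv (vd 1)) = uq S.cv (vd 1) := Subtype.ext (mul_inv_eq_iff_eq_mul.2 c2)
    have h := S.D.vec_conj cH (uq S.cv (vd 1))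
    rw [he, vec_uq S.cv S.hc, vd_eight.2.1] at h
    exact h.symm
  obtain ⟨x, hx, ex⟩ : ∃ x < 4, S.D.co.r6 (QuotientGroup.mk cH) (vd 2) = vd x := by
    rw [vd_eight.2.2.1]
    rcases S.D.co.r6_semi (QuotientGroup.mk cH) with h | h <;> rw [h, f1]
    · exact ⟨2, by norm_num, vd_eight.2.2.1.symm⟩
    · exact ⟨3, by norm_num, vd_eight.2.2.2.symm⟩
  obtain ⟨δ, hδ, hj⟩ : ∃ δ < 2, c' * S.eg 4 * c'⁻¹ = S.eg (δ + 2 * x) := by
    have h := S.D.vec_conj cH (uq S.cv (vd 2))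
    rw [vec_uq S.cv S.hc, ex, ← vec_uq S.cv S.hc (vd x), S.D.vec_eq_iff] at h
    rw [show (4 : ℕ) = 2 * 2 from rfl, S.eg_even (by norm_num)]
    rcases h with e | e
    · exact ⟨0, by norm_num, by rw [zero_add, S.eg_even (by omega)]; exact e.symm⟩
    · refine ⟨1, by norm_num, ?_⟩
      rw [S.eg_small (by norm_num) (by omega), pow_one, ← zq_comm, Subgroup.coe_mul, e]
      show c' * (uq S.cv (vd 2) : G) * c'⁻¹ = c' * (uq S.cv (vd 2) : G) * c'⁻¹ * z * z
      rw [mul_assoc _ z z, S.D.ctx.xs.sq, mul_one]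
  set jj := δ + 2 * x with hjj
  have hjj8 : jj < 8 := by omega
  have himg : c' * S.eg 1152 * c'⁻¹ = S.eg (1156 ^^^ jj) := by
    rw [← t7, S.eg_xor, S.eg_xor]
    show c' * (S.eg 1156 * S.eg 4) * c'⁻¹ = S.eg 1156 * S.eg jj
    rw [← mul_assoc, c1156, mul_assoc (S.eg 1156), mul_assoc (S.eg 1156), hj]
  have hlt := eg_lt_xor (i := 1156) (j := jj) (by norm_num) (by omega)
  have h1 : ztB (1156 ^^^ jj) = true := (S.nb_conj (by norm_num) hlt himg).2.trans t1
  have h2 : nb (1156 ^^^ jj ^^^ 2) = true := by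
    refine (S.nb_conj (i := 1154) (by norm_num) (eg_lt_xor hlt (by norm_num)) (g := c') ?_).1.trans t2
    rw [show (1154 : ℕ) = 1152 ^^^ 2 by decide +kernel, S.eg_xor, S.eg_xor]
    show c' * (S.eg 1152 * S.eg 2) * c'⁻¹ = S.eg (1156 ^^^ jj) * S.eg 2
    rw [← himg, show c' * (S.eg 1152 * S.eg 2) * c'⁻¹ = c' * S.eg 1152 * c'⁻¹ * (c' * S.eg 2 * c'⁻¹) by group, c2,
      mul_inv_cancel_right]
  obtain ⟨e1, e2⟩ := small_xor jj hjj8
  have h3 : nb (1156 ^^^ jj ^^^ 1156) = true := by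
    rw [e1]; exact (S.nb_conj (i := 4) (by norm_num) (by omega) hj).1.trans t3
  have h4 : nb (1156 ^^^ jj ^^^ 1158) = true := by
    rw [e2]
    refine (S.nb_conj (i := 6) (by norm_num) (eg_lt_xor (by omega) (by norm_num)) (g := c') ?_).1.trans t4
    rw [show (6 : ℕ) = 4 ^^^ 2 from rfl, S.eg_xor, S.eg_xor]
    show c' * (S.eg 4 * S.eg 2) * c'⁻¹ = S.eg jj * S.eg 2
    rw [show c' * (S.eg 4 * S.eg 2) * c'⁻¹ = c' * S.eg 4 * c'⁻¹ * (c' * S.eg 2 * c'⁻¹) by group, hj, c2,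
      mul_inv_cancel_right]
  have haz : a * z * a⁻¹ = g * (c' * S.eg 1152 * c'⁻¹) * g⁻¹ := by
    conv_lhs => rw [← g1152]
    rw [hc']
    group
  refine S.mem_R_of_zb ?_
  rw [zb, ← S.pr_conj ha S.z_mem_C, haz, himg]
  rcases two_cand jj hjj8 h1 h2 h3 h4 with e | e <;> rw [e]
  · rw [g1152]; exact S.comm_zb_InDR S.zb_mem_Cls rfl
  · rw [g1155]
    exact S.comm_zb_InDR S.pr_1152 (S.pr_eg_one ▸ by rw [← S.pr_eg_mul, ← S.pr_eg_mul, Nat.xor_comm])

/-- Elements centralising two suitable members keep the fixed space and normalise the large subgroup. -/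
theorem mem_MG_of_three {x : G} (hxz : x * z = z * x) {f g : ℕ} (hf : f < 2048) (hg : g < 2048)
    (mf : nMask.testBit f = true) (mg : nMask.testBit g = true) (mfg : nMask.testBit (f ^^^ g) = true)
    (cf : x * S.eg f = S.eg f * x) (cg : x * S.eg g = S.eg g * x) : x ∈ MG S.cv := by
  set xH : ↥(centralizer ({z} : Set G)) := ⟨x, mem_centralizer_one.2 hxz⟩
  set r : ↥(centralizer ({z} : Set G)) ⧸ Q := QuotientGroup.mk xH
  have hk : ∀ i, i < 2048 → x * S.eg i = S.eg i * x → r * S.D.co.tau6 (aK (i / 128)) = S.D.co.tau6 (aK (i / 128)) * r := by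
    intro i hi e
    have hmk : (QuotientGroup.mk (S.B.El i) : _ ⧸ Q) = S.D.co.tau6 (aK (i / 128)) := by
      have hu : (QuotientGroup.mk (zel z ^ (i % 2) * uC S.cv (vd (i / 2 % 64))) : _ ⧸ Q) = 1 :=
        (QuotientGroup.eq_one_iff _).2 (mul_mem (pow_mem S.D.zel_mem _) (toC_mem S.D _))
      rw [Basis.El, QuotientGroup.mk_mul, hu, one_mul, S.B.mk_bp _ (by omega)]
    rw [← hmk, ← QuotientGroup.mk_mul, ← QuotientGroup.mk_mul, show xH * S.B.El i = S.B.El i * xH from Subtype.ext e]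
  have himg : ∀ i, i < 2048 → x * S.eg i = S.eg i * x → ∀ v, Img (i / 128) v → Img (i / 128) (S.D.co.r6 r v) := by
    intro i hi e v hv
    obtain ⟨u, hu⟩ := (img_iff (by omega) v).1 hv
    refine (img_iff (by omega) _).2 ⟨S.D.co.r6 r u, ?_⟩
    rw [← hu, S.D.co.r6_add, ← S.D.co.tau6_spec (aK (i / 128)) u, ← S.D.co.r6_mul, hk i hi e, S.D.co.r6_mul,
      S.D.co.tau6_spec]
  have hpairs := List.all_eq_true.1 (List.all_eq_true.1 three_pairs _ (nBig_mem f hf mf)) _ (nBig_mem g hg mg)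
  rw [mfg] at hpairs
  simp only [Bool.not_true, Bool.false_or, List.contains_iff_mem] at hpairs
  have hfk : f / 128 < 16 := by omega
  have hgk : g / 128 < 16 := by omega
  have hsm : ∀ (c : K4) v, piA (S.D.co.r6 r v) → piA (S.D.co.r6 r (c • v)) := fun c v h => by
    rcases S.D.co.r6_semi r with hh | hh <;> rw [hh] <;> exact piA_smul h _
  have hbA : ∀ l, piA (S.D.co.r6 r (bA l)) := fun l => by
    obtain ⟨a, b, c, e, he⟩ := three_span hpairs l
    rw [show (16 * (f / 128) + g / 128) / 16 = f / 128 by omega,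
      show (16 * (f / 128) + g / 128) % 16 = g / 128 by omega] at he
    rw [he, S.D.co.r6_add]
    exact piA_add (img_sub hfk (himg f hf cf _ ⟨a, b, rfl⟩)) (img_sub hgk (himg g hg cg _ ⟨c, e, rfl⟩))
  have hkeep : ∀ v, piA v → piA (S.D.co.r6 r v) := by
    rintro v ⟨a, b, c, rfl⟩
    rw [S.D.co.r6_add, S.D.co.r6_add]
    exact piA_add (piA_add (hsm _ _ (hbA 0)) (hsm _ _ (hbA 1))) (hsm _ _ (hbA 2))
  have hAR : ∀ q ∈ S.D.AR 1, r * q * r⁻¹ ∈ S.D.AR 1 := by
    intro q hq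
    obtain ⟨a, ha, rfl⟩ := S.D.mem_AR.1 hq
    rw [tauc_one]
    obtain ⟨b, hb⟩ := S.D.co.exists_tau6 (S.D.co.K_normal.conj_mem _ (S.D.co.tau6_mem a) r)
    refine S.D.mem_AR.2 ⟨b, pointwise (D := S.D) fun v hv => ?_, (tauc_one b).trans hb⟩
    classical
    let φ : {v // piA v} → {v // piA v} := fun v => ⟨S.D.co.r6 r v.1, hkeep _ v.2⟩
    have hφ : Function.Surjective φ := Finite.surjective_of_injective fun u w e =>
      Subtype.ext ((S.D.co.r6 r).injective (congrArg Subtype.val e :))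
    obtain ⟨⟨u, hu⟩, e⟩ := hφ ⟨v, hv⟩
    have e' : S.D.co.r6 r u = v := congrArg Subtype.val e
    rw [← S.D.co.tau6_spec, hb, S.D.co.r6_mul, S.D.co.r6_mul, ← e', S.D.co.r6_inv, S.D.co.tau6_spec, A0_fix ha hu]
  have hAA := conj_AA S.cv S.hc S.hF (c := xH) hAR
  exact mem_MG_of_spec (D := S.D) S.hc S.B (c := xH) fun i _ => by
    obtain ⟨j, -, e⟩ := S.B.El_surj S.hc (hAA _ (S.B.El_mem S.hc i))
    exact ⟨j, e.symm⟩

/-- The centraliser of an element of the third kind. -/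
theorem three_case {j : ℕ} (hj : j < 2048) (hth : threeB j = true) {c : S.Cb}
    (hc : c * S.pr (S.eg j) = S.pr (S.eg j) * c) : c ∈ S.R := by
  haveI : Fact (Nat.Prime 2) := ⟨Nat.prime_two⟩
  simp only [threeB, Bool.and_eq_true] at hth
  obtain ⟨⟨⟨t0, t2⟩, t4⟩, t6⟩ := hth
  obtain ⟨g0, hg0⟩ := isConj_iff.1 ((S.isConj_eg hj).2 t0)
  obtain ⟨m, hm, hme⟩ := fusion S.cv S.hc S.hF (z_mem_AG S.cv) (hg0.symm ▸ S.B.eg_mem S.hc j : g0 * z * g0⁻¹ ∈ AG S.cv)
  rw [hg0] at hme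
  change m * z * m⁻¹ = S.eg j at hme
  have hidx : ∀ e, e < 8 → ∃ f < 2048, m⁻¹ * S.eg e * m = S.eg f := fun e _ => by
    have h := conj_mem_AG S.cv (inv_mem hm) (S.B.eg_mem S.hc e)
    rw [inv_inv] at h
    obtain ⟨f, hf, e'⟩ := S.B.eg_surj S.hc h
    exact ⟨f, hf, e'.symm⟩
  have hbig : ∀ e f, e < 8 → f < 2048 → nb e = true → ztB (j ^^^ e) = true → m⁻¹ * S.eg e * m = S.eg f →
      nMask.testBit f = true := by
    intro e f he hf hne hze hef
    have h1 : nb f = true := (S.nb_conj (i := e) (by omega) hf (g := m⁻¹) (by rwa [inv_inv])).1.trans hne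
    have h2 : ztB (f ^^^ 1) = true := by
      refine (S.nb_conj (i := j ^^^ e) (eg_lt_xor hj (by omega)) (eg_lt_xor hf (by norm_num)) (g := m⁻¹) ?_).2.trans hze
      rw [inv_inv, S.eg_xor, S.eg_xor, S.eg_z]
      show m⁻¹ * (S.eg j * S.eg e) * m = S.eg f * z
      calc m⁻¹ * (S.eg j * S.eg e) * m = (m⁻¹ * S.eg j * m) * (m⁻¹ * S.eg e * m) := by group
        _ = z * S.eg f := by rw [hef, ← hme]; group
        _ = _ := comm_of_sq (AG_sq S.cv) (z_mem_AG S.cv) (S.B.eg_mem S.hc f)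
    have h3 : ¬ f < 128 := fun hlt => by
      simp only [ztB, (n_small f hf h1).2 hlt, Bool.not_true, Bool.and_false, Bool.false_eq_true] at h2
    rw [nBig_spec f hf, h1, Bool.and_true, Nat.ble_eq]
    omega
  obtain ⟨f2, hf2, e2⟩ := hidx 2 (by norm_num)
  obtain ⟨f4, hf4, e4⟩ := hidx 4 (by norm_num)
  have e6 : m⁻¹ * S.eg 6 * m = S.eg (f2 ^^^ f4) := by
    rw [show (6 : ℕ) = 2 ^^^ 4 from rfl, S.eg_xor, S.eg_xor]
    show m⁻¹ * (S.eg 2 * S.eg 4) * m = S.eg f2 * S.eg f4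
    rw [← e2, ← e4]
    group
  obtain ⟨-, -, n4, n6, n2, -⟩ := two_misc
  have m2 := hbig 2 f2 (by norm_num) hf2 n2 t2 e2
  have m4 := hbig 4 f4 (by norm_num) hf4 n4 t4 e4
  have m6 := hbig 6 _ (by norm_num) (eg_lt_xor hf2 hf4) n6 t6 e6
  set K := S.C ⊓ centralizer ({S.eg j} : Set G) with hK
  have hKM : K ≤ MG S.cv := by
    rintro x ⟨hxC, hxj⟩
    have hpull : ∀ u y, m⁻¹ * u * m = y → x * u = u * x → m⁻¹ * x * m * y = y * (m⁻¹ * x * m) := fun u y e h => by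
      rw [← e, show m⁻¹ * x * m * (m⁻¹ * u * m) = m⁻¹ * (x * u) * m by group, h]
      group
    obtain ⟨hx2, hx4⟩ := S.mem_C.1 hxC
    have h := S.mem_MG_of_three (x := m⁻¹ * x * m)
      (hpull (S.eg j) z (by rw [← hme]; group) (mem_centralizer_one.1 hxj)) hf2 hf4 m2 m4 m6
      (hpull _ _ e2 hx2) (hpull _ _ e4 hx4)
    have := mul_mem (mul_mem hm h) (inv_mem hm)
    rwa [show m * (m⁻¹ * x * m) * m⁻¹ = x by group] at this
  obtain ⟨a, ha, rfl⟩ := S.pr_surj c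
  have hconj : S.pr (a * S.eg j * a⁻¹) = S.pr (S.eg j) := by
    rw [S.pr_conj ha (S.eg_mem_C _)]; exact mul_inv_eq_iff_eq_mul.2 hc
  obtain ⟨e, he, he'⟩ :=
    (S.pr_eq_iff (S.eg_mem_C j) (mul_mem (mul_mem ha (S.eg_mem_C _)) (inv_mem ha))).1 hconj.symm
  have hAC : AG S.cv ≤ S.C := fun y hy => by
    obtain ⟨i, -, rfl⟩ := S.B.eg_surj S.hc hy
    exact S.eg_mem_C i
  have hAK : AG S.cv ≤ K := fun y hy => ⟨hAC hy,
    mem_centralizer_one.2 (comm_of_sq (AG_sq S.cv) hy (S.B.eg_mem S.hc j))⟩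
  set A' := (AG S.cv).map (MulAut.conj a).toMonoidHom with hA'
  have hA'K : A' ≤ K := by
    rintro _ ⟨y, hy, rfl⟩
    show a * y * a⁻¹ ∈ K
    have hyC : a * y * a⁻¹ ∈ S.C := mul_mem (mul_mem ha (hAC hy)) (inv_mem ha)
    refine ⟨hyC, mem_centralizer_one.2 ?_⟩
    have hyj := comm_of_sq (AG_sq S.cv) hy (S.B.eg_mem S.hc j)
    have h1 : a * y * a⁻¹ * (S.eg j * e) = S.eg j * e * (a * y * a⁻¹) := by
      rw [← he', show a * y * a⁻¹ * (a * S.eg j * a⁻¹) = a * (y * S.eg j) * a⁻¹ by group,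
        show y * S.eg j = S.eg j * y from hyj]
      group
    have h2 := S.C_comm hyC he
    calc a * y * a⁻¹ * S.eg j = a * y * a⁻¹ * (S.eg j * e) * e⁻¹ := by group
      _ = S.eg j * e * (a * y * a⁻¹) * e⁻¹ := by rw [h1]
      _ = S.eg j * (a * y * a⁻¹ * e) * e⁻¹ := by rw [h2]; group
      _ = _ := by group
  have hp1 : IsPGroup 2 ↥(AG S.cv) := IsPGroup.of_card (n := 11) (by rw [card_AG S.cv S.hc]; norm_num)
  have hP : IsPGroup 2 ↥(AG S.cv ⊔ A') := hp1.to_sup_of_normal_left' (hp1.map _) (hA'K.trans hKM)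
  have heq := unique_big S.cv S.hc S.hF hP le_sup_left le_sup_right (by
    rintro _ ⟨y, hy, rfl⟩
    rw [← map_mul, AG_sq S.cv y hy, map_one])
    (by rw [card_map_of_injective (MulAut.conj a).injective, card_AG S.cv S.hc])
  refine S.pr_mem_R_of_AG (Subgroup.mem_normalizer_iff.2 fun y => ⟨fun hy => heq.le ⟨y, hy, rfl⟩, fun hy => ?_⟩) ha
  obtain ⟨y', hy', e'⟩ := heq.ge hy
  rwa [(MulAut.conj a).injective (show MulAut.conj a y' = MulAut.conj a y from e')] at hy'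

theorem index_cases {j : ℕ} (hj : j < 2048) (hje : S.pr (S.eg j) ≠ 1) {c : S.Cb}
    (hc : c * S.pr (S.eg j) = S.pr (S.eg j) * c) : c ∈ S.R := by
  have hEj : eB j = false := Bool.eq_false_iff.2 fun h => hje (S.pr_E (S.mem_E.2 ⟨j, h, rfl⟩))
  have hsh : ∀ e ∈ [0, 2, 4, 6], eB e = true ∧ e < 2048 := by decide
  rcases eB_cls j hj hEj with ⟨e, he, hd⟩ | ⟨e, he, ht⟩ | ht
  · obtain ⟨hee, hel⟩ := hsh e he
    rw [← S.pr_eg_xor hee] at hc
    have hz : ∀ r : S.Cb, r * S.zb = S.zb * r ↔ r * S.zb * r⁻¹ = S.zb := fun r => mul_inv_eq_iff_eq_mul.symm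
    have hd' : S.InDR (S.pr (S.eg (j ^^^ e))) :=
      S.comm_zb_InDR (S.dB_Cls (eg_lt_xor hj hel) hd)
        (by rw [← S.pr_eg_one, ← S.pr_eg_mul, ← S.pr_eg_mul, Nat.xor_comm])
    obtain ⟨k, hk, ek⟩ := InDR.exists_k S hd'
    rw [← ek] at hc
    have h1 : k⁻¹ * c * k ∈ S.R := S.comm_zb_mem_R (by
      calc k⁻¹ * c * k * S.zb = k⁻¹ * (c * (k * S.zb * k⁻¹)) * k := by group
        _ = _ := by rw [hc]; group)
    have := mul_mem (mul_mem hk h1) (inv_mem hk)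
    rwa [show k * (k⁻¹ * c * k) * k⁻¹ = c by group] at this
  · obtain ⟨hee, hel⟩ := hsh e he
    rw [← S.pr_eg_xor hee] at hc
    have hj' := eg_lt_xor hj hel
    obtain ⟨p, hp, q, hq, hpq, epq⟩ := pp_surj (j ^^^ e) hj' (by
      have hn : nb (j ^^^ e) = true := by simp only [twoB, Bool.and_eq_true] at ht; exact ht.1.1.1
      rwa [nb_spec _ hj'] at hn)
    have h3 := two_disjoint q hq p hpq (by rw [epq]; exact ht)
    obtain ⟨n, hn, hmv⟩ := S.exists_mover _ ![0, 1, 2, 5, 3] (pts_inj hp hq h3 hpq) (by decide)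
    obtain ⟨-, r2, r3, r4, -⟩ := two_rep
    have n2 : n * S.eg 2 * n⁻¹ = S.eg 2 := by
      have := hmv 0 1 (by decide); simpa [r3] using this
    have n4 : n * S.eg 4 * n⁻¹ = S.eg 4 := by
      have := hmv 0 2 (by decide); simpa [r4] using this
    have nj : n * S.eg (j ^^^ e) * n⁻¹ = S.eg 1153 := by
      have := hmv 3 4 (by decide); simpa [epq, r2] using this
    have hnC : n ∈ S.C := S.mem_C.2 ⟨mul_inv_eq_iff_eq_mul.1 n2, mul_inv_eq_iff_eq_mul.1 n4⟩
    have hnR := S.pr_mem_R_of_AG hn hnC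
    have h := S.two_1153 (c := S.pr n * c * (S.pr n)⁻¹) (by
      rw [← nj, S.pr_conj hnC (S.eg_mem_C _),
        show S.pr n * c * (S.pr n)⁻¹ * (S.pr n * S.pr (S.eg (j ^^^ e)) * (S.pr n)⁻¹) =
          S.pr n * (c * S.pr (S.eg (j ^^^ e))) * (S.pr n)⁻¹ by group, hc]
      group)
    have := mul_mem (mul_mem (inv_mem hnR) h) hnR
    rwa [show (S.pr n)⁻¹ * (S.pr n * c * (S.pr n)⁻¹) * S.pr n = c by group] at this
  · exact S.three_case hj ht hc

/-- Centralisers of involutions of the image lie in it. -/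
theorem cent_le {i : S.Cb} (hi : i ∈ S.R) (h2 : i * i = 1) (h1 : i ≠ 1) {c : S.Cb} (hc : c * i = i * c) :
    c ∈ S.R := by
  obtain ⟨d, hd, he⟩ := S.exists_fixed hi h2
  obtain ⟨k, hk, rfl⟩ := InDR.exists_k S hd
  have hz : k⁻¹ * i * k * S.zb = S.zb * (k⁻¹ * i * k) := by
    calc k⁻¹ * i * k * S.zb = k⁻¹ * (i * (k * S.zb * k⁻¹) * i⁻¹) * i * k := by group
      _ = _ := by rw [he]; group
  obtain ⟨p, hp, j, hj, e⟩ := S.exists_index hz (by
    rw [show k⁻¹ * i * k * (k⁻¹ * i * k) = k⁻¹ * (i * i) * k by group, h2]; group)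
  set w := p * k⁻¹ with hw
  have hwR : w ∈ S.R := mul_mem (S.comm_zb_mem_R hp) (inv_mem hk)
  have e' : w * i * w⁻¹ = S.pr (S.eg j) := by rw [← e, hw]; group
  have h := S.index_cases hj (fun h => h1 (by
    rw [show i = w⁻¹ * (w * i * w⁻¹) * w by group, e', h]; group)) (c := w * c * w⁻¹) (by
    rw [← e', show w * c * w⁻¹ * (w * i * w⁻¹) = w * (c * i) * w⁻¹ by group, hc]; group)
  have := mul_mem (mul_mem (inv_mem hwR) h) hwR
  rwa [show w⁻¹ * (w * c * w⁻¹) * w = c by group] at this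

theorem R_top : S.R = ⊤ := by
  rw [eq_top_iff]
  intro g _
  by_contra hg
  set j := g * S.zb * g⁻¹ with hjdef
  have hjC : j ∈ S.Cls := S.Cls_conj S.zb_mem_Cls g
  have hj : j ∉ S.R := fun h => hg (S.mem_R_of_zb (S.Cls_R hjC h))
  set v := S.pr (S.eg 1153) with hv
  have hv2 : v * v = 1 := by rw [hv, ← S.pr_eg_mul, Nat.xor_self, S.eg_nil, S.pr_one]
  have hvR : v ∈ S.R := S.comm_zb_mem_R (by rw [hv, ← S.pr_eg_one, ← S.pr_eg_mul, ← S.pr_eg_mul, Nat.xor_comm])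
  have hvC : v ∉ S.Cls := fun h => by
    obtain ⟨e, he, hd⟩ := S.Cls_eg (i := 1153) (by norm_num) h
    rw [not_dB_1153 e (by simpa using (eB_iff e).1 he)] at hd
    exact Bool.false_ne_true hd
  have hv1 : v ≠ 1 := by
    intro h
    rw [hv, ← S.pr_one] at h
    obtain ⟨_, ⟨f, hf, rfl⟩, he'⟩ := (S.pr_eq_iff (one_mem _) (S.eg_mem_C _)).1 h.symm
    rw [one_mul] at he'
    have hf8 := eB_lt hf
    have := S.B.eg_inj S.hc (by norm_num) (by omega) he'
    omega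
  set d := v * j with hd
  have hj2 : j * j = 1 := S.Cls_sq hjC
  have hjv : j = v * d := by rw [hd, ← mul_assoc, hv2, one_mul]
  have hvd : v * d * v⁻¹ = d⁻¹ := by
    rw [← hjv, inv_eq_of_mul_eq_one_right hv2, hd, _root_.mul_inv_rev, inv_eq_of_mul_eq_one_right hv2,
      inv_eq_of_mul_eq_one_right hj2]
  obtain ⟨m, hm⟩ := Nat.even_or_odd' (orderOf d)
  have hpow : d ^ orderOf d = 1 := pow_orderOf_eq_one d
  have hinv : ∀ k : ℕ, v * d ^ k * v⁻¹ = (d ^ k)⁻¹ := fun k => by rw [← conj_pow, hvd, inv_pow]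
  rcases hm with hm | hm
  · set t := d ^ m with ht
    have hpos : 0 < orderOf d := orderOf_pos d
    have ht1 : t ≠ 1 := fun h => by
      have := Nat.le_of_dvd (by omega) (orderOf_dvd_of_pow_eq_one h)
      omega
    have ht2 : t * t = 1 := by rw [ht, ← pow_add, ← two_mul, ← hm, hpow]
    have htv : t * v = v * t := by
      have := hinv m
      rw [← ht, inv_eq_of_mul_eq_one_right ht2] at this
      exact (mul_inv_eq_iff_eq_mul.1 this).symm
    have htR : t ∈ S.R := S.cent_le hvR hv2 hv1 htv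
    refine hj (S.cent_le htR ht2 ht1 ?_)
    rw [hjv, mul_assoc, show d * t = t * d from ((Commute.refl d).pow_right m).eq, ← mul_assoc, ← htv, mul_assoc]
  · refine hvC ?_
    have h1 : d ^ m * v * (d ^ m)⁻¹ = d ^ (2 * m) * v := by
      have := hinv m
      calc d ^ m * v * (d ^ m)⁻¹ = d ^ m * (v * (v * d ^ m * v⁻¹)) := by rw [this]; group
        _ = d ^ m * ((v * v) * d ^ m) * v⁻¹ := by group
        _ = _ := by rw [hv2, one_mul, inv_eq_of_mul_eq_one_right hv2, two_mul, pow_add]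
    have h2 : d ^ (2 * m) = d⁻¹ := by
      rw [eq_inv_iff_mul_eq_one, ← pow_succ, ← hm, hpow]
    rw [h2, show d⁻¹ = j * v by rw [hd, _root_.mul_inv_rev, inv_eq_of_mul_eq_one_right hv2, inv_eq_of_mul_eq_one_right hj2]] at h1
    have h3 : d ^ m * v * (d ^ m)⁻¹ = j := h1.trans (by rw [mul_assoc, hv2, mul_one])
    have := S.Cls_conj hjC (d ^ m)⁻¹
    rwa [← h3, inv_inv, show (d ^ m)⁻¹ * (d ^ m * v * (d ^ m)⁻¹) * d ^ m = v by group] at this

theorem Cb_equiv : Nonempty (S.Cb ≃* Cfsg.PSU 6 K4 2) := by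
  obtain ⟨e⟩ := S.R_equiv
  exact ⟨(Subgroup.topEquiv.symm.trans (MulEquiv.subgroupCongr S.R_top.symm)).trans e⟩

theorem Cb_simple : IsSimpleGroup S.Cb ∧ Subgroup.center S.Cb = ⊥ := by
  obtain ⟨e⟩ := S.Cb_equiv
  obtain ⟨σ, -, hfm, -⟩ := Cfsg.Agent.UnitaryStd.exists_setup (F := K4) (q := 2) (n := 6)
    (by rw [K4.card_K4]; norm_num) (by norm_num)
  have := Cfsg.Agent.UnitaryStd.isSimpleGroup_psu hfm (by norm_num) (fun h => absurd h (by norm_num))
  refine ⟨e.isSimpleGroup_congr.2 this, (Subgroup.eq_bot_iff_forall _).2 fun x hx => e.injective ?_⟩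
  rw [map_one, ← Subgroup.mem_bot, ← Cfsg.Agent.FischerPresented.U62.center_psu, Subgroup.mem_center_iff]
  intro y
  obtain ⟨y, rfl⟩ := e.surjective y
  rw [← map_mul, ← map_mul, Subgroup.mem_center_iff.1 hx y]

theorem center_C : Subgroup.center ↥S.C = S.E.subgroupOf S.C := by
  refine le_antisymm (fun x hx => ?_) fun x hx => Subgroup.mem_center_iff.2 fun y => Subtype.ext ?_
  · refine (QuotientGroup.eq_one_iff x).1 ?_
    rw [← Subgroup.mem_bot, ← S.Cb_simple.2, Subgroup.mem_center_iff]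
    intro y
    obtain ⟨y, rfl⟩ := QuotientGroup.mk_surjective y
    rw [← QuotientGroup.mk_mul, ← QuotientGroup.mk_mul, Subgroup.mem_center_iff.1 hx y]
  · exact S.C_comm y.2 (mem_subgroupOf.1 hx)

theorem E_le_commutator : S.E ≤ ⁅S.C, S.C⁆ := by
  obtain ⟨hx, hfix⟩ := commutators
  have hu : ∀ m, m < 64 → (∀ e ∈ [2, 4, 6], sh m e = e) → (uC S.cv (yv m)).1 ∈ S.C := fun m hm h => by
    have key : ∀ e ∈ [2, 4, 6], e < 2048 → (uC S.cv (yv m)).1 * S.eg e = S.eg e * (uC S.cv (yv m)).1 := fun e he hlt => by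
      have h1 : (uC S.cv (yv m)).1 * S.eg e * (uC S.cv (yv m)).1⁻¹ = S.eg (sh m e) :=
        congrArg Subtype.val (S.B.sh_spec S.hc hm hlt)
      rw [h e he] at h1
      exact mul_inv_eq_iff_eq_mul.1 h1
    exact S.mem_C.2 ⟨key 2 (by simp) (by norm_num), key 4 (by simp) (by norm_num)⟩
  have hcom : ∀ m i, m < 64 → i < 2048 → (∀ e ∈ [2, 4, 6], sh m e = e) → S.eg (sh m i ^^^ i) ∈ ⁅S.C, S.C⁆ := by
    intro m i hm hi h
    have h1 : (uC S.cv (yv m)).1 * S.eg i * (uC S.cv (yv m)).1⁻¹ = S.eg (sh m i) :=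
      congrArg Subtype.val (S.B.sh_spec S.hc hm hi)
    have h2 := Subgroup.commutator_mem_commutator (hu m hm h) (S.eg_mem_C i)
    rw [commutatorElement_def, h1, inv_eq_of_mul_eq_one_right (AG_sq S.cv _ (S.B.eg_mem S.hc i))] at h2
    rwa [S.eg_xor]
  have h2 : S.eg 2 ∈ ⁅S.C, S.C⁆ := by
    rw [← hx, S.eg_xor]
    exact mul_mem (hcom 4 1024 (by norm_num) (by norm_num) fun e he => (hfix e he).1)
      (hcom 8 384 (by norm_num) (by norm_num) fun e he => (hfix e he).2)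
  have hX : ∀ u ∈ ⁅S.C, S.C⁆, S.X * u * S.X⁻¹ ∈ ⁅S.C, S.C⁆ := by
    have hle : S.C.map (MulAut.conj S.X).toMonoidHom ≤ S.C := by
      rintro _ ⟨c, hc, rfl⟩
      exact S.turns_C S.turns_X hc
    intro u hu
    have : S.X * u * S.X⁻¹ ∈ (⁅S.C, S.C⁆).map (MulAut.conj S.X).toMonoidHom := ⟨u, hu, rfl⟩
    rw [Subgroup.map_commutator] at this
    exact Subgroup.commutator_mono hle hle this
  have h4 : S.eg 4 ∈ ⁅S.C, S.C⁆ := S.turns_X.1 ▸ hX _ h2
  rintro _ ⟨i, hi, rfl⟩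
  rcases (eB_iff i).1 hi with rfl | rfl | rfl | rfl
  · rw [S.eg_nil]; exact one_mem _
  · exact h2
  · exact h4
  · rw [show (6 : ℕ) = 2 ^^^ 4 from rfl, S.eg_xor]; exact mul_mem h2 h4

theorem quasisimple : Cfsg.IsQuasisimple ↥S.C := by
  obtain ⟨hs, hc⟩ := S.Cb_simple
  refine ⟨⟨?_⟩, ?_⟩
  · have hmap : (_root_.commutator ↥S.C).map (QuotientGroup.mk' (S.E.subgroupOf S.C)) = ⊤ := by
      rw [_root_.commutator_def, Subgroup.map_commutator, Subgroup.map_top_of_surjective _ (QuotientGroup.mk'_surjective _)]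
      refine ((Subgroup.commutator_normal ⊤ ⊤).eq_bot_or_eq_top).resolve_left fun h => ?_
      have htop : Subgroup.center S.Cb = ⊤ := by
        refine eq_top_iff.2 fun x _ => Subgroup.mem_center_iff.2 fun y => ?_
        have := Subgroup.commutator_mem_commutator (Subgroup.mem_top y) (Subgroup.mem_top x)
        rw [h, Subgroup.mem_bot, commutatorElement_eq_one_iff_mul_comm] at this
        exact this
      exact S.zb_ne (Subgroup.mem_bot.1 (hc ▸ htop ▸ Subgroup.mem_top S.zb))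
    refine eq_top_iff.2 fun x _ => ?_
    obtain ⟨y, hy, e⟩ := hmap.ge (Subgroup.mem_top (QuotientGroup.mk' _ x))
    have hxy : y⁻¹ * x ∈ S.E.subgroupOf S.C := QuotientGroup.eq.1 e
    have hE : y⁻¹ * x ∈ _root_.commutator ↥S.C := by
      have h := S.E_le_commutator (mem_subgroupOf.1 hxy)
      rw [← Subgroup.map_subtype_commutator] at h
      obtain ⟨w, hw, e'⟩ := h
      exact (show w = y⁻¹ * x from Subtype.ext e') ▸ hw
    have := mul_mem hy hE
    rwa [mul_inv_cancel_left] at this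
  · exact (QuotientGroup.quotientMulEquivOfEq S.center_C).isSimpleGroup_congr.2 hs

end Data

end Cfsg.Agent.LargeFischer.Six
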