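import Cfsg.Agent.Lib.LargeFischer.SixSet

/-! The members of the class commuting with the central involution. -/

set_option autoImplicit false
set_option maxRecDepth 100000
set_option maxHeartbeats 200000
set_option synthInstance.maxSize 2000

namespace Cfsg.Agent.LargeFischer.Six

open Cfsg.Agent.RigidGraph.He Cfsg.Agent.U43InU62 Cfsg.Agent.LargeExtra Cfsg.Agent.LargeFischer.Big
open Subgroup

attribute [local irreducible] tm elN TT

theorem eps_unique : ∀ k ∈ five, ∀ δ < 2, ∀ e ∈ [0, 2, 4, 6], dB ((128 * k + δ) ^^^ e) = true → δ = eps k := by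
  decide +kernel

theorem five_xor : ∀ k ∈ five, (128 * k) ^^^ 1 = 128 * k + 1 ∧ 128 * k < 2047 := by decide +kernel

theorem k4_inv_sq : ∀ a h : K4, h ≠ 0 → ((a * h⁻¹) * (a * h⁻¹)) * ((a * h⁻¹) * (a * h⁻¹)) * h = a := by decide

theorem tr_moves {n : ℕ} {c : Fin n → K4} (hc : c ≠ 0) : ∃ x, tr c x ≠ x := by
  by_contra h
  push Not at h
  obtain ⟨s, hs⟩ := tr_eq_point hc (a := 0) fun x => by rw [tr_zero, h x]
  exact hc (by rw [hs, smul_zero])

theorem exists_to_c0 {c : V4} (hc : c ≠ 0) (hiso : hf c c = 0) :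
    ∃ (A : S4) (s : K4), s ≠ 0 ∧ act4 A c = s • c0 := by
  revert hc hiso
  refine v4_all (P := fun c => c ≠ 0 → hf c c = 0 → ∃ (A : S4) (s : K4), s ≠ 0 ∧ act4 A c = s • c0)
    (fun a b c e h h' => ?_) c
  obtain ⟨u, hu, t, ht, s, hs, he⟩ := reach_check a b c e h h'
  obtain ⟨U, hU⟩ := exists_t4 (pts_iso u hu)
  obtain ⟨T, hT⟩ := exists_t4 (pts_iso t ht)
  exact ⟨T * U, s, hs, by rw [act4_mul, hU, hT, he]⟩

theorem exists_to_line {c : V4} (hiso : hf c c = 0) (hp : hf c c0 = 0) (hn : ∀ s : K4, c ≠ s • c0) :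
    ∃ A : S4, act4 A c0 = c0 ∧ inLine (act4 A c) := by
  revert hiso hp hn
  refine v4_all (P := fun c => hf c c = 0 → hf c c0 = 0 → (∀ s : K4, c ≠ s • c0) →
    ∃ A : S4, act4 A c0 = c0 ∧ inLine (act4 A c)) (fun a b c e h h' h'' => ?_) c
  obtain ⟨u, hu, t, ht, he⟩ := reach0_check a b c e h h' h''
  obtain ⟨U, hU⟩ := exists_t4 (pts0_iso u hu).1
  obtain ⟨T, hT⟩ := exists_t4 (pts0_iso t ht).1
  refine ⟨T * U, ?_, by rw [act4_mul, hU, hT]; exact he⟩
  rw [act4_mul, hU, tr_fix (hf_symm_zero (pts0_iso u hu).2), hT, tr_fix (hf_symm_zero (pts0_iso t ht).2)]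

theorem line_max' {x : V4} (h : hf x x = 0) (h0 : hf x c0 = 0) (h1 : hf x d1 = 0) : inLine x := by
  revert h h0 h1
  exact v4_all (P := fun x => hf x x = 0 → hf x c0 = 0 → hf x d1 = 0 → inLine x) line_max x

theorem inLine_smul {x : V4} (h : inLine x) (r : K4) : inLine (r • x) := by
  obtain ⟨s, t, rfl⟩ := h
  exact ⟨r * s, r * t, by rw [smul_add, smul_smul, smul_smul]⟩

theorem inLine_c0 (s : K4) : inLine (s • c0) := ⟨s, 0, by rw [zero_smul, add_zero]⟩

theorem v4_add_self (x : V4) : x + x = 0 := funext fun _ => k4_two _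

theorem hf_move (A : S4) (h : A * A = 1) (x y : V4) : hf (act4 A x + x) (act4 A y + y) = 0 := by
  have e : hf (act4 A x) y = hf x (act4 A y) := by
    rw [← act4_hf A (act4 A x) y, ← act4_mul, h, act4_one]
  rw [hf_addl, hf_addr, hf_addr, act4_hf, e]
  linear_combination (k4_two (hf x y)) + (k4_two (hf x (act4 A y)))

/-- An involution is moved to one with image in the standard line. -/
theorem exists_line (A : S4) (h : A * A = 1) : ∃ P : S4, ∀ y, inLine (act4 P (act4 A y + y)) := by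
  by_cases h0 : ∀ y, act4 A y + y = 0
  · exact ⟨1, fun y => by rw [h0, act4_zero]; exact ⟨0, 0, by simp⟩⟩
  push Not at h0
  obtain ⟨y1, hy1⟩ := h0
  set u := act4 A y1 + y1 with hu
  obtain ⟨P1, s, hs, hP1⟩ := exists_to_c0 hy1 (hf_move A h y1 y1)
  have hperp : ∀ y, hf (act4 P1 (act4 A y + y)) c0 = 0 := fun y => by
    have := hf_move A h y y1
    rw [← hu, ← act4_hf P1, hP1, hf_smulr] at this
    exact (mul_eq_zero.1 this).resolve_left (mul_ne_zero hs hs)
  by_cases hall : ∀ y, ∃ r : K4, act4 P1 (act4 A y + y) = r • c0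
  · refine ⟨P1, fun y => ?_⟩
    obtain ⟨r, hr⟩ := hall y
    rw [hr]; exact inLine_c0 r
  push Not at hall
  obtain ⟨y2, hy2⟩ := hall
  obtain ⟨P2, hP2, hl⟩ := exists_to_line (by rw [act4_hf]; exact hf_move A h y2 y2) (hperp y2) hy2
  refine ⟨P2 * P1, fun y => ?_⟩
  rw [act4_mul]
  have a0 : hf (act4 P2 (act4 P1 (act4 A y + y))) c0 = 0 := by
    conv_lhs => rw [← hP2]
    rw [act4_hf, hperp]
  refine line_max' (by rw [act4_hf, act4_hf]; exact hf_move A h y y) a0 ?_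
  obtain ⟨σ, τ, hστ⟩ := hl
  have hτ : τ ≠ 0 := fun e => hy2 σ (by
    rw [e, zero_smul, add_zero] at hστ
    rw [← act4_inv P2 (act4 P1 (act4 A y2 + y2)), hστ, act4_smul]
    conv_lhs => rw [← hP2, act4_inv])
  have h2 : hf (act4 P2 (act4 P1 (act4 A y + y))) (σ • c0 + τ • d1) = 0 := by
    rw [← hστ, act4_hf, act4_hf]; exact hf_move A h y y2
  rw [hf_addr, hf_smulr, hf_smulr, a0, mul_zero, zero_add] at h2
  exact (mul_eq_zero.1 h2).resolve_left (mul_ne_zero hτ hτ)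

theorem fix_line {A : S4} (h : A * A = 1) (hl : ∀ y, inLine (act4 A y + y)) {u : V4} (hu : inLine u) :
    act4 A u = u := by
  obtain ⟨s, t, rfl⟩ := hu
  set u := s • c0 + t • d1
  obtain ⟨b0, b1, b2, -⟩ := line_base
  have hperp : ∀ y, hf u (act4 A y + y) = 0 := fun y => by
    obtain ⟨s', t', e⟩ := hl y
    simp only [u, e, hf_addl, hf_addr, hf_smull, hf_smulr, b0, b1, b2, hf_symm_zero b2, mul_zero, add_zero]
  have key : ∀ y, hf y (act4 A u + u) = 0 := fun y => by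
    have e := hperp y
    rw [hf_addr, ← act4_hf A u (act4 A y), ← act4_mul, h, act4_one, ← hf_addl] at e
    exact hf_symm_zero e
  have h0 := eq_zero_of_perp (y := act4 A u + u) fun c _ => key c
  calc act4 A u = act4 A u + u + u := by rw [add_assoc, v4_add_self, add_zero]
    _ = u := by rw [h0, zero_add]

theorem exists_ak {A : S4} (h : A * A = 1) (hl : ∀ y, inLine (act4 A y + y)) :
    ∃ (k : ℕ) (hk : k < 16), phi (ak k hk) = A := by
  obtain ⟨a, b, e⟩ := hl e1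
  obtain ⟨a', b', e'⟩ := hl e2
  have f1 : act4 A e1 = e1 + (a • c0 + b • d1) := by
    rw [← e, add_comm e1, add_assoc, v4_add_self, add_zero]
  have f2 : act4 A e2 = e2 + (a' • c0 + b' • d1) := by
    rw [← e', add_comm e2, add_assoc, v4_add_self, add_zero]
  obtain ⟨k, hk, g0, g1, g2, g3⟩ := lam_all a b a' b' (by rw [← f1, act4_hf]) (by rw [← f2, act4_hf])
    (by rw [← f1, ← f2, act4_hf])
  refine ⟨k, hk, ext_frame ?_ ?_ ?_ ?_⟩
  · rw [act4_ak, g0, fix_line h hl ⟨1, 0, by simp⟩]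
  · rw [act4_ak, g1, fix_line h hl ⟨0, 1, by simp⟩]
  · rw [act4_ak, g2, f1]
  · rw [act4_ak, g3, f2]

theorem exists_hit {c : V4} (hc : c ≠ 0) (a : K4) : ∃ y, hf c y = a := by
  obtain ⟨u, -, hne⟩ := exists_non' hc
  exact ⟨((a * (hf c u)⁻¹) * (a * (hf c u)⁻¹)) • u, by rw [hf_smulr]; exact k4_inv_sq _ _ (hf_ne hne)⟩

theorem ok_w (y : V4) : Ok (K4.w * hf y y) y := by
  have := hf_self_real y
  unfold Ok
  exact (by decide : ∀ h : K4, h * h = h → K4.w * h * (K4.w * h) + K4.w * h = h) _ this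

theorem fix_inLine {k : ℕ} (hk : k < 16) (hk0 : k ≠ 0) (hk5 : k ∉ five) {v : V4}
    (h : act4 (phi (ak k hk)) v = v) : inLine v := by
  revert h
  refine v4_all (P := fun v => act4 (phi (ak k hk)) v = v → inLine v) (fun a b c e hy => ?_) v
  rw [frame_span a b c e] at hy ⊢
  generalize K4.v * e = s0 at hy ⊢
  generalize b + s0 = t0 at hy ⊢
  generalize a + b = p0 at hy ⊢
  generalize c + s0 = q0 at hy ⊢
  have hl : act4 (phi (ak k hk)) (s0 • c0 + t0 • d1) = s0 • c0 + t0 • d1 := by rw [act4_ak, line_fixed k hk]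
  rw [act4_add, act4_add, hl, act4_smul, act4_smul, act4_ak, act4_ak] at hy
  obtain ⟨hp0, hq0⟩ := lam_fixed k hk hk0 hk5 p0 q0 (by
    rw [smul_add, smul_add]
    calc p0 • lamK k e1 + p0 • e1 + (q0 • lamK k e2 + q0 • e2)
        = (s0 • c0 + t0 • d1 + p0 • lamK k e1 + q0 • lamK k e2) +
          ((s0 • c0 + t0 • d1) + p0 • e1 + q0 • e2) := by
            conv_rhs => rw [show ∀ L p q p' q' : V4, L + p + q + (L + p' + q') = (L + L) + (p + p' + (q + q'))
              from fun L p q p' q' => by abel, v4_add_self, zero_add]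
      _ = 0 := by rw [hy, v4_add_self])
  rw [hp0, hq0, zero_smul, zero_smul, add_zero, add_zero]
  exact ⟨s0, t0, rfl⟩

variable {G : Type*} [Group G] [Finite G] {z : G} {Q : Subgroup ↥(centralizer ({z} : Set G))} [Q.Normal]

namespace Data

variable (S : Data z Q)

/-- Elements of the normaliser moving given points. -/
theorem exists_mover (x y : Fin 5 → Fin 24) (hx : Function.Injective x) (hy : Function.Injective y) :
    ∃ m ∈ MG S.cv, ∀ i j, i ≠ j →
      m * S.eg (Big.pp (x i) ^^^ Big.pp (x j)) * m⁻¹ = S.eg (Big.pp (y i) ^^^ Big.pp (y j)) := by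
  obtain ⟨Φ, hΦ, -, hsur⟩ := exists_hom S.hc S.B S.hN S.hF
  have hinj : Function.Injective (Cfsg.Agent.Golay.pt : Fin 24 → Cfsg.GolayPt) :=
    Cfsg.Agent.Golay.ptEquiv.symm.injective
  obtain ⟨g, hg, e⟩ := Cfsg.Agent.Golay.exists_M24_map (x := Cfsg.Agent.Golay.pt ∘ x)
    (y := Cfsg.Agent.Golay.pt ∘ y) (hinj.comp hx) (hinj.comp hy)
  obtain ⟨m, hm⟩ := hsur ⟨g, hg⟩
  refine ⟨m.1, m.2, fun i j hij => ?_⟩
  have h := hΦ m _ _ (hinj.ne (hx.ne hij))
  rw [hm] at h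
  simp only [Function.comp_apply] at e
  rw [show g (Cfsg.Agent.Golay.pt (x i)) = _ from e i, show g (Cfsg.Agent.Golay.pt (x j)) = _ from e j, eS, eS,
    ev_pair (hinj.ne (hx.ne hij)), ev_pair (hinj.ne (hy.ne hij))] at h
  simpa only [Cfsg.Agent.Golay.idx_pt] using h

/-- An element moving the central involution to the first transvection. -/
theorem exists_m : ∃ m ∈ MG S.cv, m ∈ S.C ∧ m * z * m⁻¹ = S.eg 1152 := by
  obtain ⟨m, hm, h⟩ := S.exists_mover ![0, 1, 2, 5, 6] ![0, 1, 2, 3, 6] (by decide) (by decide)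
  obtain ⟨-, -, e2, e4, -, -, e1, e1152, -⟩ := two_rep
  have h2 : m * S.eg 2 * m⁻¹ = S.eg 2 := by
    have := h 0 1 (by decide); simp only [Matrix.cons_val] at this; simpa [e2] using this
  have h4 : m * S.eg 4 * m⁻¹ = S.eg 4 := by
    have := h 0 2 (by decide); simp only [Matrix.cons_val] at this; simpa [e4] using this
  refine ⟨m, hm, S.mem_C.2 ⟨mul_inv_eq_iff_eq_mul.1 h2, mul_inv_eq_iff_eq_mul.1 h4⟩, ?_⟩
  have a := h 0 1 (by decide)
  have b := h 2 3 (by decide)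
  simp only [Matrix.cons_val] at a b
  rw [← e1152, show m * z * m⁻¹ = m * S.B.eg (Big.pp 0 ^^^ Big.pp 1 ^^^ (Big.pp 2 ^^^ Big.pp 5)) * m⁻¹ by
    rw [e1, S.B.eg_one S.hc]]
  show m * S.B.eg _ * m⁻¹ = S.B.eg _
  rw [S.B.eg_xor S.hc (Big.pp 0 ^^^ Big.pp 1) (Big.pp 2 ^^^ Big.pp 5),
    S.B.eg_xor S.hc (Big.pp 0 ^^^ Big.pp 1) (Big.pp 2 ^^^ Big.pp 3)]
  show m * (S.eg _ * S.eg _) * m⁻¹ = S.eg _ * S.eg _
  have a' : m * S.eg (Big.pp 0 ^^^ Big.pp 1) * m⁻¹ = S.eg (Big.pp 0 ^^^ Big.pp 1) := by simpa using a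
  have b' : m * S.eg (Big.pp 2 ^^^ Big.pp 5) * m⁻¹ = S.eg (Big.pp 2 ^^^ Big.pp 3) := by simpa using b
  conv_rhs => rw [← a', ← b']
  group

theorem pr_1152 : S.pr (S.eg 1152) ∈ S.Cls := by
  obtain ⟨m, -, hmC, e⟩ := S.exists_m
  rw [← e, S.pr_conj hmC S.z_mem_C]
  exact S.Cls_conj S.zb_mem_Cls _

/-- Being the member over a transvection commuting with the element of order three. -/
def IsX (c : V4) (r : S.Cb) : Prop := ∃ A : S4, (∀ y, act4 A y = tr c y) ∧ S.Lift A r ∧ r ∈ S.Cls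

theorem IsX.conj {c : V4} {r l : S.Cb} {A : S4} (h : S.IsX c r) (hl : S.Lift A l) :
    S.IsX (act4 A c) (l * r * l⁻¹) := by
  obtain ⟨X, hX, hr, hc⟩ := h
  refine ⟨A * X * A⁻¹, fun y => ?_, Lift.mul S (Lift.mul S hl hr) (Lift.inv S hl), S.Cls_conj hc _⟩
  rw [act4_mul, act4_mul, hX, tr_act4, ← act4_mul A A⁻¹, mul_inv_cancel, act4_one]

theorem IsX.scale {c : V4} {r : S.Cb} {s : K4} (hs : s ≠ 0) (h : S.IsX c r) : S.IsX (s • c) r := by
  obtain ⟨X, hX, h'⟩ := h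
  exact ⟨X, fun y => by rw [hX, tr_point hs], h'⟩

theorem Lift.phi_cases {k : ℕ} {hk : k < 16} {r : S.Cb} (h : S.Lift (phi (ak k hk)) r) :
    r = S.pr (S.eg (128 * k)) ∨ r = S.pr (S.eg (128 * k)) * S.zb :=
  Lift.cases S (S.lift_bp hk) h

theorem IsX.eq_ck {k : ℕ} (hk : k ∈ five) {r : S.Cb} (h : S.IsX (ck k) r) :
    r = S.pr (S.eg (128 * k + eps k)) := by
  obtain ⟨X, hX, hr, hc⟩ := h
  have hk16 := (ck_props k hk).2.2.2.1
  have e : X = phi (ak k hk16) := act4_ext fun y => by rw [hX, ak_tr hk]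
  subst e
  obtain ⟨hx, hlt⟩ := five_xor k hk
  have key : ∀ δ < 2, r = S.pr (S.eg (128 * k + δ)) → δ = eps k := fun δ hδ e => by
    obtain ⟨f, hf, hd⟩ := S.Cls_eg (i := 128 * k + δ) (by omega) (e ▸ hc)
    exact eps_unique k hk δ hδ f (by simpa using (eB_iff f).1 hf) hd
  rcases Lift.phi_cases S hr with e | e
  · rwa [← key 0 (by norm_num) (by rw [add_zero]; exact e), add_zero]
  · have e' : r = S.pr (S.eg (128 * k + 1)) := by rw [← hx, S.pr_eg_mul, S.pr_eg_one]; exact e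
    rwa [← key 1 (by norm_num) e']

theorem isX_c0 : S.IsX c0 (S.pr (S.eg 1152)) :=
  ⟨phi (ak 9 (by norm_num)), fun y => ak_tr (k := 9) (by decide) _ y, S.lift_bp (k := 9) (by norm_num), S.pr_1152⟩

theorem exists_isX {c : V4} (hc : c ≠ 0) (hiso : hf c c = 0) : ∃ r, S.IsX c r := by
  obtain ⟨A, s, hs, hA⟩ := exists_to_c0 hc hiso
  obtain ⟨l, hl⟩ := S.exists_lift A⁻¹
  have h := IsX.conj S (IsX.scale S hs S.isX_c0) hl
  rw [← hA, act4_inv] at h
  exact ⟨_, h⟩

theorem IsX.unique {c : V4} (hc : c ≠ 0) (hiso : hf c c = 0) {r r' : S.Cb} (h : S.IsX c r) (h' : S.IsX c r') :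
    r = r' := by
  obtain ⟨A, s, hs, hA⟩ := exists_to_c0 hc hiso
  obtain ⟨l, hl⟩ := S.exists_lift A
  have key : ∀ r, S.IsX c r → l * r * l⁻¹ = S.pr (S.eg 1152) := fun r h => by
    have h1 := IsX.conj S h hl
    rw [hA] at h1
    have h2 := IsX.scale S (inv_ne_zero hs) h1
    rw [inv_smul_smul₀ hs] at h2
    exact IsX.eq_ck S (k := 9) (by decide) h2
  exact mul_left_cancel (mul_right_cancel ((key r h).trans (key r' h').symm))

open Classical in
/-- The member over a transvection. -/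
noncomputable def xv (c : V4) : S.Cb := if h : ∃ r, S.IsX c r then h.choose else 1

variable {c : V4} (hc : c ≠ 0) (hiso : hf c c = 0)

include hc hiso

theorem isX_xv : S.IsX c (S.xv c) := by
  rw [xv, dif_pos (S.exists_isX hc hiso)]
  exact (S.exists_isX hc hiso).choose_spec

theorem xv_eq {r : S.Cb} (h : S.IsX c r) : S.xv c = r := IsX.unique S hc hiso (S.isX_xv hc hiso) h

theorem xv_smul {s : K4} (hs : s ≠ 0) : S.xv (s • c) = S.xv c :=
  (IsX.unique S hc hiso (S.isX_xv hc hiso) (by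
    have h := IsX.scale S (inv_ne_zero hs) (S.isX_xv (smul_ne_zero hs hc)
      (show hf (s • c) (s • c) = 0 by rw [hf_smull, hf_smulr, hiso, mul_zero, mul_zero]))
    rwa [inv_smul_smul₀ hs] at h)).symm

theorem xv_conj {A : S4} {l : S.Cb} (hl : S.Lift A l) : l * S.xv c * l⁻¹ = S.xv (act4 A c) :=
  (S.xv_eq (act4_ne A hc) (by rw [act4_hf, hiso]) (IsX.conj S (S.isX_xv hc hiso) hl)).symm

theorem xv_qel (α : K4) (y : V4) : S.xv c * S.qel α y * (S.xv c)⁻¹ = S.qel α (tr c y) := by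
  obtain ⟨X, hX, hr, -⟩ := S.isX_xv hc hiso
  rw [Lift.conj_qel S hr, hX]

theorem xv_comm : S.xv c * S.zb = S.zb * S.xv c := by
  obtain ⟨X, -, hr, -⟩ := S.isX_xv hc hiso
  exact Lift.comm S hr

theorem xv_Cls : S.xv c ∈ S.Cls := (S.isX_xv hc hiso).choose_spec.2.2

omit hc hiso

theorem xv_ck {k : ℕ} (hk : k ∈ five) : S.xv (ck k) = S.pr (S.eg (128 * k + eps k)) :=
  IsX.eq_ck S hk (S.isX_xv (ck_props k hk).1 (ck_props k hk).2.1)

/-- The member over a point orthogonal to the standard one. -/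
noncomputable def Tl (a : K4) (c : V4) : S.Cb := S.qel (a * (a * a)) ((a * a) • c) * S.xv c

theorem Tl_zero (c : V4) : S.Tl 0 c = S.xv c := by
  rw [Tl, mul_zero, mul_zero, zero_smul, S.qel_zero, one_mul]

include hc hiso

theorem Tl_smul {s : K4} (hs : s ≠ 0) (a : K4) : S.Tl (s * a) (s • c) = S.Tl a c := by
  rw [Tl, Tl, S.xv_smul hc hiso hs, smul_smul,
    (by decide : ∀ s a : K4, s ≠ 0 → s * a * (s * a * (s * a)) = a * (a * a)) s a hs,
    (by decide : ∀ s a : K4, s ≠ 0 → s * a * (s * a) * s = a * a) s a hs]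

theorem lift_Tl {A : S4} {l : S.Cb} (hl : S.Lift A l) (a : K4) :
    l * S.Tl a c * l⁻¹ = S.Tl a (act4 A c) := by
  rw [Tl, show ∀ q x : S.Cb, l * (q * x) * l⁻¹ = (l * q * l⁻¹) * (l * x * l⁻¹) from fun q x => by group,
    Lift.conj_qel S hl, S.xv_conj hc hiso hl, act4_smul]
  rfl

theorem qel_Tl {α : K4} {y : V4} (hy : Ok α y) (a : K4) :
    S.qel α y * S.Tl a c * (S.qel α y)⁻¹ = S.Tl (a + hf c y) c := by
  have hy' : Ok (α + hf y y) y := by
    unfold Ok at *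
    rw [← hy]; exact (by decide : ∀ a : K4, (a + (a * a + a)) * (a + (a * a + a)) + (a + (a * a + a)) = a * a + a) α
  have hu := ok_smul_line (a := a) hiso
  have hty : Ok (α + hf y y) (tr c y) := by unfold Ok at *; rw [tr_herm hiso]; exact hy'
  rw [Tl, S.qel_inv hy, show ∀ q n x r : S.Cb, q * (n * x) * r = q * n * (x * r * x⁻¹) * x from
    fun q n x r => by group, S.xv_qel hc hiso, S.qel_mul hy hu, S.qel_mul (ok_add hy hu) hty, Tl]
  congr 2
  · simp only [tr, hf_addl, hf_addr, hf_smull, hf_smulr, hiso, hf_swap c y, mul_zero, add_zero]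
    generalize hf c y = h
    generalize hf y y = p
    exact (by decide : ∀ a h p α : K4, α + a * (a * a) + a * a * h + (α + p) + (p + h * h * h + a * a * (a * a) * (h * h)) =
      (a + h) * ((a + h) * (a + h))) a h p α
  · simp only [tr, hf_swap c y]
    rw [(by decide : ∀ a h : K4, (a + h) * (a + h) = a * a + h * h) a (hf c y), add_smul]
    conv_lhs => rw [add_assoc, add_comm, add_assoc, add_assoc, add_comm (_ • c) y, ← add_assoc y, v4_add_self,
      zero_add]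

theorem over_Tl (a : K4) : ∃ A : S4, (∀ y, act4 A y = tr c y) ∧ S.Over (S.Tl a c) A := by
  obtain ⟨X, hX, hr, -⟩ := S.isX_xv hc hiso
  exact ⟨X, hX, by simpa [Tl] using Over.mul S S.over_qel (Lift.over S hr)⟩

theorem Tl_comm (a : K4) : S.Tl a c * S.zb = S.zb * S.Tl a c := by
  obtain ⟨A, -, h⟩ := S.over_Tl hc hiso a
  exact Over.comm S h

theorem Tl_Cls (a : K4) : S.Tl a c ∈ S.Cls := by
  obtain ⟨y, hy⟩ := exists_hit hc a
  have h := S.qel_Tl hc hiso (ok_w y) 0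
  rw [zero_add, hy, S.Tl_zero] at h
  exact h ▸ S.Cls_conj (S.xv_Cls hc hiso) _

theorem Tl_ne_zb (a : K4) : S.Tl a c ≠ S.zb := by
  intro e
  obtain ⟨A, hA, h⟩ := S.over_Tl hc hiso a
  rw [e] at h
  have := Over.unique S h (Lift.over S S.lift_zb)
  obtain ⟨x, hx⟩ := tr_moves hc
  exact hx (by rw [← hA, this, act4_one])

theorem Tl_inj {c' : V4} (hc' : c' ≠ 0) (hiso' : hf c' c' = 0) {a a' : K4} (e : S.Tl a c = S.Tl a' c') :
    ∃ s : K4, s ≠ 0 ∧ c' = s • c ∧ a' = s * a := by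
  obtain ⟨A, hA, h⟩ := S.over_Tl hc hiso a
  obtain ⟨A', hA', h'⟩ := S.over_Tl hc' hiso' a'
  rw [e] at h
  have hAA := Over.unique S h h'
  obtain ⟨s, rfl⟩ := tr_eq_point hc' (a := c) fun x => by rw [← hA, ← hA', hAA]
  have hs : s ≠ 0 := fun e => hc' (by rw [e, zero_smul])
  refine ⟨s, hs, rfl, ?_⟩
  rw [show a' = s * (s⁻¹ * a') by rw [mul_inv_cancel_left₀ hs], S.Tl_smul hc hiso hs, Tl, Tl, mul_left_inj] at e
  have h2 := (S.qel_inj (ok_smul_line hiso) (ok_smul_line hiso) e).2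
  have h3 : a * a = s⁻¹ * a' * (s⁻¹ * a') := by
    by_contra hne
    refine hc ?_
    have : (a * a + s⁻¹ * a' * (s⁻¹ * a')) • c = 0 := by rw [add_smul, h2, v4_add_self]
    exact (smul_eq_zero.1 this).resolve_left fun e => hne ((by decide : ∀ p q : K4, p + q = 0 → p = q) _ _ e)
  rw [(by decide : ∀ p q : K4, p * p = q * q → p = q) _ _ h3, mul_inv_cancel_left₀ hs]

theorem Tl_conj {c' : V4} (hc' : c' ≠ 0) (hiso' : hf c' c' = 0) (a a' : K4) :
    S.Tl a c * S.Tl a' c' * (S.Tl a c)⁻¹ = S.Tl (a' + a * hf c' c) (tr c c') := by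
  obtain ⟨X, hX, hr, -⟩ := S.isX_xv hc hiso
  have htr : tr c c' ≠ 0 := hX c' ▸ act4_ne X hc'
  have hti : hf (tr c c') (tr c c') = 0 := by rw [tr_herm hiso, hiso']
  rw [Tl, show ∀ q x w : S.Cb, q * x * w * (q * x)⁻¹ = q * (x * w * x⁻¹) * q⁻¹ from fun q x w => by group,
    S.lift_Tl hc' hiso' hr, hX, S.qel_Tl htr hti (ok_smul_line hiso)]
  congr 2
  rw [hf_smulr, show hf (tr c c') c = hf c' c by simp [tr, hf_addl, hf_smull, hiso],
    (by decide : ∀ a : K4, a * a * (a * a) = a) a]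

theorem Tl_commute {c' : V4} (hc' : c' ≠ 0) (hiso' : hf c' c' = 0) {a a' : K4} :
    S.Tl a c * S.Tl a' c' = S.Tl a' c' * S.Tl a c ↔ hf c' c = 0 := by
  rw [← mul_inv_eq_iff_eq_mul, S.Tl_conj hc hiso hc' hiso']
  constructor
  · intro e
    by_contra hne
    obtain ⟨X, hX, -⟩ := S.isX_xv hc hiso
    obtain ⟨s, hs, h1, -⟩ := S.Tl_inj (hX c' ▸ act4_ne X hc') (by rw [tr_herm hiso, hiso']) hc' hiso' e
    have h2 : (1 + s) • c' = (s * hf c' c) • c := by
      rw [add_smul, one_smul]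
      conv_lhs => arg 1; rw [h1]
      rw [tr, smul_add, smul_smul, add_right_comm, v4_add_self, zero_add]
    have h3 := congrArg (fun v => hf v c) h2
    simp only [hf_smull, hiso, mul_zero] at h3
    rcases mul_eq_zero.1 h3 with h4 | h4
    · rw [h4, zero_smul] at h2
      rcases smul_eq_zero.1 h2.symm with h5 | h5
      · exact mul_ne_zero hs hne h5
      · exact hc h5
    · exact hne h4
  · intro h
    rw [tr_fix h, h, mul_zero, add_zero]

omit hc hiso

theorem pr_small {δ x : ℕ} (hx : x < 64) :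
    S.pr ((zq S.D ^ δ * uq S.cv (vd x) : ↥(QG Q)) : G) = S.qel (δ : K4) (lo (vd x)) := by
  obtain ⟨hp, hy⟩ := vd_props x hx
  rw [qel, qv, hy, mul_zero, add_zero, ← S.zk_pow]
  have hz : ((zq S.D ^ δ : ↥(QG Q)) : G) ∈ S.C := S.mem_C_q.2 (by rw [vec_zq_pow, hf_zerol])
  rw [Subgroup.coe_mul, Subgroup.coe_mul, S.pr_mul hz (S.uq_mem_C hp), S.pr_mul (S.uq_mem_C (up_perp _)) hz,
    ← S.pr_uq hp, ← S.pr_mul hz (S.uq_mem_C hp), ← S.pr_mul (S.uq_mem_C hp) hz, ← Subgroup.coe_mul,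
    ← Subgroup.coe_mul, ((show Commute (uq S.cv (vd x)) (zq S.D) from zq_comm _ _).pow_right δ).eq]

theorem pr_index {δ x k : ℕ} (hδ : δ < 2) (hx : x < 64) (hk : k < 16) :
    S.pr (S.eg (δ + 2 * x + 128 * k)) = S.qel (δ : K4) (lo (vd x)) * S.pr (S.eg (128 * k)) := by
  obtain ⟨a, b, c⟩ := parts_eq (k := k) hδ hx
  rw [S.eg_split, a, b, c, S.pr_mul (S.mem_C_q.2 ?_) (S.eg_mem_C _), S.pr_small hx]
  rw [S.D.vec_mul, vec_zq_pow, zero_add, vec_uq S.cv S.hc]
  exact (vd_props x hx).1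

/-- Involutions commuting with the central one are moved into the large abelian subgroup. -/
theorem exists_index {r : S.Cb} (hr : r * S.zb = S.zb * r) (h2 : r * r = 1) :
    ∃ p : S.Cb, p * S.zb = S.zb * p ∧ ∃ i < 2048, p * r * p⁻¹ = S.pr (S.eg i) := by
  obtain ⟨α, y, A, s, hy, hs, rfl⟩ := S.exists_form hr
  have hA : A * A = 1 := by
    have h := Over.mul S (Over.mul S (S.over_qel (α := α) (y := y)) (Lift.over S hs))
      (Over.mul S (S.over_qel (α := α) (y := y)) (Lift.over S hs))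
    rw [h2, one_mul] at h
    exact Over.unique S h (Lift.over S S.lift_one)
  obtain ⟨P, hP⟩ := exists_line A hA
  obtain ⟨p, hp⟩ := S.exists_lift P
  have hA' : P * A * P⁻¹ * (P * A * P⁻¹) = 1 := by
    rw [show P * A * P⁻¹ * (P * A * P⁻¹) = P * (A * A) * P⁻¹ by group, hA, mul_one, mul_inv_cancel]
  obtain ⟨k, hk, hkA⟩ := exists_ak hA' fun y => by
    have := hP (act4 P⁻¹ y)
    rwa [act4_add, ← act4_mul P P⁻¹, mul_inv_cancel, act4_one, ← act4_mul A, ← act4_mul P, ← mul_assoc] at this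
  have absorb : ∀ (α : K4) (y : V4) (r1 : S.Cb) (k : ℕ) (hk : k < 16), Ok α y → S.Lift (phi (ak k hk)) r1 →
      ∃ β, Ok β y ∧ S.qel α y * r1 = S.qel β y * S.pr (S.eg (128 * k)) := fun α y r1 k hk hy h => by
    rcases Lift.phi_cases S h with e | e
    · exact ⟨α, hy, by rw [e]⟩
    · refine ⟨α + 1, ?_, ?_⟩
      · have := ok_add hy (ok_zero (Or.inr rfl))
        rwa [hf_zerol, add_zero, add_zero] at this
      · rw [e, Lift.comm S (S.lift_bp hk), ← mul_assoc, ← S.qel_one, S.qel_mul hy (ok_zero (Or.inr rfl)), hf_zerol,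
          add_zero, add_zero]
  have base : ∀ (α : K4) (y : V4) (k : ℕ), k < 16 → Ok α y → hf y y = 0 → inLine y →
      ∃ i < 2048, S.qel α y * S.pr (S.eg (128 * k)) = S.pr (S.eg i) := fun α y k hk hy hy0 hl => by
    obtain ⟨u, t, rfl⟩ := hl
    obtain ⟨x, hx, ex⟩ := line_lift u t
    obtain ⟨d, hd, ed⟩ : ∃ d : ℕ, d < 2 ∧ (d : K4) = α := by
      unfold Ok at hy
      rw [hy0] at hy
      rcases (by decide : ∀ a : K4, a * a + a = 0 → a = 0 ∨ a = 1) α hy with rfl | rfl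
      · exact ⟨0, by norm_num, Nat.cast_zero⟩
      · exact ⟨1, by norm_num, Nat.cast_one⟩
    exact ⟨d + 2 * x + 128 * k, by omega, by rw [S.pr_index hd hx hk, ed, ex]⟩
  have hp' := Lift.mul S (Lift.mul S hp hs) (Lift.inv S hp)
  rw [← hkA] at hp'
  obtain ⟨β, hβ, e⟩ := absorb α (act4 P y) _ k hk (ok_act hy P) hp'
  have e1 : p * (S.qel α y * s) * p⁻¹ = S.qel β (act4 P y) * S.pr (S.eg (128 * k)) := by
    rw [← e, ← Lift.conj_qel S hp]; group
  have hsq : act4 (phi (ak k hk)) (act4 P y) = act4 P y ∧ hf (act4 P y) (act4 P y) = 0 := by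
    have h : (p * (S.qel α y * s) * p⁻¹) * (p * (S.qel α y * s) * p⁻¹) = 1 := by
      rw [show p * (S.qel α y * s) * p⁻¹ * (p * (S.qel α y * s) * p⁻¹) = p * (S.qel α y * s * (S.qel α y * s)) * p⁻¹
        by group, h2]
      group
    rw [e1] at h
    have hb : S.pr (S.eg (128 * k)) * S.pr (S.eg (128 * k)) = 1 := by
      rw [← S.pr_eg_mul, Nat.xor_self, eg, S.B.eg_zero S.hc, S.pr_one]
    set q := S.qel β (act4 P y)
    set b := S.pr (S.eg (128 * k))
    rw [show q * b * (q * b) = q * (b * q * b⁻¹) * (b * b) by group, hb, mul_one,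
      Lift.conj_qel S (S.lift_bp hk), S.qel_mul hβ (ok_act hβ _)] at h
    obtain ⟨h1, h3⟩ := S.qel_inj (ok_add hβ (ok_act hβ _)) (ok_zero (Or.inl rfl)) (h.trans S.qel_zero.symm)
    have hfix : act4 (phi (ak k hk)) (act4 P y) = act4 P y := by
      calc act4 (phi (ak k hk)) (act4 P y)
          = act4 P y + (act4 P y + act4 (phi (ak k hk)) (act4 P y)) := by rw [← add_assoc, v4_add_self, zero_add]
        _ = act4 P y := by rw [h3, add_zero]
    refine ⟨hfix, ?_⟩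
    rw [hfix, k4_two, zero_add] at h1
    exact h1
  obtain ⟨hfix, hiso⟩ := hsq
  set y' := act4 P y
  by_cases hline : inLine y'
  · obtain ⟨i, hi, ei⟩ := base β y' k hk hβ hiso hline
    exact ⟨p, Lift.comm S hp, i, hi, e1.trans ei⟩
  have hy0 : y' ≠ 0 := fun e0 => hline (e0 ▸ ⟨0, 0, by simp⟩)
  have finish : ∀ (P' : S4) (k' : ℕ) (hk' : k' < 16), P' * phi (ak k hk) * P'⁻¹ = phi (ak k' hk') →
      inLine (act4 P' y') → ∃ p : S.Cb, p * S.zb = S.zb * p ∧ ∃ i < 2048,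
        p * (S.qel α y * s) * p⁻¹ = S.pr (S.eg i) := fun P' k' hk' hP' hl => by
    obtain ⟨p', hp2⟩ := S.exists_lift P'
    have h := Lift.mul S (Lift.mul S hp2 (S.lift_bp hk)) (Lift.inv S hp2)
    rw [hP'] at h
    obtain ⟨γ, hγ, e'⟩ := absorb β (act4 P' y') _ k' hk' (ok_act hβ P') h
    obtain ⟨i, hi, ei⟩ := base γ _ k' hk' hγ (by rw [act4_hf, hiso]) hl
    refine ⟨p' * p, Lift.comm S (Lift.mul S hp2 hp), i, hi, ?_⟩
    rw [← ei, ← e', ← Lift.conj_qel S hp2, show p' * p * (S.qel α y * s) * (p' * p)⁻¹ =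
      p' * (p * (S.qel α y * s) * p⁻¹) * p'⁻¹ by group, e1]
    group
  by_cases hk0 : k = 0
  · subst hk0
    obtain ⟨P', u, -, hP'⟩ := exists_to_c0 hy0 hiso
    refine finish P' 0 hk ?_ (by rw [hP']; exact inLine_c0 u)
    rw [ak_zero, mul_one, mul_inv_cancel]
  by_cases hk5 : k ∈ five
  · obtain ⟨hcne, hciso, hcl, -, -⟩ := ck_props k hk5
    have hperp : hf y' (ck k) = 0 := by
      rw [ak_tr hk5, tr, add_eq_left] at hfix
      exact (smul_eq_zero.1 hfix).resolve_right hcne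
    obtain ⟨P', u, hu, hP'⟩ := exists_to_c0 hcne hciso
    have hp0 : hf (act4 P' y') c0 = 0 := by
      have := act4_hf P' y' (ck k)
      rw [hP', hf_smulr, hperp] at this
      exact (mul_eq_zero.1 this).resolve_left (mul_ne_zero hu hu)
    obtain ⟨P2, hP2, hl⟩ := exists_to_line (c := act4 P' y') (by rw [act4_hf, hiso]) hp0 fun r e0 => hline (by
      have e3 : act4 P' y' = act4 P' ((r * u⁻¹) • ck k) := by
        rw [e0, act4_smul, hP', smul_smul, inv_mul_cancel_right₀ hu]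
      have e4 := congrArg (act4 P'⁻¹) e3
      rw [act4_inv, act4_inv] at e4
      rw [e4]; exact inLine_smul hcl _)
    refine finish (P2 * P') 9 (by norm_num) ?_ (by rw [act4_mul]; exact hl)
    refine act4_ext fun v => ?_
    rw [act4_mul, act4_mul, ak_tr hk5, tr_act4, ← act4_mul (P2 * P'), mul_inv_cancel, act4_one,
      ak_tr (k := 9) (by decide), show act4 (P2 * P') (ck k) = u • c0 by rw [act4_mul, hP', act4_smul, hP2],
      tr_point hu]
    rfl
  · exact absurd (fix_inLine hk hk0 hk5 hfix) hline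

theorem eg_of_dB {j : ℕ} (hj : j < 2048) (hd : dB j = true) :
    S.pr (S.eg j) = S.zb ∨ ∃ a c, c ≠ 0 ∧ hf c c = 0 ∧ S.pr (S.eg j) = S.Tl a c := by
  rcases d_list j hj hd with h1 | ⟨hk5, hcase⟩
  · left; rw [h1, S.pr_eg_one]
  right
  set k := j / 128
  obtain ⟨hcne, hciso, -, hk16, -⟩ := ck_props k hk5
  set x := j / 2 % 64
  have hx : x < 64 := Nat.mod_lt _ (by norm_num)
  set d := j % 2
  have hd2 : d < 2 := Nat.mod_lt _ (by norm_num)
  have hjd : j = d + 2 * x + 128 * k := by simp only [d, x, k]; omega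
  have hep : eps k < 2 := by unfold eps; split_ifs <;> norm_num
  have hbase : S.pr (S.eg (128 * k)) = S.qel (eps k : K4) 0 * S.xv (ck k) := by
    have hv0 : lo (vd 0) = 0 := by decide +kernel
    have h := S.pr_index (δ := eps k) (x := 0) (k := k) hep (by norm_num) hk16
    rw [hv0, mul_zero, add_zero, add_comm, ← S.xv_ck hk5] at h
    have hok : Ok (eps k : K4) 0 := ok_zero (by rcases (show eps k = 0 ∨ eps k = 1 by omega) with e | e <;> simp [e])
    rw [h, ← mul_assoc, S.qel_mul hok hok, hf_zerol, k4_two, add_zero, add_zero, S.qel_zero, one_mul]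
  have hok : ∀ n : ℕ, n < 2 → ∀ y : V4, hf y y = 0 → Ok (n : K4) y := fun n hn y hy => by
    unfold Ok; rw [hy]
    rcases (show n = 0 ∨ n = 1 by omega) with e | e <;> rw [e] <;> decide
  rw [hjd, S.pr_index hd2 hx hk16, hbase, ← mul_assoc,
    S.qel_mul (hok d hd2 _ (vd_props x hx).2) (hok _ hep _ (hf_zerol _)), hf_zerol, add_zero, add_zero]
  rcases hcase with ⟨hy0, he⟩ | ⟨he, a, ha, hy⟩
  · refine ⟨0, ck k, hcne, hciso, ?_⟩
    rw [S.Tl_zero, hy0, he, k4_two, S.qel_zero, one_mul]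
  · refine ⟨a, ck k, hcne, hciso, ?_⟩
    rw [Tl, hy, show (d : K4) + (eps k : K4) = 1 by
      rw [← Nat.cast_add, ← cast_mod2, he, Nat.cast_one],
      (by decide : ∀ a : K4, a ≠ 0 → a * (a * a) = 1) a ha]

theorem dB_Cls {j : ℕ} (hj : j < 2048) (hd : dB j = true) : S.pr (S.eg j) ∈ S.Cls := by
  rcases S.eg_of_dB hj hd with h | ⟨a, c, hc, hiso, h⟩ <;> rw [h]
  exacts [S.zb_mem_Cls, S.Tl_Cls hc hiso a]

/-- The members of the class commuting with the central involution. -/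
theorem Cls_comm {r : S.Cb} (h : r ∈ S.Cls) (hr : r * S.zb = S.zb * r) :
    r = S.zb ∨ ∃ a c, c ≠ 0 ∧ hf c c = 0 ∧ r = S.Tl a c := by
  obtain ⟨p, hp, i, hi, e⟩ := S.exists_index hr (S.Cls_sq h)
  have hcl : S.pr (S.eg i) ∈ S.Cls := e ▸ S.Cls_conj h p
  obtain ⟨f, hf', hd⟩ := S.Cls_eg hi hcl
  rw [← S.pr_eg_xor hf'] at e
  set j := i ^^^ f with hj
  have hj2 : j < 2048 := eg_lt_xor hi (by have := eB_lt hf'; omega)
  have key := S.eg_of_dB hj2 hd
  have hr' : r = p⁻¹ * S.pr (S.eg j) * p⁻¹⁻¹ := by rw [← e]; group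
  rcases key with h1 | ⟨a, c, hc, hiso, h1⟩
  · left
    rw [hr', h1, inv_inv, mul_assoc, ← hp, inv_mul_cancel_left]
  right
  obtain ⟨α, y, A, s, hy, hs, hps⟩ := S.exists_form (r := p⁻¹) (by
    rw [eq_mul_inv_iff_mul_eq, mul_assoc, ← hp, inv_mul_cancel_left])
  refine ⟨a + hf (act4 A c) y, act4 A c, act4_ne A hc, by rw [act4_hf]; exact hiso, ?_⟩
  rw [hr', h1, hps, show S.qel α y * s * S.Tl a c * (S.qel α y * s)⁻¹ =
    S.qel α y * (s * S.Tl a c * s⁻¹) * (S.qel α y)⁻¹ by group, S.lift_Tl hc hiso hs,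
    S.qel_Tl (act4_ne A hc) (by rw [act4_hf]; exact hiso) hy]

/-- Two members with a common neighbour satisfy the braid relation. -/
theorem braid {p q n : S.Cb} (hp : p ∈ S.Cls) (hq : q ∈ S.Cls) (hn : n ∈ S.Cls) (hpn : p * n = n * p)
    (hqn : q * n = n * q) (hne : p * q ≠ q * p) : p * q * p = q * p * q := by
  obtain ⟨d, rfl⟩ := hn
  have key : ∀ p q : S.Cb, p ∈ S.Cls → q ∈ S.Cls → p * S.zb = S.zb * p → q * S.zb = S.zb * q → p * q ≠ q * p →
      p * q * p = q * p * q := by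
    intro p q hp hq hpz hqz hne
    rcases S.Cls_comm hp hpz with rfl | ⟨a, c, hc, hiso, rfl⟩
    · exact absurd hqz.symm hne
    rcases S.Cls_comm hq hqz with rfl | ⟨a', c', hc', hiso', rfl⟩
    · exact absurd hpz hne
    have hh : hf c' c ≠ 0 := fun h => hne ((S.Tl_commute hc hiso hc' hiso').2 h)
    conv_lhs => arg 2; rw [← S.Cls_inv hp]
    conv_rhs => arg 2; rw [← S.Cls_inv hq]
    rw [S.Tl_conj hc hiso hc' hiso', S.Tl_conj hc' hiso' hc hiso]
    obtain ⟨X, hX, -⟩ := S.isX_xv hc' hiso'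
    rw [← S.Tl_smul (c := tr c' c) (hX c ▸ act4_ne X hc) (by rw [tr_herm hiso', hiso]) hh]
    congr 1
    · rw [hf_swap c' c]
      generalize hf c' c = h at hh
      exact (by decide : ∀ a a' h : K4, h ≠ 0 → a' + a * h = h * (a + a' * (h * h))) a a' h hh
    · exact tr_swap hh
  have h := key (d⁻¹ * p * d) (d⁻¹ * q * d) (by simpa using S.Cls_conj hp d⁻¹) (by simpa using S.Cls_conj hq d⁻¹)
    (by calc d⁻¹ * p * d * S.zb = d⁻¹ * (p * (d * S.zb * d⁻¹)) * d := by group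
          _ = _ := by rw [hpn]; group)
    (by calc d⁻¹ * q * d * S.zb = d⁻¹ * (q * (d * S.zb * d⁻¹)) * d := by group
          _ = _ := by rw [hqn]; group)
    (fun e => hne (by
      calc p * q = d * (d⁻¹ * p * d * (d⁻¹ * q * d)) * d⁻¹ := by group
        _ = _ := by rw [e]; group))
  calc p * q * p = d * (d⁻¹ * p * d * (d⁻¹ * q * d) * (d⁻¹ * p * d)) * d⁻¹ := by group
    _ = _ := by rw [h]; group

end Data

end Cfsg.Agent.LargeFischer.Six
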