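import Cfsg.Agent.Lib.LargeFischer.SixData
import Cfsg.Agent.Lib.LargeFischer.BigStab

/-! The stabiliser of a vector of the short orbit as the unitary group of the four-space. -/

set_option autoImplicit false
set_option maxRecDepth 100000
set_option maxHeartbeats 200000
set_option synthInstance.maxSize 2000

namespace Cfsg.Agent.LargeFischer.Six

open Cfsg.Agent.RigidGraph.He Cfsg.Agent.U43InU62 Cfsg.Agent.LargeFischer.Big
open Matrix

attribute [local irreducible] tm elN TT

/-! ### Finite facts -/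

theorem exists_non : ∀ a b c e : K4, (![a, b, c, e] : V4) ≠ 0 →
    ∃ u ∈ pts, hf u (![a, b, c, e] : V4) ≠ 0 := by decide +kernel

theorem exists_non' {y : V4} (h : y ≠ 0) : ∃ u ∈ pts, hf u y ≠ 0 := by
  revert h
  exact v4_all (P := fun y => y ≠ 0 → ∃ u ∈ pts, hf u y ≠ 0) exists_non y

theorem eq_zero_of_perp {y : V4} (h : ∀ c : V4, hf c c = 0 → hf c y = 0) : y = 0 := by
  by_contra hy
  obtain ⟨u, hu, hne⟩ := exists_non' hy
  exact hne (h u (pts_iso u hu))

theorem reach1_check : ∀ s t : K4, t ≠ 0 → ∃ u ∈ pts0, ∃ r ∈ pts0, ∃ q : K4,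
    tr r (tr u (s • c0 + t • d1)) = q • d1 := by decide +kernel

theorem bridge_check : ∀ a b c e : K4, (![a, b, c, e] : V4) ≠ 0 → hf (![a, b, c, e] : V4) ![a, b, c, e] = 0 →
    hf (![a, b, c, e] : V4) c0 ≠ 0 → ∃ u ∈ pts0, hf u (![a, b, c, e] : V4) = 0 := by decide +kernel

theorem scale_check : ∃ u ∈ pts, ∃ u' ∈ pts, hf c0 u ≠ 0 ∧ hf u u' ≠ 0 ∧ hf u' c0 ≠ 0 ∧
    hf c0 u * hf u u' * hf u' c0 = K4.w := by decide +kernel

theorem tr_eq_point {n : ℕ} {a b : Fin n → K4} (hb : b ≠ 0) (h : ∀ x, tr a x = tr b x) :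
    ∃ s : K4, b = s • a := by
  obtain ⟨j, hj⟩ := Function.ne_iff.1 hb
  have hne : hf (Pi.single j 1) b ≠ 0 := by
    simp only [hf, Cfsg.hermForm, Pi.single_apply, ite_mul, one_mul, zero_mul, Finset.sum_ite_eq',
      Finset.mem_univ, if_true]
    exact pow_ne_zero _ hj
  have e := add_left_cancel (h (Pi.single j 1))
  exact ⟨(hf (Pi.single j 1) b)⁻¹ * hf (Pi.single j 1) a, by
    rw [← smul_smul, e, inv_smul_smul₀ hne]⟩

/-! ### The change of coordinates -/

theorem sw_add (x y : V6) : sw (x + y) = sw x + sw y := by funext i; fin_cases i <;> rfl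

theorem sw_smul (c : K4) (x : V6) : sw (c • x) = c • sw x := by funext i; fin_cases i <;> rfl

theorem sw_v0 : sw v0 = bA 0 := by rw [← sw_bA, sw_sw]

theorem hf_sw (x y : V6) : hf (sw x) (sw y) = hf x y := by
  simp only [hf, Cfsg.hermForm, Fin.sum_univ_six, sw, Matrix.cons_val]
  abel

theorem hf_bA (x : V6) : hf x (bA 0) = sw x 0 + sw x 1 := by
  rw [← hf_sw, sw_bA]
  exact herm_v0 _

theorem up_perp (y : V4) : hf (up y) (bA 0) = 0 := by
  rw [hf_bA, up, sw_sw]
  exact k4_two 0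

theorem hf_up (y y' : V4) : hf (up y) (up y') = hf y y' := by
  rw [up, up, hf_sw]
  show Cfsg.hermForm 6 K4 2 (emb y) (emb y') = _
  rw [herm_low (emb_perp y) (emb_perp y'), low_emb, low_emb]

theorem perp_eta {x : V6} (h : hf x (bA 0) = 0) : x = up (lo x) + x 0 • bA 0 := by
  rw [hf_bA] at h
  have e := congrArg sw (emb_low (Cfsg.Agent.LargeFischer.add_eq_zero.1 h))
  rw [sw_sw, sw_add, sw_smul, sw_v0] at e
  exact e

theorem hf_lo {x y : V6} (hx : hf x (bA 0) = 0) (hy : hf y (bA 0) = 0) : hf x y = hf (lo x) (lo y) := by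
  rw [hf_bA] at hx hy
  rw [← hf_sw x y]
  exact herm_low (Cfsg.Agent.LargeFischer.add_eq_zero.1 hx) (Cfsg.Agent.LargeFischer.add_eq_zero.1 hy)

theorem emb_add (y y' : V4) : emb (y + y') = emb y + emb y' := by funext i; fin_cases i <;> simp [emb]

theorem emb_smul (c : K4) (y : V4) : emb (c • y) = c • emb y := by funext i; fin_cases i <;> simp [emb]

theorem up_add (y y' : V4) : up (y + y') = up y + up y' := by rw [up, emb_add, sw_add]; rfl

theorem up_smul (c : K4) (y : V4) : up (c • y) = c • up y := by rw [up, emb_smul, sw_smul]; rfl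

theorem up_zero : up 0 = 0 := by decide +kernel

theorem lo_add (x y : V6) : lo (x + y) = lo x + lo y := by rw [lo, sw_add]; rfl

theorem lo_smul (c : K4) (x : V6) : lo (c • x) = c • lo x := by rw [lo, sw_smul]; rfl

theorem lo_bA : lo (bA 0) = 0 := by decide +kernel

/-! ### The stabiliser -/

/-- The stabiliser of the first vector of the fixed space. -/
abbrev Ke : Type := ↥(stab (bA 0))

/-- The special unitary group of the four-space. -/
abbrev S4 : Type := ↥(Cfsg.SU 4 K4 2)

/-- The action on the four-space. -/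
def act4 (A : S4) (y : V4) : V4 := A.1.1 *ᵥ y

theorem act4_mul (A A' : S4) (y : V4) : act4 (A * A') y = act4 A (act4 A' y) :=
  (Matrix.mulVec_mulVec y A.1.1 A'.1.1).symm

theorem act4_one (y : V4) : act4 1 y = y := Matrix.one_mulVec y

theorem act4_inv (A : S4) (y : V4) : act4 A⁻¹ (act4 A y) = y := by
  rw [← act4_mul, inv_mul_cancel, act4_one]

theorem act4_add (A : S4) (x y : V4) : act4 A (x + y) = act4 A x + act4 A y := Matrix.mulVec_add _ _ _

theorem act4_smul (A : S4) (c : K4) (y : V4) : act4 A (c • y) = c • act4 A y := Matrix.mulVec_smul _ _ _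

theorem act4_hf (A : S4) (x y : V4) : hf (act4 A x) (act4 A y) = hf x y := A.2 x y

theorem act4_zero (A : S4) : act4 A 0 = 0 := Matrix.mulVec_zero _

theorem act4_ne (A : S4) {y : V4} (hy : y ≠ 0) : act4 A y ≠ 0 := fun e => hy (by
  rw [← act4_inv A y, e, act4_zero])

theorem act4_ext {A A' : S4} (h : ∀ y, act4 A y = act4 A' y) : A = A' :=
  Subtype.ext (Subtype.ext (Matrix.ext_of_mulVec_single fun _ => h _))

theorem ext_frame {A A' : S4} (h0 : act4 A c0 = act4 A' c0) (h1 : act4 A d1 = act4 A' d1)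
    (h2 : act4 A e1 = act4 A' e1) (h3 : act4 A e2 = act4 A' e2) : A = A' :=
  act4_ext fun y => v4_all (P := fun y => act4 A y = act4 A' y) (fun a b c e => by
    rw [frame_span a b c e]
    simp only [act4_add, act4_smul, h0, h1, h2, h3]) y

theorem tr_act4 (A : S4) (a x : V4) : act4 A (tr a x) = tr (act4 A a) (act4 A x) :=
  tr_conj (act4_add A) (act4_smul A) (act4_hf A) a x

theorem exists_t4 {a : V4} (ha : hf a a = 0) : ∃ A : S4, ∀ x, act4 A x = tr a x := by
  obtain ⟨σ, -, hfm, -⟩ := UnitaryStd.exists_setup (F := K4) (q := 2) (n := 4) (by rw [K4.card_K4]; norm_num)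
    (by norm_num)
  obtain ⟨A, -, hA⟩ := UnitaryStd.exists_su_htv hfm a ha (c := 1) (by rw [map_one, neg_one_k4])
  refine ⟨A, fun x => ?_⟩
  show (A : Matrix.SpecialLinearGroup (Fin 4) K4).1 *ᵥ x = _
  rw [hA, UnitaryStd.unitaryTransvection_mulVec, one_mul]
  rfl

theorem gen4 (P : Subgroup S4) (h : ∀ a : V4, a ≠ 0 → hf a a = 0 → ∃ g ∈ P, ∀ x, act4 g x = tr a x) : P = ⊤ := by
  obtain ⟨σ, hσ, hfm, -⟩ := UnitaryStd.exists_setup (F := K4) (q := 2) (n := 4) (by rw [K4.card_K4]; norm_num)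
    (by norm_num)
  refine eq_top_iff.2 ((UnitaryStd.closure_eq_top hfm (by norm_num) (by norm_num)).ge.trans
    ((Subgroup.closure_le _).2 ?_))
  rintro A ⟨v, c, hv, hA⟩
  have hact : ∀ x, act4 A x = x + (c * hf x v) • v := fun x => by
    show (A : Matrix.SpecialLinearGroup (Fin 4) K4).1 *ᵥ x = _
    rw [hA, UnitaryStd.unitaryTransvection_mulVec]
  by_cases hv0 : v = 0
  · have : A = 1 := act4_ext fun x => by rw [hact, hv0, smul_zero, add_zero, act4_one]
    rw [this]; exact one_mem P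
  have hc := UnitaryStd.anti_of_mem hfm A hv hv0 hA
  rw [hσ, show -c = c from (by decide : ∀ c : K4, -c = c) c] at hc
  rcases (by decide : ∀ c : K4, c ^ 2 = c → c = 0 ∨ c = 1) c hc with rfl | rfl
  · have : A = 1 := act4_ext fun x => by rw [hact, zero_mul, zero_smul, add_zero, act4_one]
    rw [this]; exact one_mem P
  · obtain ⟨g, hg, hga⟩ := h v hv0 hv
    have : A = g := act4_ext fun x => by rw [hact, one_mul, hga]; rfl
    rw [this]; exact hg

/-- Only the identity fixes all points of the four-space. -/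
theorem eq_one_of_points {A : S4} (h : ∀ c : V4, c ≠ 0 → hf c c = 0 → ∀ x, tr (act4 A c) x = tr c x) : A = 1 := by
  have hc : A ∈ Subgroup.center S4 := by
    rw [Subgroup.mem_center_iff]
    have htop := gen4 (Subgroup.centralizer {A}) fun a ha hiso => by
      obtain ⟨g, hg⟩ := exists_t4 hiso
      refine ⟨g, Subgroup.mem_centralizer_singleton_iff.2 (act4_ext fun x => ?_), hg⟩
      rw [act4_mul, act4_mul, hg, hg, tr_act4, h a ha hiso]
    intro g
    exact Subgroup.mem_centralizer_singleton_iff.1 (htop.ge (Subgroup.mem_top g))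
  rwa [center_eq_bot, Subgroup.mem_bot] at hc

/-- The monomial change of coordinates. -/
noncomputable def g0 : S6 := mel (Equiv.swap 1 2 * Equiv.swap 4 5) done

theorem g0_mem : g0 ∈ K0 := N0_le_K0 (mem_N0.2 ⟨_, (by decide +kernel), _, rfl⟩)

theorem act_g0 (x : V6) : act g0 x = sw x := by
  funext i
  rw [g0, act_mel]
  fin_cases i <;> exact one_mul _

theorem act_g0_inv (x : V6) : act g0⁻¹ x = sw x :=
  act_inj g0 (by rw [← act_mul, mul_inv_cancel, act_one, act_g0, sw_sw])

/-- The stabiliser moved to the standard one. -/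
noncomputable def toS0 : Ke →* S0 :=
  MonoidHom.mk' (fun g => ⟨g0 * g.1 * g0⁻¹, mul_mem (mul_mem g0_mem g.2.1) (inv_mem g0_mem), by
    rw [act_mul, act_mul, act_g0_inv, act_g0, sw_v0, g.2.2, sw_bA]⟩) fun a b => Subtype.ext (by simp [mul_assoc])

/-- The action of the stabiliser on the four-space. -/
noncomputable def phi : Ke →* S4 :=
  MonoidHom.mk' (fun g => toSU ⟨toS0 g, detHom_ker ▸ Subgroup.mem_top _⟩) fun a b => by
    rw [← map_mul toSU]
    exact congrArg toSU (Subtype.ext (map_mul toS0 a b))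

theorem act4_phi (g : Ke) (y : V4) : act4 (phi g) y = lo (act g.1 (up y)) := by
  have h := low_act (toS0 g) (x := emb y) (emb_perp y)
  rw [low_emb] at h
  show blk (mat (toS0 g).1) *ᵥ y = _
  rw [← h]
  show low (act (g0 * g.1 * g0⁻¹) (emb y)) = _
  rw [act_mul, act_mul, act_g0_inv, act_g0]
  rfl

theorem phi_bijective : Function.Bijective phi := by
  refine ⟨fun a b e => ?_, fun A => ?_⟩
  · have h : toS0 a = toS0 b := congrArg (fun x : ↥(detHom.ker) => x.1) (toSU_injective e :)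
    have h' : g0 * a.1 * g0⁻¹ = g0 * b.1 * g0⁻¹ := congrArg Subtype.val h
    exact Subtype.ext (mul_left_cancel (mul_right_cancel h'))
  · obtain ⟨s, rfl⟩ := toSU_bijective.2 A
    refine ⟨⟨g0⁻¹ * s.1.1 * g0, mul_mem (mul_mem (inv_mem g0_mem) s.1.2.1) g0_mem, ?_⟩, ?_⟩
    · rw [act_mul, act_mul, act_g0, sw_bA, fix s.1, act_g0_inv, sw_v0]
    · refine congrArg toSU (Subtype.ext (Subtype.ext ?_))
      show g0 * (g0⁻¹ * s.1.1 * g0) * g0⁻¹ = s.1.1
      group

theorem lo_act (g : Ke) {x : V6} (h : hf x (bA 0) = 0) : lo (act g.1 x) = act4 (phi g) (lo x) := by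
  conv_lhs => rw [perp_eta h]
  rw [act, Matrix.mulVec_add, Matrix.mulVec_smul]
  show lo (act g.1 (up (lo x)) + x 0 • act g.1 (bA 0)) = _
  rw [g.2.2, lo_add, lo_smul, lo_bA, smul_zero, add_zero, act4_phi]

theorem act_perp (g : Ke) {x : V6} (h : hf x (bA 0) = 0) : hf (act g.1 x) (bA 0) = 0 := by
  have e := herm_act g.1 x (bA 0)
  rw [g.2.2] at e
  rw [hf, e]
  exact h

/-- An element of the large subgroup in the stabiliser. -/
noncomputable def ak (k : ℕ) (hk : k < 16) : Ke :=
  ⟨(aK k).1, (aK k).2, by rw [show (aK k).1 = elN (nk k) from rfl, act_elN, tm_fix k hk]⟩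

theorem act4_ak {k : ℕ} (hk : k < 16) (y : V4) : act4 (phi (ak k hk)) y = lamK k y := by
  rw [act4_phi, lamK]
  exact congrArg lo (act_elN _ _)

theorem ak_tr {k : ℕ} (hk : k ∈ five) (hk16 : k < 16) (y : V4) : act4 (phi (ak k hk16)) y = tr (ck k) y := by
  obtain ⟨A, hA⟩ := exists_t4 (ck_props k hk).2.1
  have e : phi (ak k hk16) = A := Subtype.ext (Subtype.ext (Matrix.ext_of_mulVec_single fun j => by
    show act4 _ (Pi.single j 1) = act4 A (Pi.single j 1)
    rw [act4_ak, hA, lam_tr_basis k hk j]))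
  rw [e, hA]

theorem ak_one {k : ℕ} (hk : k < 16) (h : phi (ak k hk) = 1) : k = 0 := by
  refine aK_eq_one hk (Subtype.ext ?_)
  have : ak k hk = 1 := phi_bijective.1 (h.trans (map_one phi).symm)
  exact (show (aK k).1 = 1 from congrArg (fun g : Ke => g.1) this)

theorem ak_zero (h : 0 < 16) : phi (ak 0 h) = 1 := by
  rw [show ak 0 h = 1 from Subtype.ext ?_, map_one]
  show elN (nk 0) = 1
  rw [show nk 0 = 0 from rfl, elN_zero]

end Cfsg.Agent.LargeFischer.Six
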