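import Cfsg.Agent.Lib.LargeFischer.BigMain
import Cfsg.Agent.Lib.LargeFischer.SixUnit

/-! The centraliser of the four-group modulo it, and its subgroup centralising the central involution. -/

set_option autoImplicit false
set_option maxRecDepth 100000
set_option maxHeartbeats 200000
set_option synthInstance.maxSize 2000

namespace Cfsg.Agent.LargeFischer.Six

open Cfsg.Agent.RigidGraph.He Cfsg.Agent.U43InU62 Cfsg.Agent.LargeExtra Cfsg.Agent.LargeFischer.Big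
open Subgroup

attribute [local irreducible] tm elN TT

/-! ### Parities -/

theorem cast_mod2 (n : ℕ) : ((n % 2 : ℕ) : K4) = (n : K4) := by
  conv_rhs => rw [← Nat.mod_add_div n 2, Nat.cast_add, Nat.cast_mul,
    show ((2 : ℕ) : K4) = 0 by rw [Nat.cast_two, ← one_add_one_eq_two]; exact K4.add_self 1, zero_mul, add_zero]

theorem Bp_hf (u v : V6) : (Bp u v : K4) = hf u v + hf v u := by
  have h : ∀ x : V6, (wt x : K4) = hf x x := fun x => by
    rw [← cast_mod2]; exact (herm_self x).symm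
  rw [Bp, cast_mod2, Nat.cast_add, Nat.cast_add, h, h, h, hf_addl, hf_addr, hf_addr]
  linear_combination (k4_two (hf u u)) + (k4_two (hf v v))

/-- The compatibility of a scalar with a vector. -/
def Ok (α : K4) (y : V4) : Prop := α * α + α = hf y y

theorem ok_zero {α : K4} (h : α = 0 ∨ α = 1) : Ok α 0 := by
  unfold Ok
  rw [hf_zerol]
  rcases h with rfl | rfl <;> decide

theorem ok_add {a b : K4} {u v : V4} (hu : Ok a u) (hv : Ok b v) : Ok (a + b + hf v u) (u + v) := by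
  unfold Ok at *
  rw [hf_addl, hf_addr, hf_addr, hf_swap v u, ← hu, ← hv]
  exact (by decide : ∀ a b h : K4, (a + b + h) * (a + b + h) + (a + b + h) =
    a * a + a + h * h + (h + (b * b + b))) a b (hf v u)

theorem ok_act {α : K4} {y : V4} (h : Ok α y) (A : S4) : Ok α (act4 A y) := by
  unfold Ok at *
  rw [act4_hf, h]

theorem ok_smul_line {a : K4} {c : V4} (hc : hf c c = 0) : Ok (a * (a * a)) ((a * a) • c) := by
  unfold Ok
  rw [hf_smull, hf_smulr, hc]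
  revert a
  decide

variable {G : Type*} [Group G] [Finite G]

/-- What is fixed throughout. -/
structure Data (z : G) (Q : Subgroup ↥(centralizer ({z} : Set G))) [Q.Normal] where
  hF : Cfsg.IsOfLargeFischerTypeAt z Q
  D : Model z Q
  cv : Cover D
  hc : cv.c = K4.w
  B : Basis cv
  hN : ∀ i < 2048, isN i = true ↔ i ≠ 0 ∧ ¬ IsConj z (B.eg i)

variable {z : G} {Q : Subgroup ↥(centralizer ({z} : Set G))} [Q.Normal]

theorem exists_data (hF : Cfsg.IsOfLargeFischerTypeAt z Q) : Nonempty (Data z Q) := by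
  obtain ⟨D⟩ := exists_model hF
  obtain ⟨cv, hc⟩ := exists_cover_w D
  obtain ⟨B, hN, -⟩ := exists_good cv hc hF
  exact ⟨⟨hF, D, cv, hc, B, hN⟩⟩

namespace Data

variable (S : Data z Q)

/-- An element of the large abelian subgroup. -/
noncomputable abbrev eg (i : ℕ) : G := S.B.eg i

theorem eg_lt_xor {i j : ℕ} (hi : i < 2048) (hj : j < 2048) : i ^^^ j < 2048 :=
  Nat.xor_lt_two_pow (n := 11) hi hj

theorem isConj_eg {i : ℕ} (hi : i < 2048) : IsConj z (S.eg i) ↔ ztB i = true := by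
  have h := S.hN i hi
  rw [← nb_spec i hi] at h
  have hz0 : ztB i = true ↔ i ≠ 0 ∧ ¬ nb i = true := by simp [ztB]
  rw [hz0, h]
  constructor
  · intro hz
    refine ⟨fun e => ?_, fun hh => hh.2 hz⟩
    subst e
    rw [eg, S.B.eg_zero S.hc] at hz
    exact S.D.ctx.xs.ne_one (isConj_one_left.1 hz)
  · exact fun ⟨a, b⟩ => by_contra fun hn => b ⟨a, hn⟩

theorem eg_comm (i j : ℕ) : S.eg i * S.eg j = S.eg j * S.eg i :=
  comm_of_sq (AG_sq S.cv) (S.B.eg_mem S.hc i) (S.B.eg_mem S.hc j)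

/-! ### The four-group and its centraliser -/

/-- The four-group. -/
def E : Subgroup G := finSub
  { carrier := {a | ∃ i, eB i = true ∧ S.eg i = a}
    one_mem' := ⟨0, rfl, S.B.eg_zero S.hc⟩
    mul_mem' := by
      rintro _ _ ⟨i, hi, rfl⟩ ⟨j, hj, rfl⟩
      refine ⟨i ^^^ j, ?_, S.B.eg_xor S.hc i j⟩
      rcases (eB_iff i).1 hi with rfl | rfl | rfl | rfl <;> rcases (eB_iff j).1 hj with rfl | rfl | rfl | rfl <;> rfl }

theorem mem_E {a : G} : a ∈ S.E ↔ ∃ i, eB i = true ∧ S.eg i = a := Iff.rfl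

theorem eB_lt {i : ℕ} (h : eB i = true) : i < 8 := by
  rcases (eB_iff i).1 h with rfl | rfl | rfl | rfl <;> norm_num

theorem E_le_AG : S.E ≤ AG S.cv := fun _ ⟨i, _, e⟩ => e ▸ S.B.eg_mem S.hc i

/-- The centraliser of the four-group. -/
def C : Subgroup G := centralizer (S.E : Set G)

theorem mem_C {c : G} : c ∈ S.C ↔ c * S.eg 2 = S.eg 2 * c ∧ c * S.eg 4 = S.eg 4 * c := by
  constructor
  · intro h
    exact ⟨(mem_centralizer_iff.1 h _ ⟨2, rfl, rfl⟩).symm, (mem_centralizer_iff.1 h _ ⟨4, rfl, rfl⟩).symm⟩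
  · rintro ⟨h2, h4⟩
    refine mem_centralizer_iff.2 ?_
    rintro _ ⟨i, hi, rfl⟩
    rcases (eB_iff i).1 hi with rfl | rfl | rfl | rfl
    · rw [eg, S.B.eg_zero S.hc, one_mul, mul_one]
    · exact h2.symm
    · exact h4.symm
    · show S.eg (2 ^^^ 4) * c = c * S.eg (2 ^^^ 4)
      rw [eg, S.B.eg_xor S.hc, mul_assoc, ← h4, ← mul_assoc, ← h2, mul_assoc]

theorem C_comm {c e : G} (hc : c ∈ S.C) (he : e ∈ S.E) : c * e = e * c := (mem_centralizer_iff.1 hc e he).symm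

theorem eg_mem_C (i : ℕ) : S.eg i ∈ S.C := S.mem_C.2 ⟨S.eg_comm i 2, S.eg_comm i 4⟩

theorem E_le_C : S.E ≤ S.C := fun _ ⟨i, _, e⟩ => e ▸ S.eg_mem_C i

theorem z_mem_C : z ∈ S.C := by
  have h := S.eg_mem_C 1
  rwa [eg, S.B.eg_one S.hc] at h

instance normal_E : (S.E.subgroupOf S.C).Normal :=
  ⟨fun e he c => by
    rw [mem_subgroupOf] at he ⊢
    show c.1 * e.1 * c.1⁻¹ ∈ S.E
    rwa [S.C_comm c.2 he, mul_inv_cancel_right]⟩

/-- The centraliser modulo the four-group. -/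
abbrev Cb : Type _ := ↥S.C ⧸ S.E.subgroupOf S.C

open Classical in
/-- The projection. -/
noncomputable def pr (a : G) : S.Cb := if h : a ∈ S.C then QuotientGroup.mk (⟨a, h⟩ : ↥S.C) else 1

theorem pr_def {a : G} (h : a ∈ S.C) : S.pr a = QuotientGroup.mk (⟨a, h⟩ : ↥S.C) := dif_pos h

theorem pr_mul {a b : G} (ha : a ∈ S.C) (hb : b ∈ S.C) : S.pr (a * b) = S.pr a * S.pr b := by
  rw [S.pr_def ha, S.pr_def hb, S.pr_def (mul_mem ha hb)]
  rfl

theorem pr_one : S.pr 1 = 1 := (S.pr_def (one_mem _)).trans rfl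

theorem pr_inv {a : G} (ha : a ∈ S.C) : S.pr a⁻¹ = (S.pr a)⁻¹ := by
  rw [S.pr_def ha, S.pr_def (inv_mem ha)]
  rfl

theorem pr_conj {a b : G} (ha : a ∈ S.C) (hb : b ∈ S.C) : S.pr (a * b * a⁻¹) = S.pr a * S.pr b * (S.pr a)⁻¹ := by
  rw [S.pr_mul (mul_mem ha hb) (inv_mem ha), S.pr_mul ha hb, S.pr_inv ha]

theorem pr_surj (r : S.Cb) : ∃ a ∈ S.C, S.pr a = r := by
  obtain ⟨a, rfl⟩ := QuotientGroup.mk_surjective r
  exact ⟨a.1, a.2, S.pr_def a.2⟩

theorem pr_eq_iff {a b : G} (ha : a ∈ S.C) (hb : b ∈ S.C) : S.pr a = S.pr b ↔ ∃ e ∈ S.E, b = a * e := by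
  rw [S.pr_def ha, S.pr_def hb, QuotientGroup.eq, mem_subgroupOf]
  constructor
  · exact fun h => ⟨_, h, by simp⟩
  · rintro ⟨e, he, rfl⟩
    simpa using he

theorem pr_E {e : G} (he : e ∈ S.E) : S.pr e = 1 := by
  rw [← S.pr_one, eq_comm, S.pr_eq_iff (one_mem _) (S.E_le_C he)]
  exact ⟨e, he, (one_mul e).symm⟩

theorem pr_eg_xor {i e : ℕ} (he : eB e = true) : S.pr (S.eg (i ^^^ e)) = S.pr (S.eg i) := by
  rw [eg, S.B.eg_xor S.hc, S.pr_mul (S.eg_mem_C i) (S.eg_mem_C e), S.pr_E ⟨e, he, rfl⟩, mul_one]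

theorem pr_eg_mul (i j : ℕ) : S.pr (S.eg (i ^^^ j)) = S.pr (S.eg i) * S.pr (S.eg j) := by
  rw [eg, S.B.eg_xor S.hc, S.pr_mul (S.eg_mem_C i) (S.eg_mem_C j)]

/-- The image of the central involution. -/
noncomputable def zb : S.Cb := S.pr z

theorem pr_eg_one : S.pr (S.eg 1) = S.zb := by rw [eg, S.B.eg_one S.hc]; rfl

theorem z_mul_not_conj {e : G} (he : e ∈ S.E) (h1 : e ≠ 1) : ¬ IsConj z (z * e) := by
  obtain ⟨i, hi, rfl⟩ := he
  intro hh
  rw [show z * S.eg i = S.eg (1 ^^^ i) by rw [eg, eg, S.B.eg_xor S.hc, S.B.eg_one S.hc]] at hh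
  have h := (S.isConj_eg (eg_lt_xor (by norm_num) (by have := eB_lt hi; omega))).1 hh
  rcases (eB_iff i).1 hi with rfl | rfl | rfl | rfl
  · exact h1 (S.B.eg_zero S.hc)
  all_goals exact absurd h (by decide +kernel)

theorem comm_zb_iff {a : G} (ha : a ∈ S.C) : S.pr a * S.zb = S.zb * S.pr a ↔ a * z = z * a := by
  constructor
  · intro h
    have h' : S.pr (a * z * a⁻¹) = S.pr z := by
      rw [S.pr_conj ha S.z_mem_C]
      exact mul_inv_eq_iff_eq_mul.2 h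
    obtain ⟨e, he, he'⟩ := (S.pr_eq_iff S.z_mem_C (mul_mem (mul_mem ha S.z_mem_C) (inv_mem ha))).1 h'.symm
    by_cases h1 : e = 1
    · rw [h1, mul_one] at he'
      exact mul_inv_eq_iff_eq_mul.1 he'
    · exact absurd (isConj_iff.2 ⟨a, he'⟩) (S.z_mul_not_conj he h1)
  · intro h
    rw [zb, ← S.pr_mul ha S.z_mem_C, ← S.pr_mul S.z_mem_C ha, h]

theorem zb_sq : S.zb * S.zb = 1 := by
  rw [zb, ← S.pr_mul S.z_mem_C S.z_mem_C, S.D.ctx.xs.sq, S.pr_one]

theorem zb_ne : S.zb ≠ 1 := by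
  intro h
  rw [← S.pr_one, zb] at h
  obtain ⟨e, ⟨i, hi, rfl⟩, he'⟩ := (S.pr_eq_iff S.z_mem_C (one_mem _)).1 h
  rw [show z * S.eg i = S.eg (1 ^^^ i) by rw [eg, eg, S.B.eg_xor S.hc, S.B.eg_one S.hc],
    ← S.B.eg_zero S.hc] at he'
  have := S.B.eg_inj S.hc (by norm_num) (eg_lt_xor (by norm_num) (by have := eB_lt hi; omega)) he'
  rcases (eB_iff i).1 hi with rfl | rfl | rfl | rfl <;> exact absurd this (by decide)

/-- The class of the central involution. -/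
def Cls : Set S.Cb := {r | ∃ c, c * S.zb * c⁻¹ = r}

theorem zb_mem_Cls : S.zb ∈ S.Cls := ⟨1, by group⟩

theorem Cls_conj {r : S.Cb} (h : r ∈ S.Cls) (c : S.Cb) : c * r * c⁻¹ ∈ S.Cls := by
  obtain ⟨d, rfl⟩ := h
  exact ⟨c * d, by group⟩

theorem Cls_sq {r : S.Cb} (h : r ∈ S.Cls) : r * r = 1 := by
  obtain ⟨d, rfl⟩ := h
  rw [show d * S.zb * d⁻¹ * (d * S.zb * d⁻¹) = d * (S.zb * S.zb) * d⁻¹ by group, S.zb_sq]
  group

theorem Cls_inv {r : S.Cb} (h : r ∈ S.Cls) : r⁻¹ = r := inv_eq_of_mul_eq_one_right (S.Cls_sq h)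

theorem Cls_eg {i : ℕ} (hi : i < 2048) (h : S.pr (S.eg i) ∈ S.Cls) :
    ∃ e, eB e = true ∧ dB (i ^^^ e) = true := by
  obtain ⟨c, hc⟩ := h
  obtain ⟨a, ha, rfl⟩ := S.pr_surj c
  rw [zb, ← S.pr_conj ha S.z_mem_C] at hc
  obtain ⟨_, ⟨e, he, rfl⟩, hee⟩ := (S.pr_eq_iff (S.eg_mem_C i) (mul_mem (mul_mem ha S.z_mem_C) (inv_mem ha))).1 hc.symm
  rw [← S.B.eg_xor S.hc] at hee
  have hie := eg_lt_xor hi (show e < 2048 by have := eB_lt he; omega)
  refine ⟨e, he, ?_⟩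
  have key : ∀ f, eB f = true → f ≠ 0 → nb (i ^^^ e ^^^ f) = true := fun f hf hf0 => by
    have hff : f < 2048 := by have := eB_lt hf; omega
    rw [nb_spec _ (eg_lt_xor hie hff), S.hN _ (eg_lt_xor hie hff)]
    have hcj : S.eg (i ^^^ e ^^^ f) = a * (z * S.eg f) * a⁻¹ := by
      show S.B.eg (i ^^^ e ^^^ f) = _
      rw [S.B.eg_xor S.hc, ← hee]
      show a * z * a⁻¹ * S.eg f = _
      rw [mul_assoc (a * z), S.C_comm (S.C.inv_mem ha) (S.mem_E.2 ⟨f, hf, rfl⟩)]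
      group
    constructor
    · intro e0
      rw [e0, eg, S.B.eg_zero S.hc, eq_comm, conj_eq_one_iff, mul_eq_one_iff_eq_inv] at hcj
      have hfE : S.eg f ∈ S.E := S.mem_E.2 ⟨f, hf, rfl⟩
      have h1 := S.pr_E (inv_mem hfE)
      rw [← hcj] at h1
      exact S.zb_ne h1
    · intro hh
      change IsConj z (S.eg (i ^^^ e ^^^ f)) at hh
      rw [hcj, conj_iff] at hh
      exact S.z_mul_not_conj (S.mem_E.2 ⟨f, hf, rfl⟩) (fun e0 => hf0 (S.B.eg_inj S.hc hff (by norm_num) (e0.trans (S.B.eg_zero S.hc).symm))) hh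
  have h0 : ztB (i ^^^ e) = true := by
    rw [← S.isConj_eg hie]
    exact isConj_iff.2 ⟨a, hee⟩
  simp only [dB, h0, key 2 rfl (by norm_num), key 4 rfl (by norm_num), key 6 rfl (by norm_num), Bool.and_self]

/-! ### Elements of Q -/

theorem comm_q (a b : ↥(QG Q)) : (a : G) * b = b * a ↔ hf (S.D.vec a) (S.D.vec b) + hf (S.D.vec b) (S.D.vec a) = 0 := by
  rw [← Bp_hf]
  have h := Bp_chi S.D a b
  have hl : Bp (S.D.vec a) (S.D.vec b) < 2 := Nat.mod_lt _ (by norm_num)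
  unfold Ctx.chi at h
  rcases (show Bp (S.D.vec a) (S.D.vec b) = 0 ∨ Bp (S.D.vec a) (S.D.vec b) = 1 by omega) with e | e <;>
    rw [e] at h ⊢ <;> split_ifs at h with hh
  · simp [hh]
  · exact absurd h (by decide)
  · exact absurd h (by decide)
  · simp [hh]

theorem eg_small {δ x : ℕ} (hδ : δ < 2) (hx : x < 64) :
    S.eg (δ + 2 * x) = ((zq S.D ^ δ * uq S.cv (vd x) : ↥(QG Q)) : G) := by
  have h := S.B.El_parts hδ (k := 0) hx
  rw [S.B.bp_zero, mul_one, mul_zero, add_zero, ← toC_zq S.D, uC, ← map_pow, ← map_mul] at h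
  exact congrArg Subtype.val h

theorem eg_even {x : ℕ} (hx : x < 64) : S.eg (2 * x) = (uq S.cv (vd x) : G) := by
  have h := S.eg_small (δ := 0) (by norm_num) hx
  rw [zero_add, pow_zero, one_mul] at h
  exact h

theorem mem_C_q {q : ↥(QG Q)} : (q : G) ∈ S.C ↔ hf (S.D.vec q) (bA 0) = 0 := by
  have e2 : S.eg 2 = (uq S.cv (bA 0) : G) := by rw [← vd_eight.2.1]; exact S.eg_even (x := 1) (by norm_num)
  have e4 : S.eg 4 = (uq S.cv (K4.w • bA 0) : G) := by
    rw [← vd_eight.2.2.1]; exact S.eg_even (x := 2) (by norm_num)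
  rw [S.mem_C, e2, e4, S.comm_q, S.comm_q, vec_uq S.cv S.hc, vec_uq S.cv S.hc, hf_smulr, hf_smull,
    hf_swap (S.D.vec q) (bA 0)]
  generalize hf (S.D.vec q) (bA 0) = h
  revert h
  decide

/-- The central part with a given parity. -/
noncomputable def zk (δ : K4) : ↥(QG Q) := if δ = 0 then 1 else zq S.D

theorem zk_pow (n : ℕ) : zq S.D ^ n = S.zk (n : K4) := by
  rw [← zq_pow_mod, ← cast_mod2, zk]
  rcases Nat.mod_two_eq_zero_or_one n with e | e <;> simp [e]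

theorem zk_mul {a b : K4} (ha : a * a = a) (hb : b * b = b) : S.zk a * S.zk b = S.zk (a + b) := by
  rcases (by decide : ∀ a : K4, a * a = a → a = 0 ∨ a = 1) a ha with rfl | rfl <;>
    rcases (by decide : ∀ a : K4, a * a = a → a = 0 ∨ a = 1) b hb with rfl | rfl <;>
    simp [zk, zq_sq, k4_two]

theorem vec_zk (δ : K4) : S.D.vec (S.zk δ) = 0 := by
  unfold zk
  split_ifs
  · exact S.D.vec_one
  · exact vec_zq S.D

/-- The representative in Q. -/
noncomputable def qv (α : K4) (y : V4) : ↥(QG Q) := uq S.cv (up y) * S.zk (α + K4.w * hf y y)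

theorem vec_qv (α : K4) (y : V4) : S.D.vec (S.qv α y) = up y := by
  rw [qv, S.D.vec_mul, vec_uq S.cv S.hc, S.vec_zk, add_zero]

theorem qv_mem (α : K4) (y : V4) : (S.qv α y : G) ∈ S.C := S.mem_C_q.2 (by rw [S.vec_qv]; exact up_perp y)

theorem qv_mul {a b : K4} {u v : V4} (hu : Ok a u) (hv : Ok b v) :
    S.qv a u * S.qv b v = S.qv (a + b + hf v u) (u + v) := by
  have hcm : ∀ δ w, S.zk δ * w = w * S.zk δ := fun δ w => by
    unfold zk; split_ifs
    · rw [one_mul, mul_one]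
    · exact (zq_comm S.D w).symm
  unfold qv
  rw [up_add, mul_assoc, ← mul_assoc (S.zk _), hcm, mul_assoc, ← mul_assoc, uq_mul S.cv S.hc, S.zk_pow, Bp_hf]
  have hBB : hf (K4.v • up u) (K4.w • up v) + hf (K4.w • up v) (K4.v • up u) = K4.w * hf u v + K4.v * (hf u v * hf u v) := by
    rw [hf_smull, hf_smulr, hf_smull, hf_smulr, hf_up, hf_up, hf_swap u v]
    generalize hf u v = h
    revert h
    decide
  unfold Ok at hu hv
  have hd : ∀ (x h : K4), x * x + x = h → (x + K4.w * h) * (x + K4.w * h) = x + K4.w * h := by decide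
  have e1 := hd _ _ hu
  have e2 := hd _ _ hv
  have e3 : (K4.w * hf u v + K4.v * (hf u v * hf u v)) * (K4.w * hf u v + K4.v * (hf u v * hf u v)) =
      K4.w * hf u v + K4.v * (hf u v * hf u v) := by
    generalize hf u v = h; revert h; decide
  rw [hBB, mul_assoc, S.zk_mul e1 e2, S.zk_mul e3 ((by decide : ∀ x y : K4, x * x = x → y * y = y →
    (x + y) * (x + y) = x + y) _ _ e1 e2)]
  congr 2
  rw [hf_addl, hf_addr, hf_addr, hf_swap u v]
  generalize hf u v = h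
  generalize hf u u = p
  generalize hf v v = q
  revert h
  intro h
  linear_combination ((by decide : ∀ h : K4,
    K4.w * h + K4.v * (h * h) = h * h + K4.w * (h + h * h)) h)

/-- An element of the image of Q. -/
noncomputable def qel (α : K4) (y : V4) : S.Cb := S.pr (S.qv α y)

theorem qel_mul {a b : K4} {u v : V4} (hu : Ok a u) (hv : Ok b v) :
    S.qel a u * S.qel b v = S.qel (a + b + hf v u) (u + v) := by
  rw [qel, qel, qel, ← S.pr_mul (S.qv_mem _ _) (S.qv_mem _ _), ← Subgroup.coe_mul, S.qv_mul hu hv]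

theorem qel_zero : S.qel 0 0 = 1 := by
  rw [qel, qv, up_zero, uq_zero S.cv S.hc, hf_zerol, mul_zero, add_zero, zk, if_pos rfl, mul_one]
  exact S.pr_one

theorem qel_one : S.qel 1 0 = S.zb := by
  rw [qel, qv, up_zero, uq_zero S.cv S.hc, hf_zerol, mul_zero, add_zero, zk, if_neg (by decide), one_mul]
  rfl

theorem qel_inv {a : K4} {u : V4} (hu : Ok a u) : (S.qel a u)⁻¹ = S.qel (a + hf u u) u := by
  have hu' : Ok (a + hf u u) u := by
    unfold Ok at *
    rw [← hu]; exact (by decide : ∀ a : K4, (a + (a * a + a)) * (a + (a * a + a)) + (a + (a * a + a)) = a * a + a) a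
  refine inv_eq_of_mul_eq_one_right ?_
  rw [S.qel_mul hu hu', show u + u = 0 from funext fun _ => k4_two _,
    show a + (a + hf u u) + hf u u = 0 from (by decide : ∀ a h : K4, a + (a + h) + h = 0) _ _, S.qel_zero]

theorem qel_comm_zb {a : K4} {u : V4} (hu : Ok a u) : S.qel a u * S.zb = S.zb * S.qel a u := by
  rw [← S.qel_one, S.qel_mul hu (ok_zero (Or.inr rfl)), S.qel_mul (ok_zero (Or.inr rfl)) hu, hf_zerol, hf_zeror,
    zero_add, add_zero, add_zero, add_zero, add_comm a]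

theorem E_vec {e : ℕ} (he : eB e = true) :
    ∃ q : ↥(QG Q), (q : G) = S.eg e ∧ lo (S.D.vec q) = 0 ∧ (S.D.vec q = 0 → e = 0) := by
  rcases (eB_iff e).1 he with rfl | rfl | rfl | rfl
  · exact ⟨1, (S.B.eg_zero S.hc).symm, by rw [S.D.vec_one]; decide +kernel, fun _ => rfl⟩
  · refine ⟨_, (S.eg_even (x := 1) (by norm_num)).symm, ?_, fun h => ?_⟩
    · rw [vec_uq S.cv S.hc]; decide +kernel
    · rw [vec_uq S.cv S.hc] at h; exact absurd (vd_inj _ (by norm_num) h) (by decide)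
  · refine ⟨_, (S.eg_even (x := 2) (by norm_num)).symm, ?_, fun h => ?_⟩
    · rw [vec_uq S.cv S.hc]; decide +kernel
    · rw [vec_uq S.cv S.hc] at h; exact absurd (vd_inj _ (by norm_num) h) (by decide)
  · refine ⟨_, (S.eg_even (x := 3) (by norm_num)).symm, ?_, fun h => ?_⟩
    · rw [vec_uq S.cv S.hc]; decide +kernel
    · rw [vec_uq S.cv S.hc] at h; exact absurd (vd_inj _ (by norm_num) h) (by decide)

theorem qel_inj {a b : K4} {u v : V4} (hu : Ok a u) (hv : Ok b v) (h : S.qel a u = S.qel b v) :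
    a = b ∧ u = v := by
  obtain ⟨_, ⟨e, he, rfl⟩, he'⟩ := (S.pr_eq_iff (S.qv_mem a u) (S.qv_mem b v)).1 h
  obtain ⟨q, hq, hq0, hq1⟩ := S.E_vec he
  rw [← hq, ← Subgroup.coe_mul] at he'
  have e1 : S.qv b v = S.qv a u * q := Subtype.ext he'
  have e2 := congrArg S.D.vec e1
  rw [S.D.vec_mul, S.vec_qv, S.vec_qv] at e2
  have e3 := congrArg lo e2
  rw [lo_add, hq0, add_zero, lo_up, lo_up] at e3
  subst e3
  have e4 := hq1 (left_eq_add.1 e2)
  have h1 : q = 1 := Subtype.ext (by rw [hq, e4]; exact S.B.eg_zero S.hc)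
  rw [h1, mul_one] at e1
  refine ⟨?_, rfl⟩
  have e5 := mul_left_cancel e1
  unfold zk at e5
  have hne : (zq S.D) ≠ 1 := fun e => S.D.ctx.xs.ne_one (congrArg Subtype.val e :)
  unfold Ok at hu hv
  split_ifs at e5 with h1 h2 h3
  · exact ((by decide : ∀ a b h : K4, a + h = 0 → b + h = 0 → a = b) _ _ _ h2 h1)
  · exact absurd e5.symm hne
  · exact absurd e5 hne
  · exact ((by decide : ∀ a b h : K4, a * a + a = h → b * b + b = h → a + K4.w * h ≠ 0 → b + K4.w * h ≠ 0 → a = b)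
      _ _ _ hu hv (by assumption) (by assumption))

theorem uq_mem_C {x : V6} (h : hf x (bA 0) = 0) : (uq S.cv x : G) ∈ S.C :=
  S.mem_C_q.2 (by rw [vec_uq S.cv S.hc]; exact h)

theorem pr_uq {x : V6} (h : hf x (bA 0) = 0) :
    S.pr (uq S.cv x : G) = S.pr (uq S.cv (up (lo x)) : G) := by
  set l := x 0
  have hl : hf (l • bA 0) (bA 0) = 0 := by rw [hf_smull, show hf (bA 0) (bA 0) = 0 by decide +kernel, mul_zero]
  have hE : (uq S.cv (l • bA 0) : G) ∈ S.E := by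
    rcases (by decide : ∀ l : K4, l = 0 ∨ l = 1 ∨ l = K4.w ∨ l = K4.v) l with e | e | e | e <;> rw [e]
    · rw [zero_smul, uq_zero S.cv S.hc]; exact one_mem _
    · exact ⟨2, rfl, by rw [one_smul, ← vd_eight.2.1]; exact S.eg_even (x := 1) (by norm_num)⟩
    · exact ⟨4, rfl, by rw [← vd_eight.2.2.1]; exact S.eg_even (x := 2) (by norm_num)⟩
    · exact ⟨6, rfl, by rw [← vd_eight.2.2.2]; exact S.eg_even (x := 3) (by norm_num)⟩
  have hm := uq_mul S.cv S.hc (up (lo x)) (l • bA 0)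
  rw [← perp_eta h, S.zk_pow, Bp_hf, hf_smull, hf_smulr, hf_smulr, hf_smull, hf_smull, hf_smulr,
    up_perp, hf_symm_zero (up_perp _), mul_zero, mul_zero, mul_zero, mul_zero, mul_zero, mul_zero, add_zero, zk,
    if_pos rfl, mul_one] at hm
  rw [← hm, Subgroup.coe_mul, S.pr_mul (S.uq_mem_C (up_perp _)) (S.E_le_C hE), S.pr_E hE, mul_one]

/-! ### Elements of the centraliser of the central involution -/

/-- Lying over an element of the unitary group of the four-space. -/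
def Over (r : S.Cb) (A : S4) : Prop :=
  ∃ (a : ↥(centralizer ({z} : Set G))) (g : Ke), a.1 ∈ S.C ∧ r = S.pr a.1 ∧
    (QuotientGroup.mk a : _ ⧸ Q) = S.D.co.iota (bA 0) g ∧ phi g = A

/-- Lying over an element and commuting with the element of order three. -/
def Lift (A : S4) (r : S.Cb) : Prop :=
  ∃ (a : ↥(centralizer ({z} : Set G))) (g : Ke), a ∈ S.cv.L ∧ a.1 ∈ S.C ∧ r = S.pr a.1 ∧
    (QuotientGroup.mk a : _ ⧸ Q) = S.D.co.iota (bA 0) g ∧ phi g = A

theorem iota_injective : Function.Injective (S.D.co.iota (bA 0)) := fun a b h => by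
  refine Subtype.ext (ext_bv fun j => ?_)
  rw [← S.D.co.iota_spec, ← S.D.co.iota_spec, h]

theorem Lift.over {A : S4} {r : S.Cb} (h : S.Lift A r) : S.Over r A := by
  obtain ⟨a, g, -, h1, h2, h3, h4⟩ := h
  exact ⟨a, g, h1, h2, h3, h4⟩

theorem Over.mul {r s : S.Cb} {A A' : S4} (h : S.Over r A) (h' : S.Over s A') : S.Over (r * s) (A * A') := by
  obtain ⟨a, g, ha, rfl, hk, rfl⟩ := h
  obtain ⟨a', g', ha', rfl, hk', rfl⟩ := h'
  exact ⟨a * a', g * g', mul_mem ha ha', (S.pr_mul ha ha').symm, by rw [QuotientGroup.mk_mul, hk, hk', map_mul],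
    map_mul _ _ _⟩

theorem Over.inv {r : S.Cb} {A : S4} (h : S.Over r A) : S.Over r⁻¹ A⁻¹ := by
  obtain ⟨a, g, ha, rfl, hk, rfl⟩ := h
  exact ⟨a⁻¹, g⁻¹, inv_mem ha, (S.pr_inv ha).symm, by rw [QuotientGroup.mk_inv, hk, map_inv], map_inv _ _⟩

theorem Over.comm {r : S.Cb} {A : S4} (h : S.Over r A) : r * S.zb = S.zb * r := by
  obtain ⟨a, g, ha, rfl, -⟩ := h
  exact (S.comm_zb_iff ha).2 (mem_centralizer_one.1 a.2)

theorem E_le_Q {a : ↥(centralizer ({z} : Set G))} (h : a.1 ∈ S.E) : a ∈ Q := by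
  obtain ⟨e, he, hee⟩ := h
  obtain ⟨q, hq, -⟩ := S.E_vec he
  rw [show a = toC S.D q from Subtype.ext (hee.symm.trans hq.symm)]
  exact toC_mem S.D q

theorem Over.unique {r : S.Cb} {A A' : S4} (h : S.Over r A) (h' : S.Over r A') : A = A' := by
  obtain ⟨a, g, ha, rfl, hk, rfl⟩ := h
  obtain ⟨a', g', ha', e, hk', rfl⟩ := h'
  obtain ⟨x, hx, hx'⟩ := (S.pr_eq_iff ha ha').1 e
  have : a⁻¹ * a' ∈ Q := S.E_le_Q (by
    show a.1⁻¹ * a'.1 ∈ S.E
    rw [hx', inv_mul_cancel_left]; exact hx)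
  rw [← QuotientGroup.eq, hk, hk'] at this
  rw [S.iota_injective this]

theorem over_qel {α : K4} {y : V4} : S.Over (S.qel α y) 1 :=
  ⟨toC S.D (S.qv α y), 1, S.qv_mem α y, rfl, by
    rw [map_one]; exact (QuotientGroup.eq_one_iff _).2 (toC_mem _ _), map_one _⟩

theorem lift_mem_C {a : ↥(centralizer ({z} : Set G))} {g : Ke} (hl : a ∈ S.cv.L)
    (hk : (QuotientGroup.mk a : _ ⧸ Q) = S.D.co.iota (bA 0) g) : a.1 ∈ S.C := by
  have h : ∀ c : K4, a * uC S.cv (c • bA 0) * a⁻¹ = uC S.cv (c • bA 0) := fun c => by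
    rw [uC, toC_conj, conj_uq S.cv S.hc (S.cv.mem_L.1 hl) (fun d v => by
      rw [hk, S.D.co.iota_spec, S.D.co.iota_spec, act_smul]), hk, S.D.co.iota_spec, act_smul, g.2.2]
  have h2 := congrArg Subtype.val (mul_inv_eq_iff_eq_mul.1 (h 1))
  have h4 := congrArg Subtype.val (mul_inv_eq_iff_eq_mul.1 (h K4.w))
  rw [one_smul] at h2
  have e2 : S.eg 2 = (uq S.cv (bA 0) : G) := by rw [← vd_eight.2.1]; exact S.eg_even (x := 1) (by norm_num)
  have e4 : S.eg 4 = (uq S.cv (K4.w • bA 0) : G) := by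
    rw [← vd_eight.2.2.1]; exact S.eg_even (x := 2) (by norm_num)
  rw [S.mem_C, e2, e4]
  exact ⟨h2, h4⟩

theorem exists_lift (A : S4) : ∃ r, S.Lift A r := by
  obtain ⟨g, rfl⟩ := phi_bijective.2 A
  obtain ⟨a, ha, e⟩ := S.cv.exists_lift (r := S.D.co.iota (bA 0) g) (S.D.co.tau6_mem _)
  exact ⟨_, a, g, ha, S.lift_mem_C ha e, rfl, e, rfl⟩

theorem Lift.mul {r s : S.Cb} {A A' : S4} (h : S.Lift A r) (h' : S.Lift A' s) : S.Lift (A * A') (r * s) := by
  obtain ⟨a, g, hl, ha, rfl, hk, rfl⟩ := h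
  obtain ⟨a', g', hl', ha', rfl, hk', rfl⟩ := h'
  exact ⟨a * a', g * g', mul_mem hl hl', mul_mem ha ha', (S.pr_mul ha ha').symm,
    by rw [QuotientGroup.mk_mul, hk, hk', map_mul], map_mul _ _ _⟩

theorem Lift.inv {r : S.Cb} {A : S4} (h : S.Lift A r) : S.Lift A⁻¹ r⁻¹ := by
  obtain ⟨a, g, hl, ha, rfl, hk, rfl⟩ := h
  exact ⟨a⁻¹, g⁻¹, inv_mem hl, inv_mem ha, (S.pr_inv ha).symm, by rw [QuotientGroup.mk_inv, hk, map_inv],
    map_inv _ _⟩

theorem lift_one : S.Lift 1 1 :=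
  ⟨1, 1, one_mem _, one_mem _, S.pr_one.symm, by rw [map_one]; rfl, map_one _⟩

theorem lift_zb : S.Lift 1 S.zb :=
  ⟨zel z, 1, S.cv.z_mem, S.z_mem_C, rfl, by
    rw [map_one]; exact (QuotientGroup.eq_one_iff _).2 S.D.zel_mem, map_one _⟩

theorem Lift.cases {r s : S.Cb} {A : S4} (h : S.Lift A r) (h' : S.Lift A s) : s = r ∨ s = r * S.zb := by
  obtain ⟨a, g, hl, ha, rfl, hk, rfl⟩ := h
  obtain ⟨a', g', hl', ha', rfl, hk', e⟩ := h'
  obtain rfl := phi_bijective.1 e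
  rcases S.cv.inf_Q (mul_mem (inv_mem hl) hl') (QuotientGroup.eq.1 (hk.trans hk'.symm)) with e | e
  · exact Or.inl (by rw [inv_mul_eq_one.1 e])
  · refine Or.inr ?_
    rw [inv_mul_eq_iff_eq_mul.1 e]
    exact S.pr_mul ha S.z_mem_C

theorem Lift.conj_qel {r : S.Cb} {A : S4} (h : S.Lift A r) (α : K4) (y : V4) :
    r * S.qel α y * r⁻¹ = S.qel α (act4 A y) := by
  obtain ⟨a, g, hl, ha, rfl, hk, rfl⟩ := h
  rw [qel, qel, ← S.pr_conj ha (S.qv_mem _ _)]
  unfold qv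
  rw [act4_hf]
  set δ := α + K4.w * hf y y
  have hz : (S.zk δ : G) ∈ S.C := S.mem_C_q.2 (by rw [S.vec_zk, hf_zerol])
  have hzc : a.1 * (S.zk δ : G) = S.zk δ * a.1 := by
    unfold zk; split_ifs
    · simp
    · exact mem_centralizer_one.1 a.2
  rw [Subgroup.coe_mul, show a.1 * ((uq S.cv (up y) : G) * S.zk δ) * a.1⁻¹ =
    a.1 * (uq S.cv (up y) : G) * a.1⁻¹ * (a.1 * S.zk δ * a.1⁻¹) by group, hzc, mul_inv_cancel_right]
  have hu : a.1 * (uq S.cv (up y) : G) * a.1⁻¹ = (uq S.cv (act g.1 (up y)) : G) := by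
    have h := conj_uq S.cv S.hc (S.cv.mem_L.1 hl) (fun d v => by
      rw [hk, S.D.co.iota_spec, S.D.co.iota_spec, act_smul]) (up y)
    rw [hk, S.D.co.iota_spec] at h
    exact congrArg Subtype.val h
  have hp := act_perp g (up_perp y)
  rw [hu, S.pr_mul (S.uq_mem_C hp) hz, S.pr_uq hp, lo_act g (up_perp y), lo_up, Subgroup.coe_mul,
    S.pr_mul (S.uq_mem_C (up_perp _)) hz]

theorem Lift.comm {r : S.Cb} {A : S4} (h : S.Lift A r) : r * S.zb = S.zb * r := Over.comm S (Lift.over S h)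

theorem exists_form {r : S.Cb} (hr : r * S.zb = S.zb * r) :
    ∃ α y A s, Ok α y ∧ S.Lift A s ∧ r = S.qel α y * s := by
  obtain ⟨c, hcC, rfl⟩ := S.pr_surj r
  set cH : ↥(centralizer ({z} : Set G)) := ⟨c, mem_centralizer_one.2 ((S.comm_zb_iff hcC).1 hr)⟩
  have hfix : ∀ x < 64, c * S.eg (2 * x) = S.eg (2 * x) * c →
      S.D.co.r6 (QuotientGroup.mk cH) (vd x) = vd x := fun x hx hcomm => by
    rw [S.eg_even hx] at hcomm
    have he : S.D.ctx.conjQ cH (uq S.cv (vd x)) = uq S.cv (vd x) :=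
      Subtype.ext (mul_inv_eq_iff_eq_mul.2 hcomm)
    have h := S.D.vec_conj cH (uq S.cv (vd x))
    rw [he, vec_uq S.cv S.hc] at h
    exact h.symm
  obtain ⟨h2, h4⟩ := S.mem_C.1 hcC
  have f1 := hfix 1 (by norm_num) h2
  have f2 := hfix 2 (by norm_num) h4
  rw [vd_eight.2.1] at f1
  rw [vd_eight.2.2.1] at f2
  have hK : (QuotientGroup.mk cH : _ ⧸ Q) ∈ S.D.env.K := by
    by_contra hne
    rw [S.D.semi_of_not_mem S.hF hne, f1] at f2
    exact absurd f2 (by decide +kernel)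
  obtain ⟨k, hk⟩ := S.D.co.exists_tau6 hK
  rw [← hk, S.D.co.tau6_spec] at f1
  let g : Ke := ⟨k.1, k.2, f1⟩
  have hkg : (QuotientGroup.mk cH : _ ⧸ Q) = S.D.co.iota (bA 0) g := hk.symm
  obtain ⟨l, hl, el⟩ := S.cv.exists_lift (r := S.D.co.iota (bA 0) g) (S.D.co.tau6_mem _)
  have hlC := S.lift_mem_C hl el
  obtain ⟨q, hq⟩ := toC_surj S.D (a := cH * l⁻¹) (QuotientGroup.eq_one_iff _ |>.1 (by
    rw [QuotientGroup.mk_mul, QuotientGroup.mk_inv, hkg, el, mul_inv_cancel]))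
  have hqG : (q : G) = c * l.1⁻¹ := congrArg Subtype.val hq
  have hqC : (q : G) ∈ S.C := hqG ▸ mul_mem hcC (inv_mem hlC)
  have hperp := S.mem_C_q.1 hqC
  set y := lo (S.D.vec q) with hy
  have hdec : ∃ δ : K4, δ * δ = δ ∧ S.pr (q : G) = S.pr ((uq S.cv (up y) * S.zk δ : ↥(QG Q)) : G) := by
    rcases eq_uq S.cv S.hc q with e | e
    · refine ⟨0, by decide, ?_⟩
      rw [zk, if_pos rfl, mul_one, ← S.pr_uq hperp, ← e]
    · refine ⟨1, by decide, ?_⟩
      have hz : (zq S.D : G) ∈ S.C := S.z_mem_C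
      conv_lhs => rw [e, Subgroup.coe_mul, S.pr_mul (S.uq_mem_C hperp) hz, S.pr_uq hperp]
      rw [zk, if_neg (by decide), Subgroup.coe_mul, S.pr_mul (S.uq_mem_C (up_perp _)) hz]
  obtain ⟨δ, hδ, hpr⟩ := hdec
  refine ⟨δ + K4.w * hf y y, y, phi g, S.pr l.1, ?_, ⟨l, g, hl, hlC, rfl, el, rfl⟩, ?_⟩
  · unfold Ok
    exact (by decide : ∀ d h : K4, d * d = d → h * h = h → (d + K4.w * h) * (d + K4.w * h) + (d + K4.w * h) = h)
      δ _ hδ (hf_self_real y)
  · rw [qel, qv, add_assoc, k4_two, add_zero, ← hpr, ← S.pr_mul hqC hlC, hqG, inv_mul_cancel_right]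

theorem lift_eq_qel {α : K4} {y : V4} {A : S4} {s : S.Cb} (h : Ok α y) (hs : S.Lift A s) (e : s = S.qel α y) :
    A = 1 ∧ y = 0 := by
  have hA : A = 1 := Over.unique S (Lift.over S hs) (e ▸ S.over_qel)
  subst hA
  refine ⟨rfl, ?_⟩
  rcases Lift.cases S S.lift_one hs with e' | e'
  · exact (S.qel_inj h (ok_zero (Or.inl rfl)) (by rw [← e, e', S.qel_zero])).2
  · exact (S.qel_inj h (ok_zero (Or.inr rfl)) (by rw [← e, e', one_mul, S.qel_one])).2

theorem lift_bp {k : ℕ} (hk : k < 16) : S.Lift (phi (ak k hk)) (S.pr (S.eg (128 * k))) := by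
  have e : S.B.El (128 * k) = S.B.bp k := by
    have h := S.B.El_parts (δ := 0) (x := 0) (k := k) (by norm_num) (by norm_num)
    rw [mul_zero, zero_add, zero_add, pow_zero, one_mul, show vd 0 = 0 by decide +kernel, uC, uq_zero S.cv S.hc, map_one,
      one_mul] at h
    exact h
  refine ⟨S.B.bp k, ak k hk, (S.B.bp_mem k).1, ?_, ?_, ?_, rfl⟩
  · rw [← e]; exact S.eg_mem_C _
  · rw [← e]; rfl
  · exact S.B.mk_bp k hk

theorem eg_split (i : ℕ) :
    S.eg i = ((zq S.D ^ (i % 2) * uq S.cv (vd (i / 2 % 64)) : ↥(QG Q)) : G) * S.eg (128 * (i / 128)) := by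
  have h := S.B.El_parts (δ := 0) (x := 0) (k := i / 128) (by norm_num) (by norm_num)
  rw [mul_zero, zero_add, zero_add, pow_zero, one_mul, show vd 0 = 0 by decide +kernel, uC, uq_zero S.cv S.hc, map_one,
    one_mul] at h
  show (S.B.El i).1 = _ * (S.B.El (128 * (i / 128))).1
  rw [h]
  rfl

end Data

end Cfsg.Agent.LargeFischer.Six
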