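import Cfsg.Agent.Lib.LargeFischer.SixLow

/-! A member of the class not commuting with the central involution, fixed by the element of order three. -/

set_option autoImplicit false
set_option maxRecDepth 100000
set_option maxHeartbeats 200000
set_option synthInstance.maxSize 2000

namespace Cfsg.Agent.LargeFischer.Six

open Cfsg.Agent.RigidGraph.He Cfsg.Agent.U43InU62 Cfsg.Agent.LargeExtra Cfsg.Agent.LargeFischer.Big
open Subgroup

attribute [local irreducible] tm elN TT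

/-- A map of the four-space keeping the structure, of order three. -/
structure Rot where
  f : V4 → V4
  add : ∀ x y, f (x + y) = f x + f y
  smul : ∀ (s : K4) x, f (s • x) = s • f x
  herm : ∀ x y, hf (f x) (f y) = hf x y
  cube : ∀ x, f (f (f x)) = x

namespace Rot

variable (R : Rot)

theorem orth {c d : V4} {μ ν : K4} (hμ : μ ≠ 0) (hν : ν ≠ 0) (hc : R.f c = μ • c) (hd : R.f d = ν • d)
    (h : hf c d ≠ 0) : μ = ν := by
  have e := R.herm c d
  rw [hc, hd, hf_smull, hf_smulr, ← mul_assoc] at e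
  exact (by decide : ∀ m n h : K4, m ≠ 0 → n ≠ 0 → h ≠ 0 → m * (n * n) * h = h → m = n) μ ν _ hμ hν h e

theorem exists_partner {c : V4} {μ : K4} (hiso : hf c c = 0) (hμ : μ ≠ 0) (hc : R.f c = μ • c) (hne : c ≠ 0) :
    ∃ d, hf d d = 0 ∧ hf c d ≠ 0 ∧ R.f d = μ • d := by
  obtain ⟨y, -, hy⟩ := exists_non' hne
  set d' := y + (μ * μ) • R.f y + μ • R.f (R.f y) with hd'
  have h1 : hf c (R.f y) = μ * μ * hf c y := by
    have e := R.herm c y
    rw [hc, hf_smull] at e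
    rw [← e, ← mul_assoc, (by decide : ∀ m : K4, m ≠ 0 → m * m * m = 1) μ hμ, one_mul]
  have h2 : hf c (R.f (R.f y)) = μ * hf c y := by
    have e := R.herm c (R.f y)
    rw [hc, hf_smull, h1] at e
    calc hf c (R.f (R.f y)) = μ * μ * (μ * hf c (R.f (R.f y))) := by
          rw [← mul_assoc, (by decide : ∀ m : K4, m ≠ 0 → m * m * m = 1) μ hμ, one_mul]
      _ = μ * hf c y := by rw [e]; exact (by decide : ∀ m h : K4, m * m * (m * m * h) = m * h) μ _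
  have h3 : hf c d' = hf c y := by
    rw [hd', hf_addr, hf_addr, hf_smulr, hf_smulr, h1, h2]
    exact (by decide : ∀ m h : K4, m ≠ 0 → h + m * m * (m * m) * (m * m * h) + m * m * (m * h) = h) μ _ hμ
  have hfd : R.f d' = μ • d' := by
    rw [hd', R.add, R.add, R.smul, R.smul, R.cube, smul_add, smul_add, smul_smul, smul_smul,
      (by decide : ∀ m : K4, m ≠ 0 → m * (m * m) = 1) μ hμ, one_smul]
    abel
  have hne' : hf c y ≠ 0 := hf_ne hy
  obtain ⟨t, ht⟩ := (by decide : ∀ n h : K4, n * n = n → h ≠ 0 → ∃ t : K4, n + t * h + (t * h) * (t * h) = 0)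
    (hf d' d') (hf c d') (hf_self_real _) (h3 ▸ hne')
  refine ⟨d' + t • c, ?_, ?_, ?_⟩
  · simp only [hf_addl, hf_addr, hf_smull, hf_smulr, hiso, hf_swap c d', mul_zero, add_zero]
    rw [← ht]
    generalize hf d' d' = n
    generalize hf c d' = h
    exact (by decide : ∀ n t h : K4, n + t * h + t * t * (h * h) = n + t * h + t * h * (t * h)) n t h
  · rw [hf_addr, hf_smulr, hiso, mul_zero, add_zero, h3]; exact hne'
  · rw [R.add d' (t • c), R.smul, hfd, hc, smul_comm t μ c, ← smul_add]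

end Rot

theorem k4_fix : ∀ f : K4 → K4, (∀ a, f (f (f a)) = a) → ∃ a, f a = a := by decide +kernel

theorem span_of_perp {c1 c2 x : V4} (h1 : c1 ≠ 0) (i1 : hf c1 c1 = 0) (i2 : hf c2 c2 = 0) (h12 : hf c2 c1 = 0)
    (hn : ∀ s : K4, c2 ≠ s • c1) (ix : hf x x = 0) (x1 : hf x c1 = 0) (x2 : hf x c2 = 0) :
    ∃ p q : K4, x = p • c1 + q • c2 := by
  obtain ⟨A, s, hs, hA⟩ := exists_to_c0 h1 i1
  have hp : ∀ v, hf v c1 = 0 → hf (act4 A v) c0 = 0 := fun v hv => by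
    have := act4_hf A v c1
    rw [hA, hf_smulr, hv] at this
    exact (mul_eq_zero.1 this).resolve_left (mul_ne_zero hs hs)
  obtain ⟨B, hB, σ, τ, hl⟩ := exists_to_line (c := act4 A c2) (by rw [act4_hf, i2]) (hp _ h12) fun r e => hn (r * s⁻¹) (by
    have e2 : act4 A c2 = act4 A ((r * s⁻¹) • c1) := by
      rw [e, act4_smul, hA, smul_smul, inv_mul_cancel_right₀ hs]
    have e3 := congrArg (act4 A⁻¹) e2
    rwa [act4_inv, act4_inv] at e3)
  set P := B * A with hP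
  have hP1 : act4 P c1 = s • c0 := by rw [act4_mul, hA, act4_smul, hB]
  have hP2 : act4 P c2 = σ • c0 + τ • d1 := by rw [act4_mul]; exact hl
  have hτ : τ ≠ 0 := fun e => by
    rw [e, zero_smul, add_zero] at hP2
    refine hn (σ * s⁻¹) ?_
    have e2 : act4 P c2 = act4 P ((σ * s⁻¹) • c1) := by
      rw [hP2, act4_smul, hP1, smul_smul, inv_mul_cancel_right₀ hs]
    have e3 := congrArg (act4 P⁻¹) e2
    rwa [act4_inv, act4_inv] at e3
  have a0 : hf (act4 P x) c0 = 0 := by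
    have := act4_hf P x c1
    rw [hP1, hf_smulr, x1] at this
    exact (mul_eq_zero.1 this).resolve_left (mul_ne_zero hs hs)
  have a1 : hf (act4 P x) d1 = 0 := by
    have := act4_hf P x c2
    rw [hP2, hf_addr, hf_smulr, hf_smulr, a0, mul_zero, zero_add, x2] at this
    exact (mul_eq_zero.1 this).resolve_left (mul_ne_zero hτ hτ)
  obtain ⟨u, t, hx⟩ := line_max' (by rw [act4_hf, ix]) a0 a1
  refine ⟨(u + t * τ⁻¹ * σ) * s⁻¹, t * τ⁻¹, ?_⟩
  rw [← act4_inv P x, ← act4_inv P (_ + _)]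
  congr 1
  rw [hx, act4_add, act4_smul, act4_smul, hP1, hP2, smul_smul, inv_mul_cancel_right₀ hs, smul_add, smul_smul,
    smul_smul, inv_mul_cancel_right₀ hτ, add_smul]
  calc u • c0 + t • d1 = u • c0 + ((t * τ⁻¹ * σ) • c0 + (t * τ⁻¹ * σ) • c0) + t • d1 := by
        rw [v4_add_self, add_zero]
    _ = _ := by abel

theorem swap_two {a b : V4} (ha : hf a a = 0) (h : hf a b ≠ 0) : tr a (tr b a) = hf a b • b := by
  rw [tr_swap h, tr_smul, tr_invol ha]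

variable {G : Type*} [Group G] [Finite G] {z : G} {Q : Subgroup ↥(centralizer ({z} : Set G))} [Q.Normal]

namespace Data

variable (S : Data z Q)

/-- Permuting the four-group like the element of order three. -/
def Turns (g : G) : Prop := g * S.eg 2 * g⁻¹ = S.eg 4 ∧ g * S.eg 4 * g⁻¹ = S.eg 6

/-- The element of order three. -/
noncomputable abbrev X : G := S.cv.x.1

theorem X_eg (i : ℕ) : S.X * S.eg i * S.X⁻¹ = S.eg (xi i) := congrArg Subtype.val (S.B.xi_spec S.hc)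

theorem turns_X : S.Turns S.X := by
  obtain ⟨a, b, -⟩ := xi_E
  exact ⟨by rw [S.X_eg, a], by rw [S.X_eg, b]⟩

/-- Conjugation on the quotient. -/
noncomputable def gcj (g : G) (r : S.Cb) : S.Cb := S.pr (g * (S.pr_surj r).choose * g⁻¹)

variable {g : G} (hg : S.Turns g)

include hg

theorem turns_six : g * S.eg 6 * g⁻¹ = S.eg 2 := by
  obtain ⟨h2, h4⟩ := hg
  rw [show S.eg 6 = S.eg 2 * S.eg 4 from S.B.eg_xor S.hc 2 4,
    show g * (S.eg 2 * S.eg 4) * g⁻¹ = (g * S.eg 2 * g⁻¹) * (g * S.eg 4 * g⁻¹) by group, h2, h4]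
  exact (S.B.eg_xor S.hc 4 6).symm

theorem turns_E {e : G} (he : e ∈ S.E) : g * e * g⁻¹ ∈ S.E := by
  obtain ⟨i, hi, rfl⟩ := S.mem_E.1 he
  rcases (eB_iff i).1 hi with rfl | rfl | rfl | rfl
  · rw [eg, S.B.eg_zero S.hc]; simpa using one_mem S.E
  · rw [hg.1]; exact S.mem_E.2 ⟨4, rfl, rfl⟩
  · rw [hg.2]; exact S.mem_E.2 ⟨6, rfl, rfl⟩
  · rw [S.turns_six hg]; exact S.mem_E.2 ⟨2, rfl, rfl⟩

theorem turns_C {c : G} (hc : c ∈ S.C) : g * c * g⁻¹ ∈ S.C := by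
  have key : ∀ i, eB i = true → ∀ j, g * S.eg i * g⁻¹ = S.eg j → g * c * g⁻¹ * S.eg j = S.eg j * (g * c * g⁻¹) := by
    intro i hi j e
    have h := S.C_comm hc (S.mem_E.2 ⟨i, hi, rfl⟩)
    rw [← e, show g * c * g⁻¹ * (g * S.eg i * g⁻¹) = g * (c * S.eg i) * g⁻¹ by group, h]
    group
  exact S.mem_C.2 ⟨key 6 rfl 2 (S.turns_six hg), key 2 rfl 4 hg.1⟩

theorem gcj_pr {a : G} (ha : a ∈ S.C) : S.gcj g (S.pr a) = S.pr (g * a * g⁻¹) := by
  obtain ⟨hb, he⟩ := (S.pr_surj (S.pr a)).choose_spec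
  set b := (S.pr_surj (S.pr a)).choose
  show S.pr (g * b * g⁻¹) = _
  obtain ⟨e, heE, hae⟩ := (S.pr_eq_iff hb ha).1 he
  rw [show g * a * g⁻¹ = (g * b * g⁻¹) * (g * e * g⁻¹) by rw [hae]; group,
    S.pr_mul (S.turns_C hg hb) (S.E_le_C (S.turns_E hg heE)), S.pr_E (S.turns_E hg heE), mul_one]

theorem gcj_mul (r s : S.Cb) : S.gcj g (r * s) = S.gcj g r * S.gcj g s := by
  obtain ⟨a, ha, rfl⟩ := S.pr_surj r
  obtain ⟨b, hb, rfl⟩ := S.pr_surj s
  rw [← S.pr_mul ha hb, S.gcj_pr hg (mul_mem ha hb), S.gcj_pr hg ha, S.gcj_pr hg hb,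
    ← S.pr_mul (S.turns_C hg ha) (S.turns_C hg hb)]
  group

theorem gcj_inv (r : S.Cb) : S.gcj g r⁻¹ = (S.gcj g r)⁻¹ := by
  obtain ⟨a, ha, rfl⟩ := S.pr_surj r
  rw [← S.pr_inv ha, S.gcj_pr hg (inv_mem ha), S.gcj_pr hg ha, ← S.pr_inv (S.turns_C hg ha)]
  group

theorem gcj_zb (hz : g * z = z * g) : S.gcj g S.zb = S.zb := by
  rw [zb, S.gcj_pr hg S.z_mem_C, hz, mul_inv_cancel_right]

theorem gcj_Cls (hz : g * z = z * g) {r : S.Cb} (h : r ∈ S.Cls) : S.gcj g r ∈ S.Cls := by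
  obtain ⟨c, rfl⟩ := h
  exact ⟨S.gcj g c, by rw [S.gcj_mul hg, S.gcj_mul hg, S.gcj_inv hg, S.gcj_zb hg hz]⟩

theorem gcj_cube (h3 : g * g * g = 1) (r : S.Cb) : S.gcj g (S.gcj g (S.gcj g r)) = r := by
  obtain ⟨a, ha, rfl⟩ := S.pr_surj r
  have h1 := S.turns_C hg ha
  rw [S.gcj_pr hg ha, S.gcj_pr hg h1, S.gcj_pr hg (S.turns_C hg h1)]
  congr 1
  rw [show g * (g * (g * a * g⁻¹) * g⁻¹) * g⁻¹ = (g * g * g) * a * (g * g * g)⁻¹ by group, h3, one_mul, inv_one, mul_one]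

/-- The map of the four-space belonging to an element turning the four-group. -/
theorem exists_rot (hz : g * z = z * g) (h3 : g * g * g = 1) : ∃ R : Rot, ∀ a c, c ≠ 0 → hf c c = 0 →
    ∃ a', S.gcj g (S.Tl a c) = S.Tl a' (R.f c) := by
  set gH : ↥(centralizer ({z} : Set G)) := ⟨g, mem_centralizer_one.2 hz⟩
  have hvec : ∀ x y : ℕ, x < 64 → y < 64 → g * S.eg (2 * x) * g⁻¹ = S.eg (2 * y) →
      S.D.co.r6 (QuotientGroup.mk gH) (vd x) = vd y := fun x y hx hy e => by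
    rw [S.eg_even hx, S.eg_even hy] at e
    have he : S.D.ctx.conjQ gH (uq S.cv (vd x)) = uq S.cv (vd y) := Subtype.ext e
    have h := S.D.vec_conj gH (uq S.cv (vd x))
    rw [he, vec_uq S.cv S.hc, vec_uq S.cv S.hc] at h
    exact h.symm
  have f1 := hvec 1 2 (by norm_num) (by norm_num) hg.1
  have f2 := hvec 2 3 (by norm_num) (by norm_num) hg.2
  rw [vd_eight.2.1, vd_eight.2.2.1] at f1
  rw [vd_eight.2.2.1, vd_eight.2.2.2] at f2
  have hK : (QuotientGroup.mk gH : _ ⧸ Q) ∈ S.D.env.K := by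
    by_contra hne
    rw [S.D.semi_of_not_mem S.hF hne, f1] at f2
    exact absurd f2 (by decide +kernel)
  obtain ⟨k, hk⟩ := S.D.co.exists_tau6 hK
  rw [← hk, S.D.co.tau6_spec] at f1
  have hperp : ∀ x, hf x (bA 0) = 0 → hf (act k.1 x) (bA 0) = 0 := fun x hx => by
    have e := herm_act k.1 x (bA 0)
    rw [f1] at e
    change hf (act k.1 x) (K4.w • bA 0) = hf x (bA 0) at e
    rw [hx, hf_smulr] at e
    exact (mul_eq_zero.1 e).resolve_left (by decide)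
  have hlin : ∀ x y, act k.1 (x + y) = act k.1 x + act k.1 y := fun x y => Matrix.mulVec_add _ _ _
  let f : V4 → V4 := fun y => lo (act k.1 (up y))
  have hlo : ∀ x, hf x (bA 0) = 0 → lo (act k.1 x) = f (lo x) := fun x hx => by
    conv_lhs => rw [perp_eta hx]
    rw [hlin, act_smul, f1, lo_add, lo_smul, lo_smul, lo_bA, smul_zero, smul_zero, add_zero]
  have hk3 : k * k * k = 1 := S.D.co.tau6_injective (by
    rw [map_mul, map_mul, map_one, hk, ← QuotientGroup.mk_mul, ← QuotientGroup.mk_mul,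
      show gH * gH * gH = 1 from Subtype.ext h3, QuotientGroup.mk_one])
  let R : Rot :=
    { f := f
      add := fun x y => by simp only [f, up_add, hlin, lo_add]
      smul := fun s x => by simp only [f, up_smul, act_smul, lo_smul]
      herm := fun x y => by
        simp only [f]
        rw [← hf_lo (hperp _ (up_perp x)) (hperp _ (up_perp y))]
        exact (herm_act k.1 _ _).trans (hf_up x y)
      cube := fun x => by
        show lo (act k.1 (up (f (f x)))) = x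
        rw [show f (f x) = lo (act k.1 (act k.1 (up x))) from (hlo _ (hperp _ (up_perp x))).symm]
        show f (lo (act k.1 (act k.1 (up x)))) = x
        rw [← hlo _ (hperp _ (hperp _ (up_perp x))), ← act_mul, ← act_mul,
          show k.1 * k.1 * k.1 = 1 from congrArg Subtype.val hk3, act_one, lo_up] }
  refine ⟨R, fun a c hc hiso => ?_⟩
  have hRc : f c ≠ 0 := fun e => hc (by
    rw [← R.cube c]; show f (f (f c)) = 0
    rw [e]; simp only [f, up_zero, act_zero, show lo (0 : V6) = 0 by decide +kernel])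
  have hRi : hf (f c) (f c) = 0 := by rw [show f = R.f from rfl, R.herm, hiso]
  rcases S.Cls_comm (S.gcj_Cls hg hz (S.Tl_Cls hc hiso a)) (by
      conv_lhs => arg 2; rw [← S.gcj_zb hg hz]
      conv_rhs => arg 1; rw [← S.gcj_zb hg hz]
      rw [← S.gcj_mul hg, ← S.gcj_mul hg, S.Tl_comm hc hiso]) with e | ⟨a', c', hc', hiso', e⟩
  · exfalso
    refine S.Tl_ne_zb hc hiso a ?_
    rw [← S.gcj_cube hg h3 (S.Tl a c), e, S.gcj_zb hg hz, S.gcj_zb hg hz]
  obtain ⟨A, hA, h⟩ := S.over_Tl hc hiso a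
  obtain ⟨A', hA', h'⟩ := S.over_Tl hc' hiso' a'
  obtain ⟨u, γ, huC, hu, hγ, rfl⟩ := h
  let γ' : Ke := ⟨k.1 * γ.1 * k.1⁻¹, mul_mem (mul_mem k.2 γ.2.1) (inv_mem k.2), by
    have hinv : act k.1⁻¹ (K4.w • bA 0) = bA 0 := by rw [← f1, ← act_mul, inv_mul_cancel, act_one]
    rw [act_mul, act_mul]
    have hb : act k.1⁻¹ (bA 0) = K4.v • bA 0 := by
      conv_lhs => rw [← one_smul K4 (bA 0), ← (by decide : K4.v * K4.w = 1), ← smul_smul, act_smul, hinv]
    rw [hb, act_smul, γ.2.2, act_smul, f1, smul_smul, show K4.v * K4.w = 1 from rfl, one_smul]⟩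
  have hover : S.Over (S.gcj g (S.Tl a c)) (phi γ') := by
    refine ⟨gH * u * gH⁻¹, γ', S.turns_C hg huC, by rw [hu, S.gcj_pr hg huC]; rfl, ?_, rfl⟩
    rw [QuotientGroup.mk_mul, QuotientGroup.mk_mul, QuotientGroup.mk_inv, hγ, ← hk]
    show S.D.co.tau6 k * S.D.co.tau6 _ * (S.D.co.tau6 k)⁻¹ = S.D.co.tau6 _
    rw [← map_inv, ← map_mul, ← map_mul]
    rfl
  have hstep : ∀ y, act4 (phi γ') (f y) = f (act4 (phi γ) y) := fun y => by
    show act4 (phi γ') (lo (act k.1 (up y))) = f (act4 (phi γ) y)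
    rw [← lo_act γ' (hperp _ (up_perp y))]
    show lo (act (k.1 * γ.1 * k.1⁻¹) (act k.1 (up y))) = _
    rw [← act_mul, inv_mul_cancel_right, act_mul, hlo _ (act_perp γ (up_perp y)), act4_phi]
  rw [e] at hover
  have hAA := Over.unique S h' hover
  obtain ⟨s, hs⟩ := tr_eq_point hRc (a := c') fun x => by
    have hx : x = f (f (f x)) := (R.cube x).symm
    rw [← hA', hAA]
    conv_lhs => rw [hx]
    rw [hstep, hA, tr_conj (g := f) R.add R.smul R.herm c (f (f x)), ← hx]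
  have hs0 : s ≠ 0 := fun e0 => hRc (by rw [hs, e0, zero_smul])
  exact ⟨s * a', by rw [e, show R.f c = s • c' from hs, S.Tl_smul hc' hiso' hs0]⟩

omit hg

theorem Tl_fixed {R : Rot} {g : G} {a a' : K4} {c : V4} (hc : c ≠ 0) (hiso : hf c c = 0)
    (e : S.gcj g (S.Tl a c) = S.Tl a' (R.f c)) (h : S.gcj g (S.Tl a c) = S.Tl a c) :
    ∃ μ : K4, μ ≠ 0 ∧ R.f c = μ • c := by
  have hRc : R.f c ≠ 0 := fun e0 => hc (by
    have h0 : R.f 0 = 0 := by
      have := R.smul 0 0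
      rwa [zero_smul, zero_smul] at this
    rw [← R.cube c, e0, h0, h0])
  obtain ⟨s, hs, h1, -⟩ := S.Tl_inj hc hiso hRc (by rw [R.herm, hiso]) (h.symm.trans e)
  exact ⟨s, hs, h1⟩

/-- The element moving the central involution to the first transvection. -/
noncomputable def mv : G := S.exists_m.choose

theorem mv_spec : S.mv ∈ MG S.cv ∧ S.mv ∈ S.C ∧ S.mv * z * S.mv⁻¹ = S.eg 1152 := S.exists_m.choose_spec

/-- Its image. -/
noncomputable def pm : S.Cb := S.pr S.mv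

/-- The moved element of order three. -/
noncomputable def Xm : G := S.mv⁻¹ * S.X * S.mv

theorem pm_zb : S.pm * S.zb * S.pm⁻¹ = S.pr (S.eg 1152) := by
  obtain ⟨-, hC, e⟩ := S.mv_spec
  rw [pm, zb, ← S.pr_conj hC S.z_mem_C, e]

theorem Xm_props : S.Turns S.Xm ∧ S.Xm * z = z * S.Xm ∧ S.Xm * S.Xm * S.Xm = 1 := by
  obtain ⟨-, hC, e⟩ := S.mv_spec
  obtain ⟨h2, h4⟩ := S.turns_X
  obtain ⟨-, -, -, hx, -⟩ := xi_E
  have hm : ∀ i, eB i = true → S.mv * S.eg i * S.mv⁻¹ = S.eg i := fun i hi => by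
    rw [S.C_comm hC (S.mem_E.2 ⟨i, hi, rfl⟩), mul_inv_cancel_right]
  have step : ∀ i j, eB i = true → eB j = true → S.X * S.eg i * S.X⁻¹ = S.eg j → S.Xm * S.eg i * S.Xm⁻¹ = S.eg j :=
    fun i j hi hj h => by
      calc S.Xm * S.eg i * S.Xm⁻¹ = S.mv⁻¹ * (S.X * (S.mv * S.eg i * S.mv⁻¹) * S.X⁻¹) * S.mv := by
            rw [Xm]; group
        _ = S.mv⁻¹ * (S.mv * S.eg j * S.mv⁻¹) * S.mv := by rw [hm i hi, h, hm j hj]
        _ = S.eg j := by group
  refine ⟨⟨step 2 4 rfl rfl h2, step 4 6 rfl rfl h4⟩, ?_, ?_⟩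
  · refine mul_inv_eq_iff_eq_mul.1 ?_
    calc S.Xm * z * S.Xm⁻¹ = S.mv⁻¹ * (S.X * (S.mv * z * S.mv⁻¹) * S.X⁻¹) * S.mv := by rw [Xm]; group
      _ = S.mv⁻¹ * (S.mv * z * S.mv⁻¹) * S.mv := by rw [e, S.X_eg, hx]
      _ = z := by group
  · have h3 : S.X * S.X * S.X = 1 := by
      have := congrArg Subtype.val S.cv.hx3
      simpa [pow_succ, mul_assoc] using this
    calc S.Xm * S.Xm * S.Xm = S.mv⁻¹ * (S.X * S.X * S.X) * S.mv := by rw [Xm]; group
      _ = 1 := by rw [h3]; group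

theorem gcj_chart {r : S.Cb} : S.gcj S.Xm (S.pm⁻¹ * r * S.pm) = S.pm⁻¹ * S.gcj S.X r * S.pm := by
  obtain ⟨-, hC, -⟩ := S.mv_spec
  obtain ⟨a, ha, rfl⟩ := S.pr_surj r
  have h1 : S.mv⁻¹ * a * S.mv ∈ S.C := mul_mem (mul_mem (inv_mem hC) ha) hC
  rw [pm, ← S.pr_inv hC, ← S.pr_mul (inv_mem hC) ha, ← S.pr_mul (mul_mem (inv_mem hC) ha) hC,
    S.gcj_pr S.Xm_props.1 h1, S.gcj_pr S.turns_X ha]
  have h2 := S.turns_C S.turns_X ha
  rw [← S.pr_mul (inv_mem hC) h2, ← S.pr_mul (mul_mem (inv_mem hC) h2) hC]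
  congr 1
  rw [Xm]
  group

/-- The moved central involution. -/
noncomputable def xm : S.Cb := S.pm⁻¹ * S.zb * S.pm

theorem xm_props : S.xm ∈ S.Cls ∧ S.xm * S.zb = S.zb * S.xm ∧ S.xm ≠ S.zb ∧ S.gcj S.Xm S.xm = S.xm := by
  have hcl : S.xm ∈ S.Cls := ⟨S.pm⁻¹, by rw [xm, inv_inv]⟩
  have hc : S.pr (S.eg 1152) * S.zb = S.zb * S.pr (S.eg 1152) := by
    rw [← S.pr_eg_one, ← S.pr_eg_mul, ← S.pr_eg_mul, Nat.xor_comm]
  have hne : S.pr (S.eg 1152) ≠ S.zb := by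
    intro e
    have h := S.Tl_ne_zb line_base.2.2.2.1 line_base.1 0
    rw [S.Tl_zero, show c0 = ck 9 from rfl, S.xv_ck (by decide)] at h
    exact h e
  refine ⟨hcl, ?_, ?_, ?_⟩
  · rw [xm]
    calc S.pm⁻¹ * S.zb * S.pm * S.zb
        = S.pm⁻¹ * (S.zb * (S.pm * S.zb * S.pm⁻¹)) * S.pm := by group
      _ = S.pm⁻¹ * ((S.pm * S.zb * S.pm⁻¹) * S.zb) * S.pm := by rw [S.pm_zb, hc]
      _ = _ := by group
  · intro e
    refine hne ?_
    rw [← S.pm_zb]
    conv_lhs => arg 1; arg 2; rw [← e, xm]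
    group
  · rw [xm, S.gcj_chart, S.gcj_zb S.turns_X (mem_centralizer_one.1 S.cv.x.2)]

/-- The properties of the wanted member. -/
def Spot (y : S.Cb) : Prop :=
  y ∈ S.Cls ∧ S.gcj S.X y = y ∧ y * S.pr (S.eg 1152) = S.pr (S.eg 1152) * y ∧ y * S.zb ≠ S.zb * y

theorem exists_spot : ∃ y, S.Spot y := by
  obtain ⟨hT, hz, h3⟩ := S.Xm_props
  obtain ⟨R, hR⟩ := S.exists_rot hT hz h3
  obtain ⟨hxC, hxz, hxne, hxfix⟩ := S.xm_props
  obtain ⟨a1, c1, hc1, hi1, hx⟩ := (S.Cls_comm hxC hxz).resolve_left hxne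
  obtain ⟨a1', h1'⟩ := hR a1 c1 hc1 hi1
  obtain ⟨μ, hμ, hμc⟩ := S.Tl_fixed hc1 hi1 h1' (hx ▸ hxfix)
  obtain ⟨d, hid, hcd, hμd⟩ := R.exists_partner hi1 hμ hμc hc1
  have hd0 : d ≠ 0 := fun e => hcd (by rw [e, hf_zeror])
  choose σ hσ using fun a => hR a d hd0 hid
  have hσ' : ∀ a, S.gcj S.Xm (S.Tl a d) = S.Tl (μ⁻¹ * σ a) d := fun a => by
    rw [hσ, hμd]
    conv_lhs => rw [show σ a = μ * (μ⁻¹ * σ a) by rw [mul_inv_cancel_left₀ hμ], S.Tl_smul hd0 hid hμ]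
  obtain ⟨a, ha⟩ := k4_fix (fun a => μ⁻¹ * σ a) fun a => by
    have h := S.gcj_cube hT h3 (S.Tl a d)
    rw [hσ', hσ', hσ'] at h
    obtain ⟨s, hs, h1, h2⟩ := S.Tl_inj hd0 hid hd0 hid h
    have hs1 : s = 1 := by
      by_contra hne
      refine hd0 ((smul_eq_zero.1 (show (1 + s) • d = 0 by rw [add_smul, one_smul, ← h1, v4_add_self])).resolve_left ?_)
      exact fun e => hne ((by decide : ∀ s : K4, 1 + s = 0 → s = 1) s e)
    rw [hs1, one_mul] at h2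
    exact h2.symm
  have hfix : S.gcj S.Xm (S.Tl a d) = S.Tl a d := by rw [hσ' a]; exact congrArg (S.Tl · d) ha
  refine ⟨S.pm * S.Tl a d * S.pm⁻¹, S.Cls_conj (S.Tl_Cls hd0 hid a) _, ?_, ?_, ?_⟩
  · have h := S.gcj_chart (r := S.pm * S.Tl a d * S.pm⁻¹)
    rw [show S.pm⁻¹ * (S.pm * S.Tl a d * S.pm⁻¹) * S.pm = S.Tl a d by group, hfix] at h
    conv_rhs => rw [h]
    group
  · rw [← S.pm_zb]
    calc S.pm * S.Tl a d * S.pm⁻¹ * (S.pm * S.zb * S.pm⁻¹) = S.pm * (S.Tl a d * S.zb) * S.pm⁻¹ := by group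
      _ = S.pm * (S.zb * S.Tl a d) * S.pm⁻¹ := by rw [S.Tl_comm hd0 hid]
      _ = _ := by group
  · intro e
    refine hcd ((S.Tl_commute hd0 hid hc1 hi1 (a := a) (a' := a1)).1 ?_)
    rw [← hx, xm]
    calc S.Tl a d * (S.pm⁻¹ * S.zb * S.pm) = S.pm⁻¹ * (S.pm * S.Tl a d * S.pm⁻¹ * S.zb) * S.pm := by group
      _ = _ := by rw [e]; group

/-- The index of a moved element. -/
theorem exists_idx {i : ℕ} (hi : i < 2048) (h : nb i = true) (h' : nb (i ^^^ 1152) = false) :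
    ¬ S.Over (S.pr (S.mv⁻¹ * S.eg i * S.mv)) 1 := by
  obtain ⟨hM, hC, e⟩ := S.mv_spec
  obtain ⟨j, hj, hje⟩ := S.B.eg_surj S.hc (show S.mv⁻¹ * S.eg i * S.mv ∈ AG S.cv by
    have := conj_mem_AG S.cv (inv_mem hM) (S.B.eg_mem S.hc i)
    rwa [inv_inv] at this)
  have hcj : ∀ i j : ℕ, i < 2048 → j < 2048 → S.eg j = S.mv⁻¹ * S.eg i * S.mv → nb j = nb i := fun i j hi hj e => by
    rw [Bool.eq_iff_iff, nb_spec _ hi, nb_spec _ hj, S.hN _ hi, S.hN _ hj]
    change _ ∧ ¬ IsConj z (S.eg j) ↔ _ ∧ ¬ IsConj z (S.eg i)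
    rw [e, show S.mv⁻¹ * S.eg i * S.mv = S.mv⁻¹ * S.eg i * S.mv⁻¹⁻¹ by rw [inv_inv], conj_iff]
    refine and_congr_left fun _ => not_congr ⟨fun h0 => ?_, fun h0 => ?_⟩
    · refine S.B.eg_inj S.hc hi (by norm_num) ?_
      rw [h0, eg, S.B.eg_zero S.hc] at e
      rw [S.B.eg_zero S.hc, show S.B.eg i = S.mv * (S.mv⁻¹ * S.eg i * S.mv) * S.mv⁻¹ by rw [eg]; group, ← e]
      group
    · refine S.B.eg_inj S.hc hj (by norm_num) ?_
      show S.eg j = _
      rw [e, h0, eg, S.B.eg_zero S.hc]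
      group
  have h1 : nb j = true := (hcj i j hi hj hje).trans h
  have h2 : nb (j ^^^ 1) = false := by
    refine (hcj (i ^^^ 1152) _ (eg_lt_xor hi (by norm_num)) (eg_lt_xor hj (by norm_num)) ?_).trans h'
    show S.B.eg (j ^^^ 1) = S.mv⁻¹ * S.B.eg (i ^^^ 1152) * S.mv
    rw [S.B.eg_xor S.hc, S.B.eg_xor S.hc, S.B.eg_one S.hc, show S.B.eg j = _ from hje]
    change S.mv⁻¹ * S.eg i * S.mv * z = S.mv⁻¹ * (S.eg i * S.eg 1152) * S.mv
    rw [← e]
    group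
  intro hov
  have hlo : ¬ j < 128 := fun hlt => by
    rw [(n_small j hj h1).2 hlt] at h2
    exact Bool.noConfusion h2
  refine hlo ?_
  obtain ⟨a, b, c⟩ := parts_eq (δ := j % 2) (x := j / 2 % 64) (k := j / 128) (Nat.mod_lt _ (by norm_num))
    (Nat.mod_lt _ (by norm_num))
  have hk : j / 128 < 16 := by omega
  have hh := Over.mul S (S.over_qel (α := ((j % 2 : ℕ) : K4)) (y := lo (vd (j / 2 % 64)))) (Lift.over S (S.lift_bp hk))
  rw [← S.pr_index (Nat.mod_lt _ (by norm_num)) (Nat.mod_lt _ (by norm_num)) hk, one_mul,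
    show j % 2 + 2 * (j / 2 % 64) + 128 * (j / 128) = j by omega, show S.eg j = _ from hje] at hh
  have := ak_one hk (Over.unique S hh hov)
  omega

theorem pr_1152_comm (i : ℕ) : S.pr (S.eg i) * S.pr (S.eg 1152) = S.pr (S.eg 1152) * S.pr (S.eg i) := by
  rw [← S.pr_eg_mul, ← S.pr_eg_mul, Nat.xor_comm]

/-- The members fixed and commuting with the first transvection commute with the second. -/
theorem spot_257 {y : S.Cb} (hy : S.Spot y) : y * S.pr (S.eg 257) = S.pr (S.eg 257) * y := by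
  obtain ⟨hyC, hyX, hy1, hyz⟩ := hy
  obtain ⟨hT, hz, h3⟩ := S.Xm_props
  obtain ⟨R, hR⟩ := S.exists_rot hT hz h3
  obtain ⟨hxC, hxz, hxne, hxfix⟩ := S.xm_props
  obtain ⟨a1, c1, hc1, hi1, hx⟩ := (S.Cls_comm hxC hxz).resolve_left hxne
  obtain ⟨a1', h1'⟩ := hR a1 c1 hc1 hi1
  obtain ⟨μ, hμ, hμc⟩ := S.Tl_fixed hc1 hi1 h1' (hx ▸ hxfix)
  -- moving into the chart
  let mo : S.Cb → S.Cb := fun r => S.pm⁻¹ * r * S.pm
  have mo_mul : ∀ r s, mo (r * s) = mo r * mo s := fun r s => by simp only [mo]; group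
  have mo_inj : ∀ r s, mo r = mo s → r = s := fun r s e => mul_left_cancel (mul_right_cancel e)
  have mo_Cls : ∀ r ∈ S.Cls, mo r ∈ S.Cls := fun r hr => by
    have := S.Cls_conj hr S.pm⁻¹; rwa [inv_inv] at this
  have mo_zb : mo (S.pr (S.eg 1152)) = S.zb := by simp only [mo, ← S.pm_zb]; group
  have mo_z : mo S.zb = S.xm := rfl
  have mo_comm : ∀ r, r * S.pr (S.eg 1152) = S.pr (S.eg 1152) * r → mo r * S.zb = S.zb * mo r := fun r h => by
    rw [← mo_zb, ← mo_mul, ← mo_mul, h]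
  have mo_fix : ∀ r, S.gcj S.Xm (mo r) = mo (S.gcj S.X r) := fun r => S.gcj_chart
  have hXi : ∀ i, S.gcj S.X (S.pr (S.eg i)) = S.pr (S.eg (xi i)) := fun i => by
    rw [S.gcj_pr S.turns_X (S.eg_mem_C i), S.X_eg]
  have mo_eg : ∀ i, mo (S.pr (S.eg i)) = S.pr (S.mv⁻¹ * S.eg i * S.mv) := fun i => by
    have hC := S.mv_spec.2.1
    simp only [mo, pm]
    rw [← S.pr_inv hC, ← S.pr_mul (inv_mem hC) (S.eg_mem_C i), ← S.pr_mul (mul_mem (inv_mem hC) (S.eg_mem_C i)) hC]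
  obtain ⟨hd264, hn1, hn2, hn256, hn256', hxi264⟩ := moved_five
  -- the second transvection
  have h257 : S.pr (S.eg 257) = S.xv d1 := by
    rw [show d1 = ck 2 from rfl, S.xv_ck (by decide)]; rfl
  obtain ⟨b0, b1, b2, b3, b4, b5⟩ := line_base
  have hDne : mo (S.pr (S.eg 257)) ≠ S.zb := fun e => by
    have h := mo_inj _ _ (e.trans mo_zb.symm)
    rw [h257, show S.pr (S.eg 1152) = S.xv c0 by rw [show c0 = ck 9 from rfl, S.xv_ck (by decide)]; rfl] at h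
    rw [← S.Tl_zero, ← S.Tl_zero] at h
    obtain ⟨s, -, hs, -⟩ := S.Tl_inj b3 b0 b4 b1 h.symm
    exact b5 s hs
  obtain ⟨aD, cD, hcD, hiD, hD⟩ := (S.Cls_comm (mo_Cls _ (h257 ▸ S.xv_Cls b4 b1))
    (mo_comm _ (S.pr_1152_comm 257))).resolve_left hDne
  obtain ⟨aD', hD'⟩ := hR aD cD hcD hiD
  obtain ⟨-, -, -, -, x257⟩ := xi_E
  obtain ⟨ν, hν, hνc⟩ := S.Tl_fixed hcD hiD hD' (by rw [← hD, mo_fix, hXi, x257])
  have h256 : S.Tl aD cD * S.Tl a1 c1 = mo (S.pr (S.eg 256)) := by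
    rw [← hD, ← hx, ← mo_z, ← mo_mul, ← S.pr_eg_one, ← S.pr_eg_mul]; rfl
  have hDx : hf cD c1 = 0 := (S.Tl_commute hc1 hi1 hcD hiD (a := a1) (a' := aD)).1 (by
    rw [← hD, ← hx, ← mo_z, ← mo_mul, ← mo_mul, ← S.pr_eg_one, ← S.pr_eg_mul, ← S.pr_eg_mul, Nat.xor_comm])
  obtain ⟨A1, hA1, hO1⟩ := S.over_Tl hc1 hi1 a1
  obtain ⟨AD, hAD, hOD⟩ := S.over_Tl hcD hiD aD
  have hind : ∀ s : K4, cD ≠ s • c1 := fun s e => by
    have hs : s ≠ 0 := fun e0 => hcD (by rw [e, e0, zero_smul])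
    have hprod : AD * A1 = 1 := act4_ext fun v => by
      rw [act4_mul, hA1, hAD, e, tr_point hs, tr_invol hi1, act4_one]
    have h := Over.mul S hOD hO1
    rw [hprod, h256, mo_eg] at h
    exact S.exists_idx (by norm_num) hn256 hn256' h
  -- the eigenvalues differ
  have hμν : ν ≠ μ := fun hEq => by
    have hUC : mo (S.pr (S.eg 264)) ∈ S.Cls := mo_Cls _ (S.dB_Cls (by norm_num) hd264)
    have hU' : S.gcj S.Xm (mo (S.pr (S.eg 264))) = mo (S.pr (S.eg (xi 264))) := by rw [mo_fix, hXi]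
    have hprodU : mo (S.pr (S.eg 264)) * mo (S.pr (S.eg (xi 264))) = mo (S.pr (S.eg (264 ^^^ xi 264))) := by
      rw [← mo_mul, S.pr_eg_mul]
    refine S.exists_idx (eg_lt_xor (by norm_num) hxi264) hn1 hn2 ?_
    rw [← mo_eg, ← hprodU, ← hU']
    rcases S.Cls_comm hUC (mo_comm _ (S.pr_1152_comm 264)) with e | ⟨aU, cU, hcU, hiU, e⟩
    · rw [e, S.gcj_zb hT hz, S.zb_sq]; exact Lift.over S S.lift_one
    rw [e]
    obtain ⟨aU', eU'⟩ := hR aU cU hcU hiU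
    have p1 : hf cU c1 = 0 := (S.Tl_commute hc1 hi1 hcU hiU (a := a1) (a' := aU)).1 (by
      rw [← e, ← hx, ← mo_z, ← mo_mul, ← mo_mul, ← S.pr_eg_one, ← S.pr_eg_mul, ← S.pr_eg_mul, Nat.xor_comm])
    have p2 : hf cU cD = 0 := (S.Tl_commute hcD hiD hcU hiU (a := aD) (a' := aU)).1 (by
      rw [← e, ← hD, ← mo_mul, ← mo_mul, ← S.pr_eg_mul, ← S.pr_eg_mul, Nat.xor_comm])
    obtain ⟨p, q, hpq⟩ := span_of_perp hc1 hi1 hiD hDx hind hiU p1 p2
    have hμU : R.f cU = μ • cU := by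
      rw [hpq, R.add, R.smul, R.smul, hμc, hνc, hEq, smul_add, smul_comm p, smul_comm q]
    rw [eU', hμU]
    obtain ⟨A, hA, hO⟩ := S.over_Tl hcU hiU aU
    obtain ⟨A', hA', hO'⟩ := S.over_Tl (smul_ne_zero hμ hcU)
      (by rw [← hμU, R.herm, hiU]) aU'
    have hAA : A * A' = 1 := act4_ext fun v => by
      rw [act4_mul, hA, hA', tr_point hμ, tr_invol hiU, act4_one]
    exact hAA ▸ Over.mul S hO hO'
  -- the given member
  have hYne : mo y * S.xm ≠ S.xm * mo y := fun e => hyz (mo_inj _ _ (by rw [mo_mul, mo_mul, mo_z, e]))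
  obtain ⟨aY, cY, hcY, hiY, hY⟩ := (S.Cls_comm (mo_Cls _ hyC) (mo_comm _ hy1)).resolve_left fun e => hYne (by
    rw [e, hxz])
  obtain ⟨aY', hY'⟩ := hR aY cY hcY hiY
  obtain ⟨κ, hκ, hκc⟩ := S.Tl_fixed hcY hiY hY' (by rw [← hY, mo_fix, hyX])
  have h1 : hf c1 cY ≠ 0 := fun h0 => hYne (by
    rw [hY, hx]; exact (S.Tl_commute hcY hiY hc1 hi1).2 h0)
  have hκμ : μ = κ := R.orth hμ hκ hμc hκc h1
  have hperp : hf cD cY = 0 := by
    by_contra hne
    exact hμν ((R.orth hν hκ hνc hκc hne).trans hκμ.symm)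
  refine mo_inj _ _ ?_
  rw [mo_mul, mo_mul, hY, hD]
  exact (S.Tl_commute hcY hiY hcD hiD).2 hperp

/-- The wanted member. -/
noncomputable def y0 : S.Cb := S.exists_spot.choose

theorem y0_spot : S.Spot S.y0 := S.exists_spot.choose_spec

theorem y0_Cls : S.y0 ∈ S.Cls := S.y0_spot.1

theorem y0_zb : S.y0 * S.zb ≠ S.zb * S.y0 := S.y0_spot.2.2.2

theorem gcj_lift {A : S4} {l : S.Cb} (hl : S.Lift A l) : S.gcj S.X l = l := by
  obtain ⟨a, g, haL, ha, rfl, -, -⟩ := hl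
  rw [S.gcj_pr S.turns_X ha]
  congr 1
  have h := congrArg Subtype.val (S.cv.mem_L.1 haL)
  exact mul_inv_eq_iff_eq_mul.2 h.symm

theorem y0_pair {c d : V4} (hc : c ≠ 0) (hic : hf c c = 0) (hd : d ≠ 0) (hid : hf d d = 0) (hdc : hf d c = 0)
    (h : S.y0 * S.xv c = S.xv c * S.y0) : S.y0 * S.xv d = S.xv d * S.y0 := by
  by_cases hdep : ∃ s : K4, d = s • c
  · obtain ⟨s, rfl⟩ := hdep
    have hs : s ≠ 0 := fun e => hd (by rw [e, zero_smul])
    rwa [S.xv_smul hc hic hs]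
  push Not at hdep
  obtain ⟨A, s, hs, hA⟩ := exists_to_c0 hc hic
  have hp : hf (act4 A d) c0 = 0 := by
    have := act4_hf A d c
    rw [hA, hf_smulr, hdc] at this
    exact (mul_eq_zero.1 this).resolve_left (mul_ne_zero hs hs)
  obtain ⟨B, hB, σ, τ, hl⟩ := exists_to_line (c := act4 A d) (by rw [act4_hf, hid]) hp fun r e => hdep (r * s⁻¹) (by
    have e2 : act4 A d = act4 A ((r * s⁻¹) • c) := by
      rw [e, act4_smul, hA, smul_smul, inv_mul_cancel_right₀ hs]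
    have e3 := congrArg (act4 A⁻¹) e2
    rwa [act4_inv, act4_inv] at e3)
  have hτ : τ ≠ 0 := fun e0 => by
    rw [e0, zero_smul, add_zero] at hl
    refine hdep (σ * s⁻¹) ?_
    have e2 : act4 B (act4 A d) = act4 B (act4 A ((σ * s⁻¹) • c)) := by
      rw [hl, act4_smul A, hA, smul_smul, inv_mul_cancel_right₀ hs, act4_smul, hB]
    have e3 := congrArg (act4 B⁻¹) e2
    rw [act4_inv, act4_inv] at e3
    have e4 := congrArg (act4 A⁻¹) e3
    rwa [act4_inv, act4_inv] at e4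
  obtain ⟨u, hu, r, hr, q, hq⟩ := reach1_check σ τ hτ
  obtain ⟨U, hU⟩ := exists_t4 (pts0_iso u hu).1
  obtain ⟨T, hT⟩ := exists_t4 (pts0_iso r hr).1
  set P := T * U * (B * A) with hP
  have hPc : act4 P c = s • c0 := by
    rw [act4_mul, act4_mul, act4_mul, hA, act4_smul, hB, hU, tr_smul, tr_fix (hf_symm_zero (pts0_iso u hu).2), hT,
      tr_smul, tr_fix (hf_symm_zero (pts0_iso r hr).2)]
  have hPd : act4 P d = q • d1 := by
    rw [act4_mul, act4_mul, act4_mul, hl, hU, hT, hq]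
  obtain ⟨b0, b1, -, b3, b4, -⟩ := line_base
  have hq0 : q ≠ 0 := fun e0 => by
    rw [e0, zero_smul] at hPd
    exact act4_ne P hd hPd
  obtain ⟨l, hl'⟩ := S.exists_lift P
  obtain ⟨yC, yX, -, yz⟩ := S.y0_spot
  have x0 : S.pr (S.eg 1152) = S.xv c0 := by rw [show c0 = ck 9 from rfl, S.xv_ck (by decide)]; rfl
  have x1 : S.pr (S.eg 257) = S.xv d1 := by rw [show d1 = ck 2 from rfl, S.xv_ck (by decide)]; rfl
  have hlc : l * S.xv c * l⁻¹ = S.xv c0 := by rw [S.xv_conj hc hic hl', hPc, S.xv_smul b3 b0 hs]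
  have hld : l * S.xv d * l⁻¹ = S.xv d1 := by rw [S.xv_conj hd hid hl', hPd, S.xv_smul b4 b1 hq0]
  have hspot : S.Spot (l * S.y0 * l⁻¹) := by
    refine ⟨S.Cls_conj yC _, ?_, ?_, ?_⟩
    · rw [S.gcj_mul S.turns_X, S.gcj_mul S.turns_X, S.gcj_inv S.turns_X, S.gcj_lift hl', yX]
    · rw [x0, ← hlc]
      calc l * S.y0 * l⁻¹ * (l * S.xv c * l⁻¹) = l * (S.y0 * S.xv c) * l⁻¹ := by group
        _ = _ := by rw [h]; group
    · intro e
      refine yz (mul_left_cancel (a := l) (mul_right_cancel (b := l⁻¹) ?_))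
      have hlz := Lift.comm S hl'
      calc l * (S.y0 * S.zb) * l⁻¹ = l * S.y0 * l⁻¹ * (l * S.zb * l⁻¹) := by group
        _ = (l * S.zb * l⁻¹) * (l * S.y0 * l⁻¹) := by rw [hlz, mul_inv_cancel_right, e]
        _ = _ := by group
  have h2 := S.spot_257 hspot
  rw [x1, ← hld] at h2
  refine mul_left_cancel (a := l) (mul_right_cancel (b := l⁻¹) ?_)
  calc l * (S.y0 * S.xv d) * l⁻¹ = l * S.y0 * l⁻¹ * (l * S.xv d * l⁻¹) := by group
    _ = _ := by rw [h2]; group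

theorem y0_xv {c : V4} (hc : c ≠ 0) (hic : hf c c = 0) : S.y0 * S.xv c = S.xv c * S.y0 := by
  obtain ⟨b0, -, -, b3, -⟩ := line_base
  have h0 : S.y0 * S.xv c0 = S.xv c0 * S.y0 := by
    have := S.y0_spot.2.2.1
    rwa [show S.xv c0 = S.pr (S.eg 1152) by rw [show c0 = ck 9 from rfl, S.xv_ck (by decide)]; rfl]
  by_cases hp : hf c c0 = 0
  · exact S.y0_pair b3 b0 hc hic hp h0
  have hex : ∃ u ∈ pts0, hf u c = 0 := by
    revert hc hic hp
    refine v4_all (P := fun c => c ≠ 0 → hf c c = 0 → hf c c0 ≠ 0 → ∃ u ∈ pts0, hf u c = 0) bridge_check c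
  obtain ⟨u, hu, huc⟩ := hex
  have hu0 : u ≠ 0 := (by decide +kernel : ∀ u ∈ pts0, u ≠ 0) u hu
  obtain ⟨hiu, hup⟩ := pts0_iso u hu
  exact S.y0_pair hu0 hiu hc hic (hf_symm_zero huc) (S.y0_pair b3 b0 hu0 hiu hup h0)

/-- The subgroup generated by the members over transvections. -/
def Rx : Subgroup S.Cb := Subgroup.closure {r | ∃ c : V4, c ≠ 0 ∧ hf c c = 0 ∧ r = S.xv c}

theorem y0_Rx {r : S.Cb} (h : r ∈ S.Rx) : S.y0 * r = r * S.y0 := by
  have : S.Rx ≤ centralizer ({S.y0} : Set S.Cb) := (Subgroup.closure_le _).2 fun r hr => by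
    obtain ⟨c, hc, hic, rfl⟩ := hr
    exact Subgroup.mem_centralizer_singleton_iff.2 (S.y0_xv hc hic).symm
  exact (Subgroup.mem_centralizer_singleton_iff.1 (this h)).symm

theorem exists_lk (A : S4) : ∃ r, S.Lift A r ∧ r ∈ S.Rx := by
  let P : Subgroup S4 :=
    { carrier := {A | ∃ r, S.Lift A r ∧ r ∈ S.Rx}
      one_mem' := ⟨1, S.lift_one, one_mem _⟩
      mul_mem' := fun ⟨r, h, h'⟩ ⟨s, k, k'⟩ => ⟨r * s, Lift.mul S h k, mul_mem h' k'⟩
      inv_mem' := fun ⟨r, h, h'⟩ => ⟨r⁻¹, Lift.inv S h, inv_mem h'⟩ }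
  have htop : P = ⊤ := gen4 P fun c hc hic => by
    obtain ⟨X, hX, hr, -⟩ := S.isX_xv hc hic
    exact ⟨X, ⟨_, hr, Subgroup.subset_closure ⟨c, hc, hic, rfl⟩⟩, hX⟩
  exact htop.ge (Subgroup.mem_top A)

/-- The lift fixing the member. -/
noncomputable def lk (A : S4) : S.Cb := (S.exists_lk A).choose

theorem lift_lk (A : S4) : S.Lift A (S.lk A) := (S.exists_lk A).choose_spec.1

theorem lk_mem (A : S4) : S.lk A ∈ S.Rx := (S.exists_lk A).choose_spec.2

theorem lk_y0 (A : S4) : S.lk A * S.y0 = S.y0 * S.lk A := (S.y0_Rx (S.lk_mem A)).symm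

theorem exists_turn {c : V4} (hc : c ≠ 0) (hic : hf c c = 0) : ∃ A : S4, act4 A c = K4.w • c := by
  obtain ⟨u, hu, u', hu', h1, h2, h3, hprod⟩ := scale_check
  obtain ⟨b0, -⟩ := line_base
  have i1 := pts_iso u hu
  have i2 := pts_iso u' hu'
  obtain ⟨T0, hT0⟩ := exists_t4 b0
  obtain ⟨T1, hT1⟩ := exists_t4 i1
  obtain ⟨T2, hT2⟩ := exists_t4 i2
  set A := (T2 * T0) * ((T1 * T2) * (T0 * T1)) with hA
  have hA0 : act4 A c0 = K4.w • c0 := by
    rw [hA]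
    simp only [act4_mul, hT0, hT1, hT2]
    rw [swap_two b0 h1, tr_smul, tr_smul, swap_two i1 h2, smul_smul, tr_smul, tr_smul, swap_two i2 h3, smul_smul,
      hprod]
  obtain ⟨P, s, hs, hP⟩ := exists_to_c0 hc hic
  refine ⟨P⁻¹ * A * P, ?_⟩
  rw [act4_mul, act4_mul, hP, act4_smul, hA0, smul_comm, ← hP, act4_smul, act4_inv]

theorem y0_Tl {a : K4} {c : V4} (ha : a ≠ 0) (hc : c ≠ 0) (hic : hf c c = 0) :
    S.y0 * S.Tl a c ≠ S.Tl a c * S.y0 := by
  intro h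
  obtain ⟨A, hA⟩ := exists_turn hc hic
  have step : ∀ b, S.y0 * S.Tl b c = S.Tl b c * S.y0 → S.y0 * S.Tl (K4.v * b) c = S.Tl (K4.v * b) c * S.y0 := fun b hb => by
    have e : S.Tl (K4.v * b) c = S.lk A * S.Tl b c * (S.lk A)⁻¹ := by
      rw [S.lift_Tl hc hic (S.lift_lk A), hA, ← S.Tl_smul hc hic (s := K4.w) (by decide) (K4.v * b), ← mul_assoc,
        show K4.w * K4.v = 1 from rfl, one_mul]
    rw [e]
    exact ((show Commute S.y0 (S.lk A) from (S.lk_y0 A).symm).mul_right hb).mul_right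
      (show Commute S.y0 (S.lk A) from (S.lk_y0 A).symm).inv_right
  have h3 : ∀ b : K4, b ≠ 0 → S.y0 * S.Tl b c = S.Tl b c * S.y0 := fun b hb => by
    rcases (by decide : ∀ a b : K4, a ≠ 0 → b ≠ 0 → b = a ∨ b = K4.v * a ∨ b = K4.v * (K4.v * a)) a b ha hb with
      rfl | rfl | rfl
    exacts [h, step _ h, step _ (step _ h)]
  refine S.y0_zb ?_
  have hok : ∀ b, Ok (b * (b * b)) ((b * b) • c) := fun b => ok_smul_line hic
  have hxc : ∀ (α : K4) (t : K4), S.xv c * S.qel α (t • c) = S.qel α (t • c) * S.xv c := fun α t => by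
    refine mul_inv_eq_iff_eq_mul.1 ?_
    rw [S.xv_qel hc hic, tr_fix (by rw [hf_smull, hic, mul_zero])]
  have hx2 : S.xv c * S.xv c = 1 := S.Cls_sq (S.xv_Cls hc hic)
  have key : S.zb = S.Tl 1 c * S.Tl K4.w c * S.Tl K4.v c * S.xv c := by
    symm
    simp only [Tl]
    rw [show ∀ q1 q2 q3 x : S.Cb, q1 * x * (q2 * x) * (q3 * x) * x = q1 * (x * q2) * (x * q3) * (x * x) from
      fun q1 q2 q3 x => by group, hxc, hxc, hx2, mul_one,
      show ∀ q1 q2 q3 x : S.Cb, q1 * (q2 * x) * (q3 * x) = q1 * q2 * (x * q3) * x from fun q1 q2 q3 x => by group,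
      hxc, show ∀ q1 q2 q3 x : S.Cb, q1 * q2 * (q3 * x) * x = q1 * q2 * q3 * (x * x) from fun q1 q2 q3 x => by group,
      hx2, mul_one, S.qel_mul (hok _) (hok _), S.qel_mul (ok_add (hok _) (hok _)) (hok _), ← add_smul, ← add_smul]
    simp only [hf_smull, hf_smulr, hic, mul_zero, add_zero]
    rw [show ((1 : K4) * 1 + K4.w * K4.w + K4.v * K4.v) = 0 from rfl, zero_smul, ← S.qel_one]
    rfl
  rw [key]
  exact (((show Commute S.y0 _ from h3 1 (by decide)).mul_right (h3 K4.w (by decide))).mul_right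
    (h3 K4.v (by decide))).mul_right (S.y0_xv hc hic)

end Data

end Cfsg.Agent.LargeFischer.Six
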