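import Cfsg.Agent.Lib.LargeFischer.StabA
import Cfsg.Agent.Lib.Classical.UnitaryStd

/-! Transvections of the hermitian spaces of dimensions four and six over four elements. -/

set_option autoImplicit false
set_option maxRecDepth 100000
set_option maxHeartbeats 200000

namespace Cfsg.Agent.LargeFischer.Six

open Cfsg.Agent.RigidGraph.He Cfsg.Agent.U43InU62
open Matrix

/-- The hermitian form. -/
abbrev hf {n : ℕ} (x y : Fin n → K4) : K4 := Cfsg.hermForm n K4 2 x y

/-- Squaring. -/
def sqHom : K4 →+* K4 where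
  toFun x := x * x
  map_one' := by decide
  map_mul' := by decide
  map_zero' := by decide
  map_add' := by decide

theorem k4_cube : ∀ a : K4, a ≠ 0 → a * (a * a) = 1 := by decide

theorem k4_two : ∀ a : K4, a + a = 0 := K4.add_self

variable {n : ℕ}

theorem hf_swap (x y : Fin n → K4) : hf y x = hf x y * hf x y := by
  show _ = sqHom (hf x y)
  simp only [hf, Cfsg.hermForm, map_sum, map_mul]
  refine Finset.sum_congr rfl fun i _ => ?_
  show y i * x i ^ 2 = sqHom (x i) * sqHom (y i ^ 2)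
  exact (by decide : ∀ a b : K4, b * a ^ 2 = sqHom a * sqHom (b ^ 2)) _ _

theorem hf_addl (x y u : Fin n → K4) : hf (x + y) u = hf x u + hf y u := by
  simp [hf, Cfsg.hermForm, add_mul, Finset.sum_add_distrib]

theorem hf_smull (c : K4) (x u : Fin n → K4) : hf (c • x) u = c * hf x u := by
  simp [hf, Cfsg.hermForm, Finset.mul_sum, mul_assoc]

theorem hf_addr (u x y : Fin n → K4) : hf u (x + y) = hf u x + hf u y := by
  rw [hf_swap (x + y) u, hf_addl, hf_swap x u, hf_swap y u]
  exact (by decide : ∀ a b : K4, (a + b) * (a + b) = a * a + b * b) _ _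

theorem hf_smulr (c : K4) (u x : Fin n → K4) : hf u (c • x) = c * c * hf u x := by
  rw [hf_swap (c • x) u, hf_smull, hf_swap x u]
  exact mul_mul_mul_comm _ _ _ _

theorem hf_zerol (x : Fin n → K4) : hf 0 x = 0 := by simp [hf, Cfsg.hermForm]

theorem hf_zeror (x : Fin n → K4) : hf x 0 = 0 := by simp [hf, Cfsg.hermForm]

theorem hf_self_real (x : Fin n → K4) : hf x x * hf x x = hf x x := (hf_swap x x).symm

theorem hf_symm_zero {x y : Fin n → K4} (h : hf x y = 0) : hf y x = 0 := by rw [hf_swap, h, mul_zero]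

theorem hf_ne {x y : Fin n → K4} (h : hf x y ≠ 0) : hf y x ≠ 0 := fun e => h (hf_symm_zero e)

/-- The transvection with the given centre. -/
def tr (a x : Fin n → K4) : Fin n → K4 := x + hf x a • a

theorem tr_herm {a : Fin n → K4} (ha : hf a a = 0) (x y : Fin n → K4) : hf (tr a x) (tr a y) = hf x y := by
  simp only [tr, hf_addl, hf_addr, hf_smull, hf_smulr, ha, hf_swap y a, mul_zero, add_zero]
  generalize hf x a = P
  generalize hf y a = R
  generalize hf x y = U
  revert P R U
  decide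

theorem tr_add (a x y : Fin n → K4) : tr a (x + y) = tr a x + tr a y := by
  simp only [tr, hf_addl, add_smul]; abel

theorem tr_smul (a : Fin n → K4) (c : K4) (x : Fin n → K4) : tr a (c • x) = c • tr a x := by
  simp only [tr, hf_smull, smul_add, smul_smul]

theorem tr_point {s : K4} (hs : s ≠ 0) (a : Fin n → K4) : tr (s • a) = tr a := by
  funext x
  simp only [tr, hf_smulr, smul_smul]
  rw [(by decide : ∀ u s : K4, s ≠ 0 → s * s * u * s = u) _ _ hs]

theorem tr_zero (x : Fin n → K4) : tr 0 x = x := by simp [tr]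

theorem tr_self {a : Fin n → K4} (ha : hf a a = 0) : tr a a = a := by simp [tr, ha]

theorem tr_fix {a x : Fin n → K4} (h : hf x a = 0) : tr a x = x := by simp [tr, h]

theorem tr_invol {a : Fin n → K4} (ha : hf a a = 0) (x : Fin n → K4) : tr a (tr a x) = x := by
  simp only [tr, hf_addl, hf_smull, ha, mul_zero, add_zero, add_assoc, ← add_smul, k4_two, zero_smul]

theorem tr_swap {a b : Fin n → K4} (h : hf b a ≠ 0) : tr a b = hf b a • tr b a := by
  simp only [tr, smul_add, smul_smul, hf_swap b a, k4_cube _ h, one_smul, add_comm]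

theorem tr_conj {g : (Fin n → K4) → (Fin n → K4)} (hadd : ∀ x y, g (x + y) = g x + g y)
    (hsm : ∀ (c : K4) x, g (c • x) = c • g x) (hh : ∀ x y, hf (g x) (g y) = hf x y) (a x : Fin n → K4) :
    g (tr a x) = tr (g a) (g x) := by
  simp only [tr, hadd, hsm, hh]

theorem tr_three {a b : Fin n → K4} (ha : hf a a = 0) (x : Fin n → K4) :
    tr a (tr b (tr a x)) = tr (tr a b) x := by
  rw [tr_conj (tr_add a) (tr_smul a) (tr_herm ha), tr_invol ha]

/-! ### Dimension six -/

theorem neg_one_k4 : -(1 : K4) = 1 := by decide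

theorem exists_tS {a : V6} (ha : hf a a = 0) : ∃ g : S6, ∀ x, act g x = tr a x := by
  obtain ⟨σ, -, hfm, -⟩ := UnitaryStd.exists_setup (F := K4) (q := 2) (n := 6) (by rw [K4.card_K4]; norm_num)
    (by norm_num)
  obtain ⟨A, -, hA⟩ := UnitaryStd.exists_su_htv hfm a ha (c := 1) (by rw [map_one, neg_one_k4])
  refine ⟨A, fun x => ?_⟩
  show (A : Matrix.SpecialLinearGroup (Fin 6) K4).1 *ᵥ x = _
  rw [hA, UnitaryStd.unitaryTransvection_mulVec, one_mul]
  rfl

theorem act_ext {g k : S6} (h : ∀ x, act g x = act k x) : g = k := ext_bv fun j => h _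

theorem gen_transv (P : Subgroup S6) (h : ∀ a : V6, a ≠ 0 → hf a a = 0 → ∃ g ∈ P, ∀ x, act g x = tr a x) : P = ⊤ := by
  obtain ⟨σ, hσ, hfm, -⟩ := UnitaryStd.exists_setup (F := K4) (q := 2) (n := 6) (by rw [K4.card_K4]; norm_num)
    (by norm_num)
  refine eq_top_iff.2 ((UnitaryStd.closure_eq_top hfm (by norm_num) (by norm_num)).ge.trans
    ((Subgroup.closure_le _).2 ?_))
  rintro A ⟨v, c, hv, hA⟩
  have hact : ∀ x, act A x = x + (c * hf x v) • v := fun x => by
    show (A : Matrix.SpecialLinearGroup (Fin 6) K4).1 *ᵥ x = _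
    rw [hA, UnitaryStd.unitaryTransvection_mulVec]
  by_cases hv0 : v = 0
  · have : A = 1 := act_ext fun x => by rw [hact, hv0, smul_zero, add_zero, act_one]
    rw [this]; exact one_mem P
  have hc := UnitaryStd.anti_of_mem hfm A hv hv0 hA
  rw [hσ, show -c = c from (by decide : ∀ c : K4, -c = c) c] at hc
  rcases (by decide : ∀ c : K4, c ^ 2 = c → c = 0 ∨ c = 1) c hc with rfl | rfl
  · have : A = 1 := act_ext fun x => by rw [hact, zero_mul, zero_smul, add_zero, act_one]
    rw [this]; exact one_mem P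
  · obtain ⟨g, hg, hga⟩ := h v hv0 hv
    have : A = g := act_ext fun x => by rw [hact, one_mul, hga]; rfl
    rw [this]; exact hg

/-- The first vector of a hyperbolic pair. -/
abbrev z6 : V6 := v0

/-- The second vector of a hyperbolic pair. -/
def p6 : V6 := ![K4.w, K4.v, 0, 0, 0, 0]

/-- A vector by its three parts. -/
def pt (a : K4) (y : Fin 4 → K4) (b : K4) : V6 := ![a + b * K4.w, a + b * K4.v, y 0, y 1, y 2, y 3]

/-- The first part. -/
def al (x : V6) : K4 := x 0 * K4.v + x 1 * K4.w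

/-- The last part. -/
def be (x : V6) : K4 := x 0 + x 1

theorem pt_eta (x : V6) : pt (al x) (low x) (be x) = x := by
  funext i
  fin_cases i
  · exact (by decide : ∀ a b : K4, a * K4.v + b * K4.w + (a + b) * K4.w = a) _ _
  · exact (by decide : ∀ a b : K4, a * K4.v + b * K4.w + (a + b) * K4.v = b) _ _
  all_goals rfl

theorem al_pt (a : K4) (y : Fin 4 → K4) (b : K4) : al (pt a y b) = a :=
  (by decide : ∀ a b : K4, (a + b * K4.w) * K4.v + (a + b * K4.v) * K4.w = a) a b

theorem be_pt (a : K4) (y : Fin 4 → K4) (b : K4) : be (pt a y b) = b :=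
  (by decide : ∀ a b : K4, (a + b * K4.w) + (a + b * K4.v) = b) a b

theorem low_pt (a : K4) (y : Fin 4 → K4) (b : K4) : low (pt a y b) = y := by
  funext i; fin_cases i <;> rfl

theorem hf_pt (a : K4) (y : Fin 4 → K4) (b : K4) (a' : K4) (y' : Fin 4 → K4) (b' : K4) :
    hf (pt a y b) (pt a' y' b') = a * (b' * b') + b * (a' * a') + hf y y' := by
  have key : ∀ a b a' b' : K4, (a + b * K4.w) * (a' + b' * K4.w) ^ 2 + (a + b * K4.v) * (a' + b' * K4.v) ^ 2 =
      a * (b' * b') + b * (a' * a') := by decide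
  simp only [hf, Cfsg.hermForm, pt, Fin.sum_univ_six, Fin.sum_univ_four, Matrix.cons_val]
  rw [← key a b a' b']
  abel

theorem pt_add (a : K4) (y : Fin 4 → K4) (b : K4) (a' : K4) (y' : Fin 4 → K4) (b' : K4) :
    pt a y b + pt a' y' b' = pt (a + a') (y + y') (b + b') := by
  funext i; fin_cases i <;> simp [pt] <;> ring

theorem pt_smul (c a : K4) (y : Fin 4 → K4) (b : K4) : c • pt a y b = pt (c * a) (c • y) (c * b) := by
  funext i; fin_cases i <;> simp [pt] <;> ring

theorem pt_z : pt 1 0 0 = z6 := by decide +kernel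

theorem pt_p : pt 0 0 1 = p6 := by decide +kernel

theorem pt_inj {a : K4} {y : Fin 4 → K4} {b a' : K4} {y' : Fin 4 → K4} {b' : K4} (h : pt a y b = pt a' y' b') :
    a = a' ∧ y = y' ∧ b = b' :=
  ⟨by rw [← al_pt a y b, h, al_pt], by rw [← low_pt a y b, h, low_pt], by rw [← be_pt a y b, h, be_pt]⟩

/-! ### Dimension four -/

/-- Vectors of the four-space. -/
abbrev V4 : Type := Fin 4 → K4

theorem v4_all {P : V4 → Prop} (h : ∀ a b c e : K4, P ![a, b, c, e]) (x : V4) : P x := by
  have : x = ![x 0, x 1, x 2, x 3] := by funext i; fin_cases i <;> rfl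
  rw [this]; exact h _ _ _ _

/-- The first point of the standard line. -/
def c0 : V4 := ![1, 1, 1, K4.w]

/-- The second point of the standard line. -/
def d1 : V4 := ![1, 1, 0, 0]

/-- The standard line. -/
def inLine (x : V4) : Prop := ∃ s t : K4, x = s • c0 + t • d1

instance : DecidablePred inLine := fun x => by unfold inLine; infer_instance

/-- The list of all vectors. -/
def all4 : List V4 :=
  let l : List K4 := [K4.o, K4.l, K4.w, K4.v]
  l.flatMap fun a => l.flatMap fun b => l.flatMap fun c => l.map fun e => ![a, b, c, e]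

/-- Representatives of the isotropic points. -/
def pts : List V4 := all4.filter fun x => decide (hf x x = 0 ∧
  ((x 0 = 1) ∨ (x 0 = 0 ∧ x 1 = 1) ∨ (x 0 = 0 ∧ x 1 = 0 ∧ x 2 = 1)))

/-- Representatives orthogonal to the first point. -/
def pts0 : List V4 := pts.filter fun x => decide (hf x c0 = 0)

theorem pts_iso : ∀ x ∈ pts, hf x x = 0 := by decide +kernel

theorem pts0_iso : ∀ x ∈ pts0, hf x x = 0 ∧ hf x c0 = 0 := by decide +kernel

theorem reach_check : ∀ a b c e : K4, (![a, b, c, e] : V4) ≠ 0 → hf (![a, b, c, e] : V4) ![a, b, c, e] = 0 →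
    ∃ u ∈ pts, ∃ t ∈ pts, ∃ s : K4, s ≠ 0 ∧ tr t (tr u ![a, b, c, e]) = s • c0 := by decide +kernel

theorem reach0_check : ∀ a b c e : K4, hf (![a, b, c, e] : V4) ![a, b, c, e] = 0 →
    hf (![a, b, c, e] : V4) c0 = 0 → (∀ s : K4, (![a, b, c, e] : V4) ≠ s • c0) →
    ∃ u ∈ pts0, ∃ t ∈ pts0, inLine (tr t (tr u ![a, b, c, e])) := by decide +kernel

theorem line_max : ∀ a b c e : K4, hf (![a, b, c, e] : V4) ![a, b, c, e] = 0 → hf (![a, b, c, e] : V4) c0 = 0 →
    hf (![a, b, c, e] : V4) d1 = 0 → inLine ![a, b, c, e] := by decide +kernel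

theorem line_base : hf c0 c0 = 0 ∧ hf d1 d1 = 0 ∧ hf d1 c0 = 0 ∧ c0 ≠ 0 ∧ d1 ≠ 0 ∧ ∀ s : K4, d1 ≠ s • c0 := by
  decide +kernel

theorem line_iso : ∀ s t : K4, hf (s • c0 + t • d1) (s • c0 + t • d1) = 0 := by decide +kernel

end Cfsg.Agent.LargeFischer.Six
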