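import Cfsg.Agent.Lib.LargeFischer.StabR

/-! Finite checks on a Sylow two-subgroup of the standard copy. -/

set_option autoImplicit false
set_option maxRecDepth 100000

namespace Cfsg.Agent.LargeFischer

open Cfsg.Agent.RigidGraph.He Cfsg.Agent.U43InU62
open Matrix

/-- Representatives modulo the kernel. -/
def rm : Fin 8 → Matrix (Fin 6) (Fin 6) K4
  | 0 => !![.l, .o, .o, .o, .o, .o; .o, .l, .o, .o, .o, .o; .o, .o, .l, .o, .o, .o; .o, .o, .o, .l, .o, .o; .o, .o, .o, .o, .l, .o; .o, .o, .o, .o, .o, .l]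
  | 1 => !![.l, .o, .l, .l, .l, .l; .l, .l, .o, .l, .l, .l; .l, .l, .l, .o, .l, .l; .o, .l, .l, .l, .l, .l; .w, .w, .w, .w, .o, .w; .v, .v, .v, .v, .v, .o]
  | 2 => !![.l, .v, .l, .w, .o, .v; .w, .l, .w, .o, .v, .l; .l, .v, .l, .w, .w, .o; .v, .o, .v, .l, .l, .w; .o, .w, .v, .l, .l, .w; .w, .l, .o, .v, .v, .l]
  | 3 => !![.w, .l, .v, .l, .o, .v; .l, .v, .o, .v, .l, .w; .w, .l, .v, .l, .w, .o; .o, .w, .l, .w, .v, .l; .l, .o, .w, .v, .l, .w; .v, .w, .l, .o, .v, .l]
  | 4 => !![.o, .v, .l, .v, .v, .l; .w, .l, .w, .o, .l, .w; .l, .v, .o, .v, .v, .l; .w, .o, .w, .l, .l, .w; .w, .l, .w, .l, .o, .w; .l, .v, .l, .v, .v, .o]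
  | 5 => !![.v, .o, .w, .o, .o, .v; .o, .w, .o, .v, .w, .o; .w, .o, .v, .o, .o, .v; .o, .v, .o, .w, .w, .o; .o, .v, .o, .v, .l, .o; .w, .o, .w, .o, .o, .l]
  | 6 => !![.o, .o, .o, .l, .w, .v; .o, .o, .o, .l, .v, .w; .l, .l, .l, .o, .o, .o; .o, .o, .o, .l, .l, .l; .l, .v, .w, .o, .o, .o; .l, .w, .v, .o, .o, .o]
  | 7 => !![.o, .o, .l, .o, .l, .l; .o, .o, .l, .o, .w, .v; .o, .o, .l, .o, .v, .w; .l, .l, .o, .l, .o, .o; .v, .w, .o, .l, .o, .o; .w, .v, .o, .l, .o, .o]

/-- Their words. -/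
def rword : Fin 8 → List (Fin 8)
  | 0 => []
  | 1 => [5, 4, 7, 5, 5]
  | 2 => [4, 5, 7, 4, 4]
  | 3 => [4, 5, 5, 4, 7]
  | 4 => [5, 5, 7, 6, 5]
  | 5 => [6, 4]
  | 6 => [6, 7, 4, 4, 5]
  | 7 => [5, 5, 4, 6, 7]

/-- The indices of the involutions. -/
def invl : List (Fin 128) := [1, 2, 3, 4, 5, 6, 7, 8, 9, 10, 11, 12, 13, 14, 15, 25, 27, 29, 31, 32, 38, 41, 47, 51, 53, 56, 62, 64, 66, 68, 70, 81, 83, 85, 87]

/-- Their commutation, as rows of bits. -/
def adjl : List ℕ :=
  [32767, 34226044927, 32767, 34226044927, 32767, 34359738367, 32767, 32767, 7897087, 32767, 125861887, 32767, 125861887, 32767, 7897087, 34257469482, 34328248362, 34328248362, 34257469482, 108740896, 108740896, 33341728, 33341728, 132420640, 132420640, 127603744, 127603744, 34226012202, 34226012202, 34226012202, 34226012202, 34226012202, 34226012202, 34226012202, 34226012202]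

/-- The indices of the large subgroup. -/
def lA : List (Fin 128) := [2, 4, 6, 25, 27, 29, 31, 64, 66, 68, 70, 81, 83, 85, 87]

/-- Four generators of the large subgroup. -/
def gA : List (Fin 128) := [2, 4, 25, 64]

/-- A basis of the fixed space. -/
def bA : Fin 3 → V6 := ![![.l, .o, .l, .o, .o, .o], ![.o, .l, .o, .l, .o, .o], ![.o, .o, .o, .o, .w, .l]]

/-- Conjugating words. -/
def cwords : List (Fin 128 × List (Fin 8) × Bool) :=
  [(2, [4, 5, 6], false),
   (4, [7, 4, 6], false),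
   (6, [5], false),
   (25, [0, 4, 6, 7, 5], true),
   (27, [4, 6, 0, 7, 5], true),
   (29, [4, 6, 7, 5], true),
   (31, [3, 4, 6, 7, 5], true),
   (64, [0, 7, 5], true),
   (66, [7, 5], true),
   (68, [3, 7, 5], true),
   (70, [7, 2, 5], true),
   (81, [0, 7, 4, 4], true),
   (83, [3, 7, 4, 4], true),
   (85, [4, 7, 6, 4], true),
   (87, [7, 4, 4], true)]

/-- The upper part of an index. -/
def hiIdx (n : Fin 128) : Fin 8 := ⟨(n : ℕ) / 16, by omega⟩

/-- The lower part of an index. -/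
def loIdx (n : Fin 128) : Fin 2 × Fin 2 × Fin 2 × Fin 2 :=
  (Fin.ofNat 2 ((n : ℕ) / 8), Fin.ofNat 2 ((n : ℕ) / 4), Fin.ofNat 2 ((n : ℕ) / 2), Fin.ofNat 2 (n : ℕ))

/-- The action of an element by its index. -/
def tm (n : Fin 128) (v : V6) : V6 := rm (hiIdx n) *ᵥ kact (loIdx n) v

theorem exists_idx : ∀ (j : Fin 8) (t : Fin 2 × Fin 2 × Fin 2 × Fin 2), ∃ n, hiIdx n = j ∧ loIdx n = t := by
  decide +kernel

theorem idx_ext : ∀ m n : Fin 128, hiIdx m = hiIdx n → loIdx m = loIdx n → m = n := by decide +kernel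

/-- The images of the representatives. -/
def rperm (j : Fin 8) : Equiv.Perm (Fin 6) := ((rword j).map wPerm).prod

theorem rm_ok : ∀ j, rm j = ((rword j).map wMat).prod := by decide +kernel

theorem rperm_inj : ∀ i j, rperm i = rperm j → i = j := by decide +kernel

theorem rperm_closed : ∀ i j, ∃ k, rperm i * rperm j = rperm k := by decide +kernel

/-- The involutions by position. -/
def iv (i : Fin 35) : Fin 128 := invl.getD i 0

theorem iv_cover : ∀ n ∈ invl, ∃ i, iv i = n := by decide +kernel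

theorem iv_mem : ∀ m, iv m ∈ invl := by decide +kernel

theorem check_noninv : ∀ n, n = 0 ∨ n ∈ invl ∨ ∃ j, tm n (tm n (bv j)) ≠ bv j := by decide +kernel

/-- Adjacency. -/
def adj (i j : Fin 35) : Bool := (adjl.getD i 0).testBit j

theorem check_edge : ∀ i j, adj i j = true ∨
    ∃ k, tm (iv i) (tm (iv j) (bv k)) ≠ tm (iv j) (tm (iv i) (bv k)) := by decide +kernel

/-- Membership in the first clique. -/
def inA (i : Fin 35) : Bool := decide (iv i ∈ lA)

/-- Membership in the second clique. -/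
def inB (i : Fin 35) : Bool := decide ((i : ℕ) < 15)

/-- Exhaustion of the cliques. -/
def srch : ℕ → List (Fin 35) → List (Fin 35) → Bool
  | 0, _, _ => false
  | _ + 1, [], ch => decide (ch.length < 15) || ch.all inA || ch.all inB
  | f + 1, a :: l, ch => decide (ch.length + (l.length + 1) < 15) ||
      (srch f l ch && srch f (l.filter (adj a)) (a :: ch))

theorem srch_ok : srch 36 (List.finRange 35) [] = true := by decide +kernel

theorem clique_count : (Finset.univ.filter fun i => inA i = true).card = 15 ∧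
    (Finset.univ.filter fun i => inB i = true).card = 15 := by decide +kernel

/-- The fixed space of the large subgroup. -/
def piA (v : V6) : Prop := ∃ a b c : K4, v = a • bA 0 + b • bA 1 + c • bA 2

instance : DecidablePred piA := fun v => by unfold piA; infer_instance

theorem check_A : ∀ n, (∀ i, tm n (bA i) = bA i) ↔ (n = 0 ∨ n ∈ lA) := by decide +kernel

theorem card_lA : Fintype.card {n : Fin 128 // n = 0 ∨ n ∈ lA} = 16 := by decide +kernel

theorem check_sq : ∀ n, (n = 0 ∨ n ∈ lA) → ∀ j, tm n (tm n (bv j)) = bv j := by decide +kernel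

theorem fix_coord : ∀ a b c e f g : K4, (∀ n ∈ gA, tm n ![a, b, c, e, f, g] = ![a, b, c, e, f, g]) →
    piA ![a, b, c, e, f, g] := by decide +kernel

theorem gA_ok : ∀ n ∈ gA, n ∈ lA := by decide +kernel

theorem piA_checks : ∀ a b c : K4, wt (a • bA 0 + b • bA 1 + c • bA 2) % 2 = 0 ∧
    (a • bA 0 + b • bA 1 + c • bA 2 = 0 → a = 0 ∧ b = 0 ∧ c = 0) := by decide +kernel

theorem check_small : ∀ n ∈ invl, ∃ i j : Fin 6, ∀ a b : K4,
    a • (tm n (bv i) + bv i) + b • (tm n (bv j) + bv j) = 0 → a = 0 ∧ b = 0 := by decide +kernel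

theorem kerB_coord : (Finset.univ.filter fun v : V6 => ∀ n ∈ ([8, 4, 2, 1] : List (Fin 128)), tm n v = v).card < 64 := by
  decide +kernel

/-- The permutation used for conjugating. -/
def cperm : Equiv.Perm (Fin 6) := Equiv.swap 0 1 * Equiv.swap 1 2 * Equiv.swap 2 4 * Equiv.swap 3 5

/-- A conjugating map. -/
def cMat (p : List (Fin 8) × Bool) : Matrix (Fin 6) (Fin 6) K4 :=
  (p.1.map wMat).prod * if p.2 then monoMat cperm 1 else 1

theorem check_conj : ∀ p ∈ cwords, ∀ j, tm p.1 (cMat p.2 *ᵥ bv j) = cMat p.2 *ᵥ (wMat 0 *ᵥ bv j) := by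
  decide +kernel

theorem cwords_cover : ∀ n ∈ lA, ∃ p ∈ cwords, p.1 = n := by decide +kernel

theorem cperm_sign : Equiv.Perm.sign cperm = 1 := by decide +kernel

end Cfsg.Agent.LargeFischer
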