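import Cfsg.Agent.Lib.LargeFischer.CoverZ
import Cfsg.Agent.Lib.LargeFischer.Rank
import Cfsg.Agent.Lib.GLFourTwo.Subgroups

/-! The four-group and the elementary subgroup of order eight: the parts inside the centraliser. -/

set_option autoImplicit false
set_option maxRecDepth 100000

namespace Cfsg.Agent.LargeFischer

open Cfsg.Agent.RigidGraph.He Cfsg.Agent.U43InU62 Cfsg.Agent.LargeExtra
open Subgroup

/-- The line of the long vector. -/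
def wline : AddSubgroup V6 where
  carrier := {v | ∃ y : K4, v = y • w0}
  zero_mem' := ⟨0, (zero_smul K4 w0).symm⟩
  add_mem' := fun ⟨a, ha⟩ ⟨b, hb⟩ => ⟨a + b, by rw [ha, hb, add_smul]⟩
  neg_mem' := fun {v} ⟨a, ha⟩ => ⟨a, by rw [← ha]; exact neg_eq_of_add_eq_zero_left (v6_add_self v)⟩

theorem smul_w0_inj {a b : K4} (h : a • w0 = b • w0) : a = b := by
  have h1 : (a + b) • w0 = 0 := by rw [add_smul, h, v6_add_self]
  exact (by decide : ∀ a b : K4, a + b = 0 → a = b) _ _ ((smul_eq_zero.1 h1).resolve_right w0_ne)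

theorem card_wline : Nat.card ↥wline = 4 := by
  rw [← Nat.card_congr (Equiv.ofBijective (fun y : K4 => (⟨y • w0, y, rfl⟩ : ↥wline))
    ⟨fun a b e => smul_w0_inj (congrArg Subtype.val e :), fun v => ⟨v.2.choose, Subtype.ext v.2.choose_spec.symm⟩⟩),
    Nat.card_eq_fintype_card]
  rfl

section Aux

variable {X : Type*} [Group X] [Finite X]

theorem mem_normalizer_of_conj {V : Subgroup X} {l : X} (h : ∀ a ∈ V, l * a * l⁻¹ ∈ V) :
    l ∈ normalizer (V : Set X) := by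
  have he : V.map (MulAut.conj l).toMonoidHom = V := by
    refine Subgroup.eq_of_le_of_card_ge ?_ (by rw [card_map_of_injective (MulAut.conj l).injective])
    rintro _ ⟨a, ha, rfl⟩
    exact h a ha
  refine mem_normalizer_iff.2 fun a => ⟨h a, fun ha => ?_⟩
  obtain ⟨b, hb, e⟩ := he.ge ha
  have e' : l * b * l⁻¹ = l * a * l⁻¹ := e
  exact (show b = a from mul_left_cancel (mul_right_cancel e')) ▸ hb

/-- A normal two-subgroup dies in the alternating group of degree six. -/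
theorem a6_two_trivial {χ : X →* ↥(alternatingGroup (Fin 6))} (hχ : Function.Surjective χ) {N : Subgroup X}
    (hN : N.Normal) (h2 : IsPGroup 2 ↥N) : N ≤ χ.ker := by
  rw [← Subgroup.map_eq_bot_iff]
  have : IsSimpleGroup ↥(alternatingGroup (Fin 6)) := alternatingGroup.isSimpleGroup (by simp)
  refine (hN.map χ hχ).eq_bot_or_eq_top.resolve_right fun htop => ?_
  have hq := h2.map χ
  rw [htop] at hq
  haveI : Fact (Nat.Prime 2) := ⟨Nat.prime_two⟩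
  obtain ⟨n, hn⟩ := IsPGroup.iff_card.1 hq
  rw [Subgroup.card_top, card_alt] at hn
  have : 5 ∣ 2 ^ n := hn ▸ (by norm_num)
  exact absurd (Nat.Prime.dvd_of_dvd_pow (by norm_num) this) (by norm_num)

theorem a6_center_trivial {a : ↥(alternatingGroup (Fin 6))} (h : ∀ b, a * b = b * a) : a = 1 := by
  have : IsSimpleGroup ↥(alternatingGroup (Fin 6)) := alternatingGroup.isSimpleGroup (by simp)
  rcases (inferInstance : (Subgroup.center ↥(alternatingGroup (Fin 6))).Normal).eq_bot_or_eq_top with e | e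
  · exact Subgroup.mem_bot.1 (e ▸ Subgroup.mem_center_iff.2 fun b => (h b).symm)
  · exfalso
    have hc : ∀ x y : ↥(alternatingGroup (Fin 6)), x * y = y * x := fun x y =>
      (Subgroup.mem_center_iff.1 (e ▸ Subgroup.mem_top x) y).symm
    have := hc ⟨Equiv.swap 0 1 * Equiv.swap 1 2, Equiv.Perm.mem_alternatingGroup.2 (by decide +kernel)⟩
      ⟨Equiv.swap 0 1 * Equiv.swap 1 3, Equiv.Perm.mem_alternatingGroup.2 (by decide +kernel)⟩
    exact absurd (congrArg Subtype.val this) (by decide +kernel)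

end Aux

variable {G : Type*} [Group G] [Finite G] {z : G} {Q : Subgroup ↥(centralizer ({z} : Set G))} [Q.Normal]

namespace Model

variable (D : Model z Q)

/-- The inverse image in Q of a group of vectors. -/
noncomputable def preQ (p : AddSubgroup V6) : Subgroup G where
  carrier := {a | ∃ q : ↥(QG Q), (q : G) = a ∧ D.vec q ∈ p}
  one_mem' := ⟨1, rfl, by rw [D.vec_one]; exact p.zero_mem⟩
  mul_mem' := by
    rintro a b ⟨q, e, h⟩ ⟨q', e', h'⟩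
    exact ⟨q * q', by rw [Subgroup.coe_mul, e, e'], by rw [D.vec_mul]; exact p.add_mem h h'⟩
  inv_mem' := by
    rintro a ⟨q, e, h⟩
    exact ⟨q⁻¹, by rw [Subgroup.coe_inv, e], by rw [D.vec_inv]; exact h⟩

theorem preQ_le (p : AddSubgroup V6) : D.preQ p ≤ QG Q := fun _ ⟨q, e, _⟩ => e ▸ q.2

theorem card_preQ (p : AddSubgroup V6) : Nat.card ↥(D.preQ p) = 2 * Nat.card ↥p := by
  have hmem : ∀ a : ↥(D.preQ p), D.vec ⟨a.1, D.preQ_le p a.2⟩ ∈ p := fun a => by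
    obtain ⟨q, e, h⟩ := a.2
    exact (show q = ⟨a.1, D.preQ_le p a.2⟩ from Subtype.ext e) ▸ h
  let f : ↥(D.preQ p) →* Multiplicative ↥p := MonoidHom.mk'
    (fun a => Multiplicative.ofAdd ⟨D.vec ⟨a.1, D.preQ_le p a.2⟩, hmem a⟩)
    fun a b => congrArg Multiplicative.ofAdd (Subtype.ext (D.vec_mul ⟨a.1, _⟩ ⟨b.1, _⟩))
  have hf : Function.Surjective f := fun v => by
    obtain ⟨q, hq⟩ := D.vec_surjective v.toAdd.1
    exact ⟨⟨q.1, q, rfl, hq ▸ v.toAdd.2⟩, congrArg Multiplicative.ofAdd (Subtype.ext hq)⟩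
  have hk : Nat.card ↥f.ker = 2 := by
    have hker : ∀ a : ↥(D.preQ p), a ∈ f.ker ↔ (a : G) = 1 ∨ (a : G) = z := fun a => by
      rw [MonoidHom.mem_ker]
      refine Iff.trans ?_ (D.vec_eq_zero (x := ⟨a.1, D.preQ_le p a.2⟩))
      exact ⟨fun e => congrArg (fun v : Multiplicative ↥p => v.toAdd.1) e,
        fun e => congrArg Multiplicative.ofAdd (Subtype.ext e)⟩
    have h2 : Nat.card ↥(zpowers z) = 2 := by
      rw [Nat.card_zpowers, orderOf_eq_prime (p := 2) (by rw [pow_two]; exact D.ctx.xs.sq) D.ctx.xs.ne_one]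
    rw [← h2]
    refine Nat.card_congr
      { toFun := fun a => ⟨a.1.1, D.ctx.xs.mem_zpowers_iff.2 ((hker a.1).1 a.2)⟩
        invFun := fun a => ⟨⟨a.1, ?_⟩, ?_⟩
        left_inv := fun _ => rfl
        right_inv := fun _ => rfl }
    · rcases D.ctx.xs.mem_zpowers_iff.1 a.2 with e | e
      · rw [e]; exact one_mem _
      · rw [e]; exact ⟨⟨z, D.ctx.xs.mem⟩, rfl, by rw [D.vec_eq_zero.2 (Or.inr rfl)]; exact p.zero_mem⟩
    · exact (hker _).2 (D.ctx.xs.mem_zpowers_iff.1 a.2)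
  rw [Subgroup.card_eq_card_quotient_mul_card_subgroup f.ker,
    Nat.card_congr (QuotientGroup.quotientKerEquivOfSurjective f hf).toEquiv, hk, mul_comm]
  rfl

theorem chi_symm (x y : ↥(QG Q)) : Ctx.chi x y = Ctx.chi y x := by
  unfold Ctx.chi
  by_cases h : (x : G) * y = y * x
  · rw [if_pos h, if_pos h.symm]
  · rw [if_neg h, if_neg fun e => h e.symm]

theorem chi_eq_zero {x y : ↥(QG Q)} : Ctx.chi x y = 0 ↔ (x : G) * y = y * x := by
  unfold Ctx.chi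
  by_cases h : (x : G) * y = y * x <;> simp [h]

theorem chi_conjQ (c : ↥(centralizer ({z} : Set G))) (x y : ↥(QG Q)) :
    Ctx.chi (D.ctx.conjQ c x) (D.ctx.conjQ c y) = Ctx.chi x y := by
  have e1 : ((D.ctx.conjQ c x : ↥(QG Q)) : G) * D.ctx.conjQ c y = c.1 * ((x : G) * y) * c.1⁻¹ := by
    show c.1 * (x : G) * c.1⁻¹ * (c.1 * y * c.1⁻¹) = _
    group
  have e2 : ((D.ctx.conjQ c y : ↥(QG Q)) : G) * D.ctx.conjQ c x = c.1 * ((y : G) * x) * c.1⁻¹ := by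
    show c.1 * (y : G) * c.1⁻¹ * (c.1 * x * c.1⁻¹) = _
    group
  unfold Ctx.chi
  by_cases h : (x : G) * y = y * x
  · rw [if_pos h, if_pos (by rw [e1, e2, h])]
  · rw [if_neg h, if_neg fun e => h ?_]
    rw [e1, e2] at e
    exact mul_left_cancel (mul_right_cancel e)

theorem qg_mem {c : ↥(centralizer ({z} : Set G))} (h : c.1 ∈ QG Q) : c ∈ Q := by
  obtain ⟨q, hq, e⟩ := h
  exact (show q = c from Subtype.ext e) ▸ hq

end Model

namespace Cover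

namespace Frame

variable {D : Model z Q} {cv : Cover D} (F : cv.Frame)

/-- The elementary subgroup of order eight. -/
noncomputable abbrev V (_F : cv.Frame) : Subgroup G := D.preQ wline

theorem z_V : z ∈ F.V :=
  ⟨⟨z, D.ctx.xs.mem⟩, rfl, by rw [D.vec_eq_zero.2 (Or.inr rfl)]; exact wline.zero_mem⟩

theorem s_V : (F.s : G) ∈ F.V := ⟨F.s, rfl, 1, by rw [F.hw, one_smul]⟩

theorem r_V : (cv.rot F.s : G) ∈ F.V := ⟨cv.rot F.s, rfl, cv.c, F.vec_r⟩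

theorem card_V : Nat.card ↥F.V = 8 := by rw [V, D.card_preQ, card_wline]

theorem V_cases {a : G} (ha : a ∈ F.V) : ∃ e ∈ ({1, (F.s : G), (cv.rot F.s : G), (F.s : G) * cv.rot F.s} : Set G),
    a = e ∨ a = e * z := by
  obtain ⟨q, rfl, y, hy⟩ := ha
  have key : ∀ e : ↥(QG Q), D.vec e = y • w0 → (q : G) = e ∨ (q : G) = e * z := fun e he =>
    D.vec_eq_iff.1 (he.trans hy.symm)
  rcases (by decide : ∀ c y : K4, c ≠ 0 → c ≠ 1 → y = 0 ∨ y = 1 ∨ y = c ∨ y = 1 + c) _ y cv.hc0 cv.hc1 with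
    e | e | e | e
  · exact ⟨1, Or.inl rfl, key 1 (by rw [D.vec_one, e, zero_smul])⟩
  · exact ⟨F.s, Or.inr (Or.inl rfl), key F.s (by rw [F.hw, e, one_smul])⟩
  · exact ⟨_, Or.inr (Or.inr (Or.inl rfl)), key (cv.rot F.s) (by rw [F.vec_r, e])⟩
  · exact ⟨_, Or.inr (Or.inr (Or.inr rfl)), key (F.s * cv.rot F.s) (by
      rw [D.vec_mul, F.hw, F.vec_r, e, add_smul, one_smul])⟩

theorem V_le {S : Subgroup G} (hz : z ∈ S) (hs : (F.s : G) ∈ S) (hr : (cv.rot F.s : G) ∈ S) : F.V ≤ S := by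
  intro a ha
  obtain ⟨e, he, h⟩ := F.V_cases ha
  have heS : e ∈ S := by
    rcases he with rfl | rfl | rfl | rfl
    exacts [one_mem _, hs, hr, mul_mem hs hr]
  rcases h with rfl | rfl
  exacts [heS, mul_mem heS hz]

theorem V_le_U : F.V ≤ F.U := F.V_le F.z_U F.s_U F.r_U

theorem V_comm {a b : G} (ha : a ∈ F.V) (hb : b ∈ F.V) : a * b = b * a := F.U_comm (F.V_le_U ha) (F.V_le_U hb)

theorem V_sq {a : G} (ha : a ∈ F.V) : a * a = 1 := by
  rw [← pow_two]; exact (D.meet_elem F.hb F.hne).2 a (F.V_le_U ha)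

theorem V_elem : Cfsg.IsElementaryAbelian 2 F.V :=
  ⟨⟨⟨fun a b => Subtype.ext (F.V_comm a.2 b.2)⟩⟩, fun a ha => by rw [pow_two]; exact F.V_sq ha⟩

/-- The centraliser. -/
abbrev CV : Subgroup G := centralizer (F.V : Set G)

theorem CV_le : F.CV ≤ centralizer ({z} : Set G) := fun _ ha =>
  mem_centralizer_one.2 (mem_centralizer_iff.1 ha z F.z_V).symm

theorem mem_CV {a : G} (hz : a * z = z * a) (hs : a * F.s = F.s * a)
    (hr : a * cv.rot F.s = cv.rot F.s * a) : a ∈ F.CV := by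
  have h := F.V_le (S := centralizer ({a} : Set G)) (mem_centralizer_one.2 hz.symm) (mem_centralizer_one.2 hs.symm)
    (mem_centralizer_one.2 hr.symm)
  exact mem_centralizer_iff.2 fun b hb => mem_centralizer_one.1 (h hb)

theorem U_le_CV : F.U ≤ F.CV := fun _ ha => mem_centralizer_iff.2 fun _ hb => F.U_comm (F.V_le_U hb) ha

theorem Ls_CV (c : ↥F.Ls) : c.1.1 ∈ F.CV :=
  F.mem_CV (mem_centralizer_one.1 c.1.2) (mul_inv_eq_iff_eq_mul.1 (F.fix_s c)) (mul_inv_eq_iff_eq_mul.1 (F.fix_r c))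

include F in
theorem mem_K_of_linear {r : ↥(centralizer ({z} : Set G)) ⧸ Q}
    (hlin : ∀ (c : K4) v, D.co.r6 r (c • v) = c • D.co.r6 r v) : r ∈ D.env.K :=
  D.co.linear_mem (D.Eg_two F.hg F.hs) (D.Eg_ge F.hg F.hs) (F.hw ▸ D.Eg_le F.hg) (F.hw ▸ D.Eg_normal F.hg F.hs) hlin

theorem mk_CV (a : ↥F.CV) :
    (QuotientGroup.mk (⟨a.1, F.CV_le a.2⟩ : ↥(centralizer ({z} : Set G))) : _ ⧸ Q) ∈ (D.co.iota w0).range := by
  set c : ↥(centralizer ({z} : Set G)) := ⟨a.1, F.CV_le a.2⟩ with hc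
  have hfix : ∀ q : ↥(QG Q), (q : G) ∈ F.V → D.co.r6 (QuotientGroup.mk c) (D.vec q) = D.vec q := fun q hq => by
    rw [← D.vec_conj]
    exact congrArg D.vec (Subtype.ext (mul_inv_eq_iff_eq_mul.2 (mem_centralizer_iff.1 a.2 q hq).symm))
  have h1 := hfix F.s F.s_V
  have h2 := hfix (cv.rot F.s) F.r_V
  rw [F.hw] at h1
  rw [F.vec_r] at h2
  rw [D.co.iota_range, Subgroup.mem_inf]
  refine ⟨F.mem_K_of_linear ((D.co.r6_semi _).resolve_right fun hsemi => ?_), h1⟩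
  rw [hsemi, h1] at h2
  exact (by decide : ∀ c : K4, c ≠ 0 → c ≠ 1 → c ^ 2 ≠ c) _ cv.hc0 cv.hc1 (smul_w0_inj h2)

/-- The coordinates of the centraliser. -/
noncomputable def toW : ↥F.CV →* ↥Wgrp :=
  ((MonoidHom.ofInjective (D.co.iota_injective w0)).symm.trans
      (MulEquiv.subgroupCongr wgrp_eq.symm)).toMonoidHom.comp
    (((QuotientGroup.mk' Q).comp (Subgroup.inclusion F.CV_le)).codRestrict _ F.mk_CV)

theorem toW_spec (a : ↥F.CV) :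
    D.co.iota w0 ⟨(F.toW a).1, wgrp_eq.le (F.toW a).2⟩ =
      QuotientGroup.mk (⟨a.1, F.CV_le a.2⟩ : ↥(centralizer ({z} : Set G))) := by
  have := congrArg Subtype.val
    ((MonoidHom.ofInjective (D.co.iota_injective w0)).apply_symm_apply ⟨_, F.mk_CV a⟩)
  exact this

theorem toW_eq {a : ↥F.CV} {n : ↥(stab w0)}
    (h : D.co.iota w0 n = QuotientGroup.mk (⟨a.1, F.CV_le a.2⟩ : ↥(centralizer ({z} : Set G)))) :
    F.toW a = ⟨n.1, wgrp_eq.ge n.2⟩ := by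
  have := D.co.iota_injective w0 ((F.toW_spec a).trans h.symm)
  exact Subtype.ext (congrArg (fun t : ↥(stab w0) => t.1) this)

theorem toW_surjective : Function.Surjective F.toW := fun w => by
  obtain ⟨c, hc⟩ := F.exists_Ls (r := D.co.iota w0 ⟨w.1, wgrp_eq.le w.2⟩) ⟨_, rfl⟩
  exact ⟨⟨c.1.1, F.Ls_CV c⟩, F.toW_eq (a := ⟨c.1.1, F.Ls_CV c⟩) (n := ⟨w.1, wgrp_eq.le w.2⟩) hc.symm⟩

/-- The action on the pentads. -/
noncomputable def toA : ↥F.CV →* ↥(alternatingGroup (Fin 6)) := β.comp F.toW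

theorem toA_surjective : Function.Surjective F.toA := beta_surjective.comp F.toW_surjective

/-- The two-core. -/
noncomputable abbrev R : Subgroup G := F.toA.ker.map F.CV.subtype

theorem R_le : F.R ≤ F.CV := Subgroup.map_subtype_le _

theorem mem_R {a : G} : a ∈ F.R ↔ ∃ h : a ∈ F.CV, F.toA ⟨a, h⟩ = 1 :=
  ⟨fun ⟨b, hb, e⟩ => e ▸ ⟨b.2, MonoidHom.mem_ker.1 hb⟩, fun ⟨h, e⟩ => ⟨⟨a, h⟩, MonoidHom.mem_ker.2 e, rfl⟩⟩

theorem toA_mk_one {a : ↥F.CV}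
    (h : (QuotientGroup.mk (⟨a.1, F.CV_le a.2⟩ : ↥(centralizer ({z} : Set G))) : _ ⧸ Q) = 1) :
    F.toA a = 1 := by
  have : F.toW a = 1 := F.toW_eq (n := 1) (by rw [map_one, h])
  show β (F.toW a) = 1
  rw [this, map_one]

/-- The part of the centraliser in Q. -/
abbrev CQ : Subgroup G := QG Q ⊓ F.CV

theorem CQ_le : F.CQ ≤ F.R := fun a ha => F.mem_R.2 ⟨ha.2, F.toA_mk_one
  ((QuotientGroup.eq_one_iff _).2 (Model.qg_mem (c := ⟨a, F.CV_le ha.2⟩) ha.1))⟩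

theorem U_le_R : F.U ≤ F.R := fun a ha => by
  refine F.mem_R.2 ⟨F.U_le_CV ha, ?_⟩
  have hE := F.mk_Eg (a := ⟨a, F.U_le_C ha⟩) ha
  have h := D.co.comap_le_ker (D.Eg_two F.hg F.hs) (F.hw ▸ D.Eg_normal F.hg F.hs)
    ⟨(F.toW ⟨a, F.U_le_CV ha⟩).1, wgrp_eq.le (F.toW ⟨a, F.U_le_CV ha⟩).2⟩
    (by rw [F.toW_spec]; exact hE) (F.toW ⟨a, F.U_le_CV ha⟩).2
  exact h

theorem exists_duals : ∀ t : ZMod 2 × ZMod 2, ∃ q : ↥(QG Q),
    Ctx.chi q F.s = t.1 ∧ Ctx.chi q (cv.rot F.s) = t.2 := by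
  obtain ⟨a, ha, hq⟩ := D.ctx.xs.exists_conj F.s.2 (D.s_ne_one F.hg) F.hs
  set q1 : ↥(QG Q) := ⟨a, ha⟩ with hq1
  have h1 : Ctx.chi q1 F.s = 1 := by
    unfold Ctx.chi
    rw [if_neg fun e => ?_]
    have e' : a * (F.s : G) = F.s * a := e
    rw [e', mul_inv_cancel_right] at hq
    exact D.ctx.xs.ne_one (mul_eq_left.1 hq.symm)
  set b := Ctx.chi q1 (cv.rot F.s) with hb
  set q2 := cv.rot q1 with hq2
  have h2r : Ctx.chi q2 (cv.rot F.s) = 1 := by rw [hq2, Cover.rot, Cover.rot, D.chi_conjQ, h1]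
  have h2r' : Ctx.chi q2 (cv.rot (cv.rot F.s)) = b := by rw [hq2]; exact D.chi_conjQ _ _ _
  have h2s : Ctx.chi q2 F.s = 1 + b := by
    rw [show cv.rot (cv.rot F.s) = F.s * cv.rot F.s from Subtype.ext F.r'_eq, Model.chi_symm, D.ctx.chi_mul,
      Model.chi_symm F.s, Model.chi_symm (cv.rot F.s), h2r] at h2r'
    rw [← h2r']
    exact (by decide : ∀ a : ZMod 2, a = 1 + (a + 1)) _
  have hmul : ∀ (p q : ↥(QG Q)), (Ctx.chi (p * q) F.s, Ctx.chi (p * q) (cv.rot F.s)) =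
      (Ctx.chi p F.s, Ctx.chi p (cv.rot F.s)) + (Ctx.chi q F.s, Ctx.chi q (cv.rot F.s)) := fun p q => by
    rw [D.ctx.chi_mul, D.ctx.chi_mul]; rfl
  have h0 : Ctx.chi (1 : ↥(QG Q)) F.s = 0 ∧ Ctx.chi (1 : ↥(QG Q)) (cv.rot F.s) = 0 :=
    ⟨Model.chi_eq_zero.2 (by simp), Model.chi_eq_zero.2 (by simp)⟩
  intro t
  rcases (by decide : ∀ (b : ZMod 2) (t : ZMod 2 × ZMod 2),
    t = 0 ∨ t = (1, b) ∨ t = (1 + b, 1) ∨ t = (1, b) + (1 + b, 1)) b t with rfl | rfl | rfl | rfl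
  · exact ⟨1, h0⟩
  · exact ⟨q1, h1, rfl⟩
  · exact ⟨q2, h2s, h2r⟩
  · refine ⟨q1 * q2, ?_, ?_⟩ <;> rw [D.ctx.chi_mul]
    · rw [h1, h2s]; rfl
    · rw [← hb, h2r]; rfl

theorem mem_CQ {q : ↥(QG Q)} : (q : G) ∈ F.CQ ↔ Ctx.chi q F.s = 0 ∧ Ctx.chi q (cv.rot F.s) = 0 := by
  rw [Model.chi_eq_zero, Model.chi_eq_zero]
  exact ⟨fun h => ⟨(mem_centralizer_iff.1 h.2 _ F.s_V).symm, (mem_centralizer_iff.1 h.2 _ F.r_V).symm⟩,
    fun h => ⟨q.2, F.mem_CV (D.ctx.xs.comm q.2) h.1 h.2⟩⟩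

theorem card_CQ : Nat.card ↥F.CQ = 2048 := by
  let f : ↥(QG Q) →* Multiplicative (ZMod 2 × ZMod 2) :=
    MonoidHom.mk' (fun q => Multiplicative.ofAdd (Ctx.chi q F.s, Ctx.chi q (cv.rot F.s))) fun p q => by
      rw [D.ctx.chi_mul, D.ctx.chi_mul]; rfl
  have hf : Function.Surjective f := fun t => by
    obtain ⟨q, h1, h2⟩ := F.exists_duals t.toAdd
    exact ⟨q, congrArg Multiplicative.ofAdd (Prod.ext h1 h2)⟩
  have h := Subgroup.card_eq_card_quotient_mul_card_subgroup f.ker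
  rw [Nat.card_congr (QuotientGroup.quotientKerEquivOfSurjective f hf).toEquiv, D.ctx.card,
    show Nat.card (Multiplicative (ZMod 2 × ZMod 2)) = 4 by simp [Nat.card_eq_fintype_card]] at h
  have hk : ∀ q : ↥(QG Q), q ∈ f.ker ↔ (q : G) ∈ F.CQ := fun q => by
    rw [F.mem_CQ, MonoidHom.mem_ker]
    exact ⟨fun e => Prod.ext_iff.1 (congrArg Multiplicative.toAdd e),
      fun e => congrArg Multiplicative.ofAdd (Prod.ext e.1 e.2)⟩
  have : Nat.card ↥f.ker = Nat.card ↥F.CQ := Nat.card_congr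
    { toFun := fun q => ⟨q.1.1, (hk q.1).1 q.2⟩
      invFun := fun q => ⟨⟨q.1, q.2.1⟩, (hk _).2 q.2⟩
      left_inv := fun _ => rfl
      right_inv := fun _ => rfl }
  omega

theorem card_CV : Nat.card ↥F.CV = 5760 * 2048 := by
  rw [Subgroup.card_eq_card_quotient_mul_card_subgroup F.toW.ker,
    Nat.card_congr (QuotientGroup.quotientKerEquivOfSurjective _ F.toW_surjective).toEquiv,
    Nat.card_congr (MulEquiv.subgroupCongr wgrp_eq).toEquiv, card_stab_w0, ← F.card_CQ]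
  congr 1
  refine Nat.card_congr
    { toFun := fun a => ⟨a.1.1, ?_, a.1.2⟩
      invFun := fun a => ⟨⟨a.1, a.2.2⟩, ?_⟩
      left_inv := fun _ => rfl
      right_inv := fun _ => rfl }
  · have h := F.toW_spec a.1
    simp only [MonoidHom.mem_ker.1 a.2] at h
    rw [show D.co.iota w0 ⟨(1 : ↥Wgrp).1, _⟩ = 1 from map_one _] at h
    exact ⟨_, (QuotientGroup.eq_one_iff _).1 h.symm, rfl⟩
  · exact MonoidHom.mem_ker.2 (F.toW_eq (n := 1) (by
      rw [map_one]; exact ((QuotientGroup.eq_one_iff _).2 (Model.qg_mem a.2.1)).symm))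

theorem card_R : Nat.card ↥F.R = 32768 := by
  have h := Subgroup.card_eq_card_quotient_mul_card_subgroup F.toA.ker
  rw [Nat.card_congr (QuotientGroup.quotientKerEquivOfSurjective _ F.toA_surjective).toEquiv, card_alt,
    F.card_CV] at h
  rw [show Nat.card ↥F.R = Nat.card ↥F.toA.ker from card_map_of_injective F.CV.subtype_injective]
  omega

theorem R_two : IsPGroup 2 ↥F.R := by
  haveI : Fact (Nat.Prime 2) := ⟨Nat.prime_two⟩
  exact IsPGroup.of_card (n := 15) (by rw [F.card_R]; norm_num)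

theorem R_max {N : Subgroup G} (hle : N ≤ F.CV) (h2 : IsPGroup 2 ↥N)
    (hn : ∀ a ∈ F.CV, ∀ b ∈ N, a * b * a⁻¹ ∈ N) : N ≤ F.R := fun b hb => by
  refine F.mem_R.2 ⟨hle hb, MonoidHom.mem_ker.1 (a6_two_trivial F.toA_surjective (N := N.subgroupOf F.CV)
    ⟨fun b hb a => hn a.1 a.2 b.1 hb⟩ (h2.comap_of_injective F.CV.subtype F.CV.subtype_injective) ?_)⟩
  exact hb

/-- The normaliser. -/
abbrev L : Subgroup G := normalizer (F.V : Set G)

theorem CV_le_L : F.CV ≤ F.L := fun a ha => mem_normalizer_of_conj fun b hb => by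
  rw [← mem_centralizer_iff.1 ha b hb, mul_inv_cancel_right]; exact hb

theorem CV_conj {l a : G} (hl : l ∈ F.L) (ha : a ∈ F.CV) : l * a * l⁻¹ ∈ F.CV :=
  mem_centralizer_iff.2 fun b hb => by
    have hb' : l⁻¹ * b * l ∈ F.V := by
      have := (mem_normalizer_iff.1 (inv_mem hl) b).1 hb
      rwa [inv_inv] at this
    have h := mem_centralizer_iff.1 ha _ hb'
    calc b * (l * a * l⁻¹) = l * (l⁻¹ * b * l * a) * l⁻¹ := by group
      _ = l * (a * (l⁻¹ * b * l)) * l⁻¹ := by rw [h]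
      _ = l * a * l⁻¹ * b := by group

theorem CV_conj' {l a : G} (hl : l ∈ F.L) (ha : a ∈ F.CV) : l⁻¹ * a * l ∈ F.CV := by
  have := F.CV_conj (inv_mem hl) ha
  rwa [inv_inv] at this

theorem R_conj {l a : G} (hl : l ∈ F.L) (ha : a ∈ F.R) : l * a * l⁻¹ ∈ F.R := by
  refine F.R_max (N := F.R.map (MulAut.conj l).toMonoidHom) ?_ (F.R_two.map _) ?_ (mem_map_of_mem _ ha)
  · rintro _ ⟨b, hb, rfl⟩
    exact F.CV_conj hl (F.R_le hb)
  · rintro c hc _ ⟨b, hb, rfl⟩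
    obtain ⟨hb', e⟩ := F.mem_R.1 hb
    have hc' := F.CV_conj' hl hc
    refine ⟨(l⁻¹ * c * l) * b * (l⁻¹ * c * l)⁻¹, F.mem_R.2 ⟨mul_mem (mul_mem hc' hb') (inv_mem hc'), ?_⟩, ?_⟩
    · have := congrArg (fun t => F.toA ⟨_, hc'⟩ * t * (F.toA ⟨_, hc'⟩)⁻¹) e
      simp only [mul_one, mul_inv_cancel, ← map_inv, ← map_mul] at this
      exact this.trans (map_one _)
    · show l * ((l⁻¹ * c * l) * b * (l⁻¹ * c * l)⁻¹) * l⁻¹ = c * (l * b * l⁻¹) * c⁻¹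
      group

theorem mem_L_line {c : ↥(centralizer ({z} : Set G))} {y : K4}
    (h : D.co.r6 (QuotientGroup.mk c) w0 = y • w0) : c.1 ∈ F.L := mem_normalizer_of_conj fun a ha => by
  obtain ⟨q, rfl, t, ht⟩ := ha
  refine ⟨D.ctx.conjQ c q, rfl, ?_⟩
  rw [D.vec_conj, ht]
  rcases D.co.r6_semi (QuotientGroup.mk c) with hl | hl
  · exact ⟨t * y, by rw [hl, h, smul_smul]⟩
  · exact ⟨t ^ 2 * y, by rw [hl, h, smul_smul]⟩

theorem line_of_L {c : ↥(centralizer ({z} : Set G))} (h : c.1 ∈ F.L) :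
    ∃ y : K4, y ≠ 0 ∧ D.co.r6 (QuotientGroup.mk c) w0 = y • w0 := by
  obtain ⟨q, hq, y, hy⟩ : c.1 * (F.s : G) * c.1⁻¹ ∈ F.V := (mem_normalizer_iff.1 h _).1 F.s_V
  rw [show q = D.ctx.conjQ c F.s from Subtype.ext hq, D.vec_conj, F.hw] at hy
  refine ⟨y, fun e => ?_, hy⟩
  rw [e, zero_smul] at hy
  have := congrArg (D.co.r6 (QuotientGroup.mk c)⁻¹) hy
  rw [D.co.r6_inv, D.co.r6_zero] at this
  exact w0_ne this

/-- The elements acting trivially on the quotient by the two-core. -/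
def Dd : Subgroup G where
  carrier := {l | l ∈ F.L ∧ ∀ a ∈ F.CV, l * a * l⁻¹ * a⁻¹ ∈ F.R}
  one_mem' := ⟨one_mem _, fun a _ => by
    rw [show (1 : G) * a * (1 : G)⁻¹ * a⁻¹ = 1 by group]; exact one_mem _⟩
  mul_mem' := fun {l m} hl hm => ⟨mul_mem hl.1 hm.1, fun a ha => by
    rw [show l * m * a * (l * m)⁻¹ * a⁻¹ = l * (m * a * m⁻¹ * a⁻¹) * l⁻¹ * (l * a * l⁻¹ * a⁻¹) by group]
    exact mul_mem (F.R_conj hl.1 (hm.2 a ha)) (hl.2 a ha)⟩
  inv_mem' := fun {l} hl => ⟨inv_mem hl.1, fun a ha => by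
    have := inv_mem (hl.2 _ (F.CV_conj' hl.1 ha))
    rwa [show (l * (l⁻¹ * a * l) * l⁻¹ * (l⁻¹ * a * l)⁻¹)⁻¹ = l⁻¹ * a * l⁻¹⁻¹ * a⁻¹ by group] at this⟩

theorem mem_Dd {l : G} : l ∈ F.Dd ↔ l ∈ F.L ∧ ∀ a ∈ F.CV, l * a * l⁻¹ * a⁻¹ ∈ F.R := Iff.rfl

theorem Dd_conj {m l : G} (hm : m ∈ F.L) (hl : l ∈ F.Dd) : m * l * m⁻¹ ∈ F.Dd :=
  ⟨mul_mem (mul_mem hm hl.1) (inv_mem hm), fun a ha => by
    have := F.R_conj hm (hl.2 _ (F.CV_conj' hm ha))
    rwa [show m * (l * (m⁻¹ * a * m) * l⁻¹ * (m⁻¹ * a * m)⁻¹) * m⁻¹ =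
      m * l * m⁻¹ * a * (m * l * m⁻¹)⁻¹ * a⁻¹ by group] at this⟩

theorem Dd_inf_CV {a : G} (hd : a ∈ F.Dd) (ha : a ∈ F.CV) : a ∈ F.R := by
  refine F.mem_R.2 ⟨ha, a6_center_trivial fun b => ?_⟩
  obtain ⟨b, rfl⟩ := F.toA_surjective b
  obtain ⟨h, e⟩ := F.mem_R.1 (hd.2 b.1 b.2)
  have e' : F.toA (⟨a, ha⟩ * b * ⟨a, ha⟩⁻¹ * b⁻¹) = 1 := e
  rw [map_mul, map_mul, map_mul, map_inv, map_inv, mul_inv_eq_one, mul_inv_eq_iff_eq_mul] at e'
  exact e'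

theorem mem_Dd_of_mk {c : ↥(centralizer ({z} : Set G))} (hc : c.1 ∈ F.L)
    (h : ∀ a : ↥F.CV, ∀ n : ↥(stab w0),
      D.co.iota w0 n = (QuotientGroup.mk c : _ ⧸ Q) * QuotientGroup.mk (⟨a.1, F.CV_le a.2⟩ : ↥(centralizer ({z} : Set G))) *
        (QuotientGroup.mk c)⁻¹ * (QuotientGroup.mk (⟨a.1, F.CV_le a.2⟩ : ↥(centralizer ({z} : Set G))))⁻¹ →
      β ⟨n.1, wgrp_eq.ge n.2⟩ = 1) : c.1 ∈ F.Dd := by
  refine ⟨hc, fun a ha => ?_⟩
  have hmem : c.1 * a * c.1⁻¹ * a⁻¹ ∈ F.CV := mul_mem (F.CV_conj hc ha) (inv_mem ha)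
  refine F.mem_R.2 ⟨hmem, ?_⟩
  set n : ↥(stab w0) := ⟨(F.toW ⟨_, hmem⟩).1, wgrp_eq.le (F.toW ⟨_, hmem⟩).2⟩ with hn
  exact h ⟨a, ha⟩ n ((F.toW_spec _).trans (by
    rw [← QuotientGroup.mk_inv, ← QuotientGroup.mk_inv, ← QuotientGroup.mk_mul, ← QuotientGroup.mk_mul,
      ← QuotientGroup.mk_mul]
    rfl))

theorem Q_le_Dd {c : ↥(centralizer ({z} : Set G))} (hc : c ∈ Q) : c.1 ∈ F.Dd := by
  have h1 : (QuotientGroup.mk c : _ ⧸ Q) = 1 := (QuotientGroup.eq_one_iff _).2 hc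
  refine F.mem_Dd_of_mk (F.mem_L_line (y := 1) (by rw [h1, D.co.r6_one, one_smul])) fun a n hn => ?_
  rw [h1, one_mul, inv_one, mul_one, mul_inv_cancel, ← map_one (D.co.iota w0)] at hn
  rw [D.co.iota_injective w0 hn]
  exact map_one β

theorem x_Dd : cv.x.1 ∈ F.Dd := by
  refine F.mem_Dd_of_mk (F.mem_L_line (cv.hsc w0)) fun a n hn => ?_
  rw [← D.K_comm cv.hsc ((D.co.iota_range w0).le (F.mk_CV a)).1, mul_inv_cancel_right, mul_inv_cancel,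
    ← map_one (D.co.iota w0)] at hn
  rw [D.co.iota_injective w0 hn]
  exact map_one β

theorem exists_semi_Dd : ∃ c : ↥(centralizer ({z} : Set G)), c.1 ∈ F.Dd ∧
    D.co.r6 (QuotientGroup.mk c) w0 = w0 ∧ (QuotientGroup.mk c : _ ⧸ Q) ∉ D.env.K := by
  have hE : Model.Eg z Q F.g ≤ D.co.stab6 w0 := F.hw ▸ D.Eg_le F.hg
  have hn := F.hw ▸ D.Eg_normal F.hg F.hs
  obtain ⟨-, -, e, he, heK⟩ := D.co.outer_part (D.Eg_two F.hg F.hs) (D.Eg_ge F.hg F.hs) hE hn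
  obtain ⟨c, -, rfl⟩ := Model.mem_Eg.1 he
  refine ⟨c, F.mem_Dd_of_mk (F.mem_L_line (y := 1) (by rw [one_smul]; exact hE he)) fun a n hn' => ?_, hE he, heK⟩
  refine D.co.comap_le_ker (D.Eg_two F.hg F.hs) hn n ?_ _
  rw [hn']
  set m : _ ⧸ Q := QuotientGroup.mk (⟨a.1, F.CV_le a.2⟩ : ↥(centralizer ({z} : Set G)))
  rw [show (QuotientGroup.mk c : _ ⧸ Q) * m * (QuotientGroup.mk c)⁻¹ * m⁻¹ =
    QuotientGroup.mk c * (m * (QuotientGroup.mk c)⁻¹ * m⁻¹) by group]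
  exact mul_mem he (hn m ((D.co.iota_range w0).le (F.mk_CV a)).2 _ (inv_mem he))

/-- The product of the centraliser and the kernel. -/
def MM : Subgroup G where
  carrier := {l | l ∈ F.L ∧ ∃ a ∈ F.CV, a⁻¹ * l ∈ F.Dd}
  one_mem' := ⟨one_mem _, 1, one_mem _, by rw [inv_one, one_mul]; exact one_mem _⟩
  mul_mem' := fun {l m} ⟨hl, a, ha, hal⟩ ⟨hm, b, hb, hbm⟩ => ⟨mul_mem hl hm, a * b, mul_mem ha hb, by
    have h1 := F.Dd_conj (inv_mem (F.CV_le_L hb)) hal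
    rw [inv_inv] at h1
    rw [show (a * b)⁻¹ * (l * m) = b⁻¹ * (a⁻¹ * l) * b * (b⁻¹ * m) by group]
    exact mul_mem h1 hbm⟩
  inv_mem' := fun {l} ⟨hl, a, ha, hal⟩ => ⟨inv_mem hl, a⁻¹, inv_mem ha, by
    rw [show a⁻¹⁻¹ * l⁻¹ = a * (a⁻¹ * l)⁻¹ * a⁻¹ by group]
    exact F.Dd_conj (F.CV_le_L ha) (inv_mem hal)⟩

theorem CV_le_MM {a : G} (ha : a ∈ F.CV) : a ∈ F.MM :=
  ⟨F.CV_le_L ha, a, ha, by rw [inv_mul_cancel]; exact one_mem _⟩

theorem Dd_le_MM {a : G} (ha : a ∈ F.Dd) : a ∈ F.MM :=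
  ⟨ha.1, 1, one_mem _, by rw [inv_one, one_mul]; exact ha⟩

theorem MM_conj {m l : G} (hm : m ∈ F.L) (hl : l ∈ F.MM) : m * l * m⁻¹ ∈ F.MM := by
  obtain ⟨hl, a, ha, hal⟩ := hl
  refine ⟨mul_mem (mul_mem hm hl) (inv_mem hm), m * a * m⁻¹, F.CV_conj hm ha, ?_⟩
  rw [show (m * a * m⁻¹)⁻¹ * (m * l * m⁻¹) = m * (a⁻¹ * l) * m⁻¹ by group]
  exact F.Dd_conj hm hal

theorem LC_le {c : ↥(centralizer ({z} : Set G))} (hc : c.1 ∈ F.L) : c.1 ∈ F.MM := by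
  obtain ⟨y, hy0, hy⟩ := F.line_of_L hc
  have hx : cv.x.1 ∈ F.MM := F.Dd_le_MM F.x_Dd
  obtain ⟨p, hp, hpw⟩ : ∃ p : ↥(centralizer ({z} : Set G)), p.1 ∈ F.MM ∧
      D.co.r6 (QuotientGroup.mk (p * c)) w0 = w0 := by
    have h3 := (k4_facts _ cv.hc0 cv.hc1).1
    rcases (by decide : ∀ c y : K4, c ≠ 0 → c ≠ 1 → y ≠ 0 → y = 1 ∨ y = c ∨ y = c * c) _ y cv.hc0 cv.hc1 hy0 with
      e | e | e
    · exact ⟨1, one_mem _, by rw [one_mul, hy, e, one_smul]⟩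
    · refine ⟨cv.x * cv.x, mul_mem hx hx, ?_⟩
      rw [QuotientGroup.mk_mul, QuotientGroup.mk_mul, D.co.r6_mul, D.co.r6_mul, cv.hsc, cv.hsc, hy, e, smul_smul,
        smul_smul, h3, one_smul]
    · refine ⟨cv.x, hx, ?_⟩
      rw [QuotientGroup.mk_mul, D.co.r6_mul, cv.hsc, hy, e, smul_smul, ← mul_assoc, h3, one_smul]
  obtain ⟨e, heD, hew, heK⟩ := F.exists_semi_Dd
  obtain ⟨t, ht, htK, htw⟩ : ∃ t : ↥(centralizer ({z} : Set G)), t.1 ∈ F.MM ∧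
      (QuotientGroup.mk (t * (p * c)) : _ ⧸ Q) ∈ D.env.K ∧ D.co.r6 (QuotientGroup.mk (t * (p * c))) w0 = w0 := by
    by_cases hK : (QuotientGroup.mk (p * c) : _ ⧸ Q) ∈ D.env.K
    · exact ⟨1, one_mem _, by rw [one_mul]; exact hK, by rw [one_mul]; exact hpw⟩
    · refine ⟨e, F.Dd_le_MM heD, ?_, ?_⟩
      · rw [QuotientGroup.mk_mul]; exact Env.Coords.mul_mem_K heK hK
      · rw [QuotientGroup.mk_mul, D.co.r6_mul, hpw, hew]
  obtain ⟨l, hl⟩ := F.exists_Ls ((D.co.iota_range w0).ge ⟨htK, htw⟩)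
  have hq : l.1⁻¹ * (t * (p * c)) ∈ Q := QuotientGroup.eq.1 hl
  have h : (l.1 * (l.1⁻¹ * (t * (p * c)))).1 ∈ F.MM :=
    mul_mem (F.CV_le_MM (F.Ls_CV l)) (F.Dd_le_MM (F.Q_le_Dd hq))
  rw [mul_inv_cancel_left] at h
  have := mul_mem (inv_mem hp) (mul_mem (inv_mem ht) h)
  rwa [show p.1⁻¹ * (t.1⁻¹ * (t * (p * c)).1) = c.1 by
    show p.1⁻¹ * (t.1⁻¹ * (t.1 * (p.1 * c.1))) = c.1
    group] at this

end Frame

end Cover

end Cfsg.Agent.LargeFischer
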