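import Cfsg.Agent.Lib.LargeFischer.ThreeV
import Cfsg.Agent.Lib.LargeFischer.RankMain
import Cfsg.Agent.Lib.LocalEven.Frattini
import Cfsg.Agent.Lib.Transfer.PGroup
import Cfsg.Prelude.Def_Solvable
import Mathlib.GroupTheory.GroupAction.Quotient
import Mathlib.LinearAlgebra.Matrix.ToLin
import Mathlib.Algebra.Module.ZMod

/-! The normaliser of the elementary subgroup of order eight. -/

set_option autoImplicit false
set_option maxRecDepth 100000

namespace Cfsg.Agent.LargeFischer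

open Cfsg.Agent.RigidGraph.He Cfsg.Agent.U43InU62 Cfsg.Agent.LargeExtra
open Subgroup
open scoped commutatorElement

theorem zmod2_mul_one : ∀ a b : ZMod 2, a * b = 1 → a = 1 := by decide

theorem sl32_facts : IsSimpleGroup (Matrix.SpecialLinearGroup (Fin 3) (ZMod 2)) ∧
    Nat.card (Matrix.SpecialLinearGroup (Fin 3) (ZMod 2)) = 168 := by
  haveI : Fact (Nat.Prime 2) := ⟨Nat.prime_two⟩
  have hb : Function.Bijective (Matrix.SpecialLinearGroup.toGL :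
      Matrix.SpecialLinearGroup (Fin 3) (ZMod 2) →* GL (Fin 3) (ZMod 2)) := by
    refine ⟨Matrix.SpecialLinearGroup.toGL_injective, fun g => ?_⟩
    have h1 : (g : Matrix (Fin 3) (Fin 3) (ZMod 2)).det = 1 := by
      have h : (g : Matrix (Fin 3) (Fin 3) (ZMod 2)).det * (↑g⁻¹ : Matrix (Fin 3) (Fin 3) (ZMod 2)).det = 1 := by
        rw [← Matrix.det_mul, Units.mul_inv, Matrix.det_one]
      exact zmod2_mul_one _ _ h
    exact ⟨⟨g, h1⟩, Units.ext rfl⟩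
  have := Cfsg.Agent.A8Sub.gl32.1
  exact ⟨(MulEquiv.ofBijective _ hb).isSimpleGroup,
    (Nat.card_congr (MulEquiv.ofBijective _ hb).toEquiv).trans Cfsg.Agent.A8Sub.gl32.2⟩

theorem sl32_top {H : Subgroup (Matrix.SpecialLinearGroup (Fin 3) (ZMod 2))} (h : 42 ∣ Nat.card ↥H) : H = ⊤ := by
  obtain ⟨hs, hc⟩ := sl32_facts
  by_contra hne
  obtain ⟨m, hm⟩ := h
  have hmul := H.card_mul_index
  rw [hc, hm, mul_assoc] at hmul
  have hi4 : H.index ≤ 4 := Nat.le_of_dvd (by norm_num) ⟨m, by rw [mul_comm]; omega⟩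
  have hf : Finite (Matrix.SpecialLinearGroup (Fin 3) (ZMod 2) ⧸ H) := inferInstance
  let φ := MulAction.toPermHom (Matrix.SpecialLinearGroup (Fin 3) (ZMod 2))
    (Matrix.SpecialLinearGroup (Fin 3) (ZMod 2) ⧸ H)
  have hker : φ.ker = H.normalCore := (Subgroup.normalCore_eq_ker H).symm
  have hbot : φ.ker = ⊥ := (φ.normal_ker.eq_bot_or_eq_top).resolve_right fun e => hne (by
    rw [hker] at e
    exact top_le_iff.1 (e ▸ H.normalCore_le))
  have := Nat.card_le_card_of_injective φ ((MonoidHom.ker_eq_bot_iff φ).1 hbot)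
  rw [hc, Nat.card_perm, ← Subgroup.index_eq_card] at this
  have := Nat.factorial_le hi4
  simp [Nat.factorial] at *
  omega

variable {G : Type*} [Group G] [Finite G] {z : G} {Q : Subgroup ↥(centralizer ({z} : Set G))} [Q.Normal]

namespace Cover.Frame

variable {D : Model z Q} {cv : Cover D} (F : cv.Frame)

/-- A power in a group of exponent two. -/
def pw {X : Type*} [One X] (a : X) (i : ZMod 2) : X := if i = 0 then 1 else a

theorem pw_add {X : Type*} [Monoid X] {a : X} (ha : a * a = 1) (i j : ZMod 2) : pw a (i + j) = pw a i * pw a j := by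
  rcases (by decide : ∀ i : ZMod 2, i = 0 ∨ i = 1) i with rfl | rfl <;>
    rcases (by decide : ∀ i : ZMod 2, i = 0 ∨ i = 1) j with rfl | rfl <;>
    simp [pw, ha, show ((1 : ZMod 2) + 1) = 0 from rfl]

variable (hF : Cfsg.IsOfLargeFischerTypeAt z Q)

include hF in
theorem h_L : F.h ∈ F.L := by
  suffices F.h⁻¹ ∈ F.L by simpa using inv_mem this
  refine mem_normalizer_of_conj ?_
  have key : F.V ≤ F.V.map (MulAut.conj F.h).toMonoidHom := by
    refine F.V_le ?_ ?_ ?_ <;> rw [mem_conjMap]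
    · obtain ⟨b, hb, -, -⟩ := F.nu_z hF
      exact ⟨⟨_, F.pull_mem F.z_U⟩, rfl, b, hb⟩
    · rw [← F.hh, show F.h⁻¹ * (F.h * z * F.h⁻¹) * F.h = z by group]
      exact F.z_V
    · rw [← F.hr0]
      exact ⟨F.r0, rfl, 1, by rw [F.hw0, one_smul]⟩
  intro a ha
  rw [inv_inv]
  exact mem_conjMap.1 (key ha)

theorem move_s {v : G} (hv : v ∈ F.V) (h1 : v ≠ 1) (hz : v ≠ z) :
    ∃ c : ↥(centralizer ({z} : Set G)), c.1 ∈ F.L ∧ c.1 * F.s * c.1⁻¹ = v := by
  obtain ⟨q, rfl, y, hy⟩ := hv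
  have hy0 : y ≠ 0 := fun e => by
    rw [e, zero_smul, D.vec_eq_zero] at hy
    exact hy.elim h1 hz
  obtain ⟨p, hp⟩ : ∃ p : ↥(centralizer ({z} : Set G)), D.co.r6 (QuotientGroup.mk p) (D.vec F.s) = D.vec q := by
    rw [F.hw, hy]
    rcases (by decide : ∀ c y : K4, c ≠ 0 → c ≠ 1 → y ≠ 0 → y = 1 ∨ y = c ∨ y = c * c) _ y cv.hc0 cv.hc1 hy0 with
      e | e | e
    · exact ⟨1, by rw [QuotientGroup.mk_one, D.co.r6_one, e, one_smul]⟩
    · exact ⟨cv.x, by rw [cv.hsc, e]⟩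
    · exact ⟨cv.x * cv.x, by rw [QuotientGroup.mk_mul, D.co.r6_mul, cv.hsc, cv.hsc, e, smul_smul]⟩
  obtain ⟨d, hd⟩ := D.conj_of_r6 hp h1 hz
  refine ⟨d, F.mem_L_line (y := y) ?_, hd⟩
  rw [← F.hw, ← D.vec_conj, show D.ctx.conjQ d F.s = q from Subtype.ext hd, hy, F.hw]

include hF in
theorem L_le : F.L ≤ F.MM := by
  have hh : F.h ∈ F.L := F.h_L hF
  set w := F.h⁻¹ * z * F.h with hw
  have hwV : w ∈ F.V := by
    have := (mem_normalizer_iff.1 (inv_mem hh) z).1 F.z_V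
    rwa [inv_inv] at this
  have hw1 : w ≠ 1 := fun e => D.ctx.xs.ne_one (by
    calc z = F.h * w * F.h⁻¹ := by rw [hw]; group
      _ = 1 := by rw [e]; group)
  have hwz : w ≠ z := fun e => F.hs (by
    rw [← F.hh]
    calc F.h * z * F.h⁻¹ = F.h * w * F.h⁻¹ := by rw [e]
      _ = z := by rw [hw]; group)
  obtain ⟨q, hq, hq'⟩ := D.ctx.xs.exists_conj (D.preQ_le _ hwV) hw1 hwz
  obtain ⟨qc, hqc, hqe⟩ := D.exists_coe ⟨q, hq⟩
  have hm : F.h * q * F.h⁻¹ ∈ F.MM := F.MM_conj hh (F.Dd_le_MM (by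
    rw [show q = qc.1 from hqe.symm]; exact F.Q_le_Dd hqc))
  have hmz : F.h * q * F.h⁻¹ * z * (F.h * q * F.h⁻¹)⁻¹ = z * F.s := by
    calc F.h * q * F.h⁻¹ * z * (F.h * q * F.h⁻¹)⁻¹ = F.h * (q * w * q⁻¹) * F.h⁻¹ := by rw [hw]; group
      _ = F.h * (w * z) * F.h⁻¹ := by rw [hq']
      _ = z * (F.h * z * F.h⁻¹) := by rw [hw]; group
      _ = z * F.s := by rw [F.hh]
  intro l hl
  set v := l * z * l⁻¹ with hv
  have hvV : v ∈ F.V := (mem_normalizer_iff.1 hl z).1 F.z_V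
  obtain ⟨m, hmM, hmv⟩ : ∃ m ∈ F.MM, m * z * m⁻¹ = v := by
    by_cases hvz : v = z
    · exact ⟨1, one_mem _, by rw [hvz]; group⟩
    have hv1 : v ≠ 1 := fun e => D.ctx.xs.ne_one (conj_eq_one_iff.1 e)
    obtain ⟨c, hcL, hc⟩ := F.move_s (v := v * z) (mul_mem hvV F.z_V)
      (fun e => hvz (by rw [eq_inv_of_mul_eq_one_left e]; exact inv_eq_of_mul_eq_one_right D.ctx.xs.sq))
      (fun e => hv1 (mul_eq_right.1 e))
    refine ⟨c.1 * (F.h * q * F.h⁻¹), mul_mem (F.LC_le hcL) hm, ?_⟩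
    have hcz := mem_centralizer_one.1 c.2
    calc c.1 * (F.h * q * F.h⁻¹) * z * (c.1 * (F.h * q * F.h⁻¹))⁻¹
        = c.1 * (F.h * q * F.h⁻¹ * z * (F.h * q * F.h⁻¹)⁻¹) * c.1⁻¹ := by group
      _ = c.1 * z * F.s * c.1⁻¹ := by rw [hmz]; group
      _ = z * (c.1 * F.s * c.1⁻¹) := by rw [hcz]; group
      _ = v * (z * z) := by rw [hc, ← mul_assoc, F.V_comm F.z_V hvV, mul_assoc]
      _ = v := by rw [D.ctx.xs.sq, mul_one]
  have hC : m⁻¹ * l ∈ centralizer ({z} : Set G) := mem_centralizer_one.2 (by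
    calc m⁻¹ * l * z = m⁻¹ * (l * z * l⁻¹) * l := by group
      _ = m⁻¹ * (m * z * m⁻¹) * l := by rw [hmv]
      _ = z * (m⁻¹ * l) := by group)
  have := mul_mem hmM (F.LC_le (c := ⟨_, hC⟩) (mul_mem (inv_mem hmM.1) hl))
  rwa [mul_inv_cancel_left] at this

/-- The two-core inside the normaliser. -/
noncomputable abbrev RL : Subgroup ↥F.L := F.R.subgroupOf F.L

theorem R_le_L : F.R ≤ F.L := F.R_le.trans F.CV_le_L

theorem RL_normal : F.RL.Normal := ⟨fun a ha l => F.R_conj l.2 ha⟩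

include hF in
theorem exists_A : ∃ Φ : ↥F.L →* ↥(alternatingGroup (Fin 6)),
    ∀ (l : ↥F.L) (a : ↥F.CV), (a : G)⁻¹ * l ∈ F.Dd → Φ l = F.toA a := by
  have hdec : ∀ l : ↥F.L, ∃ a : ↥F.CV, (a : G)⁻¹ * l ∈ F.Dd := fun l => by
    obtain ⟨-, a, ha, h⟩ := F.L_le hF l.2
    exact ⟨⟨a, ha⟩, h⟩
  choose sel hsel using hdec
  have hwd : ∀ (l : ↥F.L) (a : ↥F.CV), (a : G)⁻¹ * l ∈ F.Dd → F.toA (sel l) = F.toA a := fun l a h => by
    have h1 : (a : G)⁻¹ * sel l ∈ F.Dd := by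
      have := mul_mem h (inv_mem (hsel l))
      rwa [show (a : G)⁻¹ * l * ((sel l : G)⁻¹ * l)⁻¹ = (a : G)⁻¹ * sel l by group] at this
    obtain ⟨h2, e⟩ := F.mem_R.1 (F.Dd_inf_CV h1 (mul_mem (inv_mem a.2) (sel l).2))
    have e' : F.toA (a⁻¹ * sel l) = 1 := e
    rw [map_mul, map_inv, inv_mul_eq_one] at e'
    exact e'.symm
  refine ⟨MonoidHom.mk' (fun l => F.toA (sel l)) fun l m => ?_, hwd⟩
  rw [← map_mul]
  refine hwd _ _ ?_
  show ((sel l : G) * sel m)⁻¹ * ((l : G) * m) ∈ F.Dd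
  rw [show ((sel l : G) * sel m)⁻¹ * ((l : G) * m) =
    (sel m : G)⁻¹ * ((sel l : G)⁻¹ * l) * sel m * ((sel m : G)⁻¹ * m) by group]
  refine mul_mem ?_ (hsel m)
  have := F.Dd_conj (inv_mem (F.CV_le_L (sel m).2)) (hsel l)
  rwa [inv_inv] at this

theorem exists_basis : ∃ b : (Fin 3 → ZMod 2) ≃+ Additive ↥F.V,
    ∀ i, (b i).toMul.1 = pw z (i 0) * pw (F.s : G) (i 1) * pw (cv.rot F.s : G) (i 2) := by
  have hmem : ∀ (a : G), a ∈ F.V → ∀ i, pw a i ∈ F.V := fun a ha i => by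
    unfold pw; split_ifs
    exacts [one_mem _, ha]
  let fb : (Fin 3 → ZMod 2) →+ Additive ↥F.V := AddMonoidHom.mk'
    (fun i => Additive.ofMul ⟨pw z (i 0) * pw (F.s : G) (i 1) * pw (cv.rot F.s : G) (i 2),
      mul_mem (mul_mem (hmem _ F.z_V _) (hmem _ F.s_V _)) (hmem _ F.r_V _)⟩) fun i j => by
    refine congrArg Additive.ofMul (Subtype.ext ?_)
    show pw z (i 0 + j 0) * pw (F.s : G) (i 1 + j 1) * pw (cv.rot F.s : G) (i 2 + j 2) =
      pw z (i 0) * pw (F.s : G) (i 1) * pw (cv.rot F.s : G) (i 2) *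
        (pw z (j 0) * pw (F.s : G) (j 1) * pw (cv.rot F.s : G) (j 2))
    rw [pw_add (F.V_sq F.z_V), pw_add (F.V_sq F.s_V), pw_add (F.V_sq F.r_V)]
    have m0 := hmem _ F.z_V; have m1 := hmem _ F.s_V; have m2 := hmem _ F.r_V
    calc pw z (i 0) * pw z (j 0) * (pw (F.s : G) (i 1) * pw (F.s : G) (j 1)) *
          (pw (cv.rot F.s : G) (i 2) * pw (cv.rot F.s : G) (j 2))
        = pw z (i 0) * (pw z (j 0) * pw (F.s : G) (i 1)) *
            (pw (F.s : G) (j 1) * pw (cv.rot F.s : G) (i 2)) * pw (cv.rot F.s : G) (j 2) := by group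
      _ = pw z (i 0) * pw (F.s : G) (i 1) * (pw z (j 0) * pw (cv.rot F.s : G) (i 2)) * pw (F.s : G) (j 1) *
            pw (cv.rot F.s : G) (j 2) := by rw [F.V_comm (m0 _) (m1 _), F.V_comm (m1 (j 1)) (m2 _)]; group
      _ = _ := by rw [F.V_comm (m0 (j 0)) (m2 (i 2))]; group
  refine ⟨AddEquiv.ofBijective fb ((Nat.bijective_iff_injective_and_card fb).2
    ⟨(injective_iff_map_eq_zero fb).2 fun i hi => ?_, ?_⟩), fun i => rfl⟩
  · have e : pw z (i 0) * pw (F.s : G) (i 1) * pw (cv.rot F.s : G) (i 2) = 1 :=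
      congrArg (fun a : Additive ↥F.V => a.toMul.1) hi
    have hq : ((⟨z, D.ctx.xs.mem⟩ : ↥(QG Q)) : G) = z := rfl
    have hv : (if i 1 = 0 then (0 : K4) else 1) + (if i 2 = 0 then (0 : K4) else cv.c) = 0 := by
      refine smul_w0_inj ?_
      rw [zero_smul, add_smul]
      have e2 : D.vec (pw ⟨z, D.ctx.xs.mem⟩ (i 0) * pw F.s (i 1) * pw (cv.rot F.s) (i 2)) = 0 := by
        refine D.vec_eq_zero.2 (Or.inl ?_)
        rw [Subgroup.coe_mul, Subgroup.coe_mul]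
        refine Eq.trans ?_ e
        unfold pw
        split_ifs <;> rfl
      rw [D.vec_mul, D.vec_mul] at e2
      unfold pw at e2
      split_ifs at e2 ⊢ <;>
        simp only [D.vec_one, F.hw, F.vec_r, D.vec_eq_zero.2 (Or.inr hq), zero_add, add_zero] at e2 ⊢ <;>
        simp only [zero_smul, one_smul, zero_add, add_zero] <;> exact e2
    obtain ⟨h1, h2⟩ := (by decide : ∀ (c : K4) (j k : ZMod 2), c ≠ 0 → c ≠ 1 →
      (if j = 0 then (0 : K4) else 1) + (if k = 0 then (0 : K4) else c) = 0 → j = 0 ∧ k = 0)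
      _ _ _ cv.hc0 cv.hc1 hv
    have h0 : i 0 = 0 := by
      by_contra hne
      rw [pw, if_neg hne, pw, if_pos h1, pw, if_pos h2, mul_one, mul_one] at e
      exact D.ctx.xs.ne_one e
    funext k
    fin_cases k <;> assumption
  · rw [Nat.card_congr (Additive.toMul : Additive ↥F.V ≃ ↥F.V), F.card_V]
    simp [Nat.card_eq_fintype_card]

theorem exists_Psi : ∃ Ψ : ↥F.L →* Matrix.SpecialLinearGroup (Fin 3) (ZMod 2), ∀ l, Ψ l = 1 ↔ (l : G) ∈ F.CV := by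
  obtain ⟨b, -⟩ := F.exists_basis
  let cj : ↥F.L → Additive ↥F.V →+ Additive ↥F.V := fun l => AddMonoidHom.mk'
    (fun a => Additive.ofMul ⟨(l : G) * a.toMul.1 * (l : G)⁻¹, (mem_normalizer_iff.1 l.2 _).1 a.toMul.2⟩)
    fun a c => congrArg Additive.ofMul (Subtype.ext (by
      show (l : G) * (a.toMul.1 * c.toMul.1) * (l : G)⁻¹ = l * a.toMul.1 * (l : G)⁻¹ * (l * c.toMul.1 * (l : G)⁻¹)
      group))
  have hcj : ∀ l m a, cj (l * m) a = cj l (cj m a) := fun l m a => congrArg Additive.ofMul (Subtype.ext (by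
    show ((l : G) * m) * a.toMul.1 * ((l : G) * m)⁻¹ = l * (m * a.toMul.1 * (m : G)⁻¹) * (l : G)⁻¹
    group))
  let lin : ↥F.L → (Fin 3 → ZMod 2) →ₗ[ZMod 2] (Fin 3 → ZMod 2) := fun l =>
    AddMonoidHom.toZModLinearMap 2 ((b.symm.toAddMonoidHom.comp (cj l)).comp b.toAddMonoidHom)
  have hlin : ∀ l i, lin l i = b.symm (cj l (b i)) := fun _ _ => rfl
  let M : ↥F.L → Matrix (Fin 3) (Fin 3) (ZMod 2) := fun l => LinearMap.toMatrix' (lin l)
  have hM : ∀ l m, M (l * m) = M l * M m := fun l m => by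
    show LinearMap.toMatrix' (lin (l * m)) = LinearMap.toMatrix' (lin l) * LinearMap.toMatrix' (lin m)
    rw [← LinearMap.toMatrix'_comp]
    congr 1
    refine LinearMap.ext fun i => ?_
    rw [LinearMap.comp_apply, hlin, hlin, hlin, AddEquiv.apply_symm_apply, hcj]
  have h1 : ∀ l, (∀ a, cj l a = a) → M l = 1 := fun l h => by
    show LinearMap.toMatrix' (lin l) = 1
    rw [show lin l = LinearMap.id from LinearMap.ext fun i => by rw [hlin, h, AddEquiv.symm_apply_apply]; rfl,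
      LinearMap.toMatrix'_id]
  have hM1 : M 1 = 1 := h1 1 fun a => congrArg Additive.ofMul (Subtype.ext (by
    show (1 : G) * a.toMul.1 * (1 : G)⁻¹ = a.toMul.1
    group))
  have hdet : ∀ l, (M l).det = 1 := fun l => by
    have h : (M l).det * (M l⁻¹).det = 1 := by rw [← Matrix.det_mul, ← hM, mul_inv_cancel, hM1, Matrix.det_one]
    exact zmod2_mul_one _ _ h
  refine ⟨MonoidHom.mk' (fun l => ⟨M l, hdet l⟩) fun l m => Subtype.ext (hM l m), fun l => ⟨fun h => ?_, fun h => ?_⟩⟩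
  · have hid : lin l = LinearMap.id := LinearMap.toMatrix'.injective (by
      rw [LinearMap.toMatrix'_id]
      exact congrArg Subtype.val h)
    refine mem_centralizer_iff.2 fun a ha => ?_
    have h2 := congrArg b (LinearMap.congr_fun hid (b.symm (Additive.ofMul ⟨a, ha⟩)))
    rw [hlin, AddEquiv.apply_symm_apply, AddEquiv.apply_symm_apply, LinearMap.id_apply,
      AddEquiv.apply_symm_apply] at h2
    have h3 : (l : G) * a * (l : G)⁻¹ = a := congrArg (fun t : Additive ↥F.V => t.toMul.1) h2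
    exact (mul_inv_eq_iff_eq_mul.1 h3).symm
  · refine Subtype.ext (h1 l fun a => congrArg Additive.ofMul (Subtype.ext ?_))
    exact mul_inv_eq_iff_eq_mul.2 (mem_centralizer_iff.1 h _ a.toMul.2).symm

include hF in
theorem Psi_surjective {Ψ : ↥F.L →* Matrix.SpecialLinearGroup (Fin 3) (ZMod 2)}
    (hΨ : ∀ l, Ψ l = 1 ↔ (l : G) ∈ F.CV) : Function.Surjective Ψ := by
  classical
  rw [← MonoidHom.range_eq_top]
  refine sl32_top ?_
  set LC := (centralizer ({z} : Set G)).subgroupOf F.L with hLC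
  have hh : F.h ∈ F.L := F.h_L hF
  have horb : ∀ v : {v : ↥F.V // v.1 ≠ 1}, ∃ m : ↥F.L, (m : G) * z * (m : G)⁻¹ = v.1.1 := by
    rintro ⟨⟨v, hv⟩, hv1⟩
    by_cases hvz : v = z
    · exact ⟨1, by show (1 : G) * z * (1 : G)⁻¹ = v; rw [hvz]; group⟩
    obtain ⟨c, hc, e⟩ := F.move_s hv hv1 hvz
    refine ⟨⟨c.1, hc⟩ * ⟨F.h, hh⟩, ?_⟩
    show c.1 * F.h * z * (c.1 * F.h)⁻¹ = v
    rw [show c.1 * F.h * z * (c.1 * F.h)⁻¹ = c.1 * (F.h * z * F.h⁻¹) * c.1⁻¹ by group, F.hh, e]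
  choose m hm using horb
  let orb : ↥F.L → {v : ↥F.V // v.1 ≠ 1} := fun l =>
    ⟨⟨(l : G) * z * (l : G)⁻¹, (mem_normalizer_iff.1 l.2 z).1 F.z_V⟩, fun e => D.ctx.xs.ne_one (conj_eq_one_iff.1 e)⟩
  have hLC' : ∀ l : ↥F.L, (m (orb l))⁻¹ * l ∈ LC := fun l => mem_subgroupOf.2 (mem_centralizer_one.2 (by
    show (m (orb l) : G)⁻¹ * l * z = z * ((m (orb l) : G)⁻¹ * l)
    calc (m (orb l) : G)⁻¹ * l * z = (m (orb l) : G)⁻¹ * ((l : G) * z * (l : G)⁻¹) * l := by group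
      _ = (m (orb l) : G)⁻¹ * ((m (orb l) : G) * z * (m (orb l) : G)⁻¹) * l := by rw [hm (orb l)]
      _ = z * ((m (orb l) : G)⁻¹ * l) := by group))
  have hLcard : Nat.card ↥F.L = 7 * Nat.card ↥LC := by
    have h7 : Nat.card {v : ↥F.V // v.1 ≠ 1} = 7 := by
      haveI := Fintype.ofFinite ↥F.V
      have h := Fintype.card_subtype_compl (fun v : ↥F.V => v.1 = 1)
      have h1 : Fintype.card {v : ↥F.V // v.1 = 1} = 1 :=
        Fintype.card_eq_one_iff.2 ⟨⟨1, rfl⟩, fun v => Subtype.ext (Subtype.ext v.2)⟩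
      rw [Nat.card_eq_fintype_card]
      have h8 := F.card_V
      rw [Nat.card_eq_fintype_card] at h8
      rw [h, h1, h8]
    rw [← h7, ← Nat.card_prod]
    refine Nat.card_congr
      { toFun := fun l => (orb l, ⟨_, hLC' l⟩)
        invFun := fun p => m p.1 * p.2.1
        left_inv := fun l => mul_inv_cancel_left _ _
        right_inv := fun p => ?_ }
    have ho : orb (m p.1 * p.2.1) = p.1 := Subtype.ext (Subtype.ext (by
      show ((m p.1 : G) * p.2.1.1) * z * ((m p.1 : G) * p.2.1.1)⁻¹ = p.1.1.1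
      rw [← hm p.1, show ((m p.1 : G) * p.2.1.1) * z * ((m p.1 : G) * p.2.1.1)⁻¹ =
        (m p.1 : G) * (p.2.1.1 * z) * (p.2.1.1)⁻¹ * (m p.1 : G)⁻¹ by group,
        mem_centralizer_one.1 (mem_subgroupOf.1 p.2.2)]
      group))
    exact Prod.ext ho (Subtype.ext (by
      show (m (orb (m p.1 * p.2.1)))⁻¹ * (m p.1 * p.2.1) = p.2.1
      rw [ho, inv_mul_cancel_left]))
  have hker : Ψ.ker ≤ LC := fun l hl => mem_subgroupOf.2 (F.CV_le ((hΨ l).1 (MonoidHom.mem_ker.1 hl)))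
  have h6 : 6 ∣ Nat.card ↥(LC.map Ψ) := by
    have hx : cv.x.1 ∈ F.L := F.x_Dd.1
    have hx1 : Ψ ⟨cv.x.1, hx⟩ ≠ 1 := fun e => F.r_ne (by
      rw [cv.rot_val, ← mem_centralizer_iff.1 ((hΨ _).1 e) _ F.s_V, mul_inv_cancel_right])
    obtain ⟨q, hq, hq'⟩ := D.ctx.xs.exists_conj F.s.2 (D.s_ne_one F.hg) F.hs
    obtain ⟨qc, hqc, hqe⟩ := D.exists_coe ⟨q, hq⟩
    have hqL : q ∈ F.L := by rw [show q = qc.1 from hqe.symm]; exact (F.Q_le_Dd hqc).1
    have hq1 : Ψ ⟨q, hqL⟩ ≠ 1 := fun e => D.ctx.xs.ne_mul_z (F.s : G) (by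
      rw [← hq', ← mem_centralizer_iff.1 ((hΨ _).1 e) _ F.s_V, mul_inv_cancel_right])
    have hq2 : Ψ ⟨q, hqL⟩ ^ 2 = 1 := by
      rw [← map_pow, hΨ]
      show q ^ 2 ∈ F.CV
      rw [pow_two]
      rcases D.ctx.xs.sq_cases hq with e | e <;> rw [e]
      exacts [one_mem _, F.mem_CV rfl (D.ctx.xs.comm F.s.2).symm (D.ctx.xs.comm (cv.rot F.s).2).symm]
    have hx3 : Ψ ⟨cv.x.1, hx⟩ ^ 3 = 1 := by
      rw [← map_pow, show (⟨cv.x.1, hx⟩ : ↥F.L) ^ 3 = 1 from Subtype.ext (by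
        have h := congrArg Subtype.val cv.hx3
        rw [SubmonoidClass.coe_pow] at h ⊢
        exact h), map_one]
    haveI : Fact (Nat.Prime 2) := ⟨Nat.prime_two⟩
    haveI : Fact (Nat.Prime 3) := ⟨Nat.prime_three⟩
    have d2 := orderOf_dvd_natCard (LC.map Ψ) (mem_map_of_mem Ψ (show (⟨q, hqL⟩ : ↥F.L) ∈ LC from
      mem_subgroupOf.2 (D.ctx.xs.le_centralizer hq)))
    have d3 := orderOf_dvd_natCard (LC.map Ψ) (mem_map_of_mem Ψ (show (⟨cv.x.1, hx⟩ : ↥F.L) ∈ LC from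
      mem_subgroupOf.2 cv.x.2))
    rw [orderOf_eq_prime hq2 hq1] at d2
    rw [orderOf_eq_prime hx3 hx1] at d3
    exact Nat.Coprime.mul_dvd_of_dvd_of_dvd (by norm_num : Nat.Coprime 2 3) d2 d3
  have h1 := card_eq_map_mul Ψ LC
  rw [inf_eq_right.2 hker] at h1
  have h2 := Subgroup.card_eq_card_quotient_mul_card_subgroup Ψ.ker
  rw [Nat.card_congr (QuotientGroup.quotientKerEquivRange Ψ).toEquiv, hLcard, h1, ← mul_assoc] at h2
  rw [← Nat.eq_of_mul_eq_mul_right Nat.card_pos h2]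
  obtain ⟨k, hk⟩ := h6
  exact ⟨k, by rw [hk]; ring⟩

include hF in
theorem exists_iso : ∃ _ : F.RL.Normal, Nonempty (↥F.L ⧸ F.RL ≃*
    Matrix.SpecialLinearGroup (Fin 3) (ZMod 2) × ↥(alternatingGroup (Fin 6))) ∧
    ∀ N : Subgroup ↥F.L, N.Normal → IsPGroup 2 ↥N → N ≤ F.RL := by
  obtain ⟨Φ, hΦ⟩ := F.exists_A hF
  obtain ⟨Ψ, hΨ⟩ := F.exists_Psi
  have hΨs := F.Psi_surjective hF hΨ
  have hCV : ∀ a : ↥F.CV, Φ ⟨a.1, F.CV_le_L a.2⟩ = F.toA a ∧ Ψ ⟨a.1, F.CV_le_L a.2⟩ = 1 := fun a =>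
    ⟨hΦ _ a (by rw [inv_mul_cancel]; exact one_mem _), (hΨ _).2 a.2⟩
  let P := Ψ.prod Φ
  have hPs : Function.Surjective P := fun y => by
    obtain ⟨l, hl⟩ := hΨs y.1
    obtain ⟨a, ha⟩ := F.toA_surjective (y.2 * (Φ l)⁻¹)
    refine ⟨⟨a.1, F.CV_le_L a.2⟩ * l, ?_⟩
    show (Ψ (_ * l), Φ (_ * l)) = y
    rw [map_mul, map_mul, (hCV a).1, (hCV a).2, one_mul, ha, hl, inv_mul_cancel_right]
  have hker : P.ker = F.RL := by
    ext l
    rw [MonoidHom.mem_ker, mem_subgroupOf]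
    show (Ψ l, Φ l) = 1 ↔ _
    rw [Prod.mk_eq_one]
    constructor
    · rintro ⟨h1, h2⟩
      have hl := (hΨ l).1 h1
      exact F.mem_R.2 ⟨hl, ((hCV ⟨l.1, hl⟩).1).symm.trans h2⟩
    · intro h
      obtain ⟨hl, e⟩ := F.mem_R.1 h
      exact ⟨(hΨ l).2 hl, ((hCV ⟨l.1, hl⟩).1).trans e⟩
  haveI := F.RL_normal
  refine ⟨F.RL_normal, ⟨(QuotientGroup.quotientMulEquivOfEq hker.symm).trans
    (QuotientGroup.quotientKerEquivOfSurjective P hPs)⟩, fun N hN h2 => ?_⟩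
  rw [← hker]
  intro n hn
  refine MonoidHom.mem_ker.2 (Prod.ext ?_ ?_)
  · have := sl32_facts.1
    rcases (hN.map Ψ hΨs).eq_bot_or_eq_top with e | e
    · exact Subgroup.mem_bot.1 (e ▸ mem_map_of_mem Ψ hn)
    · exfalso
      have hp := h2.map Ψ
      rw [e] at hp
      haveI : Fact (Nat.Prime 2) := ⟨Nat.prime_two⟩
      obtain ⟨k, hk⟩ := IsPGroup.iff_card.1 hp
      rw [Subgroup.card_top, sl32_facts.2] at hk
      have : 3 ∣ 2 ^ k := hk ▸ (by norm_num)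
      exact absurd (Nat.Prime.dvd_of_dvd_pow (by norm_num) this) (by norm_num)
  · exact MonoidHom.mem_ker.1 (a6_two_trivial (χ := Φ) (fun a => by
      obtain ⟨b, hb⟩ := F.toA_surjective a
      exact ⟨⟨b.1, F.CV_le_L b.2⟩, ((hCV b).1).trans hb⟩) hN h2 hn)

theorem U_stable' {a u : G} (hs : a * F.s = F.s * a) (hr : a * cv.rot F.s = cv.rot F.s * a) (hu : u ∈ F.U) :
    a * u * a⁻¹ ∈ F.U := by
  have key : ∀ k : G, a * (k * z * k⁻¹) * a⁻¹ = k * z * k⁻¹ → u ∈ Qc Q k → a * u * a⁻¹ ∈ Qc Q k := fun k hk hm => by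
    rw [← D.Qc_congr (g := a * k) (g' := k)
      (by rw [show a * k * z * (a * k)⁻¹ = a * (k * z * k⁻¹) * a⁻¹ by group, hk]), Qc_mul,
      show a⁻¹ * (a * u * a⁻¹) * a = u by group]
    exact hm
  exact ⟨key _ (by rw [F.hg, hs, mul_inv_cancel_right]) hu.1, key _ (by rw [F.k1_z, hr, mul_inv_cancel_right]) hu.2⟩

theorem U_Q_V {a : G} (ha : a ∈ F.U) (hq : a ∈ QG Q) : a ∈ F.V := by
  have hI : InR (D.vec ⟨a, hq⟩) := D.vec_meet_mem F.hg F.hs F.hw _ ha.1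
  have h1 : InR (cv.c • D.vec ⟨a, hq⟩) := by
    rw [← cv.vec_conj_x]
    exact D.vec_meet_mem F.hg F.hs F.hw _ (F.U_conj ha).1
  have h2 : InR ((cv.c * cv.c) • D.vec ⟨a, hq⟩) := by
    rw [← smul_smul, ← cv.vec_conj_x, ← cv.vec_conj_x]
    exact D.vec_meet_mem F.hg F.hs F.hw _ (F.U_conj (F.U_conj ha)).1
  have hw' : InR (K4.w • D.vec ⟨a, hq⟩) := by
    rcases (by decide : ∀ c : K4, c ≠ 0 → c ≠ 1 → c = K4.w ∨ c * c = K4.w) _ cv.hc0 cv.hc1 with e | e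
    · exact e ▸ h1
    · exact e ▸ h2
  exact ⟨⟨a, hq⟩, rfl, InR_line hI hw'⟩

theorem R_eq : ∀ a ∈ F.R, ∃ u ∈ F.U, u⁻¹ * a ∈ F.CQ := by
  intro a ha
  let toR : ↥F.R →* ↥(centralizer ({z} : Set G)) ⧸ Q :=
    (QuotientGroup.mk' Q).comp (Subgroup.inclusion (F.R_le.trans F.CV_le))
  have hk : toR.ker = F.CQ.subgroupOf F.R := by
    ext b
    rw [MonoidHom.mem_ker, mem_subgroupOf]
    exact ⟨fun e => ⟨⟨_, (QuotientGroup.eq_one_iff _).1 e, rfl⟩, F.R_le b.2⟩,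
      fun h => (QuotientGroup.eq_one_iff _).2 (Model.qg_mem h.1)⟩
  have h1 := card_eq_map_mul toR (F.U.subgroupOf F.R)
  have h2 : Nat.card ↥(F.U.subgroupOf F.R ⊓ toR.ker) = 8 := by
    rw [hk, ← F.card_V]
    exact Nat.card_congr
      { toFun := fun b => ⟨b.1.1, F.U_Q_V b.2.1 b.2.2.1⟩
        invFun := fun b => ⟨⟨b.1, F.U_le_R (F.V_le_U b.2)⟩, F.V_le_U b.2,
          ⟨D.preQ_le _ b.2, F.U_le_CV (F.V_le_U b.2)⟩⟩
        left_inv := fun _ => rfl
        right_inv := fun _ => rfl }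
  rw [h2, Nat.card_congr (subgroupOfEquivOfLe F.U_le_R).toEquiv, show Nat.card ↥F.U = 128 from D.card_meet F.hb F.hne] at h1
  have h3 := Subgroup.card_eq_card_quotient_mul_card_subgroup toR.ker
  rw [Nat.card_congr (QuotientGroup.quotientKerEquivRange toR).toEquiv, F.card_R, hk,
    Nat.card_congr (subgroupOfEquivOfLe F.CQ_le).toEquiv, F.card_CQ] at h3
  have heq : (F.U.subgroupOf F.R).map toR = toR.range :=
    Subgroup.eq_of_le_of_card_ge (map_le_range toR _) (by omega)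
  obtain ⟨u, hu, e⟩ := heq.ge ⟨⟨a, ha⟩, rfl⟩
  exact ⟨u.1, hu, (hk.le (show u⁻¹ * ⟨a, ha⟩ ∈ toR.ker from MonoidHom.mem_ker.2 (by
    rw [map_mul, map_inv, e, inv_mul_cancel])) :)⟩

theorem V_R_comm {a v : G} (ha : a ∈ F.R) (hv : v ∈ F.V) : v * a = a * v :=
  mem_centralizer_iff.1 (F.R_le ha) v hv

theorem V_le_R : F.V ≤ F.R := F.V_le_U.trans F.U_le_R

theorem sq_R {a : G} (ha : a ∈ F.R) : a * a ∈ F.V := by
  obtain ⟨u, hu, hq⟩ := F.R_eq a ha
  set q := u⁻¹ * a with hqd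
  have ea : a = u * q := by rw [hqd, mul_inv_cancel_left]
  have hu2 : u⁻¹ = u := inv_eq_of_mul_eq_one_right (by rw [← pow_two]; exact (D.meet_elem F.hb F.hne).2 u hu)
  have hq2 : q * q ∈ F.V := by
    rcases D.ctx.xs.sq_cases hq.1 with e | e <;> rw [e]
    exacts [one_mem _, F.z_V]
  have hs : q * F.s = F.s * q := (mem_centralizer_iff.1 hq.2 _ F.s_V).symm
  have hr : q * cv.rot F.s = cv.rot F.s * q := (mem_centralizer_iff.1 hq.2 _ F.r_V).symm
  have hcU : u * (q * u⁻¹ * q⁻¹) ∈ F.U := mul_mem hu (F.U_stable' hs hr (inv_mem hu))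
  have hcQ : u * q * u⁻¹ * q⁻¹ ∈ QG Q := mul_mem (conj_mem (D.ctx.xs.norm (F.U_le_C hu)) hq.1) (inv_mem hq.1)
  have hc : u * q * u⁻¹ * q⁻¹ ∈ F.V := F.U_Q_V
    (by rw [show u * q * u⁻¹ * q⁻¹ = u * (q * u⁻¹ * q⁻¹) by group]; exact hcU) hcQ
  rw [ea, show u * q * (u * q) = u * q * u⁻¹ * q⁻¹ * (q * q) by
    rw [show u * q * u⁻¹ * q⁻¹ * (q * q) = u * q * (u⁻¹ * q) by group, hu2]]
  exact mul_mem hc hq2

theorem comm_R {a b : G} (ha : a ∈ F.R) (hb : b ∈ F.R) : ⁅a, b⁆ ∈ F.V := by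
  have h1 := F.sq_R (mul_mem ha hb)
  have h2 := inv_mem (F.sq_R ha)
  have h3 := inv_mem (F.sq_R hb)
  have hc : (a * a)⁻¹ * b = b * (a * a)⁻¹ := F.V_R_comm hb h2
  rw [commutatorElement_def,
    show a * b * a⁻¹ * b⁻¹ = a * b * (a * b) * (b⁻¹ * (a * a)⁻¹ * b⁻¹) by group,
    show b⁻¹ * (a * a)⁻¹ * b⁻¹ = (a * a)⁻¹ * (b * b)⁻¹ by
      rw [show b⁻¹ * (a * a)⁻¹ * b⁻¹ = b⁻¹ * ((a * a)⁻¹ * b) * (b⁻¹ * b⁻¹) by group, hc]; group]
  exact mul_mem h1 (mul_mem h2 h3)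

theorem center_R {a : G} (ha : a ∈ F.R) (hc : ∀ b ∈ F.R, b * a = a * b) : a ∈ F.V := by
  have haC : a ∈ centralizer ({z} : Set G) := F.CV_le (F.R_le ha)
  set m : _ ⧸ Q := QuotientGroup.mk (⟨a, haC⟩ : ↥(centralizer ({z} : Set G))) with hm
  obtain ⟨haCV, hφ⟩ := F.mem_R.1 ha
  have hmE : m ∈ Model.Eg z Q F.g := by
    have h := D.ker_lift F.hg F.hs F.hw (F.toW ⟨a, haCV⟩).2 hφ
    rw [F.toW_spec] at h
    exact h
  have hmK : m ∈ D.env.K := ((D.co.iota_range w0).le (F.mk_CV ⟨a, haCV⟩)).1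
  have hm1 : m = 1 := by
    by_contra hne
    obtain ⟨g, hg⟩ := D.exists_TT (H := Model.Eg z Q F.g ⊓ D.env.K) inf_le_right
      ((D.Eg_two F.hg F.hs).to_le inf_le_left)
    have hsmall := D.fix_le_small (hg ⟨hmE, hmK⟩) (D.Eg_sq F.hg F.hs m hmE) hne
    let Fx : AddSubgroup V6 :=
      { carrier := {v | D.co.r6 m v = v}
        zero_mem' := D.co.r6_zero m
        add_mem' := fun {u v} hu hv => by
          show D.co.r6 m (u + v) = u + v
          rw [D.co.r6_add, show D.co.r6 m u = u from hu, show D.co.r6 m v = v from hv]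
        neg_mem' := fun {v} hv => by rwa [neg_eq_of_add_eq_zero_left (v6_add_self v)] }
    have hle : F.CQ ≤ D.preQ Fx := fun b hb => by
      refine ⟨⟨b, hb.1⟩, rfl, ?_⟩
      show D.co.r6 m (D.vec ⟨b, hb.1⟩) = D.vec ⟨b, hb.1⟩
      rw [hm, ← D.vec_conj]
      exact congrArg D.vec (Subtype.ext (mul_inv_eq_iff_eq_mul.2 (hc b (F.CQ_le hb)).symm))
    have h1 := Subgroup.card_le_of_le hle
    rw [F.card_CQ, D.card_preQ] at h1
    have h2 : Nat.card ↥Fx ≤ 256 := hsmall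
    omega
  have haQ : a ∈ QG Q := ⟨_, (QuotientGroup.eq_one_iff _).1 hm1, rfl⟩
  obtain ⟨q1, h1s, h1r⟩ := F.exists_duals (1, 0)
  obtain ⟨q2, h2s, h2r⟩ := F.exists_duals (0, 1)
  let Z' : Subgroup ↥(QG Q) := (centralizer (F.CQ : Set G)).subgroupOf (QG Q)
  let f : ↥Z' →* Multiplicative (ZMod 2 × ZMod 2) :=
    MonoidHom.mk' (fun p => Multiplicative.ofAdd (Ctx.chi p.1 q1, Ctx.chi p.1 q2)) fun p q => by
      rw [Subgroup.coe_mul, D.ctx.chi_mul, D.ctx.chi_mul]; rfl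
  have hker : ∀ p ∈ f.ker, ((p : ↥(QG Q)) : G) = 1 ∨ ((p : ↥(QG Q)) : G) = z := fun p hp => by
    obtain ⟨e1, e2⟩ := Prod.ext_iff.1 (congrArg Multiplicative.toAdd (MonoidHom.mem_ker.1 hp))
    have e1' := Model.chi_eq_zero.1 e1
    have e2' := Model.chi_eq_zero.1 e2
    refine D.ctx.xs.eq_of_central p.1.2 fun w hw => ?_
    have hp0 : ∀ b ∈ F.CQ, ((p : ↥(QG Q)) : G) * b = b * (p : ↥(QG Q)) := fun b hb =>
      (mem_centralizer_iff.1 (mem_subgroupOf.1 p.2) b hb).symm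
    set w' : ↥(QG Q) := ⟨w, hw⟩
    set i := Ctx.chi w' F.s with hi
    set j := Ctx.chi w' (cv.rot F.s) with hj
    have hmem : ((w' * (pw q1 i * pw q2 j) : ↥(QG Q)) : G) ∈ F.CQ := by
      have key : ∀ (q : ↥(QG Q)) (k : ZMod 2) (y : ↥(QG Q)), Ctx.chi (pw q k) y = k * Ctx.chi q y := fun q k y => by
        rcases (by decide : ∀ i : ZMod 2, i = 0 ∨ i = 1) k with rfl | rfl
        · rw [zero_mul]; exact Model.chi_eq_zero.2 (by simp [pw])
        · rw [one_mul, pw, if_neg one_ne_zero]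
      rw [F.mem_CQ, D.ctx.chi_mul, D.ctx.chi_mul, D.ctx.chi_mul, D.ctx.chi_mul, key, key, key, key, h1s, h1r, h2s,
        h2r, ← hi, ← hj]
      exact (by decide : ∀ i j : ZMod 2, i + (i * 1 + j * 0) = 0 ∧ j + (i * 0 + j * 1) = 0) i j
    have hw' : (pw q1 i * pw q2 j : ↥(QG Q)).1 * ((p : ↥(QG Q)) : G) =
        (p : ↥(QG Q)) * (pw q1 i * pw q2 j : ↥(QG Q)).1 := by
      have hp1 : (pw q1 i : ↥(QG Q)).1 * ((p : ↥(QG Q)) : G) = (p : ↥(QG Q)) * (pw q1 i : ↥(QG Q)).1 := by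
        unfold pw; split_ifs
        · simp
        · exact e1'.symm
      have hp2 : (pw q2 j : ↥(QG Q)).1 * ((p : ↥(QG Q)) : G) = (p : ↥(QG Q)) * (pw q2 j : ↥(QG Q)).1 := by
        unfold pw; split_ifs
        · simp
        · exact e2'.symm
      rw [Subgroup.coe_mul, mul_assoc, hp2, ← mul_assoc, hp1, mul_assoc]
    have h5 := hp0 _ hmem
    have h6 : ((p : ↥(QG Q)) : G) * w = (p : ↥(QG Q)) *
        ((w' * (pw q1 i * pw q2 j) : ↥(QG Q)) : G) * ((pw q1 i * pw q2 j : ↥(QG Q)).1)⁻¹ := by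
      show _ = (p : ↥(QG Q)).1 * (w * (pw q1 i * pw q2 j : ↥(QG Q)).1) * ((pw q1 i * pw q2 j : ↥(QG Q)).1)⁻¹
      group
    rw [h6, h5]
    show w * (pw q1 i * pw q2 j : ↥(QG Q)).1 * (p : ↥(QG Q)).1 * ((pw q1 i * pw q2 j : ↥(QG Q)).1)⁻¹ = _
    rw [mul_assoc w, hw']
    group
  have hZ : Nat.card ↥Z' ≤ 8 := by
    rw [Subgroup.card_eq_card_quotient_mul_card_subgroup f.ker,
      Nat.card_congr (QuotientGroup.quotientKerEquivRange f).toEquiv]
    refine (Nat.mul_le_mul (Nat.card_le_card_of_injective _ Subtype.val_injective)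
      (Nat.card_le_card_of_injective (fun p : ↥f.ker => (⟨((p.1 : ↥(QG Q)) : G),
        D.ctx.xs.mem_zpowers_iff.2 (hker p.1 p.2)⟩ : ↥(zpowers z)))
        fun p q e => Subtype.ext (Subtype.ext (Subtype.ext (congrArg (fun t : ↥(zpowers z) => t.1) e))))).trans ?_
    rw [Nat.card_zpowers, orderOf_eq_prime (p := 2) (by rw [pow_two]; exact D.ctx.xs.sq) D.ctx.xs.ne_one,
      Nat.card_eq_fintype_card]
    simp
  have hV : F.V.subgroupOf (QG Q) = Z' := by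
    refine Subgroup.eq_of_le_of_card_ge (fun v hv => mem_subgroupOf.2 (mem_centralizer_iff.2 fun b hb => ?_))
      (by rw [Nat.card_congr (subgroupOfEquivOfLe (D.preQ_le wline)).toEquiv, F.card_V]; exact hZ)
    exact (F.V_R_comm (F.CQ_le hb) (mem_subgroupOf.1 hv)).symm
  exact mem_subgroupOf.1 (hV.ge (show (⟨a, haQ⟩ : ↥(QG Q)) ∈ Z' from mem_subgroupOf.2
    (mem_centralizer_iff.2 fun b hb => hc b (F.CQ_le hb))))

include hF in
theorem special_R : Cfsg.IsSpecial 2 ↥F.R ∧ (Subgroup.center ↥F.R).map F.R.subtype = F.V := by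
  haveI : Fact (Nat.Prime 2) := ⟨Nat.prime_two⟩
  have hcen : Subgroup.center ↥F.R = F.V.subgroupOf F.R := by
    ext a
    rw [mem_center_iff, mem_subgroupOf]
    exact ⟨fun h => F.center_R a.2 fun b hb => congrArg Subtype.val (h ⟨b, hb⟩),
      fun h b => Subtype.ext (F.V_R_comm b.2 h).symm⟩
  have hcomm : _root_.commutator ↥F.R = F.V.subgroupOf F.R := by
    refine le_antisymm ?_ ?_
    · rw [_root_.commutator_def, commutator_le]
      exact fun a _ b _ => mem_subgroupOf.2 (F.comm_R a.2 b.2)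
    · have hlift : ∀ v : G, v ∈ (_root_.commutator ↥F.R).map F.R.subtype → ∀ l ∈ F.L,
          l * v * l⁻¹ ∈ (_root_.commutator ↥F.R).map F.R.subtype := by
        intro v hv l hl
        rw [map_subtype_commutator] at hv ⊢
        have hmap : F.R.map (MulAut.conj l).toMonoidHom ≤ F.R := by
          rintro _ ⟨b, hb, rfl⟩; exact F.R_conj hl hb
        have : (MulAut.conj l).toMonoidHom v ∈ ⁅F.R, F.R⁆.map (MulAut.conj l).toMonoidHom := mem_map_of_mem _ hv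
        rw [map_commutator] at this
        exact commutator_mono hmap hmap this
      have hz : z ∈ (_root_.commutator ↥F.R).map F.R.subtype := by
        have hne : ∃ p ∈ F.CQ, ∃ q ∈ F.CQ, ¬ p * q = q * p := by
          by_contra h
          push Not at h
          have h1 := D.card_comm_le (S := F.CQ.subgroupOf (centralizer ({z} : Set G)))
            (fun a ha => Model.qg_mem (mem_subgroupOf.1 ha).1)
            fun a ha => mem_centralizer_iff.2 fun b hb => Subtype.ext (h b.1 hb a.1 ha)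
          rw [Nat.card_congr (subgroupOfEquivOfLe (inf_le_right.trans F.CV_le)).toEquiv, F.card_CQ] at h1
          omega
        obtain ⟨p, hp, q, hq, hpq⟩ := hne
        refine ⟨⁅(⟨p, F.CQ_le hp⟩ : ↥F.R), ⟨q, F.CQ_le hq⟩⁆, ?_, ?_⟩
        · rw [SetLike.mem_coe, _root_.commutator_def]
          exact commutator_mem_commutator (mem_top _) (mem_top _)
        · rcases D.ctx.xs.comm_cases hp.1 hq.1 with e | e
          · exact absurd (commutatorElement_eq_one_iff_mul_comm.1 e) hpq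
          · exact e
      have hs : (F.s : G) ∈ (_root_.commutator ↥F.R).map F.R.subtype := F.hh ▸ hlift z hz F.h (F.h_L hF)
      have hr : (cv.rot F.s : G) ∈ (_root_.commutator ↥F.R).map F.R.subtype := hlift _ hs cv.x.1 F.x_Dd.1
      intro a ha
      obtain ⟨b, hb, e⟩ := F.V_le hz hs hr (mem_subgroupOf.1 ha)
      exact (show b = a from Subtype.ext e) ▸ hb
  haveI := F.R_two.isNilpotent
  refine ⟨⟨F.R_two, le_antisymm ?_ ?_, hcomm.trans hcen.symm⟩, ?_⟩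
  · rw [hcen]
    exact LEFrattini.frattini_le (p := 2) (fun a b => mem_subgroupOf.2 (F.comm_R a.2 b.2))
      (fun a => mem_subgroupOf.2 (by rw [pow_two]; exact F.sq_R a.2))
  · rw [hcen, ← hcomm]
    exact SolvStruct.commutator_le_frattini ↥F.R
  · rw [hcen, map_subgroupOf_eq_of_le F.V_le_R]

end Cover.Frame

theorem exists_threeV (hF : Cfsg.IsOfLargeFischerTypeAt z Q) :
    ∃ V R : Subgroup G, Cfsg.IsElementaryAbelian 2 V ∧ Nat.card V = 8 ∧ z ∈ V ∧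
      R ≤ normalizer (V : Set G) ∧ Cfsg.IsSpecial 2 ↥R ∧ Nat.card R = 32768 ∧
      (Subgroup.center ↥R).map R.subtype = V ∧
      R.subgroupOf (normalizer (V : Set G)) = Cfsg.pCore 2 ↥(normalizer (V : Set G)) ∧
      ∃ _ : (R.subgroupOf (normalizer (V : Set G))).Normal,
        Nonempty (↥(normalizer (V : Set G)) ⧸ R.subgroupOf (normalizer (V : Set G)) ≃*
          Matrix.SpecialLinearGroup (Fin 3) (ZMod 2) × ↥(alternatingGroup (Fin 6))) := by
  obtain ⟨D⟩ := exists_model hF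
  obtain ⟨cv⟩ := exists_cover0 D
  obtain ⟨F⟩ := cv.exists_frame hF
  obtain ⟨hn, hiso, hmax⟩ := F.exists_iso hF
  obtain ⟨hsp, hcen⟩ := F.special_R hF
  refine ⟨F.V, F.R, F.V_elem, F.card_V, F.z_V, F.R_le_L, hsp, F.card_R, hcen, le_antisymm ?_ ?_, hn, hiso⟩
  · exact le_sSup ⟨hn, F.R_two.comap_of_injective F.L.subtype F.L.subtype_injective⟩
  · exact sSup_le fun N hN => hmax N hN.1 hN.2

end Cfsg.Agent.LargeFischer
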