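import Cfsg.Agent.Lib.LargeFischer.Env
import Cfsg.Agent.Lib.LargeFischer.Decomp
import Mathlib.GroupTheory.SpecificGroups.Alternating.Simple
import Mathlib.GroupTheory.Index

/-! The space is the sum of six weight spaces of order four. -/

set_option autoImplicit false
set_option maxRecDepth 100000

namespace Cfsg.Agent.LargeFischer

open Cfsg.Agent.RigidGraph.He Cfsg.Agent.U43InU62

/-- A representation of K in which the central element is fixed-point-free. -/
structure Rep {V R : Type*} [AddCommGroup V] [Group R] (W : Env V R) (M : Type*) [AddCommGroup M] [Finite R] where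
  two : ∀ x : M, x + x = 0
  μ : ↥W.K → M →+ M
  mul : ∀ a b x, μ (a * b) x = μ a (μ b x)
  one : ∀ x, μ 1 x = x
  faithful : ∀ a, (∀ x, μ a x = x) → a = 1
  fpf : ∀ x, x + μ W.p x + μ W.p (μ W.p x) = 0

namespace Rep

variable {V R : Type*} [AddCommGroup V] [Group R] [Finite R] {W : Env V R} {M : Type*} [AddCommGroup M]
  (r : Rep W M)

theorem mu_pow (k : ↥W.K) (x : M) : ∀ n, r.μ (k ^ n) x = (r.μ k)^[n] x
  | 0 => by rw [pow_zero, r.one]; rfl
  | n + 1 => by
    rw [pow_succ', r.mul, mu_pow k x n]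
    exact (Function.iterate_succ_apply' _ _ _).symm

/-- The eigenspace data. -/
noncomputable def dec : Dec M where
  two := r.two
  T := r.μ W.p
  E i := r.μ (W.a i)
  fpf := r.fpf
  E3 i x := by rw [← r.mul, ← r.mul, show W.a i * W.a i * W.a i = W.a i ^ 3 by rw [pow_succ, pow_two], W.a_cube, r.one]
  comm i j x := by rw [← r.mul, ← r.mul, W.a_comm]
  commT i x := by rw [← r.mul, ← r.mul, W.p_comm]

theorem mu_p_pow (n : ℕ) (x : M) : r.μ (W.p ^ n) x = r.dec.tp (n : ZMod 3) x := by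
  induction n with
  | zero => rw [pow_zero, r.one, Nat.cast_zero, Dec.tp_zero]
  | succ n ih =>
    rw [pow_succ', r.mul, ih, Nat.cast_succ, add_comm, ← Dec.tp_add]
    rfl

theorem mu_a_pow {k : Fin 5 → ZMod 3} {x : M} (hx : x ∈ r.dec.W k) (i : Fin 5) (n : ℕ) :
    r.μ (W.a i ^ n) x = r.dec.tp ((n : ZMod 3) * k i) x := by
  induction n with
  | zero => rw [pow_zero, r.one, Nat.cast_zero, zero_mul, Dec.tp_zero]
  | succ n ih =>
    rw [pow_succ', r.mul, ih, show r.μ (W.a i) (r.dec.tp ((n : ZMod 3) * k i) x) = r.dec.E i (r.dec.tp ((n : ZMod 3) * k i) x) from rfl,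
      Dec.E_tp, hx, Dec.tp_add]
    congr 2
    push_cast
    ring

theorem mu_word {k : Fin 5 → ZMod 3} {x : M} (hx : x ∈ r.dec.W k) (e : Fin 5 → ℕ) :
    r.μ (W.word e) x = r.dec.tp (∑ j, (e j : ZMod 3) * k j) x := by
  simp only [Env.word, r.mul]
  rw [r.mu_a_pow hx, r.mu_a_pow (r.dec.tp_mem _ hx), Dec.tp_add, r.mu_a_pow (r.dec.tp_mem _ hx), Dec.tp_add,
    r.mu_a_pow (r.dec.tp_mem _ hx), Dec.tp_add, r.mu_a_pow (r.dec.tp_mem _ hx), Dec.tp_add, Fin.sum_univ_five]
  congr 2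
  ring

theorem nu_comm (n : ↥W.K) (x : M) : r.μ n (r.dec.T x) = r.dec.T (r.μ n x) := by
  show r.μ n (r.μ W.p x) = r.μ W.p (r.μ n x)
  rw [← r.mul, ← r.mul, W.p_comm]

theorem exists_image {π : Equiv.Perm (Fin 6)} (hπ : Equiv.Perm.sign π = 1) (k : Fin 5 → ZMod 3) :
    ∃ k', ∀ x ∈ r.dec.W k, r.μ (W.lift (mel π done) (pm_mem hπ)) x ∈ r.dec.W k' := by
  set n := W.lift (mel π done) (pm_mem hπ)
  have h : ∀ i, ∃ c : ℕ, n⁻¹ * W.a i * n = W.word (expo (dperm (gd i) π).1) * W.p ^ c := fun i =>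
    W.exists_word (W.exists_conj (gd i) hπ (W.theta_lift _ _))
  choose c hc using h
  refine ⟨fun i => (∑ j, (expo (dperm (gd i) π).1 j : ZMod 3) * k j) + c i,
    fun x hx => r.dec.map_mem (k := k) (r.nu_comm n) fun i => ?_⟩
  show r.μ (W.a i) (r.μ n x) = r.μ n _
  rw [← r.mul, show W.a i * n = n * (n⁻¹ * W.a i * n) by group, r.mul, hc, r.mul, r.mu_p_pow,
    r.mu_word (r.dec.tp_mem _ hx), Dec.tp_add]

/-- The non-zero weights. -/
noncomputable def weights : Finset (Fin 5 → ZMod 3) := by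
  classical
  exact Finset.univ.filter fun k => r.dec.W k ≠ ⊥

theorem mem_weights {k : Fin 5 → ZMod 3} : k ∈ r.weights ↔ r.dec.W k ≠ ⊥ := by
  classical
  simp [weights]

theorem exists_ne_of {k : Fin 5 → ZMod 3} (h : k ∈ r.weights) : ∃ x ∈ r.dec.W k, x ≠ 0 := by
  by_contra hh
  push Not at hh
  exact r.mem_weights.1 h ((AddSubgroup.eq_bot_iff_forall _).2 hh)

theorem mu_ne_zero {n : ↥W.K} {x : M} (hx : x ≠ 0) : r.μ n x ≠ 0 := fun e => hx (by
  have := congrArg (r.μ n⁻¹) e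
  rwa [← r.mul, inv_mul_cancel, r.one, map_zero] at this)

theorem exists_image_mem {π : Equiv.Perm (Fin 6)} (hπ : Equiv.Perm.sign π = 1) (k : ↥r.weights) :
    ∃ k' : ↥r.weights, ∀ x ∈ r.dec.W k.1, r.μ (W.lift (mel π done) (pm_mem hπ)) x ∈ r.dec.W k'.1 := by
  obtain ⟨k', hk'⟩ := r.exists_image hπ k.1
  obtain ⟨x, hx, h0⟩ := r.exists_ne_of k.2
  exact ⟨⟨k', r.mem_weights.2 fun e => r.mu_ne_zero h0 (by
    have := hk' x hx
    rw [e, AddSubgroup.mem_bot] at this
    exact this)⟩, hk'⟩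

/-- The permutation of the weights. -/
noncomputable def wperm (π : ↥(alternatingGroup (Fin 6))) (k : ↥r.weights) : ↥r.weights :=
  (r.exists_image_mem (Equiv.Perm.mem_alternatingGroup.1 π.2) k).choose

theorem wperm_spec (π : ↥(alternatingGroup (Fin 6))) (k : ↥r.weights) :
    ∀ x ∈ r.dec.W k.1, r.μ (W.lift (mel π.1 done) (pm_mem (Equiv.Perm.mem_alternatingGroup.1 π.2))) x ∈
      r.dec.W (r.wperm π k).1 :=
  (r.exists_image_mem (Equiv.Perm.mem_alternatingGroup.1 π.2) k).choose_spec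

theorem wperm_mul (π π' : ↥(alternatingGroup (Fin 6))) (k : ↥r.weights) :
    r.wperm (π * π') k = r.wperm π (r.wperm π' k) := by
  obtain ⟨x, hx, h0⟩ := r.exists_ne_of k.2
  refine Subtype.ext (r.dec.W_unique (r.mu_ne_zero h0) (r.wperm_spec (π * π') k x hx) ?_)
  obtain ⟨n, hn⟩ := W.lift_mul (Equiv.Perm.mem_alternatingGroup.1 π.2) (Equiv.Perm.mem_alternatingGroup.1 π'.2)
    (Equiv.Perm.mem_alternatingGroup.1 (π * π').2)
  rw [show W.lift (mel (π * π').1 done) (pm_mem (Equiv.Perm.mem_alternatingGroup.1 (π * π').2)) = _ from hn,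
    r.mul, r.mul, r.mu_p_pow]
  exact r.wperm_spec π _ _ (r.wperm_spec π' k _ (r.dec.tp_mem _ hx))

theorem wperm_one (k : ↥r.weights) : r.wperm 1 k = k := by
  obtain ⟨x, hx, h0⟩ := r.exists_ne_of k.2
  refine Subtype.ext (r.dec.W_unique (r.mu_ne_zero h0) (r.wperm_spec 1 k x hx) ?_)
  obtain ⟨n, hn⟩ := W.exists_pow (x := W.lift (mel (1 : ↥(alternatingGroup (Fin 6))).1 done)
      (pm_mem (Equiv.Perm.mem_alternatingGroup.1 (1 : ↥(alternatingGroup (Fin 6))).2))) (by
    rw [W.theta_lift]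
    refine (congrArg ψ ?_).trans (map_one ψ)
    exact Subtype.ext mel_one)
  rw [hn, r.mu_p_pow]
  exact r.dec.tp_mem _ hx

/-- The action of the alternating group on the weights. -/
noncomputable def wact : ↥(alternatingGroup (Fin 6)) →* Equiv.Perm ↥r.weights where
  toFun π :=
    { toFun := r.wperm π
      invFun := r.wperm π⁻¹
      left_inv := fun k => by rw [← r.wperm_mul, inv_mul_cancel, r.wperm_one]
      right_inv := fun k => by rw [← r.wperm_mul, mul_inv_cancel, r.wperm_one] }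
  map_one' := Equiv.ext fun k => r.wperm_one k
  map_mul' a b := Equiv.ext fun k => r.wperm_mul a b k

theorem six_le : 6 ≤ r.weights.card := by
  classical
  by_contra hlt
  have hA : IsSimpleGroup ↥(alternatingGroup (Fin 6)) := alternatingGroup.isSimpleGroup (by simp)
  have hk : r.wact.ker = ⊤ := by
    refine (MonoidHom.normal_ker r.wact).eq_bot_or_eq_top.resolve_left fun h => ?_
    have h1 := Nat.card_le_card_of_injective _ ((MonoidHom.ker_eq_bot_iff _).1 h)
    rw [Nat.card_perm, Nat.card_eq_fintype_card (α := ↥r.weights), Fintype.card_coe, card_alt] at h1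
    have := Nat.factorial_le (show r.weights.card ≤ 5 by omega)
    norm_num [Nat.factorial] at this
    omega
  have hfix : ∀ π k, r.wperm π k = k := fun π k => by
    have h := MonoidHom.mem_ker.1 (hk ▸ Subgroup.mem_top π : π ∈ r.wact.ker)
    exact congrArg (fun f : Equiv.Perm ↥r.weights => f k) h
  -- all weights take the same value
  have hsame : ∀ i, ∃ s : ZMod 3, ∀ k ∈ r.weights, k i = s := fun i => by
    obtain ⟨π, hπ, e, he⟩ := pair_perm i (i + 1) ((by decide : ∀ i : Fin 5, i ≠ i + 1) i)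
    set n := W.lift (mel π done) (pm_mem hπ) with hn
    obtain ⟨s, hs⟩ := W.exists_mul_pow (x := n⁻¹ * W.a i * n) (y := W.a i * W.a i)
      ((W.exists_conj (gd i) hπ (x := W.a i) (W.theta_lift _ _)).trans (by
        rw [map_mul, Env.a, W.theta_lift, ← map_mul]
        refine congrArg ψ (Subtype.ext ?_)
        show mel 1 (dperm (gd i) π) = mel 1 (gd i) * mel 1 (gd i)
        rw [mel_mul, one_mul]
        exact congrArg _ (Subtype.ext (funext fun x => ((he x).1).trans rfl))))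
    refine ⟨-(s : ZMod 3), fun k hk => ?_⟩
    obtain ⟨x, hx, h0⟩ := r.exists_ne_of hk
    have hmem : r.μ n x ∈ r.dec.W k := by
      have := r.wperm_spec ⟨π, Equiv.Perm.mem_alternatingGroup.2 hπ⟩ ⟨k, hk⟩ x hx
      rwa [hfix] at this
    have h1 : r.μ (W.a i) (r.μ n x) = r.dec.tp (k i) (r.μ n x) := hmem i
    rw [← r.mul, show W.a i * n = n * (n⁻¹ * W.a i * n) by group, hs, r.mul, r.mul, r.mul, r.mu_p_pow] at h1
    have hx' := r.dec.tp_mem (s : ZMod 3) hx
    rw [show r.μ (W.a i) (r.dec.tp (s : ZMod 3) x) = r.dec.tp (k i) (r.dec.tp (s : ZMod 3) x) from hx' i,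
      show r.μ (W.a i) (r.dec.tp (k i) (r.dec.tp (s : ZMod 3) x)) =
        r.dec.tp (k i) (r.dec.tp (k i) (r.dec.tp (s : ZMod 3) x)) from r.dec.tp_mem (k i) hx' i,
      Dec.tp_add, Dec.tp_add] at h1
    have hcomm : ∀ c, r.μ n (r.dec.tp c x) = r.dec.tp c (r.μ n x) := fun c => by
      rcases Dec.zcases c with rfl | rfl | rfl
      · rfl
      · exact r.nu_comm n x
      · rw [Dec.tp_two, Dec.tp_two, r.nu_comm, r.nu_comm]
    rw [hcomm] at h1
    have := r.dec.tp_unique (r.mu_ne_zero h0) h1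
    linear_combination this
  choose s hs using hsame
  have htop := r.dec.single (k := s) fun k' hk' => funext fun i => hs i k' (r.mem_weights.2 hk')
  refine W.theta_a0 ?_
  have : W.a 0 = W.p ^ (s 0).val := by
    rw [← mul_inv_eq_one]
    refine r.faithful _ fun x => ?_
    rw [r.mul]
    have hx : r.μ (W.p ^ (s 0).val)⁻¹ x ∈ r.dec.W s := htop.symm ▸ AddSubgroup.mem_top _
    rw [show r.μ (W.a 0) (r.μ (W.p ^ (s 0).val)⁻¹ x) = r.dec.tp (s 0) _ from hx 0,
      ← ZMod.natCast_zmod_val (s 0), ← r.mu_p_pow, ZMod.natCast_zmod_val, ← r.mul, mul_inv_cancel, r.one]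
  rw [this, map_pow, W.theta_p, one_pow]

include r in
theorem card_ge [Finite M] : 4096 ≤ Nat.card M := by
  have h := r.dec.pow_le (S := r.weights) fun k hk => r.mem_weights.1 hk
  have : 4 ^ 6 ≤ 4 ^ r.weights.card := Nat.pow_le_pow_right (by norm_num) r.six_le
  omega

theorem six [Finite M] (hM : Nat.card M = 4096) :
    r.weights.card = 6 ∧ ∀ k ∈ r.weights, Nat.card ↥(r.dec.W k) = 4 := by
  have h := r.dec.pow_le (S := r.weights) fun k hk => r.mem_weights.1 hk
  have h6 : r.weights.card = 6 := by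
    refine le_antisymm ?_ r.six_le
    by_contra hlt
    have : 4 ^ 7 ≤ 4 ^ r.weights.card := Nat.pow_le_pow_right (by norm_num) (by omega)
    omega
  exact ⟨h6, fun k hk => r.dec.card_four (fun j hj => r.mem_weights.1 hj) (by rw [h6, hM]; norm_num) hk⟩

end Rep

namespace Env

variable {V R : Type*} [AddCommGroup V] [Group R] [Finite R] (W : Env V R)

include W in
theorem finite_V : Finite V := Nat.finite_of_card_ne_zero (by rw [W.cardV]; norm_num)

/-- The fixed points of p. -/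
def C0 : AddSubgroup V where
  carrier := {x | W.m W.p x = x}
  zero_mem' := map_zero _
  add_mem' := fun {x y} hx hy => (map_add _ x y).trans (congrArg₂ (· + ·) hx hy)
  neg_mem' := fun {x} hx => (map_neg _ x).trans (congrArg Neg.neg hx)

/-- The fixed-point-free part. -/
def Vd : AddSubgroup V where
  carrier := {x | x + W.m W.p x + W.m W.p (W.m W.p x) = 0}
  zero_mem' := by simp
  add_mem' := fun {x y} hx hy => by
    have hx' : x + W.m W.p x + W.m W.p (W.m W.p x) = 0 := hx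
    have hy' : y + W.m W.p y + W.m W.p (W.m W.p y) = 0 := hy
    show x + y + W.m W.p (x + y) + W.m W.p (W.m W.p (x + y)) = 0
    rw [map_add, map_add]
    calc _ = (x + W.m W.p x + W.m W.p (W.m W.p x)) + (y + W.m W.p y + W.m W.p (W.m W.p y)) := by abel
      _ = 0 := by rw [hx', hy', add_zero]
  neg_mem' := fun {x} hx => by
    have hx' : x + W.m W.p x + W.m W.p (W.m W.p x) = 0 := hx
    show -x + W.m W.p (-x) + W.m W.p (W.m W.p (-x)) = 0
    rw [map_neg, map_neg, ← neg_zero, ← hx']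
    abel

theorem m_p_comm (k : ↥W.K) (x : V) : W.m W.p (W.m k x) = W.m k (W.m W.p x) := by
  rw [← W.m_mul, ← W.m_mul, W.p_comm]

theorem m_p_cube (x : V) : W.m W.p (W.m W.p (W.m W.p x)) = x := by
  rw [← W.m_mul, ← W.m_mul, show W.p * W.p * W.p = W.p ^ 3 by rw [pow_succ, pow_two], W.p_cube, W.m_one]

theorem C0_mem (k : ↥W.K) {x : V} (hx : x ∈ W.C0) : W.m k x ∈ W.C0 :=
  show W.m W.p (W.m k x) = W.m k x by rw [W.m_p_comm]; exact congrArg _ hx

theorem Vd_mem (k : ↥W.K) {x : V} (hx : x ∈ W.Vd) : W.m k x ∈ W.Vd := by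
  show W.m k x + W.m W.p (W.m k x) + W.m W.p (W.m W.p (W.m k x)) = 0
  rw [W.m_p_comm, W.m_p_comm, ← map_add, ← map_add,
    show x + W.m W.p x + W.m W.p (W.m W.p x) = 0 from hx, map_zero]

theorem split (x : V) : ∃ c ∈ W.C0, ∃ d ∈ W.Vd, x = c + d := by
  set T := W.m W.p
  refine ⟨x + T x + T (T x), ?_, T x + T (T x), ?_, ?_⟩
  · show T (x + T x + T (T x)) = _
    rw [map_add, map_add, W.m_p_cube]
    abel
  · show T x + T (T x) + T (T x + T (T x)) + T (T (T x + T (T x))) = 0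
    simp only [map_add, T, W.m_p_cube]
    calc _ = (x + x) + (W.m W.p x + W.m W.p x) + (W.m W.p (W.m W.p x) + W.m W.p (W.m W.p x)) := by abel
      _ = 0 := by simp [W.two]
  · calc x = x + (T x + T x) + (T (T x) + T (T x)) := by rw [W.two, W.two, add_zero, add_zero]
      _ = _ := by abel

/-- The pairs of fixed points, with a fixed-point-free map. -/
noncomputable def decC : Dec (↥W.C0 × ↥W.C0) where
  two := fun x => Prod.ext (Subtype.ext (W.two _)) (Subtype.ext (W.two _))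
  T := AddMonoidHom.prod (AddMonoidHom.snd ↥W.C0 ↥W.C0) (AddMonoidHom.fst ↥W.C0 ↥W.C0 + AddMonoidHom.snd ↥W.C0 ↥W.C0)
  E i := AddMonoidHom.prodMap
    (AddMonoidHom.mk' (fun x => ⟨W.m (W.a i) x.1, W.C0_mem _ x.2⟩) fun x y => Subtype.ext (map_add _ x.1 y.1))
    (AddMonoidHom.mk' (fun x => ⟨W.m (W.a i) x.1, W.C0_mem _ x.2⟩) fun x y => Subtype.ext (map_add _ x.1 y.1))
  fpf := fun x => by
    obtain ⟨a, b⟩ := x
    refine Prod.ext (Subtype.ext ?_) (Subtype.ext ?_)
    · show a.1 + b.1 + (a.1 + b.1) = 0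
      exact W.two _
    · show b.1 + (a.1 + b.1) + (b.1 + (a.1 + b.1)) = 0
      exact W.two _
  E3 i x := Prod.ext
    (Subtype.ext (by
      show W.m (W.a i) (W.m (W.a i) (W.m (W.a i) x.1.1)) = x.1.1
      rw [← W.m_mul, ← W.m_mul, show W.a i * W.a i * W.a i = W.a i ^ 3 by rw [pow_succ, pow_two], W.a_cube, W.m_one]))
    (Subtype.ext (by
      show W.m (W.a i) (W.m (W.a i) (W.m (W.a i) x.2.1)) = x.2.1
      rw [← W.m_mul, ← W.m_mul, show W.a i * W.a i * W.a i = W.a i ^ 3 by rw [pow_succ, pow_two], W.a_cube, W.m_one]))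
  comm i j x := Prod.ext
    (Subtype.ext (by show W.m (W.a i) (W.m (W.a j) x.1.1) = W.m (W.a j) (W.m (W.a i) x.1.1); rw [← W.m_mul, ← W.m_mul, W.a_comm]))
    (Subtype.ext (by show W.m (W.a i) (W.m (W.a j) x.2.1) = W.m (W.a j) (W.m (W.a i) x.2.1); rw [← W.m_mul, ← W.m_mul, W.a_comm]))
  commT i x := Prod.ext rfl (Subtype.ext (map_add (W.m (W.a i)) x.1.1 x.2.1))

/-- The action on pairs. -/
noncomputable def nC (k : ↥W.K) : ↥W.C0 × ↥W.C0 →+ ↥W.C0 × ↥W.C0 :=
  AddMonoidHom.prodMap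
    (AddMonoidHom.mk' (fun x => ⟨W.m k x.1, W.C0_mem _ x.2⟩) fun x y => Subtype.ext (map_add _ x.1 y.1))
    (AddMonoidHom.mk' (fun x => ⟨W.m k x.1, W.C0_mem _ x.2⟩) fun x y => Subtype.ext (map_add _ x.1 y.1))

theorem nC_mul (a b : ↥W.K) (x : ↥W.C0 × ↥W.C0) : W.nC (a * b) x = W.nC a (W.nC b x) :=
  Prod.ext (Subtype.ext (W.m_mul a b x.1.1)) (Subtype.ext (W.m_mul a b x.2.1))

theorem nC_p (n : ℕ) (x : ↥W.C0 × ↥W.C0) : W.nC (W.p ^ n) x = x := by
  have h : ∀ c : ↥W.C0, W.m (W.p ^ n) c.1 = c.1 := fun c => by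
    induction n with
    | zero => rw [pow_zero, W.m_one]
    | succ n ih => rw [pow_succ, W.m_mul, show W.m W.p c.1 = c.1 from c.2, ih]
  exact Prod.ext (Subtype.ext (h x.1)) (Subtype.ext (h x.2))

theorem nC_a_pow {k : Fin 5 → ZMod 3} {x : ↥W.C0 × ↥W.C0} (hx : x ∈ W.decC.W k) (i : Fin 5) (n : ℕ) :
    W.nC (W.a i ^ n) x = W.decC.tp ((n : ZMod 3) * k i) x := by
  induction n with
  | zero =>
    rw [pow_zero, Nat.cast_zero, zero_mul, Dec.tp_zero]
    exact Prod.ext (Subtype.ext (W.m_one _)) (Subtype.ext (W.m_one _))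
  | succ n ih =>
    rw [pow_succ', W.nC_mul, ih, show W.nC (W.a i) (W.decC.tp ((n : ZMod 3) * k i) x) =
      W.decC.E i (W.decC.tp ((n : ZMod 3) * k i) x) from rfl, Dec.E_tp, hx, Dec.tp_add]
    congr 2
    push_cast
    ring

theorem nC_word {k : Fin 5 → ZMod 3} {x : ↥W.C0 × ↥W.C0} (hx : x ∈ W.decC.W k) (e : Fin 5 → ℕ) :
    W.nC (W.word e) x = W.decC.tp (∑ j, (e j : ZMod 3) * k j) x := by
  simp only [Env.word, W.nC_mul]
  rw [W.nC_a_pow hx, W.nC_a_pow (W.decC.tp_mem _ hx), Dec.tp_add, W.nC_a_pow (W.decC.tp_mem _ hx), Dec.tp_add,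
    W.nC_a_pow (W.decC.tp_mem _ hx), Dec.tp_add, W.nC_a_pow (W.decC.tp_mem _ hx), Dec.tp_add, Fin.sum_univ_five]
  congr 2
  ring

theorem card_C0 : Nat.card ↥W.C0 ≤ 2048 := by
  have := W.finite_V
  have h := W.C0.card_mul_index
  rw [W.cardV] at h
  have h1 : W.C0.index ≠ 1 := fun e => W.p_ne (W.m_ext fun x => by
    rw [W.m_one]
    exact (AddSubgroup.index_eq_one.1 e ▸ AddSubgroup.mem_top x : x ∈ W.C0))
  have h2 : W.C0.index ≠ 0 := AddSubgroup.index_ne_zero_of_finite
  have h3 : Nat.card ↥W.C0 * 2 ≤ 4096 := h ▸ Nat.mul_le_mul_left _ (by omega)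
  omega

theorem a_trivial_C0 (i : Fin 5) {x : V} (hx : x ∈ W.C0) : W.m (W.a i) x = x := by
  classical
  have := W.finite_V
  have hall : ∀ k, W.decC.W k ≠ ⊥ → k = 0 := by
    intro k hk
    by_contra hk0
    obtain ⟨z, hz, hz0⟩ : ∃ z ∈ W.decC.W k, z ≠ 0 := by
      by_contra hh
      push Not at hh
      exact hk ((AddSubgroup.eq_bot_iff_forall _).2 hh)
    have hrel : k 0 + 2 * k 1 + k 3 + 2 * k 4 = 0 := by
      obtain ⟨n, hn⟩ := W.exists_pow (x := W.word (expo scal.1)) (by rw [W.theta_word, psi_scal])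
      have h1 := W.nC_word hz (expo scal.1)
      rw [hn, W.nC_p, Fin.sum_univ_five, scal_expo.1, scal_expo.2.1, scal_expo.2.2.1, scal_expo.2.2.2.1,
        scal_expo.2.2.2.2] at h1
      have h2 := W.decC.tp_unique hz0 ((W.decC.tp_zero z).trans h1)
      push_cast at h2
      linear_combination -h2
    let S : Finset (Fin 5 → ZMod 3) := (twelve.map fun π => cPerm π k).toFinset
    have hS : S.card = 12 := by
      rw [List.toFinset_card_of_nodup (twelve_distinct hrel hk0), List.length_map, twelve_sign.1]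
    have hne : ∀ k' ∈ S, W.decC.W k' ≠ ⊥ := fun k' hk' e => by
      obtain ⟨π, hπ, rfl⟩ := List.mem_map.1 (List.mem_toFinset.1 hk')
      set n := W.lift (mel π done) (pm_mem (twelve_sign.2 π hπ))
      have hmem : W.nC n z ∈ W.decC.W (cPerm π k) := by
        refine W.decC.map_mem (k := k) (N := W.nC n) (fun y => Prod.ext rfl (Subtype.ext (map_add (W.m n) y.1.1 y.2.1))) fun j => ?_
        obtain ⟨c, hc⟩ := W.exists_word (W.exists_conj (gd j) (twelve_sign.2 π hπ) (x := W.a j) (W.theta_lift _ _))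
        show W.nC (W.a j) (W.nC n z) = _
        rw [← W.nC_mul, show W.a j * n = n * (n⁻¹ * W.a j * n) by group, W.nC_mul, hc, W.nC_mul, W.nC_p,
          W.nC_word hz]
        rfl
      rw [e, AddSubgroup.mem_bot] at hmem
      refine hz0 ?_
      have := congrArg (W.nC n⁻¹) hmem
      rwa [← W.nC_mul, inv_mul_cancel, ← pow_zero W.p, W.nC_p, map_zero] at this
    have := W.decC.pow_le hne
    rw [hS, Nat.card_prod] at this
    have := Nat.mul_le_mul W.card_C0 W.card_C0
    norm_num at *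
    omega
  have htop := W.decC.single hall
  have hmem : ((⟨x, hx⟩, 0) : ↥W.C0 × ↥W.C0) ∈ W.decC.W 0 := htop.symm ▸ AddSubgroup.mem_top _
  exact congrArg (fun y : ↥W.C0 × ↥W.C0 => y.1.1) (hmem i)

theorem trivial_C0 (k : ↥W.K) {x : V} (hx : x ∈ W.C0) : W.m k x = x := by
  let N : Subgroup ↥W.K :=
    { carrier := {k | ∀ y ∈ W.C0, W.m k y = y}
      one_mem' := fun y _ => W.m_one y
      mul_mem' := fun {a b} ha hb y hy => by rw [W.m_mul, hb y hy, ha y hy]
      inv_mem' := fun {a} ha y hy => by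
        conv_lhs => rw [← ha y hy, ← W.m_mul, inv_mul_cancel, W.m_one] }
  have hN : N.Normal := ⟨fun n hn g y hy => by
    rw [W.m_mul, W.m_mul, hn _ (W.C0_mem _ hy), ← W.m_mul, mul_inv_cancel, W.m_one]⟩
  exact W.normal_top hN (fun y hy => hy) (fun y hy => W.a_trivial_C0 0 hy) W.theta_a0 k x hx

/-- The representation on the fixed-point-free part. -/
noncomputable def repVd : Rep W ↥W.Vd where
  two := fun x => Subtype.ext (W.two _)
  μ k := AddMonoidHom.mk' (fun x => ⟨W.m k x.1, W.Vd_mem k x.2⟩) fun x y => Subtype.ext (map_add _ x.1 y.1)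
  mul a b x := Subtype.ext (W.m_mul a b x.1)
  one x := Subtype.ext (W.m_one x.1)
  faithful a h := W.m_ext fun x => by
    obtain ⟨c, hc, d, hd, rfl⟩ := W.split x
    rw [map_add, W.trivial_C0 a hc, W.m_one]
    exact congrArg (c + ·) (congrArg Subtype.val (h ⟨d, hd⟩))
  fpf x := Subtype.ext x.2

theorem fpf (x : V) : x + W.m W.p x + W.m W.p (W.m W.p x) = 0 := by
  have := W.finite_V
  have h : W.Vd = ⊤ := AddSubgroup.eq_top_of_le_card _ (by rw [W.cardV]; exact W.repVd.card_ge)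
  exact (h ▸ AddSubgroup.mem_top x : x ∈ W.Vd)

/-- The representation on the whole space. -/
noncomputable def rep : Rep W V where
  two := W.two
  μ := W.m
  mul := W.m_mul
  one := W.m_one
  faithful a h := W.m_ext fun x => by rw [h, W.m_one]
  fpf := W.fpf

theorem rep_six : W.rep.weights.card = 6 ∧ ∀ k ∈ W.rep.weights, Nat.card ↥(W.rep.dec.W k) = 4 := by
  have := W.finite_V
  exact W.rep.six W.cardV

end Env

end Cfsg.Agent.LargeFischer
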